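import Mathlib

/-!
# `m`-approximation conditions on morphisms of a derived category, and distinguished triangles
(helper99)
-/

set_option autoImplicit false
open CategoryTheory Limits Pretriangulated

namespace Groth.Agent.Lib.Helper99.SPerf

variable {C : Type*} [Category C] [Abelian C] [HasDerivedCategory C]

/-- `α` is an isomorphism on `H^i` for `i > m` and an epimorphism on `H^m` -/
def Cond (m : ℤ) {K L : DerivedCategory C} (α : K ⟶ L) : Prop :=
  (∀ i : ℤ, m < i → IsIso ((DerivedCategory.homologyFunctor C i).map α)) ∧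
    Epi ((DerivedCategory.homologyFunctor C m).map α)

namespace Cond

variable {m : ℤ} {K L M : DerivedCategory C}

theorem of_isIso (α : K ⟶ L) [IsIso α] : Cond m α :=
  ⟨fun _ _ => inferInstance, inferInstance⟩

theorem comp {α : K ⟶ L} {β : L ⟶ M} (hα : Cond m α) (hβ : Cond m β) : Cond m (α ≫ β) := by
  refine ⟨fun i hi => ?_, ?_⟩
  · haveI := hα.1 i hi
    haveI := hβ.1 i hi
    rw [Functor.map_comp]
    infer_instance
  · haveI := hα.2
    haveI := hβ.2
    rw [Functor.map_comp]
    infer_instance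

theorem epi_of_le {α : K ⟶ L} (hα : Cond m α) (i : ℤ) (hi : m ≤ i) :
    Epi ((DerivedCategory.homologyFunctor C i).map α) := by
  rcases eq_or_lt_of_le hi with rfl | h
  · exact hα.2
  · haveI := hα.1 i h
    infer_instance

theorem mono_of_lt {α : K ⟶ L} (hα : Cond m α) (i : ℤ) (hi : m < i) :
    Mono ((DerivedCategory.homologyFunctor C i).map α) := by
  haveI := hα.1 i hi
  infer_instance

theorem of_Q_map {E F : CochainComplex C ℤ} (t : E ⟶ F)
    (h1 : ∀ i : ℤ, m < i → IsIso (HomologicalComplex.homologyMap t i))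
    (h2 : Epi (HomologicalComplex.homologyMap t m)) : Cond m (DerivedCategory.Q.map t) := by
  have key : ∀ i : ℤ, (DerivedCategory.homologyFunctor C i).map (DerivedCategory.Q.map t) =
      (DerivedCategory.homologyFunctorFactors C i).hom.app E ≫
        (HomologicalComplex.homologyFunctor C (ComplexShape.up ℤ) i).map t ≫
        (DerivedCategory.homologyFunctorFactors C i).inv.app F := by
    intro i
    have := (DerivedCategory.homologyFunctorFactors C i).hom.naturality t
    dsimp only [Functor.comp_map] at this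
    rw [← Category.assoc, ← this, Category.assoc, Iso.hom_inv_id_app, Category.comp_id]
  refine ⟨fun i hi => ?_, ?_⟩
  · haveI : IsIso ((HomologicalComplex.homologyFunctor C (ComplexShape.up ℤ) i).map t) := h1 i hi
    rw [key]
    infer_instance
  · haveI : Epi ((HomologicalComplex.homologyFunctor C (ComplexShape.up ℤ) m).map t) := h2
    rw [key]
    infer_instance

/-- the third vertex of a morphism of distinguished triangles -/
theorem obj₃ {T₁ T₂ : Triangle (DerivedCategory C)} (hT₁ : T₁ ∈ distTriang _)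
    (hT₂ : T₂ ∈ distTriang _) (φ : T₁ ⟶ T₂) (h₁ : Cond (m + 1) φ.hom₁) (h₂ : Cond m φ.hom₂) :
    Cond m φ.hom₃ := by
  have key : ∀ i : ℤ, m ≤ i → Epi ((DerivedCategory.homologyFunctor C i).map φ.hom₃) ∧
      (m < i → Mono ((DerivedCategory.homologyFunctor C i).map φ.hom₃)) := by
    intro i hi
    let F := DerivedCategory.homologyFunctor C 0
    let R₁ := F.homologySequenceComposableArrows₅ T₁ i (i + 1) rfl
    let R₂ := F.homologySequenceComposableArrows₅ T₂ i (i + 1) rfl
    have hR₁ : R₁.Exact := F.homologySequenceComposableArrows₅_exact T₁ hT₁ i (i + 1) rfl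
    have hR₂ : R₂.Exact := F.homologySequenceComposableArrows₅_exact T₂ hT₂ i (i + 1) rfl
    let ψ : R₁ ⟶ R₂ := ComposableArrows.homMk₅
      ((F.shift i).map φ.hom₁) ((F.shift i).map φ.hom₂) ((F.shift i).map φ.hom₃)
      ((F.shift (i + 1)).map φ.hom₁) ((F.shift (i + 1)).map φ.hom₂) ((F.shift (i + 1)).map φ.hom₃)
      (by
        change (F.shift i).map T₁.mor₁ ≫ (F.shift i).map φ.hom₂ =
          (F.shift i).map φ.hom₁ ≫ (F.shift i).map T₂.mor₁
        rw [← Functor.map_comp, ← Functor.map_comp, φ.comm₁])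
      (by
        change (F.shift i).map T₁.mor₂ ≫ (F.shift i).map φ.hom₃ =
          (F.shift i).map φ.hom₂ ≫ (F.shift i).map T₂.mor₂
        rw [← Functor.map_comp, ← Functor.map_comp, φ.comm₂])
      (by
        change F.homologySequenceδ T₁ i (i + 1) rfl ≫ (F.shift (i + 1)).map φ.hom₁ =
          (F.shift i).map φ.hom₃ ≫ F.homologySequenceδ T₂ i (i + 1) rfl
        exact (F.homologySequenceδ_naturality T₁ T₂ φ i (i + 1) rfl).symm)
      (by
        change (F.shift (i + 1)).map T₁.mor₁ ≫ (F.shift (i + 1)).map φ.hom₂ =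
          (F.shift (i + 1)).map φ.hom₁ ≫ (F.shift (i + 1)).map T₂.mor₁
        rw [← Functor.map_comp, ← Functor.map_comp, φ.comm₁])
      (by
        change (F.shift (i + 1)).map T₁.mor₂ ≫ (F.shift (i + 1)).map φ.hom₃ =
          (F.shift (i + 1)).map φ.hom₂ ≫ (F.shift (i + 1)).map T₂.mor₂
        rw [← Functor.map_comp, ← Functor.map_comp, φ.comm₂])
    constructor
    · exact Abelian.epi_of_epi_of_epi_of_mono'' (k := 1) (by omega) hR₁ hR₂ ψ 1 2 3 4 rfl rfl rfl rfl
        (h₂.epi_of_le i hi) (h₁.epi_of_le (i + 1) (by omega)) (h₂.mono_of_lt (i + 1) (by omega))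
    · intro hlt
      exact Abelian.mono_of_epi_of_mono_of_mono'' (k := 0) (by omega) hR₁ hR₂ ψ 0 1 2 3 rfl rfl rfl rfl
        (h₁.epi_of_le i (by omega)) (h₂.mono_of_lt i hlt) (h₁.mono_of_lt (i + 1) (by omega))
  refine ⟨fun i hi => ?_, (key m le_rfl).1⟩
  haveI := (key i hi.le).1
  haveI := (key i hi.le).2 hi
  exact isIso_of_mono_of_epi _

end Cond

end Groth.Agent.Lib.Helper99.SPerf
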