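import Mathlib
import Groth.Agent.Lib.QCoh.Helper74_LocFreeLift
import Groth.Prelude.Def_CxOX

/-!
# Strictly perfect complexes: local null-homotopies (helper99)

`exists_nullHomotopic`: a chain map from a strictly perfect complex `E` (zero below degree `a`) to a
complex `F` with `H^i(F) = 0` for `i ≥ a` is locally null-homotopic.
-/

set_option autoImplicit false
universe u
open CategoryTheory Limits AlgebraicGeometry Opposite TopologicalSpace

namespace Groth.Agent.Lib.Helper99.SPerf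

open Groth.Agent.Lib.QCoh Groth.Agent.Lib.QCoh.Lift74 Scheme.Modules

section Partial

variable {C D D' : Type*} [Category C] [Category D] [Category D'] [Preadditive C] [Preadditive D]
  [Preadditive D']

/-- partial null-homotopy of `Φ(α)` in degrees `≥ i₀`. -/
def PartialHtpy (Φ : C ⥤ D) {E F : CochainComplex C ℤ} (α : E ⟶ F) (i₀ : ℤ) : Prop :=
  ∃ h : ∀ i j : ℤ, Φ.obj (E.X i) ⟶ Φ.obj (F.X j),
    ∀ i j k : ℤ, j + 1 = i → i + 1 = k → i₀ ≤ i →
      Φ.map (α.f i) = h i j ≫ Φ.map (F.d j i) + Φ.map (E.d i k) ≫ h k i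

variable {Φ : C ⥤ D} {E F : CochainComplex C ℤ} {α : E ⟶ F} {i₀ : ℤ}

theorem PartialHtpy.comp (H : PartialHtpy Φ α i₀) (K : D ⥤ D') [K.Additive] :
    PartialHtpy (Φ ⋙ K) α i₀ := by
  obtain ⟨h, hh⟩ := H
  refine ⟨fun i j => K.map (h i j), fun i j k hj hk hi => ?_⟩
  simp only [Functor.comp_map]
  rw [hh i j k hj hk hi, K.map_add, K.map_comp, K.map_comp]

theorem PartialHtpy.of_iso {Φ' : C ⥤ D} (e : Φ' ≅ Φ) (H : PartialHtpy Φ α i₀) :
    PartialHtpy Φ' α i₀ := by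
  obtain ⟨h, hh⟩ := H
  refine ⟨fun i j => e.hom.app _ ≫ h i j ≫ e.inv.app _, fun i j k hj hk hi => ?_⟩
  have h1 : Φ'.map (α.f i) = e.hom.app _ ≫ Φ.map (α.f i) ≫ e.inv.app _ := by
    rw [← e.hom.naturality_assoc, Iso.hom_inv_id_app, Category.comp_id]
  rw [h1, hh i j k hj hk hi]
  simp only [Preadditive.add_comp, Preadditive.comp_add, Category.assoc]
  congr 1
  · rw [← e.inv.naturality]
  · rw [← e.hom.naturality_assoc]

end Partial

variable {X : Scheme.{u}}

theorem PartialHtpy.of_le {E F : CochainComplex X.Modules ℤ} {α : E ⟶ F} {i₀ : ℤ}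
    {W W' : X.Opens} (hle : W ≤ W') (H : PartialHtpy (restrictFunctor W'.ι) α i₀) :
    PartialHtpy (restrictFunctor W.ι) α i₀ :=
  ((H.comp (restrictFunctor (X.homOfLE hle))).of_iso
    (restrictFunctorComp (X.homOfLE hle) W'.ι)).of_iso
    (restrictFunctorCongr (X.homOfLE_ι hle).symm)

/-- transport along the two-step restriction. -/
theorem PartialHtpy.of_restrict_restrict {E F : CochainComplex X.Modules ℤ} {α : E ⟶ F} {i₀ : ℤ}
    (V : X.Opens) (V' : (V : Scheme.{u}).Opens)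
    (H : PartialHtpy (restrictFunctor V.ι ⋙ restrictFunctor V'.ι) α i₀) :
    PartialHtpy (restrictFunctor (V'.ι ≫ V.ι).opensRange.ι) α i₀ := by
  have h3 : PartialHtpy (restrictFunctor (V'.ι ≫ V.ι)) α i₀ :=
    H.of_iso (restrictFunctorComp V'.ι V.ι)
  exact ((h3.comp (restrictFunctor (V'.ι ≫ V.ι).isoOpensRange.inv)).of_iso
      (restrictFunctorComp (V'.ι ≫ V.ι).isoOpensRange.inv (V'.ι ≫ V.ι))).of_iso
      (restrictFunctorCongr ((V'.ι ≫ V.ι).isoOpensRange_inv_comp).symm)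

/-- the inductive step -/
theorem PartialHtpy.step {E F : CochainComplex X.Modules ℤ} (α : E ⟶ F) (i₀ : ℤ)
    (hE : FlatMod.IsFinLocFree (E.X i₀)) (hF : IsZero (F.homology i₀))
    (V : X.Opens) (x : X) (hx : x ∈ V)
    (H : PartialHtpy (restrictFunctor V.ι) α (i₀ + 1)) :
    ∃ W : X.Opens, x ∈ W ∧ PartialHtpy (restrictFunctor W.ι) α i₀ := by
  obtain ⟨h, hh⟩ := H
  let Φ := restrictFunctor V.ι
  -- exactness
  have hex : (F.sc' (i₀ - 1) i₀ (i₀ + 1)).Exact := by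
    rw [← HomologicalComplex.exactAt_iff' F (i₀ - 1) i₀ (i₀ + 1) (by simp) (by simp)]
    rwa [HomologicalComplex.exactAt_iff_isZero_homology]
  have hex' := hex.map Φ
  -- the map to lift
  let ψ : Φ.obj (E.X i₀) ⟶ Φ.obj (F.X i₀) :=
    Φ.map (α.f i₀) - Φ.map (E.d i₀ (i₀ + 1)) ≫ h (i₀ + 1) i₀
  have hψ : ψ ≫ Φ.map (F.d i₀ (i₀ + 1)) = 0 := by
    have e1 := hh (i₀ + 1) i₀ (i₀ + 1 + 1) rfl rfl le_rfl
    dsimp only [ψ]
    rw [Preadditive.sub_comp, ← Φ.map_comp, α.comm, Φ.map_comp, e1, Preadditive.comp_add,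
      Category.assoc, ← Φ.map_comp_assoc, E.d_comp_d, Φ.map_zero, zero_comp, add_zero, sub_self]
  let Z := kernel (Φ.map (F.d i₀ (i₀ + 1)))
  let p : Φ.obj (F.X (i₀ - 1)) ⟶ Z := kernel.lift _ (Φ.map (F.d (i₀ - 1) i₀))
    (by rw [← Φ.map_comp, F.d_comp_d, Φ.map_zero])
  haveI : Epi p := hex'.epi_kernelLift
  let φ : Φ.obj (E.X i₀) ⟶ Z := kernel.lift _ ψ hψ
  obtain ⟨V', ψ', hxV', hψ'⟩ := exists_local_lift_of_isFinLocFree p φ
    (isFinLocFree_restrict V.ι hE) (⟨x, hx⟩ : (V : Scheme.{u}))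
  let Ψ := restrictFunctor V'.ι
  have hψ'' : ψ' ≫ Ψ.map (Φ.map (F.d (i₀ - 1) i₀)) = Ψ.map ψ := by
    have e1 : p ≫ kernel.ι _ = Φ.map (F.d (i₀ - 1) i₀) := kernel.lift_ι _ _ _
    have e2 : φ ≫ kernel.ι _ = ψ := kernel.lift_ι _ _ _
    rw [← e1, ← e2, Ψ.map_comp, Ψ.map_comp, ← Category.assoc, hψ']
  refine ⟨(V'.ι ≫ V.ι).opensRange, ⟨⟨⟨x, hx⟩, hxV'⟩, rfl⟩, ?_⟩
  apply PartialHtpy.of_restrict_restrict
  classical
  refine ⟨fun i j => if hij : i = i₀ ∧ j = i₀ - 1 then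
      eqToHom (by rw [hij.1]; rfl) ≫ ψ' ≫ eqToHom (by rw [hij.2]; rfl) else Ψ.map (h i j), ?_⟩
  intro i j k hj hk hi
  obtain rfl : j = i - 1 := by omega
  obtain rfl : k = i + 1 := by omega
  by_cases hii : i = i₀
  · subst hii
    have hne : ¬ (i + 1 = i ∧ i = i - 1) := by omega
    beta_reduce
    rw [dif_pos (show i = i ∧ i - 1 = i - 1 from ⟨rfl, rfl⟩), dif_neg hne]
    simp only [eqToHom_refl, Category.id_comp, Category.comp_id, Functor.comp_map]
    rw [hψ'']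
    dsimp only [ψ]
    rw [Ψ.map_sub, Ψ.map_comp]
    abel
  · have hne1 : ¬ (i = i₀ ∧ i - 1 = i₀ - 1) := fun h => hii h.1
    have hne2 : ¬ (i + 1 = i₀ ∧ i = i₀ - 1) := by omega
    beta_reduce
    rw [dif_neg hne1, dif_neg hne2]
    simp only [Functor.comp_map]
    rw [hh i (i - 1) (i + 1) (by omega) rfl (by omega), Ψ.map_add, Ψ.map_comp, Ψ.map_comp]

/-- downward induction -/
theorem PartialHtpy.exists_of_bounded {E F : CochainComplex X.Modules ℤ} (α : E ⟶ F) (a b : ℤ)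
    (hEb : ∀ i : ℤ, b < i → IsZero (E.X i)) (hE : ∀ i : ℤ, FlatMod.IsFinLocFree (E.X i))
    (hF : ∀ i : ℤ, a ≤ i → IsZero (F.homology i)) (x : X) (n : ℕ) (i₀ : ℤ) (hi₀ : a ≤ i₀)
    (hn : i₀ + n = b + 1) :
    ∃ W : X.Opens, x ∈ W ∧ PartialHtpy (restrictFunctor W.ι) α i₀ := by
  induction n generalizing i₀ with
  | zero =>
    refine ⟨⊤, trivial, fun _ _ => 0, fun i j k _ _ hi => ?_⟩
    have hz : IsZero (E.X i) := hEb i (by simp at hn; omega)
    rw [zero_comp, comp_zero, add_zero]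
    have : α.f i = 0 := hz.eq_of_src _ _
    rw [this, Functor.map_zero]
  | succ n ih =>
    obtain ⟨V, hxV, H⟩ := ih (i₀ + 1) (by omega) (by push_cast at hn ⊢; omega)
    exact PartialHtpy.step α i₀ (hE i₀) (hF i₀ hi₀) V x hxV H

/-- a full partial homotopy gives a homotopy -/
theorem PartialHtpy.nonempty_homotopy {E F : CochainComplex X.Modules ℤ} (α : E ⟶ F) (a : ℤ)
    (hEa : ∀ i : ℤ, i < a → IsZero (E.X i)) (W : X.Opens)
    (H : PartialHtpy (restrictFunctor W.ι) α a) :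
    Nonempty (Homotopy ((DCoh.restrictCx W).map α) 0) := by
  obtain ⟨h, hh⟩ := H
  classical
  refine ⟨{ hom := fun i j => if j + 1 = i then h i j else 0
            zero := fun i j hij => by
              have : ¬ (j + 1 = i) := hij
              rw [if_neg this]
            comm := fun i => ?_ }⟩
  rw [dNext_eq _ (show (ComplexShape.up ℤ).Rel i (i + 1) from rfl),
    prevD_eq _ (show (ComplexShape.up ℤ).Rel (i - 1) i by simp)]
  rw [if_pos rfl, if_pos (by omega : i - 1 + 1 = i)]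
  simp only [HomologicalComplex.zero_f, add_zero]
  by_cases hi : a ≤ i
  · have := hh i (i - 1) (i + 1) (by omega) rfl hi
    rw [add_comm]
    exact this
  · have hz : IsZero ((restrictFunctor W.ι).obj (E.X i)) :=
      (restrictFunctor W.ι).map_isZero (hEa i (by omega))
    exact hz.eq_of_src _ _

/-- **S0932**: a map from a strictly perfect complex `E`, zero in degrees `< a`, to a complex with
vanishing cohomology sheaves in degrees `≥ a`, is locally null-homotopic. -/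
theorem exists_nullHomotopic {E F : CochainComplex X.Modules ℤ}
    (α : E ⟶ F) (hE : DCoh.IsStrictlyPerfect E) (a : ℤ) (hEa : ∀ i : ℤ, i < a → IsZero (E.X i))
    (hF : ∀ i : ℤ, a ≤ i → IsZero (F.homology i)) (x : X) :
    ∃ V : X.Opens, x ∈ V ∧ Nonempty (Homotopy ((DCoh.restrictCx V).map α) 0) := by
  obtain ⟨⟨a', b, hab⟩, hfl⟩ := hE
  let b' : ℤ := max b (a - 1)
  have hb' : a ≤ b' + 1 := by
    have : a - 1 ≤ b' := le_max_right _ _
    omega
  obtain ⟨W, hxW, H⟩ := PartialHtpy.exists_of_bounded α a b'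
    (fun i hi => hab i (Or.inr (lt_of_le_of_lt (le_max_left _ _) hi))) hfl hF x
    (b' + 1 - a).toNat a le_rfl (by rw [Int.toNat_of_nonneg (by omega)]; omega)
  exact ⟨W, hxW, PartialHtpy.nonempty_homotopy α a hEa W H⟩

end Groth.Agent.Lib.Helper99.SPerf
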