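import Mathlib
import Groth.Agent.Lib.Helper99.SPerf1

/-!
# Strictly perfect complexes: local lifting through quasi-isomorphisms, local representability
of morphisms in the derived category by chain maps (helper99)
-/

set_option autoImplicit false
universe u
open CategoryTheory Limits AlgebraicGeometry Opposite TopologicalSpace Pretriangulated

attribute [local instance] HasDerivedCategory.standard

namespace Groth.Agent.Lib.Helper99.SPerf

open Scheme.Modules CochainComplex HomologicalComplex

section Abstract

variable {C : Type*} [Category C] [Abelian C] [HasDerivedCategory C]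

/-- vanishing of the cohomology of the mapping cone -/
theorem isZero_homology_mappingCone {G F : CochainComplex C ℤ} (f : G ⟶ F) (j : ℤ)
    (h1 : Epi (homologyMap f j)) (h2 : Mono (homologyMap f (j + 1))) :
    IsZero ((mappingCone f).homology j) := by
  have hT := DerivedCategory.mappingCone_triangle_distinguished f
  have e2 := homologyMap_exact₂_of_distTriang _ hT j
  have e3 := homologyMap_exact₃_of_distTriang _ hT j (j + 1) rfl
  have e1 := homologyMap_exact₁_of_distTriang _ hT j (j + 1) rfl
  have z1 : homologyMap (mappingCone.triangle f).mor₂ j = 0 := by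
    have := homologyMap_comp_eq_zero_of_distTriang _ hT j
    haveI : Epi (homologyMap (mappingCone.triangle f).mor₁ j) := h1
    rwa [← cancel_epi (homologyMap (mappingCone.triangle f).mor₁ j), comp_zero]
  have z2 : homologyδOfTriangle (mappingCone.triangle f) j (j + 1) rfl = 0 := by
    have := homologyδOfTriangle_homologyMap _ hT j (j + 1) rfl
    haveI : Mono (homologyMap (mappingCone.triangle f).mor₁ (j + 1)) := h2
    rwa [← cancel_mono (homologyMap (mappingCone.triangle f).mor₁ (j + 1)), zero_comp]
  exact e3.isZero_of_both_zeros z1 z2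

end Abstract

variable {X : Scheme.{u}}

/-- **S0933**: locally lifting a map from a strictly perfect complex through a map which is an
isomorphism on cohomology in degrees `> a` and an epimorphism in degree `a`. -/
theorem exists_lift_homotopy {E F G : CochainComplex X.Modules ℤ}
    (α : E ⟶ F) (f : G ⟶ F) (hE : DCoh.IsStrictlyPerfect E) (a : ℤ)
    (hEa : ∀ j : ℤ, j < a → IsZero (E.X j))
    (hf : ∀ j : ℤ, a < j → IsIso (HomologicalComplex.homologyMap f j))
    (hfa : Epi (HomologicalComplex.homologyMap f a)) (x : X) :
    ∃ (V : X.Opens) (β : (DCoh.restrictCx V).obj E ⟶ (DCoh.restrictCx V).obj G), x ∈ V ∧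
      Nonempty (Homotopy (β ≫ (DCoh.restrictCx V).map f) ((DCoh.restrictCx V).map α)) := by
  have hC : ∀ j : ℤ, a ≤ j → IsZero ((mappingCone f).homology j) := by
    intro j hj
    apply isZero_homology_mappingCone
    · rcases eq_or_lt_of_le hj with rfl | hlt
      · exact hfa
      · haveI := hf j hlt
        infer_instance
    · haveI := hf (j + 1) (by omega)
      infer_instance
  obtain ⟨V, hxV, ⟨H0⟩⟩ := exists_nullHomotopic (α ≫ mappingCone.inr f) hE a hEa hC x
  refine ⟨V, ?_⟩
  let R := DCoh.restrictCx V
  let f' := R.map f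
  let α' := R.map α
  have hzero : (HomotopyCategory.quotient _ _).map α' ≫
      (HomotopyCategory.quotient _ _).map (mappingCone.inr f') = 0 := by
    have e1 : mappingCone.inr f' = R.map (mappingCone.inr f) ≫
        (mappingCone.mapHomologicalComplexIso f (restrictFunctor V.ι)).hom :=
      (mappingCone.map_inr f (restrictFunctor V.ι)).symm
    rw [e1, ← Functor.map_comp, ← Category.assoc, ← R.map_comp, Functor.map_comp,
      HomotopyCategory.eq_of_homotopy _ _ H0, Functor.map_zero, zero_comp]
  obtain ⟨β', hβ'⟩ := Triangle.coyoneda_exact₂ _ (HomotopyCategory.mappingCone_triangleh_distinguished f')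
    ((HomotopyCategory.quotient _ _).map α') hzero
  obtain ⟨β, rfl⟩ := (HomotopyCategory.quotient _ _).map_surjective β'
  refine ⟨β, hxV, ⟨HomotopyCategory.homotopyOfEq _ _ ?_⟩⟩
  rw [Functor.map_comp]
  exact hβ'.symm

/-- **S0944**: a morphism in the derived category from a strictly perfect complex is locally
represented by a chain map. -/
theorem exists_chain_map {E F : CochainComplex X.Modules ℤ}
    (hE : DCoh.IsStrictlyPerfect E) (α : DCoh.toD X E ⟶ DCoh.toD X F) (x : X) :
    ∃ V : X.Opens, x ∈ V ∧ ∀ [PreservesFiniteLimits (Scheme.Modules.restrictFunctor V.ι)],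
      ∃ β : (DCoh.restrictCx V).obj E ⟶ (DCoh.restrictCx V).obj F,
        (DCoh.restrictD V.ι).map α =
          (Scheme.Modules.restrictFunctor V.ι).mapDerivedCategoryFactors.hom.app E ≫
            DerivedCategory.Q.map β ≫
            (Scheme.Modules.restrictFunctor V.ι).mapDerivedCategoryFactors.inv.app F := by
  obtain ⟨E', s, hs, g, hα⟩ := DerivedCategory.right_fac α
  obtain ⟨⟨a, b, hab⟩, hfl⟩ := id hE
  have hqi : QuasiIso s := (DerivedCategory.isIso_Q_map_iff_quasiIso _ s).1 hs
  obtain ⟨V, β₀, hxV, ⟨H⟩⟩ := exists_lift_homotopy (𝟙 E) s hE a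
    (fun j hj => hab j (Or.inl hj)) (fun j _ => inferInstance) inferInstance x
  refine ⟨V, hxV, ?_⟩
  intro inst
  refine ⟨β₀ ≫ (DCoh.restrictCx V).map g, ?_⟩
  have nat : ∀ {K L : CochainComplex X.Modules ℤ} (t : K ⟶ L),
      (DCoh.restrictD V.ι).map (DerivedCategory.Q.map t) =
        (Scheme.Modules.restrictFunctor V.ι).mapDerivedCategoryFactors.hom.app K ≫
          DerivedCategory.Q.map ((DCoh.restrictCx V).map t) ≫
          (Scheme.Modules.restrictFunctor V.ι).mapDerivedCategoryFactors.inv.app L := by
    intro K L t
    have := (Scheme.Modules.restrictFunctor V.ι).mapDerivedCategoryFactors.hom.naturality t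
    dsimp only [Functor.comp_map] at this
    rw [← Category.assoc, ← this, Category.assoc, Iso.hom_inv_id_app, Category.comp_id]
  have h1 : DerivedCategory.Q.map β₀ ≫ DerivedCategory.Q.map ((DCoh.restrictCx V).map s) = 𝟙 _ := by
    rw [← Functor.map_comp, DerivedCategory.Q_map_eq_of_homotopy _ H,
      CategoryTheory.Functor.map_id, CategoryTheory.Functor.map_id]
  have h5 : (DCoh.restrictD V.ι).map (inv (DerivedCategory.Q.map s)) =
      (Scheme.Modules.restrictFunctor V.ι).mapDerivedCategoryFactors.hom.app E ≫
        DerivedCategory.Q.map β₀ ≫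
        (Scheme.Modules.restrictFunctor V.ι).mapDerivedCategoryFactors.inv.app E' := by
    rw [Functor.map_inv]
    apply IsIso.inv_eq_of_inv_hom_id
    rw [nat s]
    simp only [Category.assoc, Iso.inv_hom_id_app_assoc]
    rw [reassoc_of% h1, Iso.hom_inv_id_app]
    rfl
  rw [hα, Functor.map_comp, h5, nat g, Functor.map_comp]
  simp only [Category.assoc, Iso.inv_hom_id_app_assoc]

end Groth.Agent.Lib.Helper99.SPerf
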