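import Mathlib
import Groth.Agent.Lib.Helper99.SPerf2

/-!
# Restriction functors on derived categories of `O_X`-modules: composition, congruence,
compatibility with homology; strictly perfect complexes restrict (helper99)
-/

set_option autoImplicit false
universe u
open CategoryTheory Limits AlgebraicGeometry Opposite TopologicalSpace Pretriangulated

attribute [local instance] HasDerivedCategory.standard

namespace Groth.Agent.Lib.Helper99.SPerf

open Scheme.Modules CochainComplex HomologicalComplex

section Abstract

variable {A B C : Type*} [Category A] [Abelian A] [Category B] [Abelian B] [Category C] [Abelian C]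
  [HasDerivedCategory A] [HasDerivedCategory B] [HasDerivedCategory C]
  (F₁ : A ⥤ B) [F₁.Additive] [PreservesFiniteLimits F₁] [PreservesFiniteColimits F₁]
  (F₂ : B ⥤ C) [F₂.Additive] [PreservesFiniteLimits F₂] [PreservesFiniteColimits F₂]
  (F₃ : A ⥤ C) [F₃.Additive] [PreservesFiniteLimits F₃] [PreservesFiniteColimits F₃]

/-- termwise comparison of `mapHomologicalComplex` of a composition -/
noncomputable def mapHCIsoOfComp (e : F₃ ≅ F₁ ⋙ F₂) :
    F₃.mapHomologicalComplex (ComplexShape.up ℤ) ≅
      F₁.mapHomologicalComplex (ComplexShape.up ℤ) ⋙ F₂.mapHomologicalComplex (ComplexShape.up ℤ) :=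
  NatIso.ofComponents (fun K => HomologicalComplex.Hom.isoOfComponents (fun i => e.app (K.X i))
    (fun i j _ => by
      dsimp
      exact (e.hom.naturality (K.d i j)).symm))
    (fun {K L} f => by
      ext i
      dsimp
      exact e.hom.naturality (f.f i))

/-- the lifting structure for a composition of `mapDerivedCategory` functors -/
noncomputable def liftingComp :
    Localization.Lifting DerivedCategory.Q (HomologicalComplex.quasiIso A (ComplexShape.up ℤ))
      ((F₁.mapHomologicalComplex (ComplexShape.up ℤ) ⋙
        F₂.mapHomologicalComplex (ComplexShape.up ℤ)) ⋙ DerivedCategory.Q)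
      (F₁.mapDerivedCategory ⋙ F₂.mapDerivedCategory) :=
  ⟨(Functor.associator _ _ _).symm ≪≫ Functor.isoWhiskerRight F₁.mapDerivedCategoryFactors _ ≪≫
    Functor.associator _ _ _ ≪≫ Functor.isoWhiskerLeft _ F₂.mapDerivedCategoryFactors ≪≫
    (Functor.associator _ _ _).symm⟩

/-- `mapDerivedCategory` of a composition -/
noncomputable def mapDerivedCategoryIsoOfComp (e : F₃ ≅ F₁ ⋙ F₂) :
    F₃.mapDerivedCategory ≅ F₁.mapDerivedCategory ⋙ F₂.mapDerivedCategory :=
  letI := liftingComp F₁ F₂
  Localization.liftNatIso DerivedCategory.Q (HomologicalComplex.quasiIso A (ComplexShape.up ℤ))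
    (F₃.mapHomologicalComplex (ComplexShape.up ℤ) ⋙ DerivedCategory.Q)
    ((F₁.mapHomologicalComplex (ComplexShape.up ℤ) ⋙
        F₂.mapHomologicalComplex (ComplexShape.up ℤ)) ⋙ DerivedCategory.Q) _ _
    (Functor.isoWhiskerRight (mapHCIsoOfComp F₁ F₂ F₃ e) DerivedCategory.Q)


section Homology

variable {A B : Type*} [Category A] [Abelian A] [Category B] [Abelian B]
  [HasDerivedCategory A] [HasDerivedCategory B]
  (F : A ⥤ B) [F.Additive] [PreservesFiniteLimits F] [PreservesFiniteColimits F]

/-- chain-level: an exact functor commutes with homology -/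
noncomputable def homologyMapHCIso (n : ℤ) :
    F.mapHomologicalComplex (ComplexShape.up ℤ) ⋙ HomologicalComplex.homologyFunctor B _ n ≅
      HomologicalComplex.homologyFunctor A _ n ⋙ F :=
  NatIso.ofComponents (fun K => (K.sc n).mapHomologyIso F)
    (fun {K L} f => ShortComplex.mapHomologyIso_hom_naturality
      ((HomologicalComplex.shortComplexFunctor A (ComplexShape.up ℤ) n).map f) F)

/-- derived-level: `F.mapDerivedCategory` commutes with the homology functors -/
noncomputable def homologyMapDCIso (n : ℤ) :
    F.mapDerivedCategory ⋙ DerivedCategory.homologyFunctor B n ≅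
      DerivedCategory.homologyFunctor A n ⋙ F :=
  letI l1 : Localization.Lifting DerivedCategory.Q
      (HomologicalComplex.quasiIso A (ComplexShape.up ℤ))
      (F.mapHomologicalComplex (ComplexShape.up ℤ) ⋙ HomologicalComplex.homologyFunctor B _ n)
      (F.mapDerivedCategory ⋙ DerivedCategory.homologyFunctor B n) :=
    ⟨(Functor.associator _ _ _).symm ≪≫ Functor.isoWhiskerRight F.mapDerivedCategoryFactors _ ≪≫
      Functor.associator _ _ _ ≪≫
      Functor.isoWhiskerLeft _ (DerivedCategory.homologyFunctorFactors B n)⟩
  letI l2 : Localization.Lifting DerivedCategory.Q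
      (HomologicalComplex.quasiIso A (ComplexShape.up ℤ))
      (HomologicalComplex.homologyFunctor A _ n ⋙ F)
      (DerivedCategory.homologyFunctor A n ⋙ F) :=
    ⟨(Functor.associator _ _ _).symm ≪≫
      Functor.isoWhiskerRight (DerivedCategory.homologyFunctorFactors A n) F⟩
  Localization.liftNatIso DerivedCategory.Q (HomologicalComplex.quasiIso A (ComplexShape.up ℤ))
    (F.mapHomologicalComplex (ComplexShape.up ℤ) ⋙ HomologicalComplex.homologyFunctor B _ n)
    (HomologicalComplex.homologyFunctor A _ n ⋙ F) _ _ (homologyMapHCIso F n)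

theorem isIso_homology_map_of_isIso {K L : DerivedCategory A} (α : K ⟶ L) (n : ℤ)
    (h : IsIso ((DerivedCategory.homologyFunctor A n).map α)) :
    IsIso ((DerivedCategory.homologyFunctor B n).map (F.mapDerivedCategory.map α)) := by
  have := NatIso.isIso_map_iff (homologyMapDCIso F n) α
  dsimp only [Functor.comp_map] at this
  rw [this]
  infer_instance

theorem epi_homology_map_of_epi {K L : DerivedCategory A} (α : K ⟶ L) (n : ℤ)
    (h : Epi ((DerivedCategory.homologyFunctor A n).map α)) :
    Epi ((DerivedCategory.homologyFunctor B n).map (F.mapDerivedCategory.map α)) := by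
  have e := (homologyMapDCIso F n).hom.naturality α
  dsimp only [Functor.comp_map] at e
  have : (DerivedCategory.homologyFunctor B n).map (F.mapDerivedCategory.map α) =
      (homologyMapDCIso F n).hom.app K ≫ F.map ((DerivedCategory.homologyFunctor A n).map α) ≫
        (homologyMapDCIso F n).inv.app L := by
    rw [← Category.assoc, ← e, Category.assoc, Iso.hom_inv_id_app, Category.comp_id]
  rw [this]
  infer_instance

theorem isZero_homology_of_isZero (K : DerivedCategory A) (n : ℤ)
    (h : IsZero ((DerivedCategory.homologyFunctor A n).obj K)) :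
    IsZero ((DerivedCategory.homologyFunctor B n).obj (F.mapDerivedCategory.obj K)) :=
  (F.map_isZero h).of_iso ((homologyMapDCIso F n).app K)

end Homology

end Abstract


section Sch

variable {X U U' : Scheme.{u}}

/-- restriction of complexes along an open immersion -/
noncomputable abbrev restrCx (j : U ⟶ X) [IsOpenImmersion j] :
    CochainComplex X.Modules ℤ ⥤ CochainComplex U.Modules ℤ :=
  (restrictFunctor j).mapHomologicalComplex (ComplexShape.up ℤ)

noncomputable def restrictDComp (k : U' ⟶ U) (j : U ⟶ X) [IsOpenImmersion k] [IsOpenImmersion j] :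
    DCoh.restrictD (k ≫ j) ≅ DCoh.restrictD j ⋙ DCoh.restrictD k :=
  mapDerivedCategoryIsoOfComp _ _ _ (restrictFunctorComp k j)

noncomputable def restrictDCongr {f g : U ⟶ X} (h : f = g) [IsOpenImmersion f]
    [IsOpenImmersion g] : DCoh.restrictD f ≅ DCoh.restrictD g := by
  subst h
  exact Iso.refl _

/-- `restrictD` on the image of a complex -/
noncomputable def restrictDQIso (j : U ⟶ X) [IsOpenImmersion j] (K : CochainComplex X.Modules ℤ) :
    (DCoh.restrictD j).obj (DerivedCategory.Q.obj K) ≅ DerivedCategory.Q.obj ((restrCx j).obj K) :=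
  (restrictFunctor j).mapDerivedCategoryFactors.app K

theorem restrictD_map_Q (j : U ⟶ X) [IsOpenImmersion j] {K L : CochainComplex X.Modules ℤ}
    (t : K ⟶ L) :
    (DCoh.restrictD j).map (DerivedCategory.Q.map t) =
      (restrictDQIso j K).hom ≫ DerivedCategory.Q.map ((restrCx j).map t) ≫
        (restrictDQIso j L).inv := by
  have := (restrictFunctor j).mapDerivedCategoryFactors.hom.naturality t
  dsimp only [Functor.comp_map] at this
  dsimp only [restrictDQIso, Iso.app_hom, Iso.app_inv]
  rw [← Category.assoc, ← this, Category.assoc, Iso.hom_inv_id_app, Category.comp_id]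

/-- restriction to the open range of an open immersion -/
noncomputable def restrictDOpensRange (j : U ⟶ X) [IsOpenImmersion j] :
    DCoh.restrictD j.opensRange.ι ≅ DCoh.restrictD j ⋙ DCoh.restrictD j.isoOpensRange.inv :=
  restrictDCongr (j.isoOpensRange_inv_comp).symm ≪≫ restrictDComp j.isoOpensRange.inv j

theorem isStrictlyPerfect_restrict (j : U ⟶ X) [IsOpenImmersion j]
    {E : CochainComplex X.Modules ℤ} (hE : DCoh.IsStrictlyPerfect E) :
    DCoh.IsStrictlyPerfect ((restrCx j).obj E) := by
  obtain ⟨⟨a, b, hab⟩, hfl⟩ := hE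
  refine ⟨⟨a, b, fun i hi => ?_⟩, fun i => ?_⟩
  · exact (restrictFunctor j).map_isZero (hab i hi)
  · exact Groth.Agent.Lib.QCoh.isFinLocFree_restrict j (hfl i)

theorem isZero_restrCx_X (j : U ⟶ X) [IsOpenImmersion j]
    {E : CochainComplex X.Modules ℤ} (i : ℤ) (h : IsZero (E.X i)) :
    IsZero (((restrCx j).obj E).X i) :=
  (restrictFunctor j).map_isZero h

theorem isZero_homology_restrCx (j : U ⟶ X) [IsOpenImmersion j]
    {K : CochainComplex X.Modules ℤ} (i : ℤ) (h : IsZero (K.homology i)) :
    IsZero (((restrCx j).obj K).homology i) :=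
  ((restrictFunctor j).map_isZero h).of_iso ((homologyMapHCIso (restrictFunctor j) i).app K)

end Sch

end Groth.Agent.Lib.Helper99.SPerf
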