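import Mathlib
import Groth.Agent.Lib.Helper99.SPerf3

/-!
# Local properties of restriction functors on `D(O_X)`; local vanishing and local lifting of
morphisms from strictly perfect complexes in the derived category (helper99)
-/

set_option autoImplicit false
universe u
open CategoryTheory Limits AlgebraicGeometry Opposite TopologicalSpace Pretriangulated

attribute [local instance] HasDerivedCategory.standard

namespace Groth.Agent.Lib.Helper99.SPerf

open Scheme.Modules CochainComplex HomologicalComplex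

variable {X : Scheme.{u}}

/-- a property of functors `D(O_X) ⥤ D(O_U)` (thought of as restriction functors), stable under
further restriction and under natural isomorphisms -/
structure IsLocalProp (P : ∀ (U : Scheme.{u}), (DCoh.D X ⥤ DCoh.D U) → Prop) : Prop where
  post : ∀ {U U' : Scheme.{u}} (Φ : DCoh.D X ⥤ DCoh.D U) (k : U' ⟶ U) [IsOpenImmersion k],
    P U Φ → P U' (Φ ⋙ DCoh.restrictD k)
  iso : ∀ {U : Scheme.{u}} {Φ Φ' : DCoh.D X ⥤ DCoh.D U}, (Φ ≅ Φ') → P U Φ → P U Φ'

namespace IsLocalProp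

variable {P : ∀ (U : Scheme.{u}), (DCoh.D X ⥤ DCoh.D U) → Prop} (hP : IsLocalProp P)
include hP

theorem comp {U U' : Scheme.{u}} (j : U ⟶ X) (k : U' ⟶ U) [IsOpenImmersion j] [IsOpenImmersion k]
    (h : P U (DCoh.restrictD j)) : P U' (DCoh.restrictD (k ≫ j)) :=
  hP.iso (restrictDComp k j).symm (hP.post _ k h)

theorem opensRange {U : Scheme.{u}} (j : U ⟶ X) [IsOpenImmersion j]
    (h : P U (DCoh.restrictD j)) : P j.opensRange (DCoh.restrictD j.opensRange.ι) :=
  hP.iso (restrictDOpensRange j).symm (hP.post _ _ h)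

theorem of_le {V V' : X.Opens} (hle : V ≤ V') (h : P V' (DCoh.restrictD V'.ι)) :
    P V (DCoh.restrictD V.ι) :=
  hP.iso (restrictDCongr (X.homOfLE_ι hle)) (hP.comp V'.ι (X.homOfLE hle) h)

theorem of_two_step (V : X.Opens) (V' : (V : Scheme.{u}).Opens) (x : X) (hx : x ∈ V)
    (hx' : (⟨x, hx⟩ : (V : Scheme.{u})) ∈ V')
    (h : P V' (DCoh.restrictD V.ι ⋙ DCoh.restrictD V'.ι)) :
    ∃ W : X.Opens, x ∈ W ∧ P W (DCoh.restrictD W.ι) :=
  ⟨(V'.ι ≫ V.ι).opensRange, ⟨⟨⟨x, hx⟩, hx'⟩, rfl⟩,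
    hP.opensRange (V'.ι ≫ V.ι) (hP.iso (restrictDComp V'.ι V.ι).symm h)⟩

end IsLocalProp

/-- vanishing of the image of a morphism is a local property -/
theorem isLocalProp_zero {A B : DCoh.D X} (γ : A ⟶ B) :
    IsLocalProp (fun U (Φ : DCoh.D X ⥤ DCoh.D U) => Φ.map γ = 0) where
  post Φ k _ h := by
    dsimp only [Functor.comp_map]
    rw [h, Functor.map_zero]
  iso {U Φ Φ'} e h := by
    have := e.inv.naturality γ
    rw [h, comp_zero] at this
    have h2 : Φ'.map γ = (Φ'.map γ ≫ e.inv.app B) ≫ e.hom.app B := by simp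
    rw [h2, this, zero_comp]

/-- existence of a lift is a local property -/
theorem isLocalProp_lift {A F G : DCoh.D X} (α : A ⟶ F) (f : G ⟶ F) :
    IsLocalProp (fun U (Φ : DCoh.D X ⥤ DCoh.D U) =>
      ∃ β : Φ.obj A ⟶ Φ.obj G, β ≫ Φ.map f = Φ.map α) where
  post Φ k _ h := by
    obtain ⟨β, hβ⟩ := h
    exact ⟨(DCoh.restrictD k).map β, by
      dsimp only [Functor.comp_map]; rw [← Functor.map_comp, hβ]⟩
  iso {U Φ Φ'} e h := by
    obtain ⟨β, hβ⟩ := h
    refine ⟨e.inv.app A ≫ β ≫ e.hom.app G, ?_⟩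
    rw [Category.assoc, Category.assoc, ← e.hom.naturality f, reassoc_of% hβ,
      e.hom.naturality α, Iso.inv_hom_id_app_assoc]

section Abstract

variable {C : Type*} [Category C] [Abelian C] [HasDerivedCategory C]

/-- vanishing of the cohomology of the third vertex of a distinguished triangle -/
theorem isZero_homology_obj₃ (T : Triangle (DerivedCategory C)) (hT : T ∈ distTriang _) (j : ℤ)
    (h1 : Epi ((DerivedCategory.homologyFunctor C j).map T.mor₁))
    (h2 : Mono ((DerivedCategory.homologyFunctor C (j + 1)).map T.mor₁)) :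
    IsZero ((DerivedCategory.homologyFunctor C j).obj T.obj₃) := by
  have e3 := DerivedCategory.HomologySequence.exact₃ T hT j (j + 1) rfl
  have z1 : (DerivedCategory.homologyFunctor C j).map T.mor₂ = 0 :=
    (DerivedCategory.HomologySequence.epi_homologyMap_mor₁_iff T hT j).1 h1
  have z2 : DerivedCategory.HomologySequence.δ T j (j + 1) rfl = 0 :=
    (DerivedCategory.HomologySequence.mono_homologyMap_mor₁_iff T hT j (j + 1) rfl).1 h2
  exact e3.isZero_of_both_zeros z1 z2

end Abstract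

/-- **local vanishing**: a morphism in `D(O_X)` from a strictly perfect complex, zero below degree
`a`, to an object with vanishing cohomology in degrees `≥ a`, is locally zero. -/
theorem exists_map_eq_zero {E : CochainComplex X.Modules ℤ} (hE : DCoh.IsStrictlyPerfect E) (a : ℤ)
    (hEa : ∀ i : ℤ, i < a → IsZero (E.X i)) (M : DCoh.D X)
    (hM : ∀ i : ℤ, a ≤ i → IsZero ((DerivedCategory.homologyFunctor _ i).obj M))
    (γ : DerivedCategory.Q.obj E ⟶ M) (x : X) :
    ∃ V : X.Opens, x ∈ V ∧ (DCoh.restrictD V.ι).map γ = 0 := by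
  let C := (DerivedCategory.Q : _ ⥤ DCoh.D X).objPreimage M
  let eM : DerivedCategory.Q.obj C ≅ M := DerivedCategory.Q.objObjPreimageIso M
  have hC : ∀ i : ℤ, a ≤ i → IsZero (C.homology i) := fun i hi =>
    (hM i hi).of_iso (((DerivedCategory.homologyFunctorFactors _ i).app C).symm ≪≫
      (DerivedCategory.homologyFunctor _ i).mapIso eM)
  obtain ⟨V₁, hx₁, h₁⟩ := exists_chain_map hE (γ ≫ eM.inv) x
  obtain ⟨β, hβ⟩ := h₁
  obtain ⟨V₂, hx₂, ⟨H⟩⟩ := exists_nullHomotopic β (isStrictlyPerfect_restrict V₁.ι hE) a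
    (fun i hi => isZero_restrCx_X V₁.ι i (hEa i hi))
    (fun i hi => isZero_homology_restrCx V₁.ι i (hC i hi)) (⟨x, hx₁⟩ : (V₁ : Scheme.{u}))
  have hz : (DCoh.restrictD V₁.ι ⋙ DCoh.restrictD V₂.ι).map (γ ≫ eM.inv) = 0 := by
    dsimp only [Functor.comp_map]
    rw [hβ, Functor.map_comp, Functor.map_comp, restrictD_map_Q,
      DerivedCategory.Q_map_eq_of_homotopy _ H, Functor.map_zero, zero_comp, comp_zero, zero_comp,
      comp_zero]
  obtain ⟨W, hxW, hW⟩ := (isLocalProp_zero (γ ≫ eM.inv)).of_two_step V₁ V₂ x hx₁ hx₂ hz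
  refine ⟨W, hxW, ?_⟩
  have : γ = (γ ≫ eM.inv) ≫ eM.hom := by simp
  rw [this, Functor.map_comp, hW, zero_comp]

/-- **local lifting in the derived category**. -/
theorem exists_lift_D {E : CochainComplex X.Modules ℤ} (hE : DCoh.IsStrictlyPerfect E) (a : ℤ)
    (hEa : ∀ i : ℤ, i < a → IsZero (E.X i)) {F G : DCoh.D X} (f : G ⟶ F)
    (hf : ∀ i : ℤ, a < i → IsIso ((DerivedCategory.homologyFunctor _ i).map f))
    (hfa : Epi ((DerivedCategory.homologyFunctor _ a).map f))
    (α : DerivedCategory.Q.obj E ⟶ F) (x : X) :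
    ∃ V : X.Opens, x ∈ V ∧ ∃ β : (DCoh.restrictD V.ι).obj (DerivedCategory.Q.obj E) ⟶
      (DCoh.restrictD V.ι).obj G, β ≫ (DCoh.restrictD V.ι).map f = (DCoh.restrictD V.ι).map α := by
  obtain ⟨C, g, h, hT⟩ := distinguished_cocone_triangle f
  have hC : ∀ i : ℤ, a ≤ i → IsZero ((DerivedCategory.homologyFunctor _ i).obj C) := by
    intro i hi
    apply isZero_homology_obj₃ _ hT i
    · rcases eq_or_lt_of_le hi with rfl | hlt
      · exact hfa
      · haveI := hf i hlt
        exact (inferInstance : Epi ((DerivedCategory.homologyFunctor _ i).map f))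
    · haveI := hf (i + 1) (by omega)
      exact (inferInstance : Mono ((DerivedCategory.homologyFunctor _ (i + 1)).map f))
  obtain ⟨V, hxV, hV⟩ := exists_map_eq_zero hE a hEa C hC (α ≫ g) x
  refine ⟨V, hxV, ?_⟩
  have hT' := (DCoh.restrictD V.ι).map_distinguished _ hT
  have hz : (DCoh.restrictD V.ι).map α ≫ (DCoh.restrictD V.ι).map g = 0 := by
    rw [← Functor.map_comp, hV]
  obtain ⟨β, hβ⟩ := Triangle.coyoneda_exact₂ _ hT'
    (show (DCoh.restrictD V.ι).obj (DerivedCategory.Q.obj E) ⟶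
      ((DCoh.restrictD V.ι).mapTriangle.obj (Triangle.mk f g h)).obj₂ from
      (DCoh.restrictD V.ι).map α) hz
  exact ⟨β, hβ.symm⟩

end Groth.Agent.Lib.Helper99.SPerf
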