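import Mathlib
import Groth.Agent.Lib.Helper99.SPerf4
import Groth.Agent.Lib.QCoh.Helper74_LocFreeBiprod

/-!
# Perfect objects of `D(O_X)`: two out of three (helper99)
-/

set_option autoImplicit false
universe u
open CategoryTheory Limits AlgebraicGeometry Opposite TopologicalSpace Pretriangulated

attribute [local instance] HasDerivedCategory.standard

namespace Groth.Agent.Lib.Helper99.SPerf

open Scheme.Modules CochainComplex HomologicalComplex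

variable {X : Scheme.{u}}

/-- the local property underlying perfectness -/
def PerfProp (K : DCoh.D X) (U : Scheme.{u}) (Φ : DCoh.D X ⥤ DCoh.D U) : Prop :=
  ∃ E : CochainComplex U.Modules ℤ, DCoh.IsStrictlyPerfect E ∧
    Nonempty (Φ.obj K ≅ DerivedCategory.Q.obj E)

theorem isLocalProp_perf (K : DCoh.D X) : IsLocalProp (PerfProp K) where
  post Φ k _ h := by
    obtain ⟨E, hE, ⟨e⟩⟩ := h
    exact ⟨(restrCx k).obj E, isStrictlyPerfect_restrict k hE,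
      ⟨(DCoh.restrictD k).mapIso e ≪≫ restrictDQIso k E⟩⟩
  iso e h := by
    obtain ⟨E, hE, ⟨e'⟩⟩ := h
    exact ⟨E, hE, ⟨(e.app K).symm ≪≫ e'⟩⟩

theorem isPerfect_iff (K : DCoh.D X) :
    DCoh.IsPerfect K ↔ ∀ x : X, ∃ V : X.Opens, x ∈ V ∧ PerfProp K V (DCoh.restrictD V.ι) := by
  constructor
  · intro h x
    obtain ⟨V, hx, hV⟩ := h x
    refine ⟨V, hx, ?_⟩
    let F := (DerivedCategory.Q : _ ⥤ DCoh.D X).objPreimage K
    let eK : DerivedCategory.Q.obj F ≅ K := DerivedCategory.Q.objObjPreimageIso K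
    obtain ⟨E, hE, ⟨e⟩⟩ := hV F ⟨eK⟩
    exact ⟨E, hE, ⟨(DCoh.restrictD V.ι).mapIso eK.symm ≪≫ restrictDQIso V.ι F ≪≫ e⟩⟩
  · intro h x
    obtain ⟨V, hx, E, hE, ⟨e⟩⟩ := h x
    refine ⟨V, hx, fun F ⟨eK⟩ => ⟨E, hE, ⟨?_⟩⟩⟩
    exact (restrictDQIso V.ι F).symm ≪≫ (DCoh.restrictD V.ι).mapIso eK ≪≫ e

theorem isStrictlyPerfect_mappingCone {Y : Scheme.{u}} {E₁ E₂ : CochainComplex Y.Modules ℤ}
    (β : E₁ ⟶ E₂) (h₁ : DCoh.IsStrictlyPerfect E₁) (h₂ : DCoh.IsStrictlyPerfect E₂) :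
    DCoh.IsStrictlyPerfect (mappingCone β) := by
  obtain ⟨⟨a₁, b₁, hab₁⟩, hfl₁⟩ := h₁
  obtain ⟨⟨a₂, b₂, hab₂⟩, hfl₂⟩ := h₂
  refine ⟨⟨min (a₁ - 1) a₂, max (b₁ - 1) b₂, fun i hi => ?_⟩, fun i => ?_⟩
  · rw [mappingCone.isZero_X_iff]
    constructor
    · apply hab₁
      rcases hi with hi | hi
      · left
        have := min_le_left (a₁ - 1) a₂
        omega
      · right
        have := le_max_left (b₁ - 1) b₂
        omega
    · apply hab₂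
      rcases hi with hi | hi
      · left
        have := min_le_right (a₁ - 1) a₂
        omega
      · right
        have := le_max_right (b₁ - 1) b₂
        omega
  · have := HasHomotopyCofiber.hasBinaryBiproduct β i (i + 1) rfl
    exact Groth.Agent.Lib.QCoh.isFinLocFree_of_iso (homotopyCofiber.XIsoBiprod β i (i + 1) rfl).symm
      (Groth.Agent.Lib.QCoh.isFinLocFree_biprod (hfl₁ (i + 1)) (hfl₂ i))

theorem isStrictlyPerfect_shift {Y : Scheme.{u}} {E : CochainComplex Y.Modules ℤ}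
    (h : DCoh.IsStrictlyPerfect E) (n : ℤ) : DCoh.IsStrictlyPerfect (E⟦n⟧) := by
  obtain ⟨⟨a, b, hab⟩, hfl⟩ := h
  refine ⟨⟨a - n, b - n, fun i hi => ?_⟩, fun i => ?_⟩
  · exact hab (i + n) (by omega)
  · exact hfl (i + n)

/-- the third vertex of a distinguished triangle is locally perfect if the first two are -/
theorem perfProp_obj₃ (T : Triangle (DCoh.D X)) (hT : T ∈ distTriang _) (x : X)
    (h₁ : ∃ V : X.Opens, x ∈ V ∧ PerfProp T.obj₁ V (DCoh.restrictD V.ι))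
    (h₂ : ∃ V : X.Opens, x ∈ V ∧ PerfProp T.obj₂ V (DCoh.restrictD V.ι)) :
    ∃ V : X.Opens, x ∈ V ∧ PerfProp T.obj₃ V (DCoh.restrictD V.ι) := by
  obtain ⟨V₁, hx₁, p₁⟩ := h₁
  obtain ⟨V₂, hx₂, p₂⟩ := h₂
  have hxV : x ∈ V₁ ⊓ V₂ := ⟨hx₁, hx₂⟩
  obtain ⟨E₁, hE₁, ⟨e₁⟩⟩ := (isLocalProp_perf T.obj₁).of_le (inf_le_left : V₁ ⊓ V₂ ≤ V₁) p₁
  obtain ⟨E₂, hE₂, ⟨e₂⟩⟩ := (isLocalProp_perf T.obj₂).of_le (inf_le_right : V₁ ⊓ V₂ ≤ V₂) p₂
  obtain ⟨V', hxV', hV'⟩ := exists_chain_map hE₁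
    (e₁.inv ≫ (DCoh.restrictD (V₁ ⊓ V₂).ι).map T.mor₁ ≫ e₂.hom)
    (⟨x, hxV⟩ : ((V₁ ⊓ V₂ : X.Opens) : Scheme.{u}))
  obtain ⟨β, hβ⟩ := hV'
  have hT' := (DCoh.restrictD (V₁ ⊓ V₂).ι ⋙ DCoh.restrictD V'.ι).map_distinguished _ hT
  have hcone := DerivedCategory.mappingCone_triangle_distinguished β
  let i₁ : (DCoh.restrictD (V₁ ⊓ V₂).ι ⋙ DCoh.restrictD V'.ι).obj T.obj₁ ≅
      DerivedCategory.Q.obj ((restrCx V'.ι).obj E₁) :=
    (DCoh.restrictD V'.ι).mapIso e₁ ≪≫ restrictDQIso V'.ι E₁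
  let i₂ : (DCoh.restrictD (V₁ ⊓ V₂).ι ⋙ DCoh.restrictD V'.ι).obj T.obj₂ ≅
      DerivedCategory.Q.obj ((restrCx V'.ι).obj E₂) :=
    (DCoh.restrictD V'.ι).mapIso e₂ ≪≫ restrictDQIso V'.ι E₂
  have comm : (DCoh.restrictD (V₁ ⊓ V₂).ι ⋙ DCoh.restrictD V'.ι).map T.mor₁ ≫ i₂.hom =
      i₁.hom ≫ DerivedCategory.Q.map β := by
    have h1 : (DCoh.restrictD V'.ι).map ((DCoh.restrictD (V₁ ⊓ V₂).ι).map T.mor₁) =
        (DCoh.restrictD V'.ι).map e₁.hom ≫ (DCoh.restrictD V'.ι).map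
          (e₁.inv ≫ (DCoh.restrictD (V₁ ⊓ V₂).ι).map T.mor₁ ≫ e₂.hom) ≫
          (DCoh.restrictD V'.ι).map e₂.inv := by
      simp only [← Functor.map_comp, Category.assoc, Iso.hom_inv_id, Category.comp_id,
        Iso.hom_inv_id_assoc]
    dsimp only [Functor.comp_map, i₁, i₂, Iso.trans_hom, Functor.mapIso_hom, restrictDQIso,
      Iso.app_hom]
    rw [h1, hβ]
    simp only [Category.assoc, ← Functor.map_comp_assoc, Iso.inv_hom_id,
      CategoryTheory.Functor.map_id, Category.id_comp, Iso.inv_hom_id_app, Category.comp_id]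
    erw [Category.comp_id]
  let iso := isoTriangleOfIso₁₂ _ _ hT' hcone i₁ i₂ comm
  have i₃ : (DCoh.restrictD (V₁ ⊓ V₂).ι ⋙ DCoh.restrictD V'.ι).obj T.obj₃ ≅
      DerivedCategory.Q.obj (mappingCone β) := Triangle.π₃.mapIso iso
  exact (isLocalProp_perf T.obj₃).of_two_step (V₁ ⊓ V₂) V' x hxV hxV'
    ⟨mappingCone β, isStrictlyPerfect_mappingCone β (isStrictlyPerfect_restrict V'.ι hE₁)
      (isStrictlyPerfect_restrict V'.ι hE₂), ⟨i₃⟩⟩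

theorem perfProp_shift (K : DCoh.D X) (n : ℤ) {U : Scheme.{u}} (j : U ⟶ X) [IsOpenImmersion j]
    (h : PerfProp K U (DCoh.restrictD j)) : PerfProp (K⟦n⟧) U (DCoh.restrictD j) := by
  obtain ⟨E, hE, ⟨e⟩⟩ := h
  refine ⟨E⟦n⟧, isStrictlyPerfect_shift hE n, ⟨?_⟩⟩
  exact ((DCoh.restrictD j).commShiftIso n).app K ≪≫ (CategoryTheory.shiftFunctor _ n).mapIso e ≪≫
    ((DerivedCategory.Q.commShiftIso n).app E).symm

theorem isPerfect_shift (K : DCoh.D X) (n : ℤ) (h : DCoh.IsPerfect K) : DCoh.IsPerfect (K⟦n⟧) := by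
  rw [isPerfect_iff] at h ⊢
  intro x
  obtain ⟨V, hx, hV⟩ := h x
  exact ⟨V, hx, perfProp_shift K n V.ι hV⟩

theorem isPerfect_obj₃ (T : Triangle (DCoh.D X)) (hT : T ∈ distTriang _)
    (h₁ : DCoh.IsPerfect T.obj₁) (h₂ : DCoh.IsPerfect T.obj₂) : DCoh.IsPerfect T.obj₃ := by
  rw [isPerfect_iff] at h₁ h₂ ⊢
  exact fun x => perfProp_obj₃ T hT x (h₁ x) (h₂ x)

/-- **S0887**: two out of three for perfect objects. -/
theorem isPerfect_two_out_of_three (T : Triangle (DCoh.D X)) (hT : T ∈ distTriang _) :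
    (DCoh.IsPerfect T.obj₁ → DCoh.IsPerfect T.obj₂ → DCoh.IsPerfect T.obj₃) ∧
    (DCoh.IsPerfect T.obj₁ → DCoh.IsPerfect T.obj₃ → DCoh.IsPerfect T.obj₂) ∧
    (DCoh.IsPerfect T.obj₂ → DCoh.IsPerfect T.obj₃ → DCoh.IsPerfect T.obj₁) := by
  refine ⟨isPerfect_obj₃ T hT, fun h₁ h₃ => ?_, fun h₂ h₃ => ?_⟩
  · exact isPerfect_obj₃ T.invRotate (inv_rot_of_distTriang _ hT) (isPerfect_shift _ _ h₃) h₁
  · exact isPerfect_obj₃ T.invRotate.invRotate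
      (inv_rot_of_distTriang _ (inv_rot_of_distTriang _ hT))
      (isPerfect_shift _ _ h₂) (isPerfect_shift _ _ h₃)

end Groth.Agent.Lib.Helper99.SPerf
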