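import Mathlib
import Groth.Agent.Lib.Helper99.SPerf5

/-!
# Perfect objects are locally bounded complexes of finite free modules (helper99)
-/

set_option autoImplicit false
universe u
open CategoryTheory Limits AlgebraicGeometry Opposite TopologicalSpace Pretriangulated

attribute [local instance] HasDerivedCategory.standard

namespace Groth.Agent.Lib.Helper99.SPerf

open Scheme.Modules CochainComplex HomologicalComplex Groth.Agent.Lib.QCoh

/-- a bounded complex of finite free modules -/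
def FreeCx {Y : Scheme.{u}} (P : CochainComplex Y.Modules ℤ) : Prop :=
  ∃ a b : ℤ, DCoh.VanishesOutside P a b ∧
    ∀ i : ℤ, ∃ n : ℕ, Nonempty (P.X i ≅ FlatMod.freeMod Y n)

theorem FreeCx.isStrictlyPerfect {Y : Scheme.{u}} {P : CochainComplex Y.Modules ℤ}
    (h : FreeCx P) : DCoh.IsStrictlyPerfect P := by
  obtain ⟨a, b, hab, hf⟩ := h
  refine ⟨⟨a, b, hab⟩, fun i => ?_⟩
  obtain ⟨n, ⟨e⟩⟩ := hf i
  exact isFinLocFree_of_iso e.symm (isFinLocFree_freeMod Y n)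

theorem isZero_freeMod_zero (Y : Scheme.{u}) : IsZero (FlatMod.freeMod Y 0) := by
  rw [IsZero.iff_id_eq_zero]
  apply Sigma.hom_ext
  intro i
  exact Fin.elim0 i

theorem FreeCx.restrict {Y U : Scheme.{u}} (k : U ⟶ Y) [IsOpenImmersion k]
    {P : CochainComplex Y.Modules ℤ} (h : FreeCx P) : FreeCx ((restrCx k).obj P) := by
  obtain ⟨a, b, hab, hf⟩ := h
  refine ⟨a, b, fun i hi => (restrictFunctor k).map_isZero (hab i hi), fun i => ?_⟩
  obtain ⟨n, ⟨e⟩⟩ := hf i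
  exact ⟨n, ⟨(restrictFunctor k).mapIso e ≪≫ restrictFreeModIso k n⟩⟩

/-- trivialisations restrict to smaller opens -/
noncomputable def freeOfLE {Y : Scheme.{u}} {M : Y.Modules} {W U : Y.Opens} (h : W ≤ U) {n : ℕ}
    (i : M.restrict U.ι ≅ FlatMod.freeMod U n) : M.restrict W.ι ≅ FlatMod.freeMod W n :=
  (restrictFunctorCongr (Y.homOfLE_ι h).symm).app M ≪≫
    (restrictFunctorComp (Y.homOfLE h) U.ι).app M ≪≫
    (restrictFunctor (Y.homOfLE h)).mapIso i ≪≫ restrictFreeModIso _ n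

theorem exists_free_nbhd {Y : Scheme.{u}} (E : CochainComplex Y.Modules ℤ)
    (hE : DCoh.IsStrictlyPerfect E) (y : Y) :
    ∃ W : Y.Opens, y ∈ W ∧ FreeCx ((restrCx W.ι).obj E) := by
  obtain ⟨⟨a, b, hab⟩, hfl⟩ := hE
  choose U n hy hi using fun i => hfl i y
  refine ⟨⨅ i : Set.Icc a b, U i.1, ?_, a, b, fun i hi => (restrictFunctor _).map_isZero (hab i hi),
    fun i => ?_⟩
  · change y ∈ ((⨅ i : Set.Icc a b, U i.1 : Y.Opens) : Set Y)
    rw [Opens.coe_iInf]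
    exact Set.mem_iInter.2 fun i => hy i.1
  · by_cases h : a ≤ i ∧ i ≤ b
    · exact ⟨n i, ⟨freeOfLE (iInf_le (fun i : Set.Icc a b => U i.1) ⟨i, h⟩) (hi i).some⟩⟩
    · refine ⟨0, ⟨IsZero.iso ((restrictFunctor _).map_isZero (hab i ?_)) (isZero_freeMod_zero _)⟩⟩
      by_contra hc
      exact h ⟨by omega, by omega⟩

/-- the local property "isomorphic to a bounded complex of finite free modules" -/
def FreeProp {X : Scheme.{u}} (K : DCoh.D X) (U : Scheme.{u}) (Φ : DCoh.D X ⥤ DCoh.D U) : Prop :=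
  ∃ P : CochainComplex U.Modules ℤ, FreeCx P ∧ Nonempty (Φ.obj K ≅ DerivedCategory.Q.obj P)

variable {X : Scheme.{u}}

theorem isLocalProp_free (K : DCoh.D X) : IsLocalProp (FreeProp K) where
  post Φ k _ h := by
    obtain ⟨E, hE, ⟨e⟩⟩ := h
    exact ⟨(restrCx k).obj E, hE.restrict k,
      ⟨(DCoh.restrictD k).mapIso e ≪≫ restrictDQIso k E⟩⟩
  iso e h := by
    obtain ⟨E, hE, ⟨e'⟩⟩ := h
    exact ⟨E, hE, ⟨(e.app K).symm ≪≫ e'⟩⟩

theorem isPerfect_iff_free (K : DCoh.D X) :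
    DCoh.IsPerfect K ↔ ∀ x : X, ∃ V : X.Opens, x ∈ V ∧ FreeProp K V (DCoh.restrictD V.ι) := by
  rw [isPerfect_iff]
  constructor
  · intro h x
    obtain ⟨V, hx, E, hE, ⟨e⟩⟩ := h x
    obtain ⟨W, hxW, hW⟩ := exists_free_nbhd E hE (⟨x, hx⟩ : (V : Scheme.{u}))
    exact (isLocalProp_free K).of_two_step V W x hx hxW
      ⟨_, hW, ⟨(DCoh.restrictD W.ι).mapIso e ≪≫ restrictDQIso W.ι E⟩⟩
  · intro h x
    obtain ⟨V, hx, P, hP, he⟩ := h x
    exact ⟨V, hx, P, hP.isStrictlyPerfect, he⟩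

/-- **S0923** -/
theorem isPerfect_iff_locally_finite_free_complex (E : DCoh.D X) :
    DCoh.IsPerfect E ↔ ∀ x : X, ∃ V : X.Opens, x ∈ V ∧
      ∀ F : CochainComplex X.Modules ℤ, Nonempty (DCoh.toD X F ≅ E) →
        ∃ (P : CochainComplex (V : Scheme.{u}).Modules ℤ) (a b : ℤ), DCoh.VanishesOutside P a b ∧
          (∀ i : ℤ, ∃ n : ℕ, Nonempty (P.X i ≅ FlatMod.freeMod (V : Scheme.{u}) n)) ∧
          Nonempty (DerivedCategory.Q.obj ((DCoh.restrictCx V).obj F) ≅ DerivedCategory.Q.obj P) := by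
  rw [isPerfect_iff_free]
  constructor
  · intro h x
    obtain ⟨V, hx, P, ⟨a, b, hab, hf⟩, ⟨e⟩⟩ := h x
    refine ⟨V, hx, fun F ⟨eK⟩ => ⟨P, a, b, hab, hf, ⟨?_⟩⟩⟩
    exact (restrictDQIso V.ι F).symm ≪≫ (DCoh.restrictD V.ι).mapIso eK ≪≫ e
  · intro h x
    obtain ⟨V, hx, hV⟩ := h x
    refine ⟨V, hx, ?_⟩
    let F := (DerivedCategory.Q : _ ⥤ DCoh.D X).objPreimage E
    let eK : DerivedCategory.Q.obj F ≅ E := DerivedCategory.Q.objObjPreimageIso E
    obtain ⟨P, a, b, hab, hf, ⟨e⟩⟩ := hV F ⟨eK⟩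
    exact ⟨P, ⟨a, b, hab, hf⟩,
      ⟨(DCoh.restrictD V.ι).mapIso eK.symm ≪≫ restrictDQIso V.ι F ≪≫ e⟩⟩

end Groth.Agent.Lib.Helper99.SPerf
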