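import Mathlib

/-!
# Brutal truncation `σ_{≥ m}` of a cochain complex (helper99)
-/

set_option autoImplicit false
open CategoryTheory Limits ZeroObject

namespace Groth.Agent.Lib.Helper99.Sigma

variable {C : Type*} [Category C] [Abelian C]

section Defs

variable (K : CochainComplex C ℤ) (m : ℤ)

open Classical in
/-- the terms of the brutal truncation -/
noncomputable def sX (i : ℤ) : C := if m ≤ i then K.X i else 0

open Classical in
noncomputable def sι (i : ℤ) : sX K m i ⟶ K.X i :=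
  if h : m ≤ i then eqToHom (if_pos h) else 0

open Classical in
noncomputable def sπ (i : ℤ) : K.X i ⟶ sX K m i :=
  if h : m ≤ i then eqToHom (if_pos h).symm else 0

variable {K m}

@[reassoc]
theorem sπ_ι {i : ℤ} (h : m ≤ i) : sπ K m i ≫ sι K m i = 𝟙 _ := by
  simp [sπ, sι, dif_pos h]

theorem sι_π {i : ℤ} (h : m ≤ i) : sι K m i ≫ sπ K m i = 𝟙 _ := by
  simp [sπ, sι, dif_pos h]

theorem sι_eq_zero {i : ℤ} (h : ¬ m ≤ i) : sι K m i = 0 := by
  simp [sι, dif_neg h]

theorem sπ_eq_zero {i : ℤ} (h : ¬ m ≤ i) : sπ K m i = 0 := by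
  simp [sπ, dif_neg h]

theorem isZero_sX {i : ℤ} (h : ¬ m ≤ i) : IsZero (sX K m i) := by
  simp only [sX, if_neg h]
  exact isZero_zero C

theorem isIso_sι {i : ℤ} (h : m ≤ i) : IsIso (sι K m i) :=
  ⟨sπ K m i, sι_π h, sπ_ι h⟩

/-- key fact -/
theorem sι_d_π_ι (i j : ℤ) (hij : i + 1 = j) :
    sι K m i ≫ K.d i j ≫ sπ K m j ≫ sι K m j = sι K m i ≫ K.d i j := by
  by_cases h : m ≤ j
  · rw [sπ_ι h, Category.comp_id]
  · rw [sι_eq_zero (show ¬ m ≤ i by omega), zero_comp, zero_comp]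

variable (K m)

/-- the brutal truncation `σ_{≥ m} K` -/
noncomputable def sigmaGE : CochainComplex C ℤ where
  X i := sX K m i
  d i j := sι K m i ≫ K.d i j ≫ sπ K m j
  shape i j hij := by rw [K.shape i j hij, zero_comp, comp_zero]
  d_comp_d' i j k hij hjk := by
    have := sι_d_π_ι (K := K) (m := m) i j hij
    simp only [Category.assoc]
    rw [reassoc_of% this, K.d_comp_d_assoc, zero_comp, comp_zero]

/-- the inclusion `σ_{≥ m} K ⟶ K` -/
noncomputable def ι : sigmaGE K m ⟶ K where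
  f i := sι K m i
  comm' i j hij := by
    dsimp [sigmaGE]
    simp only [Category.assoc]
    exact (sι_d_π_ι i j hij).symm

variable {K m}

theorem isZero_sigmaGE_X {i : ℤ} (h : i < m) : IsZero ((sigmaGE K m).X i) :=
  isZero_sX (by omega)

/-- the terms in degrees `≥ m` -/
noncomputable def sigmaGEXIso {i : ℤ} (h : m ≤ i) : (sigmaGE K m).X i ≅ K.X i :=
  ⟨sι K m i, sπ K m i, sι_π h, sπ_ι h⟩

theorem isIso_homologyMap_ι {i : ℤ} (h : m < i) : IsIso (HomologicalComplex.homologyMap (ι K m) i) := by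
  rw [← quasiIsoAt_iff_isIso_homologyMap,
    quasiIsoAt_iff' _ (i - 1) i (i + 1) (by simp) (by simp)]
  let φ := (HomologicalComplex.shortComplexFunctor' C (ComplexShape.up ℤ) (i - 1) i (i + 1)).map (ι K m)
  have h1 : IsIso φ.τ₁ := isIso_sι (by omega)
  have h2 : IsIso φ.τ₂ := isIso_sι (by omega)
  have h3 : IsIso φ.τ₃ := isIso_sι (by omega)
  exact ShortComplex.quasiIso_of_epi_of_isIso_of_mono φ

theorem epi_homologyMap_ι : Epi (HomologicalComplex.homologyMap (ι K m) m) := by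
  rw [HomologicalComplex.epi_homologyMap_iff_up_to_refinements (ι K m) (m - 1) m (m + 1)
    (by simp) (by simp)]
  intro A y₂ hy₂
  refine ⟨A, 𝟙 A, inferInstance, y₂ ≫ sπ K m m, ?_, 0, ?_⟩
  · dsimp [sigmaGE]
    erw [Category.assoc, sπ_ι_assoc le_rfl, reassoc_of% hy₂, zero_comp]
    rfl
  · dsimp [ι]
    erw [Category.id_comp, Category.assoc, sπ_ι le_rfl, Category.comp_id, zero_comp, add_zero]

end Defs

end Groth.Agent.Lib.Helper99.Sigma
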