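import Mathlib
import Groth.Agent.Lib.Helper99.SPerf6
import Groth.Agent.Lib.Helper99.Sigma
import Groth.Agent.Lib.Helper99.Cond

/-!
# Pseudo-coherent objects of `D(O_X)` in distinguished triangles (helper99)
-/

set_option autoImplicit false
universe u
open CategoryTheory Limits AlgebraicGeometry Opposite TopologicalSpace Pretriangulated

attribute [local instance] HasDerivedCategory.standard

namespace Groth.Agent.Lib.Helper99.SPerf

open Scheme.Modules CochainComplex HomologicalComplex Groth.Agent.Lib.QCoh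

variable {X : Scheme.{u}}

theorem Cond.map_restrictD {U U' : Scheme.{u}} (k : U' ⟶ U) [IsOpenImmersion k] {m : ℤ}
    {K L : DCoh.D U} {α : K ⟶ L} (h : Cond m α) : Cond m ((DCoh.restrictD k).map α) :=
  ⟨fun i hi => isIso_homology_map_of_isIso (restrictFunctor k) α i (h.1 i hi),
    epi_homology_map_of_epi (restrictFunctor k) α m h.2⟩

/-- the local property underlying `m`-pseudo-coherence -/
def PCProp (m : ℤ) (K : DCoh.D X) (U : Scheme.{u}) (Φ : DCoh.D X ⥤ DCoh.D U) : Prop :=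
  ∃ (E : CochainComplex U.Modules ℤ) (α : DerivedCategory.Q.obj E ⟶ Φ.obj K),
    DCoh.IsStrictlyPerfect E ∧ Cond m α

theorem isLocalProp_pc (m : ℤ) (K : DCoh.D X) : IsLocalProp (PCProp m K) where
  post Φ k _ h := by
    obtain ⟨E, α, hE, hα⟩ := h
    exact ⟨(restrCx k).obj E, (restrictDQIso k E).inv ≫ (DCoh.restrictD k).map α,
      isStrictlyPerfect_restrict k hE, Cond.comp (Cond.of_isIso _) (hα.map_restrictD k)⟩
  iso e h := by
    obtain ⟨E, α, hE, hα⟩ := h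
    exact ⟨E, α ≫ e.hom.app K, hE, Cond.comp hα (Cond.of_isIso _)⟩

theorem isPseudoCoherentD_iff (m : ℤ) (K : DCoh.D X) :
    DCoh.IsPseudoCoherentD m K ↔
      ∀ x : X, ∃ V : X.Opens, x ∈ V ∧ PCProp m K V (DCoh.restrictD V.ι) := by
  constructor
  · intro h x
    obtain ⟨V, hx, hV⟩ := h x
    refine ⟨V, hx, ?_⟩
    let F := (DerivedCategory.Q : _ ⥤ DCoh.D X).objPreimage K
    let eK : DerivedCategory.Q.obj F ≅ K := DerivedCategory.Q.objObjPreimageIso K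
    obtain ⟨E, α, hE, h1, h2⟩ := hV F ⟨eK⟩
    exact ⟨E, α ≫ ((restrictDQIso V.ι F).symm ≪≫ (DCoh.restrictD V.ι).mapIso eK).hom, hE,
      Cond.comp ⟨h1, h2⟩ (Cond.of_isIso _)⟩
  · intro h x
    obtain ⟨V, hx, E, α, hE, hα⟩ := h x
    refine ⟨V, hx, fun F ⟨eK⟩ => ?_⟩
    have hc : Cond m (α ≫ ((DCoh.restrictD V.ι).mapIso eK.symm ≪≫ restrictDQIso V.ι F).hom) :=
      Cond.comp hα (Cond.of_isIso _)
    exact ⟨E, α ≫ ((DCoh.restrictD V.ι).mapIso eK.symm ≪≫ restrictDQIso V.ι F).hom, hE,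
      hc.1, hc.2⟩

/-- variant with `E` zero in degrees `< m` -/
def PCProp' (m : ℤ) (K : DCoh.D X) (U : Scheme.{u}) (Φ : DCoh.D X ⥤ DCoh.D U) : Prop :=
  ∃ (E : CochainComplex U.Modules ℤ) (α : DerivedCategory.Q.obj E ⟶ Φ.obj K),
    DCoh.IsStrictlyPerfect E ∧ (∀ i : ℤ, i < m → IsZero (E.X i)) ∧ Cond m α

theorem isFinLocFree_of_isZero {Y : Scheme.{u}} {M : Y.Modules} (h : IsZero M) :
    FlatMod.IsFinLocFree M :=
  isFinLocFree_of_iso (IsZero.iso (isZero_freeMod_zero Y) h) (isFinLocFree_freeMod Y 0)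

theorem isStrictlyPerfect_sigmaGE {Y : Scheme.{u}} {E : CochainComplex Y.Modules ℤ}
    (hE : DCoh.IsStrictlyPerfect E) (m : ℤ) : DCoh.IsStrictlyPerfect (Sigma.sigmaGE E m) := by
  obtain ⟨⟨a, b, hab⟩, hfl⟩ := hE
  refine ⟨⟨a, b, fun i hi => ?_⟩, fun i => ?_⟩
  · by_cases h : m ≤ i
    · exact (hab i hi).of_iso (Sigma.sigmaGEXIso h)
    · exact Sigma.isZero_sigmaGE_X (by omega)
  · by_cases h : m ≤ i
    · exact isFinLocFree_of_iso (Sigma.sigmaGEXIso h).symm (hfl i)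
    · exact isFinLocFree_of_isZero (Sigma.isZero_sigmaGE_X (by omega))

theorem PCProp.trunc {m : ℤ} {K : DCoh.D X} {U : Scheme.{u}} {Φ : DCoh.D X ⥤ DCoh.D U}
    (h : PCProp m K U Φ) : PCProp' m K U Φ := by
  obtain ⟨E, α, hE, hα⟩ := h
  exact ⟨Sigma.sigmaGE E m, DerivedCategory.Q.map (Sigma.ι E m) ≫ α,
    isStrictlyPerfect_sigmaGE hE m, fun i hi => Sigma.isZero_sigmaGE_X hi,
    Cond.comp (Cond.of_Q_map _ (fun i hi => Sigma.isIso_homologyMap_ι hi) Sigma.epi_homologyMap_ι)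
      hα⟩

/-- the combined local property used in the proof of two out of three -/
def LiftProp (m : ℤ) (T : Triangle (DCoh.D X)) (U : Scheme.{u}) (Φ : DCoh.D X ⥤ DCoh.D U) : Prop :=
  ∃ (E₁ E₂ : CochainComplex U.Modules ℤ) (α₁ : DerivedCategory.Q.obj E₁ ⟶ Φ.obj T.obj₁)
    (α₂ : DerivedCategory.Q.obj E₂ ⟶ Φ.obj T.obj₂)
    (γ : DerivedCategory.Q.obj E₁ ⟶ DerivedCategory.Q.obj E₂),
    DCoh.IsStrictlyPerfect E₁ ∧ DCoh.IsStrictlyPerfect E₂ ∧ Cond (m + 1) α₁ ∧ Cond m α₂ ∧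
      γ ≫ α₂ = α₁ ≫ Φ.map T.mor₁

theorem isLocalProp_liftProp (m : ℤ) (T : Triangle (DCoh.D X)) : IsLocalProp (LiftProp m T) where
  post Φ k _ h := by
    obtain ⟨E₁, E₂, α₁, α₂, γ, hE₁, hE₂, h₁, h₂, comm⟩ := h
    refine ⟨(restrCx k).obj E₁, (restrCx k).obj E₂,
      (restrictDQIso k E₁).inv ≫ (DCoh.restrictD k).map α₁,
      (restrictDQIso k E₂).inv ≫ (DCoh.restrictD k).map α₂,
      (restrictDQIso k E₁).inv ≫ (DCoh.restrictD k).map γ ≫ (restrictDQIso k E₂).hom,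
      isStrictlyPerfect_restrict k hE₁, isStrictlyPerfect_restrict k hE₂,
      Cond.comp (Cond.of_isIso _) (h₁.map_restrictD k),
      Cond.comp (Cond.of_isIso _) (h₂.map_restrictD k), ?_⟩
    simp only [Category.assoc, Iso.hom_inv_id_assoc, Functor.comp_map]
    rw [← Functor.map_comp, comm, Functor.map_comp]
  iso {U Φ Φ'} e h := by
    obtain ⟨E₁, E₂, α₁, α₂, γ, hE₁, hE₂, h₁, h₂, comm⟩ := h
    refine ⟨E₁, E₂, α₁ ≫ e.hom.app _, α₂ ≫ e.hom.app _, γ, hE₁, hE₂,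
      Cond.comp h₁ (Cond.of_isIso _), Cond.comp h₂ (Cond.of_isIso _), ?_⟩
    rw [reassoc_of% comm, Category.assoc, e.hom.naturality]

/-- Step A -/
theorem exists_liftProp (m : ℤ) (T : Triangle (DCoh.D X)) (x : X) (V : X.Opens) (hx : x ∈ V)
    (h₁ : PCProp' (m + 1) T.obj₁ V (DCoh.restrictD V.ι))
    (h₂ : PCProp m T.obj₂ V (DCoh.restrictD V.ι)) :
    ∃ W : X.Opens, x ∈ W ∧ LiftProp m T W (DCoh.restrictD W.ι) := by
  obtain ⟨E₁, α₁, hE₁, hE₁a, hα₁⟩ := h₁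
  obtain ⟨E₂, α₂, hE₂, hα₂⟩ := h₂
  obtain ⟨V', hxV', β, hβ⟩ := exists_lift_D hE₁ (m + 1) hE₁a α₂
    (fun i hi => hα₂.1 i (by omega))
    (by haveI := hα₂.1 (m + 1) (by omega); infer_instance)
    (α₁ ≫ (DCoh.restrictD V.ι).map T.mor₁) (⟨x, hx⟩ : (V : Scheme.{u}))
  refine (isLocalProp_liftProp m T).of_two_step V V' x hx hxV'
    ⟨(restrCx V'.ι).obj E₁, (restrCx V'.ι).obj E₂,
      (restrictDQIso V'.ι E₁).inv ≫ (DCoh.restrictD V'.ι).map α₁,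
      (restrictDQIso V'.ι E₂).inv ≫ (DCoh.restrictD V'.ι).map α₂,
      (restrictDQIso V'.ι E₁).inv ≫ β ≫ (restrictDQIso V'.ι E₂).hom,
      isStrictlyPerfect_restrict _ hE₁, isStrictlyPerfect_restrict _ hE₂,
      Cond.comp (Cond.of_isIso _) (hα₁.map_restrictD _),
      Cond.comp (Cond.of_isIso _) (hα₂.map_restrictD _), ?_⟩
  simp only [Category.assoc, Iso.hom_inv_id_assoc, Functor.comp_map]
  rw [hβ, Functor.map_comp]

/-- Step B -/
theorem exists_pcProp_of_liftProp (m : ℤ) (T : Triangle (DCoh.D X)) (hT : T ∈ distTriang _)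
    (x : X) (W : X.Opens) (hx : x ∈ W) (h : LiftProp m T W (DCoh.restrictD W.ι)) :
    ∃ W' : X.Opens, x ∈ W' ∧ PCProp m T.obj₃ W' (DCoh.restrictD W'.ι) := by
  obtain ⟨E₁, E₂, α₁, α₂, γ, hE₁, hE₂, h₁, h₂, comm⟩ := h
  obtain ⟨W', hxW', hW'⟩ := exists_chain_map hE₁ γ (⟨x, hx⟩ : (W : Scheme.{u}))
  obtain ⟨β, hβ⟩ := hW'
  have hT₁ := DerivedCategory.mappingCone_triangle_distinguished β
  have hT₂ := (DCoh.restrictD W.ι ⋙ DCoh.restrictD W'.ι).map_distinguished _ hT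
  let a : DerivedCategory.Q.obj ((restrCx W'.ι).obj E₁) ⟶
      (DCoh.restrictD W.ι ⋙ DCoh.restrictD W'.ι).obj T.obj₁ :=
    (restrictDQIso W'.ι E₁).inv ≫ (DCoh.restrictD W'.ι).map α₁
  let b : DerivedCategory.Q.obj ((restrCx W'.ι).obj E₂) ⟶
      (DCoh.restrictD W.ι ⋙ DCoh.restrictD W'.ι).obj T.obj₂ :=
    (restrictDQIso W'.ι E₂).inv ≫ (DCoh.restrictD W'.ι).map α₂
  have hcomm : DerivedCategory.Q.map β ≫ b =
      a ≫ (DCoh.restrictD W.ι ⋙ DCoh.restrictD W'.ι).map T.mor₁ := by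
    have e1 : (DCoh.restrictD W'.ι).map γ ≫ (DCoh.restrictD W'.ι).map α₂ =
        (DCoh.restrictD W'.ι).map α₁ ≫
          (DCoh.restrictD W'.ι).map ((DCoh.restrictD W.ι).map T.mor₁) := by
      rw [← Functor.map_comp, comm, Functor.map_comp]
    rw [hβ] at e1
    dsimp only [a, b, Functor.comp_map, restrictDQIso, Iso.app_hom, Iso.app_inv]
    rw [Category.assoc, ← e1]
    simp only [Category.assoc, Iso.inv_hom_id_app_assoc]
  obtain ⟨c, hc₁, hc₂⟩ := complete_distinguished_triangle_morphism _ _ hT₁ hT₂ a b hcomm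
  let φ : DerivedCategory.Q.mapTriangle.obj (mappingCone.triangle β) ⟶
      (DCoh.restrictD W.ι ⋙ DCoh.restrictD W'.ι).mapTriangle.obj T :=
    { hom₁ := a, hom₂ := b, hom₃ := c, comm₁ := hcomm, comm₂ := hc₁, comm₃ := hc₂ }
  have hc : Cond m c := Cond.obj₃ hT₁ hT₂ φ
    (Cond.comp (Cond.of_isIso _) (h₁.map_restrictD _))
    (Cond.comp (Cond.of_isIso _) (h₂.map_restrictD _))
  exact (isLocalProp_pc m T.obj₃).of_two_step W W' x hx hxW'
    ⟨mappingCone β, c, isStrictlyPerfect_mappingCone β (isStrictlyPerfect_restrict _ hE₁)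
      (isStrictlyPerfect_restrict _ hE₂), hc⟩

theorem pcProp_obj₃ (m : ℤ) (T : Triangle (DCoh.D X)) (hT : T ∈ distTriang _) (x : X)
    (h₁ : ∃ V : X.Opens, x ∈ V ∧ PCProp (m + 1) T.obj₁ V (DCoh.restrictD V.ι))
    (h₂ : ∃ V : X.Opens, x ∈ V ∧ PCProp m T.obj₂ V (DCoh.restrictD V.ι)) :
    ∃ V : X.Opens, x ∈ V ∧ PCProp m T.obj₃ V (DCoh.restrictD V.ι) := by
  obtain ⟨V₁, hx₁, p₁⟩ := h₁
  obtain ⟨V₂, hx₂, p₂⟩ := h₂
  have hxV : x ∈ V₁ ⊓ V₂ := ⟨hx₁, hx₂⟩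
  have q₁ := ((isLocalProp_pc (m + 1) T.obj₁).of_le (inf_le_left : V₁ ⊓ V₂ ≤ V₁) p₁).trunc
  have q₂ := (isLocalProp_pc m T.obj₂).of_le (inf_le_right : V₁ ⊓ V₂ ≤ V₂) p₂
  obtain ⟨W, hxW, hW⟩ := exists_liftProp m T x (V₁ ⊓ V₂) hxV q₁ q₂
  exact exists_pcProp_of_liftProp m T hT x W hxW hW

theorem isPseudoCoherentD_obj₃ (m : ℤ) (T : Triangle (DCoh.D X)) (hT : T ∈ distTriang _)
    (h₁ : DCoh.IsPseudoCoherentD (m + 1) T.obj₁) (h₂ : DCoh.IsPseudoCoherentD m T.obj₂) :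
    DCoh.IsPseudoCoherentD m T.obj₃ := by
  rw [isPseudoCoherentD_iff] at h₁ h₂ ⊢
  exact fun x => pcProp_obj₃ m T hT x (h₁ x) (h₂ x)

end Groth.Agent.Lib.Helper99.SPerf
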