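import Mathlib
import Groth.Agent.Lib.Helper99.SPerf7

/-!
# Pseudo-coherent objects of `D(O_X)`: shifts and the three statements on distinguished
triangles (helper99)
-/

set_option autoImplicit false
universe u
open CategoryTheory Limits AlgebraicGeometry Opposite TopologicalSpace Pretriangulated

attribute [local instance] HasDerivedCategory.standard

namespace Groth.Agent.Lib.Helper99.SPerf

open Scheme.Modules CochainComplex HomologicalComplex Groth.Agent.Lib.QCoh

section Abstract

variable {C : Type*} [Category C] [Abelian C] [HasDerivedCategory C]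

theorem Cond.shift {m : ℤ} {K L : DerivedCategory C} {α : K ⟶ L} (h : Cond m α) (n m' : ℤ)
    (hm : m' + n = m) : Cond m' (α⟦n⟧') := by
  have key : ∀ i : ℤ, IsIso ((DerivedCategory.homologyFunctor C i).map (α⟦n⟧')) ↔
      IsIso ((DerivedCategory.homologyFunctor C (n + i)).map α) := fun i =>
    NatIso.isIso_map_iff ((DerivedCategory.homologyFunctor C 0).shiftIso n i (n + i) rfl) α
  refine ⟨fun i hi => ?_, ?_⟩
  · rw [key]
    exact h.1 _ (by omega)
  · have e := ((DerivedCategory.homologyFunctor C 0).shiftIso n m' m (by omega)).hom.naturality α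
    dsimp only [Functor.comp_map] at e
    have h2 : ((DerivedCategory.homologyFunctor C 0).shift m').map (α⟦n⟧') =
        ((DerivedCategory.homologyFunctor C 0).shiftIso n m' m (by omega)).hom.app K ≫
          ((DerivedCategory.homologyFunctor C 0).shift m).map α ≫
          ((DerivedCategory.homologyFunctor C 0).shiftIso n m' m (by omega)).inv.app L := by
      rw [← Category.assoc, ← e, Category.assoc, Iso.hom_inv_id_app, Category.comp_id]
    haveI : Epi (((DerivedCategory.homologyFunctor C 0).shift m).map α) := h.2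
    have h3 : Epi (((DerivedCategory.homologyFunctor C 0).shift m').map (α⟦n⟧')) := by
      rw [h2]
      infer_instance
    exact h3

end Abstract

variable {X : Scheme.{u}}

theorem pcProp_shift (K : DCoh.D X) (n m m' : ℤ) (hm : m' + n = m) {U : Scheme.{u}} (j : U ⟶ X)
    [IsOpenImmersion j] (h : PCProp m K U (DCoh.restrictD j)) :
    PCProp m' (K⟦n⟧) U (DCoh.restrictD j) := by
  obtain ⟨E, α, hE, hα⟩ := h
  refine ⟨E⟦n⟧, (DerivedCategory.Q.commShiftIso n).hom.app E ≫ α⟦n⟧' ≫
    ((DCoh.restrictD j).commShiftIso n).inv.app K, isStrictlyPerfect_shift hE n, ?_⟩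
  exact Cond.comp (Cond.of_isIso _) (Cond.comp (hα.shift n m' hm) (Cond.of_isIso _))

theorem isPseudoCoherentD_shift (K : DCoh.D X) (n m m' : ℤ) (hm : m' + n = m)
    (h : DCoh.IsPseudoCoherentD m K) : DCoh.IsPseudoCoherentD m' (K⟦n⟧) := by
  rw [isPseudoCoherentD_iff] at h ⊢
  intro x
  obtain ⟨V, hx, hV⟩ := h x
  exact ⟨V, hx, pcProp_shift K n m m' hm V.ι hV⟩

/-- **S0889** -/
theorem isPseudoCoherent_triangle (m : ℤ) (T : Triangle (DCoh.D X)) (hT : T ∈ distTriang _) :
    (DCoh.IsPseudoCoherentD (m + 1) T.obj₁ → DCoh.IsPseudoCoherentD m T.obj₂ →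
      DCoh.IsPseudoCoherentD m T.obj₃) ∧
    (DCoh.IsPseudoCoherentD m T.obj₁ → DCoh.IsPseudoCoherentD m T.obj₃ →
      DCoh.IsPseudoCoherentD m T.obj₂) ∧
    (DCoh.IsPseudoCoherentD (m + 1) T.obj₂ → DCoh.IsPseudoCoherentD m T.obj₃ →
      DCoh.IsPseudoCoherentD (m + 1) T.obj₁) := by
  refine ⟨isPseudoCoherentD_obj₃ m T hT, fun h₁ h₃ => ?_, fun h₂ h₃ => ?_⟩
  · exact isPseudoCoherentD_obj₃ m T.invRotate (inv_rot_of_distTriang _ hT)
      (isPseudoCoherentD_shift _ (-1) m (m + 1) (by omega) h₃) h₁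
  · exact isPseudoCoherentD_obj₃ (m + 1) T.invRotate.invRotate
      (inv_rot_of_distTriang _ (inv_rot_of_distTriang _ hT))
      (isPseudoCoherentD_shift _ (-1) (m + 1) (m + 1 + 1) (by omega) h₂)
      (isPseudoCoherentD_shift _ (-1) m (m + 1) (by omega) h₃)

end Groth.Agent.Lib.Helper99.SPerf
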