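import Mathlib
import Groth.Agent.Lib.Helper99.SPerf8

/-!
# Direct summands of pseudo-coherent objects of `D(O_X)` (helper99)
-/

set_option autoImplicit false
universe u
open CategoryTheory Limits AlgebraicGeometry Opposite TopologicalSpace Pretriangulated ZeroObject

attribute [local instance] HasDerivedCategory.standard

namespace Groth.Agent.Lib.Helper99.SPerf

open Scheme.Modules CochainComplex HomologicalComplex Groth.Agent.Lib.QCoh

section Abstract

variable {C : Type*} [Category C] [Abelian C] [HasDerivedCategory C]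

theorem Cond.mono {m n : ℤ} {K L : DerivedCategory C} {α : K ⟶ L} (h : Cond m α) (hn : m ≤ n) :
    Cond n α :=
  ⟨fun i hi => h.1 i (by omega), h.epi_of_le n hn⟩

theorem Cond.zero_of_isZero {n : ℤ} {K L : DerivedCategory C} (hK : IsZero K)
    (hL : ∀ i : ℤ, n ≤ i → IsZero ((DerivedCategory.homologyFunctor C i).obj L)) :
    Cond n (0 : K ⟶ L) := by
  refine ⟨fun i hi => ?_, ?_⟩
  · have h1 : IsZero ((DerivedCategory.homologyFunctor C i).obj K) :=
      (DerivedCategory.homologyFunctor C i).map_isZero hK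
    exact ⟨⟨0, h1.eq_of_src _ _, (hL i hi.le).eq_of_src _ _⟩⟩
  · exact ⟨fun g h _ => (hL n le_rfl).eq_of_src g h⟩

end Abstract

variable {X : Scheme.{u}}

/-- `m`-pseudo-coherence at a point -/
def PCAt (m : ℤ) (K : DCoh.D X) (x : X) : Prop :=
  ∃ V : X.Opens, x ∈ V ∧ PCProp m K V (DCoh.restrictD V.ι)

theorem isPseudoCoherentD_iff_pcAt (m : ℤ) (K : DCoh.D X) :
    DCoh.IsPseudoCoherentD m K ↔ ∀ x : X, PCAt m K x :=
  isPseudoCoherentD_iff m K

theorem PCAt.mono {m n : ℤ} {K : DCoh.D X} {x : X} (h : PCAt m K x) (hn : m ≤ n) : PCAt n K x := by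
  obtain ⟨V, hx, E, α, hE, hα⟩ := h
  exact ⟨V, hx, E, α, hE, hα.mono hn⟩

theorem PCAt.of_iso {m : ℤ} {K K' : DCoh.D X} {x : X} (e : K ≅ K') (h : PCAt m K x) :
    PCAt m K' x := by
  obtain ⟨V, hx, E, α, hE, hα⟩ := h
  exact ⟨V, hx, E, α ≫ (DCoh.restrictD V.ι).map e.hom, hE, Cond.comp hα (Cond.of_isIso _)⟩

theorem isStrictlyPerfect_zero (Y : Scheme.{u}) :
    DCoh.IsStrictlyPerfect (0 : CochainComplex Y.Modules ℤ) := by
  have hz : ∀ i : ℤ, IsZero ((0 : CochainComplex Y.Modules ℤ).X i) := fun i =>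
    (HomologicalComplex.eval _ _ i).map_isZero (isZero_zero _)
  exact ⟨⟨0, 0, fun i _ => hz i⟩, fun i => isFinLocFree_of_isZero (hz i)⟩

theorem pcAt_of_vanishing (n : ℤ) (K : DCoh.D X) (x : X) (V : X.Opens) (hx : x ∈ V)
    (hK : ∀ i : ℤ, n ≤ i →
      IsZero ((DerivedCategory.homologyFunctor _ i).obj ((DCoh.restrictD V.ι).obj K))) :
    PCAt n K x :=
  ⟨V, hx, 0, 0, isStrictlyPerfect_zero _,
    Cond.zero_of_isZero (DerivedCategory.Q.map_isZero (isZero_zero _)) hK⟩

theorem pcAt_obj₃ (m : ℤ) (T : Triangle (DCoh.D X)) (hT : T ∈ distTriang _) (x : X)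
    (h₁ : PCAt (m + 1) T.obj₁ x) (h₂ : PCAt m T.obj₂ x) : PCAt m T.obj₃ x :=
  pcProp_obj₃ m T hT x h₁ h₂

theorem pcAt_of_biprod (m : ℤ) (K L : DCoh.D X) [HasBinaryBiproduct K L] (x : X)
    (h : PCAt m (K ⊞ L) x) : PCAt m K x ∧ PCAt m L x := by
  obtain ⟨V, hx, E, α, ⟨⟨a, b, hab⟩, hfl⟩, hα⟩ := id h
  -- vanishing of the cohomology of `K ⊞ L` in high degrees
  have hv : ∀ i : ℤ, max b m + 1 ≤ i →
      IsZero ((DerivedCategory.homologyFunctor _ i).obj ((DCoh.restrictD V.ι).obj (K ⊞ L))) := by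
    intro i hi
    have hb : b < i := by have := le_max_left b m; omega
    have hm : m < i := by have := le_max_right b m; omega
    have h1 : IsZero ((DerivedCategory.homologyFunctor _ i).obj (DerivedCategory.Q.obj E)) := by
      refine IsZero.of_iso ?_ ((DerivedCategory.homologyFunctorFactors _ i).app E)
      exact ShortComplex.isZero_homology_of_isZero_X₂ _ (hab i (Or.inr hb))
    haveI := hα.1 i hm
    exact h1.of_iso (asIso ((DerivedCategory.homologyFunctor _ i).map α)).symm
  have hvK : ∀ i : ℤ, max b m + 1 ≤ i →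
      IsZero ((DerivedCategory.homologyFunctor _ i).obj ((DCoh.restrictD V.ι).obj K)) := by
    intro i hi
    rw [IsZero.iff_id_eq_zero]
    have e : (biprod.inl : K ⟶ K ⊞ L) ≫ biprod.fst = 𝟙 _ := biprod.inl_fst
    have e' := congrArg (fun f => (DerivedCategory.homologyFunctor _ i).map
      ((DCoh.restrictD V.ι).map f)) e
    simp only [Functor.map_comp, CategoryTheory.Functor.map_id] at e'
    rw [← e', (hv i hi).eq_of_tgt ((DerivedCategory.homologyFunctor _ i).map
      ((DCoh.restrictD V.ι).map biprod.inl)) 0, zero_comp]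
  have hvL : ∀ i : ℤ, max b m + 1 ≤ i →
      IsZero ((DerivedCategory.homologyFunctor _ i).obj ((DCoh.restrictD V.ι).obj L)) := by
    intro i hi
    rw [IsZero.iff_id_eq_zero]
    have e : (biprod.inr : L ⟶ K ⊞ L) ≫ biprod.snd = 𝟙 _ := biprod.inr_snd
    have e' := congrArg (fun f => (DerivedCategory.homologyFunctor _ i).map
      ((DCoh.restrictD V.ι).map f)) e
    simp only [Functor.map_comp, CategoryTheory.Functor.map_id] at e'
    rw [← e', (hv i hi).eq_of_tgt ((DerivedCategory.homologyFunctor _ i).map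
      ((DCoh.restrictD V.ι).map biprod.inr)) 0, zero_comp]
  -- descending induction
  have key : ∀ (k : ℕ) (n : ℤ), n + k = max b m + 1 → m ≤ n → PCAt n K x ∧ PCAt n L x := by
    intro k
    induction k with
    | zero =>
      intro n hn _
      have : n = max b m + 1 := by simpa using hn
      subst this
      exact ⟨pcAt_of_vanishing _ K x V hx hvK, pcAt_of_vanishing _ L x V hx hvL⟩
    | succ k ih =>
      intro n hn hmn
      obtain ⟨hK, hL⟩ := ih (n + 1) (by push_cast at hn ⊢; omega) (by omega)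
      have hA : PCAt n (K ⊞ L) x := h.mono hmn
      constructor
      · have hA' : PCAt n (L ⊞ K) x := hA.of_iso (biprod.braiding K L)
        exact pcAt_obj₃ n (binaryBiproductTriangle L K) (binaryBiproductTriangle_distinguished L K)
          x hL hA'
      · exact pcAt_obj₃ n (binaryBiproductTriangle K L) (binaryBiproductTriangle_distinguished K L)
          x hK hA
  have hbm : m ≤ max b m + 1 := by have := le_max_right b m; omega
  exact key (max b m + 1 - m).toNat m (by rw [Int.toNat_of_nonneg (by omega)]; omega) le_rfl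

/-- **S0888** -/
theorem isPseudoCoherent_of_biprod (m : ℤ) (K L : DCoh.D X) [HasBinaryBiproduct K L]
    (h : DCoh.IsPseudoCoherentD m (K ⊞ L)) :
    DCoh.IsPseudoCoherentD m K ∧ DCoh.IsPseudoCoherentD m L := by
  rw [isPseudoCoherentD_iff_pcAt] at h
  rw [isPseudoCoherentD_iff_pcAt, isPseudoCoherentD_iff_pcAt]
  exact ⟨fun x => (pcAt_of_biprod m K L x (h x)).1, fun x => (pcAt_of_biprod m K L x (h x)).2⟩

end Groth.Agent.Lib.Helper99.SPerf
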