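import Mathlib
import Groth.Agent.Lib.Helper99.SPerf9
import Groth.Agent.Lib.QCoh.Coherent
import Groth.Agent.Lib.QCoh.Helper49_FP

/-!
# Top cohomology of pseudo-coherent objects (helper99)

* `isFinLocFree_of_isLimit_kernelFork`: kernel of an epi of finite locally free modules is finite locally free.
* `isFiniteType_of_locally`, `isFinitePresentation_of_locally`: locality of FT / FP.
* `isFinitePresentation_of_isColimit_cokernelCofork`: cokernel of a map of finite locally free modules is FP.
* `isFinLocFree_cycles`, `isFinitePresentation_homology`: strictly perfect complexes.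
* `isFiniteType_HD_of_isPseudoCoherentD`, `isFinitePresentation_HD_of_isPseudoCoherentD` (= S0890).
-/

set_option autoImplicit false
universe u
open CategoryTheory Limits AlgebraicGeometry Opposite TopologicalSpace Pretriangulated ZeroObject

attribute [local instance] HasDerivedCategory.standard

namespace Groth.Agent.Lib.Helper99.SPerf

open Scheme.Modules CochainComplex HomologicalComplex Groth.Agent.Lib.QCoh Groth.Agent.Lib.QCoh.Lift74

section Abstract

variable {C : Type*} [Category C] [HasZeroMorphisms C]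

theorem cokernel_transport_condition {A B A' B' : C} (φ : A ⟶ B) (eA : A ≅ A') (eB : B ≅ B')
    (c : CokernelCofork φ) : (eA.inv ≫ φ ≫ eB.hom) ≫ eB.inv ≫ c.π = 0 := by
  simp

/-- transport of a cokernel cofork along isomorphisms of source and target -/
noncomputable def isColimitCokernelCoforkOfIsos {A B A' B' : C} (φ : A ⟶ B) (eA : A ≅ A')
    (eB : B ≅ B') (c : CokernelCofork φ) (hc : IsColimit c) :
    IsColimit (CokernelCofork.ofπ (f := eA.inv ≫ φ ≫ eB.hom) (eB.inv ≫ c.π)
      (cokernel_transport_condition φ eA eB c)) :=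
  CokernelCofork.isColimitOfIsColimitOfIff hc (eA.inv ≫ φ ≫ eB.hom) eB.symm (fun W k => by
    simp only [Iso.symm_hom, Category.assoc, Iso.hom_inv_id_assoc]
    constructor
    · intro h; rw [h, comp_zero]
    · intro h
      rw [← cancel_epi eA.inv, h, comp_zero])

end Abstract

variable {X : Scheme.{u}}

/-- cokernel of a morphism of free modules of finite rank has a finite presentation -/
theorem exists_presentation_of_isColimit_cokernelCofork_freeMod {A B : X.Modules} (φ : A ⟶ B)
    {a b : ℕ} (eA : A ≅ FlatMod.freeMod X a) (eB : B ≅ FlatMod.freeMod X b)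
    (c : CokernelCofork φ) (hc : IsColimit c) : ∃ P : c.pt.Presentation, P.IsFinite := by
  have hc' := isColimitCokernelCoforkOfIsos φ (eA ≪≫ freeModIsoFree X a)
    (eB ≪≫ freeModIsoFree X b) c hc
  let P := SheafOfModules.presentationOfIsCokernelFree (R := X.ringCatSheaf) _ _ _ hc'
  refine ⟨P, ?_⟩
  exact { isFiniteType_generators := ⟨inferInstanceAs (Finite (ULift.{u} (Fin b)))⟩
          isFiniteType_relations := ⟨inferInstanceAs (Finite (ULift.{u} (Fin a)))⟩ }



/-- kernel of an epimorphism of finite locally free modules is finite locally free -/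
theorem isFinLocFree_of_isLimit_kernelFork {A B : X.Modules} (p : A ⟶ B) [Epi p]
    (hA : FlatMod.IsFinLocFree A) (hB : FlatMod.IsFinLocFree B) (c : KernelFork p)
    (hc : IsLimit c) : FlatMod.IsFinLocFree c.pt := by
  apply isFinLocFree_of_locally
  intro x
  obtain ⟨V, s, hxV, hs⟩ := exists_local_lift_of_isFinLocFree p (𝟙 B) hB x
  refine ⟨V, V.ι, inferInstance, by simpa using hxV, ?_⟩
  rw [CategoryTheory.Functor.map_id] at hs
  have hc' : IsLimit (c.map (restrictFunctor V.ι)) := c.mapIsLimit hc (restrictFunctor V.ι)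
  let pV := (restrictFunctor V.ι).map p
  have hr : ((𝟙 _ : A.restrict V.ι ⟶ A.restrict V.ι) - pV ≫ s) ≫ pV = 0 := by
    rw [Preadditive.sub_comp, Category.id_comp, Category.assoc, hs, Category.comp_id, sub_self]
  let r : A.restrict V.ι ⟶ (c.map (restrictFunctor V.ι)).pt :=
    KernelFork.IsLimit.lift' hc' _ hr |>.1
  have hr' : r ≫ (c.map (restrictFunctor V.ι)).ι = 𝟙 _ - pV ≫ s :=
    (KernelFork.IsLimit.lift' hc' _ hr).2
  have hι : (c.map (restrictFunctor V.ι)).ι ≫ pV = 0 := (c.map (restrictFunctor V.ι)).condition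
  have : Mono (c.map (restrictFunctor V.ι)).ι := mono_of_isLimit_fork hc'
  refine isFinLocFree_of_retract (L := A.restrict V.ι)
    { i := (c.map (restrictFunctor V.ι)).ι, r := r, retract := ?_ } (isFinLocFree_restrict V.ι hA)
  refine (cancel_mono (c.map (restrictFunctor V.ι)).ι).1 ?_
  erw [Category.assoc, hr', Preadditive.comp_sub, Category.id_comp, Category.comp_id,
    reassoc_of% hι, zero_comp, sub_zero]



/-- restriction to the open range of an open immersion vs. restriction along it -/
noncomputable def restrictOpensRangeIso {Y : Scheme.{u}} (j : Y ⟶ X) [IsOpenImmersion j]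
    (M : X.Modules) :
    M.restrict j.opensRange.ι ≅ (M.restrict j).restrict j.isoOpensRange.inv :=
  (restrictFunctorCongr (j.isoOpensRange_inv_comp).symm).app M ≪≫
    (restrictFunctorComp j.isoOpensRange.inv j).app M

/-- generic locality principle for module properties -/
theorem exists_cover_of_locally (E : ∀ ⦃Y : Scheme.{u}⦄, Y.Modules → Prop)
    (hiso : ∀ ⦃Y : Scheme.{u}⦄ ⦃M N : Y.Modules⦄, (M ≅ N) → E M → E N)
    (hres : ∀ ⦃Y Z : Scheme.{u}⦄ (g : Z ⟶ Y) [IsOpenImmersion g] (M : Y.Modules),
      E M → E (M.restrict g))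
    (M : X.Modules)
    (h : ∀ x : X, ∃ V : X.Opens, x ∈ V ∧ ∃ (ι : Type u) (W : ι → (V : Scheme.{u}).Opens),
      IsOpenCover W ∧ ∀ i, E ((M.restrict V.ι).restrict (W i).ι)) :
    ∃ (ι : Type u) (U : ι → X.Opens), IsOpenCover U ∧ ∀ i, E (M.restrict (U i).ι) := by
  choose V hxV ι W hW hE using h
  refine ⟨Σ x : X, ι x, fun p => ((W p.1 p.2).ι ≫ (V p.1).ι).opensRange, ?_, fun p => ?_⟩
  · rw [IsOpenCover, ← top_le_iff]
    intro x _
    have hx : (⟨x, hxV x⟩ : V x) ∈ (⨆ i, W x i : (V x : Scheme.{u}).Opens) := by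
      rw [(hW x).iSup_eq_top]; trivial
    obtain ⟨i, hi⟩ := Opens.mem_iSup.1 hx
    exact Opens.mem_iSup.2 ⟨⟨x, i⟩, ⟨⟨⟨x, hxV x⟩, hi⟩, rfl⟩⟩
  · obtain ⟨x, i⟩ := p
    have h1 : E (M.restrict ((W x i).ι ≫ (V x).ι)) :=
      hiso ((restrictFunctorComp (W x i).ι (V x).ι).app M).symm (hE x i)
    exact hiso (restrictOpensRangeIso ((W x i).ι ≫ (V x).ι) M).symm (hres _ _ h1)

theorem isFiniteType_of_locally (M : X.Modules)
    (h : ∀ x : X, ∃ V : X.Opens, x ∈ V ∧ (M.restrict V.ι).IsFiniteType) : M.IsFiniteType := by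
  rw [isFiniteType_iff_exists_isOpenCover]
  refine exists_cover_of_locally (fun (Y : Scheme.{u}) (N : Y.Modules) => ∃ G : N.GeneratingSections, G.IsFiniteType)
    (fun Y M N e h => exists_generatingSections_of_iso e h)
    (fun Y Z g _ M h => ?_) M (fun x => ?_)
  · obtain ⟨G, hG⟩ := h
    exact ⟨generatingSectionsRestrict g G, inferInstance⟩
  · obtain ⟨V, hxV, hV⟩ := h x
    exact ⟨V, hxV, (isFiniteType_iff_exists_isOpenCover _).1 hV⟩

theorem isFinitePresentation_of_locally (M : X.Modules)
    (h : ∀ x : X, ∃ V : X.Opens, x ∈ V ∧ (M.restrict V.ι).IsFinitePresentation) :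
    M.IsFinitePresentation := by
  rw [isFinitePresentation_iff_exists_isOpenCover]
  refine exists_cover_of_locally (fun (Y : Scheme.{u}) (N : Y.Modules) => ∃ P : N.Presentation, P.IsFinite)
    (fun Y M N e h => exists_presentation_of_iso e h)
    (fun Y Z g _ M h => exists_presentation_restrict g h) M (fun x => ?_)
  obtain ⟨V, hxV, hV⟩ := h x
  exact ⟨V, hxV, (isFinitePresentation_iff_exists_isOpenCover _).1 hV⟩



/-- cokernel of a morphism of finite locally free modules is of finite presentation -/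
theorem isFinitePresentation_of_isColimit_cokernelCofork {A B : X.Modules} (φ : A ⟶ B)
    (hA : FlatMod.IsFinLocFree A) (hB : FlatMod.IsFinLocFree B)
    (c : CokernelCofork φ) (hc : IsColimit c) : c.pt.IsFinitePresentation := by
  apply isFinitePresentation_of_locally
  intro x
  obtain ⟨U, a, hxU, ⟨eA⟩⟩ := hA x
  obtain ⟨U', b, hxU', ⟨eB⟩⟩ := hB x
  refine ⟨U ⊓ U', ⟨hxU, hxU'⟩, ?_⟩
  have h1 : Set.range (U ⊓ U').ι.base ⊆ U := by
    rintro _ ⟨y, rfl⟩
    exact y.2.1
  have h2 : Set.range (U ⊓ U').ι.base ⊆ U' := by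
    rintro _ ⟨y, rfl⟩
    exact y.2.2
  obtain ⟨P, hP⟩ := exists_presentation_of_isColimit_cokernelCofork_freeMod
    ((restrictFunctor (U ⊓ U').ι).map φ) (trivOfRangeSubset _ h1 eA) (trivOfRangeSubset _ h2 eB)
    (c.map (restrictFunctor (U ⊓ U').ι)) (c.mapIsColimit hc (restrictFunctor (U ⊓ U').ι))
  exact @isFinitePresentation_of_presentation _ _ P hP



/-- cycles of a strictly perfect complex above the top nonzero cohomology are finite locally free -/
theorem isFinLocFree_cycles {P : CochainComplex X.Modules ℤ} (hP : DCoh.IsStrictlyPerfect P)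
    (m : ℤ) (hH : ∀ i : ℤ, m < i → IsZero (P.homology i)) (n : ℤ) (hn : m ≤ n) :
    FlatMod.IsFinLocFree (P.cycles n) := by
  obtain ⟨⟨a, b, hab⟩, hfree⟩ := hP
  suffices h : ∀ (k : ℕ) (n : ℤ), m ≤ n → b < n + k → FlatMod.IsFinLocFree (P.cycles n) by
    exact h (b + 1 - n).toNat n hn (by omega)
  intro k
  induction k with
  | zero =>
    intro n _ hb
    have hz : IsZero (P.X n) := hab n (Or.inr (by simpa using hb))
    exact isFinLocFree_of_isZero (IsZero.of_mono (P.iCycles n) hz)
  | succ k ih =>
    intro n hn hb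
    have h1 : FlatMod.IsFinLocFree (P.cycles (n + 1)) := ih (n + 1) (by omega) (by push_cast at hb ⊢; omega)
    have hepi : Epi (P.toCycles n (n + 1)) :=
      Preadditive.epi_of_isZero_cokernel' _ (P.homologyIsCokernel n (n + 1) (by simp))
        (hH (n + 1) (by omega))
    have hz : P.iCycles n ≫ P.toCycles n (n + 1) = 0 := by
      rw [← cancel_mono (P.iCycles (n + 1)), Category.assoc, toCycles_i, iCycles_d, zero_comp]
    have hker : IsLimit (KernelFork.ofι (P.iCycles n) hz) :=
      isKernelOfComp (P.iCycles (n + 1)) (P.d n (n + 1)) (P.cyclesIsKernel n (n + 1) (by simp)) hz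
        (P.toCycles_i n (n + 1))
    exact isFinLocFree_of_isLimit_kernelFork (P.toCycles n (n + 1)) (hfree n) h1 _ hker

/-- the top cohomology of a strictly perfect complex is of finite presentation -/
theorem isFinitePresentation_homology {P : CochainComplex X.Modules ℤ}
    (hP : DCoh.IsStrictlyPerfect P)
    (m : ℤ) (hH : ∀ i : ℤ, m < i → IsZero (P.homology i)) :
    (P.homology m).IsFinitePresentation :=
  isFinitePresentation_of_isColimit_cokernelCofork (P.toCycles (m - 1) m) (hP.2 (m - 1))
    (isFinLocFree_cycles hP m hH m le_rfl) _ (P.homologyIsCokernel (m - 1) m (by simp))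



/-- the comparison `H^i(E) ≅ H^i(Q E)` -/
noncomputable def homologyQIso {Y : Scheme.{u}} (E : CochainComplex Y.Modules ℤ) (i : ℤ) :
    (DerivedCategory.homologyFunctor Y.Modules i).obj (DerivedCategory.Q.obj E) ≅ E.homology i :=
  (DerivedCategory.homologyFunctorFactors Y.Modules i).app E

/-- the comparison `H^i(K|_V) ≅ H^i(K)|_V` -/
noncomputable def homologyRestrictDIso {Y : Scheme.{u}} (j : Y ⟶ X) [IsOpenImmersion j]
    (K : DCoh.D X) (i : ℤ) :
    (DerivedCategory.homologyFunctor Y.Modules i).obj ((DCoh.restrictD j).obj K) ≅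
      (DCoh.HD K i).restrict j :=
  (homologyMapDCIso (restrictFunctor j) i).app K

/-- local structure of the cohomology of a pseudo-coherent object, vanishing part -/
theorem isZero_homology_of_cond {Y : Scheme.{u}} (j : Y ⟶ X) [IsOpenImmersion j]
    {m : ℤ} {K : DCoh.D X} {E : CochainComplex Y.Modules ℤ}
    {α : DerivedCategory.Q.obj E ⟶ (DCoh.restrictD j).obj K} (hα : Cond m α)
    (i : ℤ) (hi : m < i) (hz : IsZero (DCoh.HD K i)) : IsZero (E.homology i) := by
  have h1 : IsZero ((DerivedCategory.homologyFunctor Y.Modules i).obj ((DCoh.restrictD j).obj K)) :=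
    ((restrictFunctor j).map_isZero hz).of_iso (homologyRestrictDIso j K i)
  have := hα.1 i hi
  exact (h1.of_iso (asIso ((DerivedCategory.homologyFunctor _ i).map α))).of_iso
    (homologyQIso E i).symm

theorem isFiniteType_HD_of_isPseudoCoherentD (m : ℤ) (K : DCoh.D X)
    (hK : DCoh.IsPseudoCoherentD m K) (hz : ∀ i : ℤ, m < i → IsZero (DCoh.HD K i)) :
    (DCoh.HD K m).IsFiniteType := by
  rw [isPseudoCoherentD_iff] at hK
  apply isFiniteType_of_locally
  intro x
  obtain ⟨V, hxV, E, α, hE, hα⟩ := hK x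
  refine ⟨V, hxV, ?_⟩
  have hfp : (E.homology m).IsFinitePresentation :=
    isFinitePresentation_homology hE m (fun i hi => isZero_homology_of_cond V.ι hα i hi (hz i hi))
  have hft : (E.homology m).IsFiniteType := inferInstance
  have := hα.2
  exact isFiniteType_of_epi ((homologyQIso E m).inv ≫
    (DerivedCategory.homologyFunctor _ m).map α ≫ (homologyRestrictDIso V.ι K m).hom)

theorem isFinitePresentation_HD_of_isPseudoCoherentD (m : ℤ) (K : DCoh.D X)
    (hK : DCoh.IsPseudoCoherentD m K) (hz : ∀ i : ℤ, m + 1 < i → IsZero (DCoh.HD K i)) :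
    (DCoh.HD K (m + 1)).IsFinitePresentation := by
  rw [isPseudoCoherentD_iff] at hK
  apply isFinitePresentation_of_locally
  intro x
  obtain ⟨V, hxV, E, α, hE, hα⟩ := hK x
  refine ⟨V, hxV, ?_⟩
  have hfp : (E.homology (m + 1)).IsFinitePresentation :=
    isFinitePresentation_homology hE (m + 1) (fun i hi =>
      isZero_homology_of_cond V.ι hα i (by omega) (hz i hi))
  have := hα.1 (m + 1) (by omega)
  have e : E.homology (m + 1) ≅ (DCoh.HD K (m + 1)).restrict V.ι :=
    (homologyQIso E (m + 1)).symm ≪≫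
      asIso ((DerivedCategory.homologyFunctor _ (m + 1)).map α) ≪≫ homologyRestrictDIso V.ι K (m + 1)
  exact (SheafOfModules.isFinitePresentation (V : Scheme.{u}).ringCatSheaf).prop_of_iso e hfp


end Groth.Agent.Lib.Helper99.SPerf
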