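import Groth.Prelude.Def_KZero
import Mathlib.CategoryTheory.Abelian.Refinements
import Mathlib.Algebra.Homology.ShortComplex.HomologicalComplex
import Mathlib.Algebra.Homology.ShortComplex.ShortExact
import Mathlib.CategoryTheory.ObjectProperty.ClosedUnderIsomorphisms
import Mathlib.CategoryTheory.Limits.Shapes.Pullback.IsPullback.Basic
set_option autoImplicit false
universe v u
open CategoryTheory CategoryTheory.Limits
namespace Groth.Agent.Lib.Helper99.K0Res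
variable {C : Type u} [Category.{v} C] [Abelian C]

theorem exact_mk_of_refinements {X Y Z : C} (f : X ⟶ Y) (g : Y ⟶ Z) (w : f ≫ g = 0)
    (h : ∀ ⦃W : C⦄ (c : W ⟶ Y), c ≫ g = 0 →
      ∃ (W' : C) (π : W' ⟶ W) (_ : Epi π) (x : W' ⟶ X), π ≫ c = x ≫ f) :
    (ShortComplex.mk f g w).Exact := by
  rw [ShortComplex.exact_iff_exact_up_to_refinements]
  intro W c hc
  exact h c hc

theorem ses_kernel {X Y : C} (r : X ⟶ Y) [Epi r] :
    (ShortComplex.mk (kernel.ι r) r (kernel.condition r)).ShortExact :=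
  ShortComplex.ShortExact.mk' (ShortComplex.exact_of_f_is_kernel _ (kernelIsKernel r))
    (by dsimp; infer_instance) (by dsimp; infer_instance)

/-- lifting through the kernel term of a short exact sequence -/
theorem ses_lift {K L A : C} (i : K ⟶ L) (p : L ⟶ A) (w : i ≫ p = 0)
    (hS : (ShortComplex.mk i p w).ShortExact) {T : C} (x : T ⟶ L) (hx : x ≫ p = 0) :
    ∃ y : T ⟶ K, y ≫ i = x := by
  have := hS.mono_f
  exact ⟨hS.exact.lift x hx, hS.exact.lift_f x hx⟩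

theorem ses_of_isPullback {P X Y Z K : C} {fst : P ⟶ X} {snd : P ⟶ Y} {f : X ⟶ Z} {g : Y ⟶ Z}
    (h : IsPullback fst snd f g) (i : K ⟶ Y) (w : i ≫ g = 0)
    (hS : (ShortComplex.mk i g w).ShortExact) :
    ∃ (j : K ⟶ P) (wj : j ≫ fst = 0), j ≫ snd = i ∧ (ShortComplex.mk j fst wj).ShortExact := by
  have : Mono i := hS.mono_f
  have : Epi g := hS.epi_g
  have hj1 : h.lift 0 i (by simp [w]) ≫ fst = 0 := h.lift_fst _ _ _
  have hj2 : h.lift 0 i (by simp [w]) ≫ snd = i := h.lift_snd _ _ _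
  refine ⟨h.lift 0 i (by simp [w]), hj1, hj2, ?_⟩
  have hmono : Mono (h.lift 0 i (by simp [w])) := mono_of_mono_fac hj2
  have hepi : Epi fst := Abelian.epi_fst_of_isLimit f g h.isLimit
  refine ShortComplex.ShortExact.mk' ?_ hmono hepi
  apply exact_mk_of_refinements
  intro T x hx
  have h1 : (x ≫ snd) ≫ g = 0 := by
    rw [Category.assoc, ← h.w, ← Category.assoc, hx, zero_comp]
  obtain ⟨y, hy⟩ := ses_lift i g w hS (x ≫ snd) h1
  refine ⟨T, 𝟙 T, inferInstance, y, ?_⟩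
  apply h.hom_ext
  · rw [Category.id_comp, Category.assoc, hj1, comp_zero, hx]
  · rw [Category.id_comp, Category.assoc, hj2, hy]

/-- kernels of a composite of epimorphisms -/
theorem ses_comp_epi {K L A N : C} (i : K ⟶ L) (p : L ⟶ A) (w : i ≫ p = 0)
    (hS : (ShortComplex.mk i p w).ShortExact) (r : N ⟶ L) [Epi r] (q : N ⟶ A) (hq : r ≫ p = q) :
    ∃ (α : kernel r ⟶ kernel q) (β : kernel q ⟶ K) (wαβ : α ≫ β = 0),
      (ShortComplex.mk α β wαβ).ShortExact := by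
  have : Mono i := hS.mono_f
  have h0 : kernel.ι r ≫ q = 0 := by rw [← hq, ← Category.assoc, kernel.condition, zero_comp]
  have h1 : (kernel.ι q ≫ r) ≫ p = 0 := by rw [Category.assoc, hq, kernel.condition]
  obtain ⟨β, hβ⟩ := ses_lift i p w hS (kernel.ι q ≫ r) h1
  have hα : kernel.lift q (kernel.ι r) h0 ≫ kernel.ι q = kernel.ι r := kernel.lift_ι _ _ _
  have wαβ : kernel.lift q (kernel.ι r) h0 ≫ β = 0 := by
    rw [← cancel_mono i, Category.assoc, hβ, ← Category.assoc, hα, kernel.condition, zero_comp]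
  refine ⟨kernel.lift q (kernel.ι r) h0, β, wαβ, ?_⟩
  have hmono : Mono (kernel.lift q (kernel.ι r) h0) := mono_of_mono_fac hα
  have hepi : Epi β := by
    rw [epi_iff_surjective_up_to_refinements]
    intro T x
    obtain ⟨T', π, hπ, y, hy⟩ := surjective_up_to_refinements_of_epi r (x ≫ i)
    have hy0 : y ≫ q = 0 := by
      rw [← hq, ← Category.assoc, ← hy, Category.assoc, Category.assoc, w, comp_zero, comp_zero]
    refine ⟨T', π, hπ, kernel.lift q y hy0, ?_⟩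
    rw [← cancel_mono i, Category.assoc, Category.assoc, hβ, kernel.lift_ι_assoc, hy]
  refine ShortComplex.ShortExact.mk' ?_ hmono hepi
  apply exact_mk_of_refinements
  intro T x hx
  have h2 : (x ≫ kernel.ι q) ≫ r = 0 := by
    rw [Category.assoc, ← hβ, ← Category.assoc, hx, zero_comp]
  refine ⟨T, 𝟙 T, inferInstance, kernel.lift r (x ≫ kernel.ι q) h2, ?_⟩
  rw [Category.id_comp, ← cancel_mono (kernel.ι q), Category.assoc, hα, kernel.lift_ι]


theorem ses_biprod (X Y : C) :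
    (ShortComplex.mk (biprod.inl : X ⟶ X ⊞ Y) biprod.snd biprod.inl_snd).ShortExact := by
  refine ShortComplex.ShortExact.mk' ?_ (by dsimp; infer_instance) (by dsimp; infer_instance)
  apply exact_mk_of_refinements
  intro T x hx
  refine ⟨T, 𝟙 T, inferInstance, x ≫ biprod.fst, ?_⟩
  apply biprod.hom_ext
  · simp
  · simp [hx]

/-- horseshoe lemma: the kernels -/
theorem horseshoe {X₁ X₂ X₃ K₁ L₁ L₃ : C} (i : X₁ ⟶ X₂) (q : X₂ ⟶ X₃) (w : i ≫ q = 0)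
    (hS : (ShortComplex.mk i q w).ShortExact)
    (i₁ : K₁ ⟶ L₁) (p₁ : L₁ ⟶ X₁) (w₁ : i₁ ≫ p₁ = 0)
    (hS₁ : (ShortComplex.mk i₁ p₁ w₁).ShortExact)
    (p₃ : L₃ ⟶ X₃) [Epi p₃] (l : L₃ ⟶ X₂) (hl : l ≫ q = p₃) :
    Epi (biprod.desc (p₁ ≫ i) l) ∧
    ∃ (α : K₁ ⟶ kernel (biprod.desc (p₁ ≫ i) l)) (β : kernel (biprod.desc (p₁ ≫ i) l) ⟶ kernel p₃)
      (wαβ : α ≫ β = 0), (ShortComplex.mk α β wαβ).ShortExact := by
  have : Mono i := hS.mono_f
  have : Mono i₁ := hS₁.mono_f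
  have : Epi p₁ := hS₁.epi_g
  set s := biprod.desc (p₁ ≫ i) l with hs
  have hsq : s ≫ q = biprod.snd ≫ p₃ := by
    apply biprod.hom_ext'
    · simp [hs, w]
    · simp [hs, hl]
  have hepi : Epi s := by
    rw [epi_iff_surjective_up_to_refinements]
    intro T x
    obtain ⟨T₁, π₁, hπ₁, y₃, hy₃⟩ := surjective_up_to_refinements_of_epi p₃ (x ≫ q)
    have h1 : (π₁ ≫ x - y₃ ≫ l) ≫ q = 0 := by
      rw [Preadditive.sub_comp, Category.assoc, Category.assoc, hl, hy₃, sub_self]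
    obtain ⟨z, hz⟩ := ses_lift i q w hS _ h1
    obtain ⟨T₂, π₂, hπ₂, y₁, hy₁⟩ := surjective_up_to_refinements_of_epi p₁ z
    refine ⟨T₂, π₂ ≫ π₁, epi_comp _ _, biprod.lift y₁ (π₂ ≫ y₃), ?_⟩
    rw [hs, biprod.lift_desc, ← Category.assoc, ← hy₁, Category.assoc, Category.assoc, hz,
      Category.assoc]
    simp [Preadditive.comp_sub]
  refine ⟨hepi, ?_⟩
  have hα0 : (i₁ ≫ biprod.inl) ≫ s = 0 := by
    rw [hs, Category.assoc, biprod.inl_desc, ← Category.assoc, w₁, zero_comp]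
  have hβ0 : (kernel.ι s ≫ biprod.snd) ≫ p₃ = 0 := by
    rw [Category.assoc, ← hsq, ← Category.assoc, kernel.condition, zero_comp]
  have hα : kernel.lift s (i₁ ≫ biprod.inl) hα0 ≫ kernel.ι s = i₁ ≫ biprod.inl := kernel.lift_ι _ _ _
  have hβ : kernel.lift p₃ (kernel.ι s ≫ biprod.snd) hβ0 ≫ kernel.ι p₃ = kernel.ι s ≫ biprod.snd :=
    kernel.lift_ι _ _ _
  have wαβ : kernel.lift s (i₁ ≫ biprod.inl) hα0 ≫ kernel.lift p₃ (kernel.ι s ≫ biprod.snd) hβ0 = 0 := by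
    rw [← cancel_mono (kernel.ι p₃), Category.assoc, hβ, ← Category.assoc, hα]
    simp
  refine ⟨_, _, wαβ, ?_⟩
  have hmono : Mono (kernel.lift s (i₁ ≫ biprod.inl) hα0) := by
    have : Mono (i₁ ≫ (biprod.inl : L₁ ⟶ L₁ ⊞ L₃)) := mono_comp _ _
    exact mono_of_mono_fac hα
  have hepiβ : Epi (kernel.lift p₃ (kernel.ι s ≫ biprod.snd) hβ0) := by
    rw [epi_iff_surjective_up_to_refinements]
    intro T x
    have h1 : ((x ≫ kernel.ι p₃) ≫ l) ≫ q = 0 := by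
      rw [Category.assoc, hl, Category.assoc, kernel.condition, comp_zero]
    obtain ⟨z, hz⟩ := ses_lift i q w hS _ h1
    obtain ⟨T', π, hπ, y₁, hy₁⟩ := surjective_up_to_refinements_of_epi p₁ z
    have h2 : biprod.lift (-y₁) (π ≫ x ≫ kernel.ι p₃) ≫ s = 0 := by
      rw [hs, biprod.lift_desc, Preadditive.neg_comp, ← Category.assoc, ← hy₁, Category.assoc, hz]
      simp
    refine ⟨T', π, hπ, kernel.lift s _ h2, ?_⟩
    rw [← cancel_mono (kernel.ι p₃), Category.assoc, Category.assoc, hβ, kernel.lift_ι_assoc,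
      biprod.lift_snd]
  refine ShortComplex.ShortExact.mk' ?_ hmono hepiβ
  apply exact_mk_of_refinements
  intro T x hx
  have h1 : (x ≫ kernel.ι s) ≫ biprod.snd = 0 := by
    rw [Category.assoc, ← hβ, ← Category.assoc, hx, zero_comp]
  have h2 : x ≫ kernel.ι s = (x ≫ kernel.ι s ≫ biprod.fst) ≫ biprod.inl := by
    apply biprod.hom_ext
    · simp
    · simp only [Category.assoc, biprod.inl_snd, comp_zero]
      simpa using h1
  have h3 : (x ≫ kernel.ι s ≫ biprod.fst) ≫ p₁ = 0 := by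
    rw [← cancel_mono i, zero_comp, Category.assoc]
    have h4 : (x ≫ kernel.ι s) ≫ s = 0 := by rw [Category.assoc, kernel.condition, comp_zero]
    have hinl : biprod.inl ≫ s = p₁ ≫ i := by rw [hs, biprod.inl_desc]
    rw [h2, Category.assoc, hinl] at h4
    exact h4
  obtain ⟨z, hz⟩ := ses_lift i₁ p₁ w₁ hS₁ _ h3
  refine ⟨T, 𝟙 T, inferInstance, z, ?_⟩
  rw [Category.id_comp, ← cancel_mono (kernel.ι s), Category.assoc, hα, ← Category.assoc, hz, ← h2]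


/-! ### K₀ part -/

theorem clSub_ses (P : ObjectProperty C) (S : ShortComplex C) (hS : S.ShortExact)
    (h₁ : P S.X₁) (h₂ : P S.X₂) (h₃ : P S.X₃) :
    KZero.clSub P S.X₂ = KZero.clSub P S.X₁ + KZero.clSub P S.X₃ := by
  unfold KZero.clSub
  rw [dif_pos h₁, dif_pos h₂, dif_pos h₃]
  rw [← sub_eq_zero, ← sub_sub, ← QuotientAddGroup.mk_sub, ← QuotientAddGroup.mk_sub,
    QuotientAddGroup.eq_zero_iff]
  exact AddSubgroup.subset_closure ⟨S, h₁, h₂, h₃, hS, rfl⟩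

/-- the hypotheses of the resolution theorem (except the finiteness hypothesis (iii)) -/
structure Hyp (P₀ P₁ : ObjectProperty C) : Prop where
  hle : ∀ X, P₀ X → P₁ X
  hext₀ : ∀ S : ShortComplex C, S.ShortExact → P₀ S.X₁ → P₀ S.X₃ → P₀ S.X₂
  hext₁ : ∀ S : ShortComplex C, S.ShortExact → P₁ S.X₁ → P₁ S.X₃ → P₁ S.X₂
  h1₀ : ∀ S : ShortComplex C, S.ShortExact → P₀ S.X₂ → P₀ S.X₃ → P₀ S.X₁
  h1₁ : ∀ S : ShortComplex C, S.ShortExact → P₁ S.X₂ → P₁ S.X₃ → P₁ S.X₁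
  h2 : ∀ (A B D : C) (u : A ⟶ B) (v : D ⟶ B), Epi u → P₁ A → P₁ B → P₁ D →
      ∃ (L : C) (u' : L ⟶ D) (v' : L ⟶ A), P₀ L ∧ Epi u' ∧ u' ≫ v = v' ≫ u

variable {P₀ P₁ : ObjectProperty C}

/-- `R n A g`: `g` is the Euler characteristic of a `P₀`-resolution of `A` of length `n`. -/
def R (P₀ P₁ : ObjectProperty C) : ℕ → C → KZero.K0sub P₀ → Prop
  | 0, A, g => P₀ A ∧ g = KZero.clSub P₀ A
  | n + 1, A, g => P₁ A ∧ ∃ (K L : C) (i : K ⟶ L) (p : L ⟶ A) (w : i ≫ p = 0),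
      (ShortComplex.mk i p w).ShortExact ∧ P₀ L ∧ ∃ h, R P₀ P₁ n K h ∧ g = KZero.clSub P₀ L - h

theorem R_P₁ (H : Hyp P₀ P₁) : ∀ (n : ℕ) (A : C) (g : KZero.K0sub P₀), R P₀ P₁ n A g → P₁ A
  | 0, A, g, h => H.hle _ h.1
  | n + 1, A, g, h => h.1

theorem cover (H : Hyp P₀ P₁) {A : C} (hA : P₁ A) : ∃ (N : C) (π : N ⟶ A), P₀ N ∧ Epi π := by
  obtain ⟨N, u', v', hN, hu', -⟩ := H.h2 A A A (𝟙 A) (𝟙 A) inferInstance hA hA hA
  exact ⟨N, u', hN, hu'⟩

theorem lemE (H : Hyp P₀ P₁) : ∀ (n : ℕ) {W X K : C} (a : W ⟶ X) (b : X ⟶ K) (w : a ≫ b = 0),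
    (ShortComplex.mk a b w).ShortExact → P₀ W → ∀ h, R P₀ P₁ n K h →
      R P₀ P₁ n X (KZero.clSub P₀ W + h)
  | 0, W, X, K, a, b, w, hS, hW, h, hR => by
    obtain ⟨hK, rfl⟩ := hR
    have hX : P₀ X := H.hext₀ _ hS hW hK
    exact ⟨hX, (clSub_ses P₀ _ hS hW hX hK).symm⟩
  | n + 1, W, X, K, a, b, w, hS, hW, h, hR => by
    obtain ⟨hK1, K₁, L₁, i₁, p₁, w₁, hS₁, hL₁, h₁, hR₁, rfl⟩ := hR
    have hpb := IsPullback.of_hasPullback b p₁
    obtain ⟨j, wj, hj, hSj⟩ := ses_of_isPullback hpb i₁ w₁ hS₁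
    obtain ⟨j', wj', hj', hSj'⟩ := ses_of_isPullback hpb.flip a w hS
    have hX' : P₀ (pullback b p₁) := H.hext₀ _ hSj' hW hL₁
    have hclX' := clSub_ses P₀ _ hSj' hW hX' hL₁
    have hX1 : P₁ X := H.hext₁ _ hS (H.hle _ hW) hK1
    refine ⟨hX1, K₁, pullback b p₁, j, pullback.fst b p₁, wj, hSj, hX', h₁, hR₁, ?_⟩
    dsimp only at hclX'
    rw [hclX']; abel

theorem ref (H : Hyp P₀ P₁) {K L A N : C} (i : K ⟶ L) (p : L ⟶ A) (w : i ≫ p = 0)
    (hS : (ShortComplex.mk i p w).ShortExact) (hL : P₀ L) (r : N ⟶ L) [Epi r] (hN : P₀ N)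
    (q : N ⟶ A) (hq : r ≫ p = q) (n : ℕ) (h : KZero.K0sub P₀) (hR : R P₀ P₁ n K h) :
    ∃ h', R P₀ P₁ n (kernel q) h' ∧ KZero.clSub P₀ N - h' = KZero.clSub P₀ L - h := by
  have hSr := ses_kernel r
  have hW : P₀ (kernel r) := H.h1₀ _ hSr hN hL
  have hcl := clSub_ses P₀ _ hSr hW hN hL
  obtain ⟨α, β, wαβ, hSαβ⟩ := ses_comp_epi i p w hS r q hq
  refine ⟨_, lemE H n α β wαβ hSαβ hW h hR, ?_⟩
  dsimp only at hcl
  rw [hcl]; abel

theorem uniq (H : Hyp P₀ P₁) : ∀ (N n n' : ℕ), n + n' ≤ N → ∀ (A : C) (g g' : KZero.K0sub P₀),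
    R P₀ P₁ n A g → R P₀ P₁ n' A g' → g = g' := by
  intro N
  induction N with
  | zero =>
    intro n n' hnn A g g' hR hR'
    obtain rfl : n = 0 := by omega
    obtain rfl : n' = 0 := by omega
    rw [hR.2, hR'.2]
  | succ N IH =>
    intro n n' hnn A g g' hR hR'
    cases n with
    | zero =>
      cases n' with
      | zero => rw [hR.2, hR'.2]
      | succ m =>
        obtain ⟨hA, rfl⟩ := hR
        obtain ⟨-, K, L, i, p, w, hS, hL, h, hRK, rfl⟩ := hR'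
        have hK : P₀ K := H.h1₀ _ hS hL hA
        have e1 : KZero.clSub P₀ K = h := IH 0 m (by omega) K _ _ ⟨hK, rfl⟩ hRK
        have hcl := clSub_ses P₀ _ hS hK hL hA
        dsimp only at hcl
        rw [hcl, ← e1]; abel
    | succ m =>
      cases n' with
      | zero =>
        obtain ⟨hA, rfl⟩ := hR'
        obtain ⟨-, K, L, i, p, w, hS, hL, h, hRK, rfl⟩ := hR
        have hK : P₀ K := H.h1₀ _ hS hL hA
        have e1 : KZero.clSub P₀ K = h := IH 0 m (by omega) K _ _ ⟨hK, rfl⟩ hRK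
        have hcl := clSub_ses P₀ _ hS hK hL hA
        dsimp only at hcl
        rw [hcl, ← e1]; abel
      | succ m' =>
        obtain ⟨hA, K, L, i, p, w, hS, hL, h, hRK, rfl⟩ := hR
        obtain ⟨-, K', L', i', p', w', hS', hL', h', hRK', rfl⟩ := hR'
        have : Epi p := hS.epi_g
        have : Epi p' := hS'.epi_g
        have hpb := IsPullback.of_hasPullback p p'
        obtain ⟨j, wj, hj, hSj⟩ := ses_of_isPullback hpb i' w' hS'
        have hM : P₁ (pullback p p') := H.hext₁ _ hSj (R_P₁ H _ _ _ hRK') (H.hle _ hL)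
        obtain ⟨N', u, hN', hu⟩ := cover H hM
        have hq : (u ≫ pullback.snd p p') ≫ p' = (u ≫ pullback.fst p p') ≫ p := by
          rw [Category.assoc, Category.assoc, pullback.condition]
        obtain ⟨h₁, hR₁, e₁⟩ := ref H i p w hS hL (u ≫ pullback.fst p p') hN' _ rfl m h hRK
        obtain ⟨h₂, hR₂, e₂⟩ := ref H i' p' w' hS' hL' (u ≫ pullback.snd p p') hN' _ hq m' h' hRK'
        have e3 : h₁ = h₂ := IH m m' (by omega) _ _ _ hR₁ hR₂
        rw [← e₁, ← e₂, e3]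


theorem isColimit_of_epi_comp_kernel {X Y Z : C} (p : Y ⟶ Z) [Epi p] (e : X ⟶ kernel p) [Epi e] :
    Nonempty (IsColimit (CokernelCofork.ofπ p
      (show (e ≫ kernel.ι p) ≫ p = 0 by rw [Category.assoc, kernel.condition, comp_zero]))) := by
  have hc := Abelian.epiIsCokernelOfKernel (KernelFork.ofι (kernel.ι p) (kernel.condition p))
    (kernelIsKernel p)
  refine ⟨CokernelCofork.IsColimit.ofπ' p _ (fun {A} k hk => ?_)⟩
  have hk' : kernel.ι p ≫ k = 0 := by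
    rw [← cancel_epi e, comp_zero, ← Category.assoc, hk]
  exact ⟨hc.desc (CokernelCofork.ofπ k hk'), hc.fac (CokernelCofork.ofπ k hk') WalkingParallelPair.one⟩

theorem cokernel_pt_iso_of_eq {X Y : C} {f f' : X ⟶ Y} (h : f = f') (c : CokernelCofork f)
    (hc : IsColimit c) (c' : CokernelCofork f') (hc' : IsColimit c') : Nonempty (c.pt ≅ c'.pt) := by
  subst h
  exact ⟨hc.coconePointUniqueUpToIso hc'⟩

theorem isLimit_kernel_comp_mono {X Y Z : C} (π : X ⟶ Y) (ι : Y ⟶ Z) [Mono ι] (f : X ⟶ Z)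
    (hf : f = π ≫ ι) :
    ∃ (w : kernel.ι π ≫ f = 0), Nonempty (IsLimit (KernelFork.ofι (kernel.ι π) w)) := by
  subst hf
  have w : kernel.ι π ≫ π ≫ ι = 0 := by rw [← Category.assoc, kernel.condition, zero_comp]
  refine ⟨w, ⟨KernelFork.IsLimit.ofι' _ _ (fun {T} k hk => ?_)⟩⟩
  have h1 : k ≫ π = 0 := by
    rw [← cancel_mono ι, zero_comp, Category.assoc]
    exact hk
  exact ⟨kernel.lift _ k h1, kernel.lift_ι _ _ _⟩

section Existence
variable (H : Hyp P₀ P₁)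

noncomputable def covObj (A : {A : C // P₁ A}) : C := (cover H A.2).choose
noncomputable def covπ (A : {A : C // P₁ A}) : covObj H A ⟶ A.1 :=
  (cover H A.2).choose_spec.choose
theorem covObj_mem (A : {A : C // P₁ A}) : P₀ (covObj H A) :=
  (cover H A.2).choose_spec.choose_spec.1
instance covπ_epi (A : {A : C // P₁ A}) : Epi (covπ H A) :=
  (cover H A.2).choose_spec.choose_spec.2

noncomputable def syz (A : {A : C // P₁ A}) : {A : C // P₁ A} :=
  ⟨kernel (covπ H A), H.h1₁ _ (ses_kernel (covπ H A)) (H.hle _ (covObj_mem H A)) A.2⟩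

noncomputable def seqA (A : {A : C // P₁ A}) : ℕ → {A : C // P₁ A}
  | 0 => A
  | k + 1 => syz H (seqA A k)

noncomputable def resX (A : {A : C // P₁ A}) (k : ℕ) : C := covObj H (seqA H A k)

noncomputable def resι (A : {A : C // P₁ A}) (k : ℕ) : (seqA H A (k + 1)).1 ⟶ resX H A k :=
  kernel.ι (covπ H (seqA H A k))

noncomputable def resπ (A : {A : C // P₁ A}) (k : ℕ) : resX H A k ⟶ (seqA H A k).1 :=
  covπ H (seqA H A k)

instance (A : {A : C // P₁ A}) (k : ℕ) : Epi (resπ H A k) := covπ_epi H _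
instance (A : {A : C // P₁ A}) (k : ℕ) : Mono (resι H A k) :=
  inferInstanceAs (Mono (kernel.ι (covπ H (seqA H A k))))

theorem resι_π (A : {A : C // P₁ A}) (k : ℕ) : resι H A k ≫ resπ H A k = 0 :=
  kernel.condition _

theorem res_ses (A : {A : C // P₁ A}) (k : ℕ) :
    (ShortComplex.mk (resι H A k) (resπ H A k) (resι_π H A k)).ShortExact :=
  ses_kernel (covπ H (seqA H A k))

noncomputable def resD (A : {A : C // P₁ A}) (k : ℕ) : resX H A (k + 1) ⟶ resX H A k :=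
  resπ H A (k + 1) ≫ resι H A k

theorem resD_sq (A : {A : C // P₁ A}) (k : ℕ) : resD H A (k + 1) ≫ resD H A k = 0 := by
  unfold resD
  rw [Category.assoc, ← Category.assoc (resι H A (k + 1)), resι_π, zero_comp, comp_zero]

noncomputable def resCx (A : {A : C // P₁ A}) : ChainComplex C ℕ :=
  ChainComplex.of (resX H A) (resD H A) (resD_sq H A)

theorem resCx_d (A : {A : C // P₁ A}) (k : ℕ) : (resCx H A).d (k + 1) k = resD H A k :=
  ChainComplex.of_d _ _ k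

theorem res_exact_elem (A : {A : C // P₁ A}) (m : ℕ) {T : C} (x : T ⟶ resX H A (m + 1))
    (hx : x ≫ resD H A m = 0) :
    ∃ (T' : C) (π : T' ⟶ T) (_ : Epi π) (z : T' ⟶ resX H A (m + 2)),
      π ≫ x = z ≫ resD H A (m + 1) := by
  have h1 : x ≫ resπ H A (m + 1) = 0 := by
    rw [← cancel_mono (resι H A m), zero_comp, Category.assoc]
    exact hx
  obtain ⟨y, hy⟩ := ses_lift _ _ _ (res_ses H A (m + 1)) x h1
  obtain ⟨T', π, hπ, z, hz⟩ := surjective_up_to_refinements_of_epi (resπ H A (m + 2)) y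
  refine ⟨T', π, hπ, z, ?_⟩
  unfold resD
  rw [← Category.assoc, ← hz, Category.assoc, hy]

theorem resCx_exactAt (A : {A : C // P₁ A}) (i : ℕ) (hi : 1 ≤ i) : (resCx H A).ExactAt i := by
  obtain ⟨m, rfl⟩ : ∃ m, i = m + 1 := ⟨i - 1, by omega⟩
  rw [HomologicalComplex.exactAt_iff' _ (m + 2) (m + 1) m (by simp) (by simp)]
  rw [ShortComplex.exact_iff_exact_up_to_refinements]
  intro T x hx
  have hx' : x ≫ (resCx H A).d (m + 1) m = 0 := hx
  rw [resCx_d] at hx'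
  obtain ⟨T', π, hπ, z, hz⟩ := res_exact_elem H A m x hx'
  rw [← resCx_d] at hz
  exact ⟨T', π, hπ, z, hz⟩

theorem resCx_homology_zero (A : {A : C // P₁ A}) : Nonempty ((resCx H A).homology 0 ≅ A.1) := by
  have e1 := (resCx H A).isoHomologyι 0 0 (by simp) (by simp)
  have hc1 := (resCx H A).opcyclesIsCokernel 1 0 (by simp)
  let e : resX H A 1 ⟶ kernel (covπ H A) := resπ H A 1
  have : Epi e := covπ_epi H (seqA H A 1)
  obtain ⟨hc2⟩ := isColimit_of_epi_comp_kernel (covπ H A) e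
  have hd : (resCx H A).d 1 0 = e ≫ kernel.ι (covπ H A) := resCx_d H A 0
  obtain ⟨e2⟩ := cokernel_pt_iso_of_eq hd _ hc1 _ hc2
  exact ⟨e1 ≪≫ e2⟩

theorem resCx_cycles (A : {A : C // P₁ A}) (d : ℕ) :
    Nonempty ((resCx H A).cycles (d + 1) ≅ (seqA H A (d + 2)).1) := by
  have hk := (resCx H A).cyclesIsKernel (d + 1) d (by simp)
  have hd : (resCx H A).d (d + 1) d = resπ H A (d + 1) ≫ resι H A d := resCx_d H A d
  obtain ⟨w, ⟨hk'⟩⟩ := isLimit_kernel_comp_mono (resπ H A (d + 1)) (resι H A d) _ hd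
  exact ⟨hk.conePointUniqueUpToIso hk'⟩

theorem exists_R_aux (A : {A : C // P₁ A}) (D : ℕ) (hD : P₀ (seqA H A D).1) :
    ∀ (j k : ℕ), k + j = D → ∃ g, R P₀ P₁ j (seqA H A k).1 g := by
  intro j
  induction j with
  | zero =>
    intro k hk
    obtain rfl : k = D := by omega
    exact ⟨_, hD, rfl⟩
  | succ j IH =>
    intro k hk
    obtain ⟨g, hg⟩ := IH (k + 1) (by omega)
    exact ⟨_, (seqA H A k).2, _, _, resι H A k, resπ H A k, resι_π H A k, res_ses H A k,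
      covObj_mem H _, g, hg, rfl⟩

include H in
theorem exists_R [P₀.IsClosedUnderIsomorphisms]
    (h3 : ∀ A : C, P₁ A → ∃ d : ℕ, ∀ L : ChainComplex C ℕ, (∀ i, P₀ (L.X i)) →
      (∀ i, 1 ≤ i → L.ExactAt i) → Nonempty (L.homology 0 ≅ A) → P₀ (L.cycles (d + 1)))
    {A : C} (hA : P₁ A) : ∃ n g, R P₀ P₁ n A g := by
  obtain ⟨d, hd⟩ := h3 A hA
  have h1 := hd (resCx H ⟨A, hA⟩) (fun i => covObj_mem H _) (resCx_exactAt H ⟨A, hA⟩)
    (resCx_homology_zero H ⟨A, hA⟩)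
  obtain ⟨e⟩ := resCx_cycles H ⟨A, hA⟩ d
  have h2 : P₀ (seqA H ⟨A, hA⟩ (d + 2)).1 := P₀.prop_of_iso e h1
  obtain ⟨g, hg⟩ := exists_R_aux H ⟨A, hA⟩ (d + 2) h2 (d + 2) 0 (by omega)
  exact ⟨d + 2, g, hg⟩

end Existence

section Additivity
variable [P₀.IsClosedUnderIsomorphisms] (H : Hyp P₀ P₁)
  (h3 : ∀ A : C, P₁ A → ∃ d : ℕ, ∀ L : ChainComplex C ℕ, (∀ i, P₀ (L.X i)) →
      (∀ i, 1 ≤ i → L.ExactAt i) → Nonempty (L.homology 0 ≅ A) → P₀ (L.cycles (d + 1)))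
include H h3

theorem add_aux : ∀ (n₁ : ℕ) {X₁ X₂ X₃ : C} (i : X₁ ⟶ X₂) (q : X₂ ⟶ X₃) (w : i ≫ q = 0),
    (ShortComplex.mk i q w).ShortExact → P₁ X₂ → P₁ X₃ →
    ∀ (g₁ g₂ g₃ : KZero.K0sub P₀) (n₂ n₃ : ℕ),
    R P₀ P₁ n₁ X₁ g₁ → R P₀ P₁ n₂ X₂ g₂ → R P₀ P₁ n₃ X₃ g₃ → g₂ = g₁ + g₃ := by
  intro n₁
  induction n₁ with
  | zero =>
    intro X₁ X₂ X₃ i q w hS hX₂ hX₃ g₁ g₂ g₃ n₂ n₃ hR₁ hR₂ hR₃
    obtain ⟨hX₁, rfl⟩ := hR₁
    exact uniq H _ n₂ n₃ le_rfl X₂ g₂ _ hR₂ (lemE H n₃ i q w hS hX₁ g₃ hR₃)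
  | succ n₁ IH =>
    intro X₁ X₂ X₃ i q w hS hX₂ hX₃ g₁ g₂ g₃ n₂ n₃ hR₁ hR₂ hR₃
    obtain ⟨hX₁P, K₁, L₁, i₁, p₁, w₁, hS₁, hL₁, h₁, hRK₁, rfl⟩ := hR₁
    have : Epi q := hS.epi_g
    obtain ⟨L₃, p₃, l, hL₃, hp₃, e⟩ := H.h2 X₂ X₃ X₃ q (𝟙 X₃) inferInstance hX₂ hX₃ hX₃
    have hl : l ≫ q = p₃ := by rw [← e, Category.comp_id]
    obtain ⟨hepi, α, β, wαβ, hSαβ⟩ := horseshoe i q w hS i₁ p₁ w₁ hS₁ p₃ l hl
    have hLL : P₀ (L₁ ⊞ L₃) := H.hext₀ _ (ses_biprod L₁ L₃) hL₁ hL₃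
    have hclLL := clSub_ses P₀ _ (ses_biprod L₁ L₃) hL₁ hLL hL₃
    dsimp only at hclLL
    have hK₃ : P₁ (kernel p₃) := H.h1₁ _ (ses_kernel p₃) (H.hle _ hL₃) hX₃
    have hK₂ : P₁ (kernel (biprod.desc (p₁ ≫ i) l)) :=
      H.h1₁ _ (ses_kernel (biprod.desc (p₁ ≫ i) l)) (H.hle _ hLL) hX₂
    obtain ⟨m₂, h₂, hR₂'⟩ := exists_R H h3 hK₂
    obtain ⟨m₃, h₃, hR₃'⟩ := exists_R H h3 hK₃
    have e1 : h₂ = h₁ + h₃ := IH α β wαβ hSαβ hK₂ hK₃ h₁ h₂ h₃ m₂ m₃ hRK₁ hR₂' hR₃'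
    have hR₂'' : R P₀ P₁ (m₂ + 1) X₂ (KZero.clSub P₀ (L₁ ⊞ L₃) - h₂) :=
      ⟨hX₂, _, _, kernel.ι (biprod.desc (p₁ ≫ i) l), biprod.desc (p₁ ≫ i) l, kernel.condition _,
        ses_kernel _, hLL, h₂, hR₂', rfl⟩
    have hR₃'' : R P₀ P₁ (m₃ + 1) X₃ (KZero.clSub P₀ L₃ - h₃) :=
      ⟨hX₃, _, _, kernel.ι p₃, p₃, kernel.condition _, ses_kernel _, hL₃, h₃, hR₃', rfl⟩
    have e2 := uniq H _ _ _ le_rfl X₂ _ _ hR₂ hR₂''
    have e3 := uniq H _ _ _ le_rfl X₃ _ _ hR₃ hR₃''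
    rw [e2, e3, hclLL, e1]
    abel

/-- the Euler characteristic of an object of `P₁` -/
noncomputable def chi0 (A : Subtype P₁) : KZero.K0sub P₀ := (exists_R H h3 A.2).choose_spec.choose

theorem chi0_spec (A : Subtype P₁) : ∃ n, R P₀ P₁ n A.1 (chi0 H h3 A) :=
  ⟨_, (exists_R H h3 A.2).choose_spec.choose_spec⟩

theorem chi0_eq {A : C} (hA : P₁ A) (n : ℕ) (g : KZero.K0sub P₀) (hR : R P₀ P₁ n A g) :
    chi0 H h3 ⟨A, hA⟩ = g := by
  obtain ⟨m, hm⟩ := chi0_spec H h3 ⟨A, hA⟩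
  exact uniq H _ _ _ le_rfl A _ _ hm hR

noncomputable def chiFree : FreeAbelianGroup (Subtype P₁) →+ KZero.K0sub P₀ :=
  FreeAbelianGroup.lift (chi0 H h3)

theorem chi_rel : KZero.relSub P₁ ≤ (chiFree H h3).ker := by
  unfold KZero.relSub
  rw [AddSubgroup.closure_le]
  rintro x ⟨S, h₁, h₂, h₃, hS, rfl⟩
  change chiFree H h3 _ = 0
  rw [map_sub, map_sub]
  unfold chiFree
  rw [FreeAbelianGroup.lift_apply_of, FreeAbelianGroup.lift_apply_of, FreeAbelianGroup.lift_apply_of]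
  obtain ⟨n₁, hR₁⟩ := chi0_spec H h3 ⟨S.X₁, h₁⟩
  obtain ⟨n₂, hR₂⟩ := chi0_spec H h3 ⟨S.X₂, h₂⟩
  obtain ⟨n₃, hR₃⟩ := chi0_spec H h3 ⟨S.X₃, h₃⟩
  have := add_aux H h3 n₁ S.f S.g S.zero hS h₂ h₃ _ _ _ n₂ n₃ hR₁ hR₂ hR₃
  rw [this]; abel

noncomputable def chi : KZero.K0sub P₁ →+ KZero.K0sub P₀ :=
  QuotientAddGroup.lift _ (chiFree H h3) (chi_rel H h3)

theorem chi_mk_of (A : Subtype P₁) :
    chi H h3 (QuotientAddGroup.mk (FreeAbelianGroup.of A)) = chi0 H h3 A := by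
  change FreeAbelianGroup.lift (chi0 H h3) (FreeAbelianGroup.of A) = _
  rw [FreeAbelianGroup.lift_apply_of]

theorem R_map (F : KZero.K0sub P₀ →+ KZero.K0sub P₁)
    (hF : ∀ (X : C) (h : P₀ X), F (QuotientAddGroup.mk (FreeAbelianGroup.of ⟨X, h⟩)) =
      QuotientAddGroup.mk (FreeAbelianGroup.of ⟨X, H.hle X h⟩)) :
    ∀ (n : ℕ) (A : C) (g : KZero.K0sub P₀), R P₀ P₁ n A g → F g = KZero.clSub P₁ A := by
  have hF' : ∀ (X : C) (h : P₀ X), F (KZero.clSub P₀ X) = KZero.clSub P₁ X := by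
    intro X h
    unfold KZero.clSub
    rw [dif_pos h, dif_pos (H.hle X h), hF]
  intro n
  induction n with
  | zero =>
    intro A g hR
    obtain ⟨hA, rfl⟩ := hR
    exact hF' A hA
  | succ n IH =>
    intro A g hR
    obtain ⟨hA, K, L, i, p, w, hS, hL, h, hRK, rfl⟩ := hR
    have hcl := clSub_ses P₁ _ hS (R_P₁ H _ _ _ hRK) (H.hle _ hL) hA
    dsimp only at hcl
    rw [map_sub, hF' L hL, IH K h hRK, hcl]
    abel

theorem bijective_of (F : KZero.K0sub P₀ →+ KZero.K0sub P₁)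
    (hF : ∀ (X : C) (h : P₀ X), F (QuotientAddGroup.mk (FreeAbelianGroup.of ⟨X, h⟩)) =
      QuotientAddGroup.mk (FreeAbelianGroup.of ⟨X, H.hle X h⟩)) :
    Function.Bijective F := by
  have hleft : ∀ x, chi H h3 (F x) = x := by
    intro x
    induction x using QuotientAddGroup.induction_on with
    | H z =>
      induction z using FreeAbelianGroup.induction_on with
      | zero => simp
      | of a =>
        obtain ⟨X, hX⟩ := a
        rw [hF, chi_mk_of]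
        rw [chi0_eq H h3 (H.hle X hX) 0 (KZero.clSub P₀ X) ⟨hX, rfl⟩]
        unfold KZero.clSub
        rw [dif_pos hX]
      | neg a ih =>
        rw [QuotientAddGroup.mk_neg, map_neg, map_neg, ih]
      | add a b iha ihb =>
        rw [QuotientAddGroup.mk_add, map_add, map_add, iha, ihb]
  have hright : ∀ y, F (chi H h3 y) = y := by
    intro y
    induction y using QuotientAddGroup.induction_on with
    | H z =>
      induction z using FreeAbelianGroup.induction_on with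
      | zero => simp
      | of a =>
        obtain ⟨X, hX⟩ := a
        rw [chi_mk_of]
        obtain ⟨n, hn⟩ := chi0_spec H h3 ⟨X, hX⟩
        rw [R_map H h3 F hF n X _ hn]
        unfold KZero.clSub
        rw [dif_pos hX]
      | neg a ih =>
        rw [QuotientAddGroup.mk_neg, map_neg, map_neg, ih]
      | add a b iha ihb =>
        rw [QuotientAddGroup.mk_add, map_add, map_add, iha, ihb]
  exact ⟨Function.LeftInverse.injective hleft, Function.RightInverse.surjective hright⟩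

end Additivity
end Groth.Agent.Lib.Helper99.K0Res
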