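import Mathlib
import Groth.Prelude.Def_DerSch
import Groth.Agent.Lib.Helper12.TorAmpRestrict
import Groth.Agent.Lib.QCoh.Helper74_RefHullRefl

/-!
# Stalkwise tor amplitude relative to a morphism (helper99): composition
-/

set_option autoImplicit false
universe u
open CategoryTheory Limits AlgebraicGeometry Opposite TopologicalSpace

attribute [local instance] HasDerivedCategory.standard

namespace Groth.Agent.Lib.Helper99.SStalk

open DerSch

variable {X Y Z : Scheme.{u}}

/-- `stalkOver` of a composite -/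
noncomputable def stalkOverCompIso (f : X ⟶ Y) (g : Y ⟶ Z) (x : X) :
    stalkOver (f ≫ g) x ≅ stalkOver f x ⋙ ModuleCat.restrictScalars (g.stalkMap (f.base x)).hom :=
  Functor.isoWhiskerLeft (stalkFunctor X x)
    (ModuleCat.restrictScalarsComp'.{u} (g.stalkMap (f.base x)).hom (f.stalkMap x).hom
      ((f ≫ g).stalkMap x).hom (by rw [Scheme.Hom.stalkMap_comp]; rfl)) ≪≫
    (Functor.associator _ _ _).symm

/-- the complex of stalks over the base of a composite -/
noncomputable def stalkCxOverCompIso (f : X ⟶ Y) (g : Y ⟶ Z) (x : X)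
    (F : CochainComplex X.Modules ℤ) :
    (stalkCxOver (f ≫ g) x).obj F ≅
      ((ModuleCat.restrictScalars (g.stalkMap (f.base x)).hom).mapHomologicalComplex
        (ComplexShape.up ℤ)).obj ((stalkCxOver f x).obj F) :=
  (NatIso.mapHomologicalComplex (stalkOverCompIso f g x) (ComplexShape.up ℤ)).app F

open Groth.Agent.Lib.Helper12 in
/-- the stalk of the unit complex, over the base -/
noncomputable def toDStalkUnitIso (g : Y ⟶ Z) (y : Y) :
    letI : Algebra (Z.presheaf.stalk (g.base y)) (Y.presheaf.stalk y) :=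
      (g.stalkMap y).hom.toAlgebra
    DRing.toD ((stalkCxOver g y).obj (unitCx Y)) ≅
      Dual.inD (Z.presheaf.stalk (g.base y)) (Y.presheaf.stalk y) := by
  letI : Algebra (Z.presheaf.stalk (g.base y)) (Y.presheaf.stalk y) :=
    (g.stalkMap y).hom.toAlgebra
  let e1 : (stalkCxOver g y).obj (unitCx Y) ≅
      (HomologicalComplex.single _ (ComplexShape.up ℤ) 0).obj
        ((stalkOver g y).obj (Coh.structureModule Y)) :=
    (HomologicalComplex.singleMapHomologicalComplex (stalkOver g y) (ComplexShape.up ℤ) 0).app _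
  let L : (Coh.structureModule Y).presheaf.stalk y ≃ₗ[Y.presheaf.stalk y] Y.presheaf.stalk y :=
    Groth.Agent.Lib.QCoh.RefHull74.oxEquiv y
  let e2 : (stalkOver g y).obj (Coh.structureModule Y) ≅
      ModuleCat.of (Z.presheaf.stalk (g.base y)) (Y.presheaf.stalk y) :=
    (ModuleCat.restrictScalars (g.stalkMap y).hom).mapIso L.toModuleIso ≪≫
      (LinearEquiv.toModuleIso
        { toFun := fun b => b
          invFun := fun b => b
          map_add' := fun _ _ => rfl
          map_smul' := fun _ _ => rfl
          left_inv := fun _ => rfl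
          right_inv := fun _ => rfl })
  exact DerivedCategory.Q.mapIso e1 ≪≫ toDSingleIso' 0 _ ≪≫
    (DerivedCategory.singleFunctor _ 0).mapIso e2

open Groth.Agent.Lib.Helper12 in
/-- **S6187**, at one point -/
theorem hasTorAmplitudeAt_comp (f : X ⟶ Y) (g : Y ⟶ Z) (n : ℕ) (x : X)
    (hg : HasTorAmplitudeAt g (-(n : ℤ)) 0 (unitCx Y) (f.base x))
    (F : CochainComplex X.Modules ℤ) (a b : ℤ) (hF : HasTorAmplitudeAt f a b F x) :
    HasTorAmplitudeAt (f ≫ g) (a - n) b F x := by
  letI : Algebra (Z.presheaf.stalk (g.base (f.base x))) (Y.presheaf.stalk (f.base x)) :=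
    (g.stalkMap (f.base x)).hom.toAlgebra
  have hB : DRing.HasTorAmplitudeIn (Z.presheaf.stalk (g.base (f.base x))) (-(n : ℤ)) 0
      (Dual.inD (Z.presheaf.stalk (g.base (f.base x))) (Y.presheaf.stalk (f.base x))) :=
    hasTorAmplitudeIn_of_iso (toDStalkUnitIso g (f.base x)) hg
  have key := hasTorAmplitudeIn_restrictD n hB (DRing.toD ((stalkCxOver f x).obj F)) a b hF
  refine hasTorAmplitudeIn_of_iso ?_ key
  exact (ModuleCat.restrictScalars (g.stalkMap (f.base x)).hom).mapDerivedCategoryFactors.app _ ≪≫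
    DerivedCategory.Q.mapIso (stalkCxOverCompIso f g x F).symm

end Groth.Agent.Lib.Helper99.SStalk
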