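import Mathlib.CategoryTheory.Subobject.Lattice
import Mathlib.CategoryTheory.Subobject.Limits
import Mathlib.CategoryTheory.Abelian.Basic

/-!
# A small calculus of direct images of subobjects in abelian categories (helper99)
-/

set_option autoImplicit false
universe v u

open CategoryTheory CategoryTheory.Limits

namespace Groth.Agent.Lib.Helper99

variable {A : Type u} [Category.{v} A] [Abelian A]

theorem imageSubobject_le_iff {X Y : A} (a : X ⟶ Y) (T : Subobject Y) :
    imageSubobject a ≤ T ↔ T.Factors a := by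
  constructor
  · intro h
    have h1 : (imageSubobject a).Factors a := by
      have := Subobject.factors_comp_arrow (factorThruImageSubobject a)
      rwa [imageSubobject_arrow_comp] at this
    exact Subobject.factors_of_le a h h1
  · intro h
    exact imageSubobject_le a (T.factorThru a h) (T.factorThru_arrow a h)

theorem imageSubobject_comp_le_iff {W X Y : A} (a : W ⟶ X) (h : X ⟶ Y) (T : Subobject Y) :
    imageSubobject (a ≫ h) ≤ T ↔ imageSubobject a ≤ (Subobject.pullback h).obj T := by
  rw [imageSubobject_le_iff, imageSubobject_le_iff, pullback_factors_iff]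

/-- The direct image of a subobject under a morphism. -/
noncomputable def dirIm {X Y : A} (h : X ⟶ Y) (S : Subobject X) : Subobject Y :=
  imageSubobject (S.arrow ≫ h)

theorem imageSubobject_arrow_self {X : A} (S : Subobject X) : imageSubobject S.arrow = S := by
  rw [imageSubobject_mono, Subobject.mk_arrow]

theorem dirIm_le_iff {X Y : A} (h : X ⟶ Y) (S : Subobject X) (T : Subobject Y) :
    dirIm h S ≤ T ↔ S ≤ (Subobject.pullback h).obj T := by
  rw [dirIm, imageSubobject_comp_le_iff, imageSubobject_arrow_self]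

theorem dirIm_mono {X Y : A} (h : X ⟶ Y) {S S' : Subobject X} (hS : S ≤ S') :
    dirIm h S ≤ dirIm h S' := by
  rw [dirIm_le_iff]
  exact hS.trans ((dirIm_le_iff h S' _).mp le_rfl)

theorem imageSubobject_comp_eq_dirIm {W X Y : A} (a : W ⟶ X) (h : X ⟶ Y) :
    imageSubobject (a ≫ h) = dirIm h (imageSubobject a) := by
  apply eq_of_forall_ge_iff
  intro T
  rw [imageSubobject_comp_le_iff, dirIm_le_iff]

theorem imageSubobject_eq_dirIm_top {X Y : A} (h : X ⟶ Y) :
    imageSubobject h = dirIm h ⊤ := by
  rw [dirIm, imageSubobject_iso_comp]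

theorem dirIm_comp {X Y Z : A} (f : X ⟶ Y) (g : Y ⟶ Z) (S : Subobject X) :
    dirIm (f ≫ g) S = dirIm g (dirIm f S) := by
  apply eq_of_forall_ge_iff
  intro T
  rw [dirIm_le_iff, dirIm_le_iff, dirIm_le_iff, Subobject.pullback_comp]

theorem dirIm_eq_map {X Y : A} (g : X ⟶ Y) [Mono g] (S : Subobject X) :
    dirIm g S = (Subobject.map g).obj S := by
  apply eq_of_forall_ge_iff
  intro T
  rw [dirIm_le_iff]
  exact ⟨fun h => (((Subobject.mapPullbackAdj g).homEquiv _ _).symm h.hom).le,
    fun h => (((Subobject.mapPullbackAdj g).homEquiv _ _) h.hom).le⟩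

theorem dirIm_inf_of_mono {X Y : A} (g : X ⟶ Y) [Mono g] (S S' : Subobject X) :
    dirIm g (S ⊓ S') = dirIm g S ⊓ dirIm g S' := by
  rw [dirIm_eq_map, dirIm_eq_map, dirIm_eq_map, Subobject.inf_map]

theorem imageSubobject_eq_top_of_epi {X Y : A} (f : X ⟶ Y) [Epi f] : imageSubobject f = ⊤ := by
  haveI : Epi (image.ι f) := epi_of_epi_fac (image.fac f)
  haveI : IsIso (image.ι f) := isIso_of_mono_of_epi _
  exact Subobject.mk_eq_top_of_isIso _

end Groth.Agent.Lib.Helper99
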