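import Groth.Agent.Lib.Helper99.KInjW
import Mathlib.Algebra.Homology.HomotopyCategory.KInjective
import Mathlib.Algebra.Homology.HomotopyCategory.Pretriangulated

set_option autoImplicit false
universe w v u
open CategoryTheory CategoryTheory.Limits CategoryTheory.MorphismProperty

namespace Groth.Agent.Lib.Helper99.KInj

variable {A : Type u} [Category.{v} A] [Abelian A] [IsGrothendieckAbelian.{v} A]

instance : MorphismProperty.IsStableUnderFilteredColimits.{v, v} (trivCof A) where
  isStableUnderColimitsOfShape J _ _ := by infer_instance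

instance : MorphismProperty.IsStableUnderCoproducts.{v} (trivCof A) where
  isStableUnderCoproductsOfShape J := by
    unfold MorphismProperty.IsStableUnderCoproductsOfShape
    infer_instance

instance : MorphismProperty.IsStableUnderTransfiniteComposition.{v} (trivCof A) := inferInstance

/-- a quotient of `P` is the cokernel of a subobject of `P` -/
theorem exists_iso_cokernel_of_epi {C : Type u} [Category.{v} C] [Abelian C] {P K : C} (e : P ⟶ K)
    [Epi e] : ∃ (R : Subobject P) (φ : cokernel R.arrow ≅ K), cokernel.π R.arrow ≫ φ.hom = e := by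
  let R := kernelSubobject e
  let ψ : cokernel R.arrow ⟶ K := cokernel.desc _ e (kernelSubobject_arrow_comp e)
  have hψ : cokernel.π R.arrow ≫ ψ = e := cokernel.π_desc _ _ _
  have hepi : Epi ψ := epi_of_epi_fac hψ
  have hmono : Mono ψ := by
    apply Preadditive.mono_of_cancel_zero
    intro V t ht
    obtain ⟨V', π, hπ, t', ht'⟩ := surjective_up_to_refinements_of_epi (cokernel.π R.arrow) t
    have h1 : t' ≫ e = 0 := by
      rw [← hψ, ← Category.assoc, ← ht', Category.assoc, ht, comp_zero]
    have h2 : R.Factors t' := (kernelSubobject_factors_iff e t').2 h1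
    rw [← cancel_epi π, comp_zero, ht', ← R.factorThru_arrow t' h2, Category.assoc,
      cokernel.condition, comp_zero]
  have : IsIso ψ := isIso_of_mono_of_epi ψ
  exact ⟨R, asIso ψ, hψ⟩

section GenJ

variable (G : A)

/-- index type of the generating trivial cofibrations -/
def JIdx : Type (max u v) :=
  Σ (R : Subobject (bigP G)), { S : Subobject (cokernel R.arrow) // QuasiIso S.arrow }

instance : Small.{v} (JIdx G) := by
  unfold JIdx
  infer_instance

/-- the generating trivial cofibrations -/
def genJ : MorphismProperty (CochainComplex A ℤ) :=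
  MorphismProperty.ofHoms (fun i : JIdx G => i.2.1.arrow)

instance : MorphismProperty.IsSmall.{v} (genJ G) := by
  unfold genJ
  infer_instance

theorem genJ_le_trivCof : genJ G ≤ trivCof A := by
  rintro _ _ _ ⟨i⟩
  exact ⟨inferInstance, i.2.2⟩

theorem genJ_le_mono : genJ G ≤ monomorphisms _ := (genJ_le_trivCof G).trans trivCof_le_mono

variable {G}

theorem genJ_of_small {K' K : CochainComplex A ℤ} (s : K' ⟶ K) [Mono s] [QuasiIso s]
    (e : bigP G ⟶ K) [Epi e] :
    ∃ (i : JIdx G) (α : (i.2.1 : CochainComplex A ℤ) ≅ K') (φ : cokernel i.1.arrow ≅ K),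
      α.hom ≫ s = i.2.1.arrow ≫ φ.hom := by
  obtain ⟨R, φ, hφ⟩ := exists_iso_cokernel_of_epi e
  let S : Subobject (cokernel R.arrow) := Subobject.mk (s ≫ φ.inv)
  have hS : S.arrow = (Subobject.underlyingIso (s ≫ φ.inv)).hom ≫ s ≫ φ.inv :=
    (Subobject.underlyingIso_hom_comp_eq_mk _).symm
  have hq : QuasiIso S.arrow := by
    rw [hS]
    infer_instance
  refine ⟨⟨R, ⟨S, hq⟩⟩, Subobject.underlyingIso (s ≫ φ.inv), φ, ?_⟩
  change _ = S.arrow ≫ _
  rw [hS, Category.assoc, Category.assoc, Iso.inv_hom_id, Category.comp_id]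

variable (hG : IsSeparator G)

include hG in
theorem transHyp_genJ : TransHyp (genJ G) (trivCof A) where
  iso_le := by
    have hq : QuasiIso (⊤ : Subobject (cokernel (⊤ : Subobject (bigP G)).arrow)).arrow :=
      inferInstance
    exact MorphismProperty.isomorphisms_le_pushouts _
      (fun _ => ⟨_, _, _, ⟨⟨⊤, ⟨⊤, hq⟩⟩⟩, 0, by dsimp; infer_instance⟩)
  pushouts_le := by
    rw [MorphismProperty.pushouts_le_iff]
    exact genJ_le_trivCof G
  le_mono := trivCof_le_mono
  larger := by
    intro X Y p hp hp'
    have := hp.1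
    have := hp.2
    obtain ⟨K, j, hj, e, he, hq, hnot⟩ := exists_small_sub hG p hp'
    obtain ⟨i, α, φ, hαφ⟩ := genJ_of_small (pullback.snd p j) e
    have sq : IsPushout (α.hom ≫ pullback.fst p j) i.2.1.arrow
        (pushout.inl (pullback.fst p j) (pullback.snd p j))
        (φ.hom ≫ pushout.inr (pullback.fst p j) (pullback.snd p j)) :=
      (IsPushout.of_hasPushout (pullback.fst p j) (pullback.snd p j)).of_iso
        α.symm (Iso.refl _) φ.symm (Iso.refl _) (by simp) (by
          rw [Iso.symm_hom, Iso.symm_hom, Iso.comp_inv_eq, Category.assoc, ← hαφ,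
            Iso.inv_hom_id_assoc]) (by simp) (by simp)
    have hi : (genJ G).pushouts (pushout.inl (pullback.fst p j) (pullback.snd p j)) :=
      MorphismProperty.pushouts_mk (P := genJ G) sq (MorphismProperty.ofHoms.mk i)
    have hW : trivCof A (pushout.inl (pullback.fst p j) (pullback.snd p j)) := by
      have h1 : (genJ G).pushouts ≤ trivCof A := by
        rw [MorphismProperty.pushouts_le_iff]
        exact genJ_le_trivCof G
      exact h1 _ hi
    have hfac : pushout.inl (pullback.fst p j) (pullback.snd p j) ≫
        pushout.desc p j pullback.condition = p := pushout.inl_desc _ _ _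
    have hmono : Mono (pushout.desc p j pullback.condition) :=
      (IsPushout.of_hasPushout _ _).mono_of_isPullback_of_mono
        (IsPullback.of_hasPullback p j) _ (pushout.inl_desc _ _ _) (pushout.inr_desc _ _ _)
    refine ⟨pushout (pullback.fst p j) (pullback.snd p j), pushout.inl _ _,
      pushout.desc p j pullback.condition, hi, ?_, ⟨hmono, ?_⟩, hfac⟩
    · intro hiso
      apply hnot
      refine ⟨pushout.inr _ _ ≫ inv (pushout.inl (pullback.fst p j) (pullback.snd p j)), ?_⟩
      have h3 : inv (pushout.inl (pullback.fst p j) (pullback.snd p j)) ≫ p =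
          pushout.desc p j pullback.condition := by rw [IsIso.inv_comp_eq, hfac]
      rw [Category.assoc, h3]
      exact pushout.inr_desc _ _ _
    · have := hW.2
      have h2 : QuasiIso (pushout.inl (pullback.fst p j) (pullback.snd p j) ≫
          pushout.desc p j pullback.condition) := by rw [hfac]; infer_instance
      exact quasiIso_of_comp_left (pushout.inl (pullback.fst p j) (pullback.snd p j))
        (pushout.desc p j pullback.condition)

end GenJ

section SOA

variable (G : A)

instance : HasSmallObjectArgument.{v} (genJ G) := by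
  obtain ⟨κ, hκ', hκ⟩ := HasCardinalLT.exists_regular_cardinal.{v}
    (Σ (i : JIdx G), Subobject (i.2.1 : CochainComplex A ℤ))
  have : Fact κ.IsRegular := ⟨hκ'⟩
  have : Nonempty κ.ord.ToType := by simpa using hκ'.ne_zero
  have := WellFoundedLT.toOrderBot κ.ord.ToType
  exact ⟨κ, inferInstance, inferInstance,
    { preservesColimit {K L X Y} i hi f hf := by
        let hf' : (monomorphisms (CochainComplex A ℤ)).TransfiniteCompositionOfShape
            κ.ord.ToType f :=
          { toTransfiniteCompositionOfShape := hf.toTransfiniteCompositionOfShape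
            map_mem j hj := by
              have := (hf.attachCells j hj).pushouts_coproducts
              simp only [ofHoms_homFamily] at this
              refine (?_ : _ ≤ monomorphisms (CochainComplex A ℤ)) _ this
              simp only [pushouts_le_iff, coproducts_le_iff]
              exact genJ_le_mono G }
        have (j j' : κ.ord.ToType) (φ : j ⟶ j') : Mono (hf'.F.map φ) := hf'.mem_map φ
        apply IsGrothendieckAbelian.preservesColimit_coyoneda_obj_of_mono (Y := hf'.F) (κ := κ)
        obtain ⟨i₀⟩ := hi
        exact hκ.of_injective (fun S => (⟨i₀, S⟩ : Σ (i : JIdx G), Subobject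
          (i.2.1 : CochainComplex A ℤ))) (fun S S' hSS' => by simpa using hSS') }⟩

theorem llp_rlp_genJ_le : (genJ G).rlp.llp ≤ trivCof A := by
  rw [llp_rlp_of_hasSmallObjectArgument]
  trans (transfiniteCompositions.{v} (coproducts.{v} (trivCof A)).pushouts).retracts
  · apply retracts_monotone
    apply transfiniteCompositions_monotone
    apply pushouts_monotone
    apply coproducts_monotone
    exact genJ_le_trivCof G
  · simp

end SOA

section Fibrant

omit [IsGrothendieckAbelian.{v} A]

theorem isIso_disk_d (n : ℤ) (X : A) : IsIso ((disk n X).d n (n + 1)) := by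
  unfold disk
  rw [HomologicalComplex.double_d (𝟙 X) (up_rel n) (by omega)]
  infer_instance

theorem isZero_disk_X (n : ℤ) (X : A) (k : ℤ) (h₀ : k ≠ n) (h₁ : k ≠ n + 1) :
    IsZero ((disk n X).X k) :=
  HomologicalComplex.isZero_double_X _ _ k h₀ h₁

theorem exactAt_disk (n : ℤ) (X : A) (k : ℤ) : (disk n X).ExactAt k := by
  have := isIso_disk_d n X
  by_cases hk : k = n
  · subst hk
    rw [HomologicalComplex.exactAt_iff' _ (k - 1) k (k + 1) (by simp) (by simp)]
    refine (ShortComplex.exact_iff_mono _ ?_).2 ?_
    · exact (isZero_disk_X k X (k - 1) (by omega) (by omega)).eq_of_src _ _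
    · exact inferInstanceAs (Mono ((disk k X).d k (k + 1)))
  · by_cases hk' : k = n + 1
    · subst hk'
      rw [HomologicalComplex.exactAt_iff' _ n (n + 1) (n + 1 + 1) (by simp) (by simp)]
      refine (ShortComplex.exact_iff_epi _ ?_).2 ?_
      · exact (isZero_disk_X n X (n + 1 + 1) (by omega) (by omega)).eq_of_tgt _ _
      · exact inferInstanceAs (Epi ((disk n X).d n (n + 1)))
    · rw [HomologicalComplex.exactAt_iff' _ (k - 1) k (k + 1) (by simp) (by simp)]
      exact ShortComplex.exact_of_isZero_X₂ _ (isZero_disk_X n X k hk hk')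

theorem diskHom_f (n : ℤ) {X : A} {K : CochainComplex A ℤ} (x : X ⟶ K.X n) :
    (diskHom x).f n = (diskIso n X).hom ≫ x := by
  have h : diskEquiv n X K (diskHom x) = x := (diskEquiv n X K).apply_symm_apply x
  rw [diskEquiv_apply] at h
  rw [← cancel_epi (diskIso n X).inv, h, Iso.inv_hom_id_assoc]

/-- the map of disks induced by a morphism -/
noncomputable def diskMap (n : ℤ) {X Y : A} (a : X ⟶ Y) : disk n X ⟶ disk n Y :=
  diskHom (a ≫ (diskIso n Y).inv)

theorem diskMap_comp (n : ℤ) {X Y : A} (a : X ⟶ Y) {K : CochainComplex A ℤ} (l : disk n Y ⟶ K) :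
    diskMap n a ≫ l = diskHom (a ≫ diskEquiv n Y K l) := by
  unfold diskMap
  rw [diskHom_comp, Category.assoc, diskEquiv_apply]

instance mono_diskMap (n : ℤ) {X Y : A} (a : X ⟶ Y) [Mono a] : Mono (diskMap n a) := by
  have h0 : Mono ((diskMap n a).f n) := by
    unfold diskMap
    rw [diskHom_f]
    infer_instance
  have := isIso_disk_d n X
  have := isIso_disk_d n Y
  apply HomologicalComplex.mono_of_mono_f
  intro k
  by_cases hk : k = n
  · subst hk; exact h0
  · by_cases hk' : k = n + 1
    · subst hk'
      have hc := (diskMap n a).comm n (n + 1)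
      have : (diskMap n a).f (n + 1) =
          inv ((disk n X).d n (n + 1)) ≫ (diskMap n a).f n ≫ (disk n Y).d n (n + 1) := by
        rw [IsIso.eq_inv_comp, hc]
      rw [this]
      infer_instance
    · apply Preadditive.mono_of_cancel_zero
      intro V t _
      exact (isZero_disk_X n X k hk hk').eq_of_tgt _ _

theorem trivCof_diskMap (n : ℤ) {X Y : A} (a : X ⟶ Y) [Mono a] : trivCof A (diskMap n a) := by
  refine ⟨inferInstance, ?_⟩
  rw [quasiIso_iff]
  intro k
  rw [quasiIsoAt_iff_exactAt _ _ (exactAt_disk n X k)]
  exact exactAt_disk n Y k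

variable (Z : CochainComplex A ℤ)
  (hZ : ∀ {K L : CochainComplex A ℤ} (i : K ⟶ L), trivCof A i → ∀ f : K ⟶ Z, ∃ g : L ⟶ Z, i ≫ g = f)

include hZ

theorem injective_X_of_ext (n : ℤ) : Injective (Z.X n) where
  factors {X Y} g a _ := by
    obtain ⟨l, hl⟩ := hZ (diskMap n a) (trivCof_diskMap n a) (diskHom g)
    refine ⟨diskEquiv n Y Z l, ?_⟩
    rw [diskMap_comp] at hl
    exact (diskEquiv n X Z).symm.injective hl

theorem isKInjective_of_ext : Z.IsKInjective where
  nonempty_homotopy_zero {K} f hK := by
    have hcone : ∀ n, (CochainComplex.mappingCone (𝟙 K)).ExactAt n := by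
      intro n
      rw [HomologicalComplex.exactAt_iff_isZero_homology, IsZero.iff_id_eq_zero,
        ← HomologicalComplex.homologyMap_id,
        (CochainComplex.mappingCone.homotopyToZeroOfId K).homologyMap_eq n,
        HomologicalComplex.homologyMap_zero]
    have hmono : Mono (CochainComplex.mappingCone.inr (𝟙 K)) := by
      apply HomologicalComplex.mono_of_mono_f
      intro n
      exact mono_of_mono_fac (CochainComplex.mappingCone.inr_f_snd_v (𝟙 K) n)
    have hq : QuasiIso (CochainComplex.mappingCone.inr (𝟙 K)) := by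
      rw [quasiIso_iff]
      intro k
      rw [quasiIsoAt_iff_exactAt _ _ (hK k)]
      exact hcone k
    obtain ⟨l, hl⟩ := hZ (CochainComplex.mappingCone.inr (𝟙 K)) ⟨hmono, hq⟩ f
    refine ⟨Homotopy.trans (Homotopy.ofEq hl.symm) ?_⟩
    have h1 : Homotopy l 0 :=
      (Homotopy.ofEq (Category.id_comp l).symm).trans
        (((CochainComplex.mappingCone.homotopyToZeroOfId K).compRight l).trans
          (Homotopy.ofEq zero_comp))
    exact (h1.compLeft (CochainComplex.mappingCone.inr (𝟙 K))).trans (Homotopy.ofEq comp_zero)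

end Fibrant

open ZeroObject in
/-- **K-injective resolutions in Grothendieck abelian categories** (Stacks 079P). -/
theorem exists_kInjective_resolution (M : CochainComplex A ℤ) :
    ∃ (I : CochainComplex A ℤ) (f : M ⟶ I), I.IsKInjective ∧ QuasiIso f ∧ (∀ n, Mono (f.f n)) ∧
      ∀ n, Injective (I.X n) := by
  let G := separator A
  have hG : IsSeparator G := isSeparator_separator A
  let fac := (functorialFactorizationData (genJ G).rlp.llp (genJ G).rlp).factorizationData
    (0 : M ⟶ 0)
  have hi : trivCof A fac.i := llp_rlp_genJ_le G _ fac.hi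
  have hp : (trivCof A).rlp fac.p := (transHyp_genJ hG).rlp_le _ fac.hp
  have hZ : ∀ {K L : CochainComplex A ℤ} (i : K ⟶ L), trivCof A i → ∀ f : K ⟶ fac.Z,
      ∃ g : L ⟶ fac.Z, i ≫ g = f := by
    intro K L i hW f
    have := hp i hW
    have sq : CommSq f i fac.p (0 : L ⟶ 0) := ⟨(isZero_zero _).eq_of_tgt _ _⟩
    exact ⟨sq.lift, sq.fac_left⟩
  have := hi.1
  refine ⟨fac.Z, fac.i, isKInjective_of_ext _ hZ, hi.2, fun n => ?_, fun n => injective_X_of_ext _ hZ n⟩
  exact inferInstanceAs (Mono ((HomologicalComplex.eval A _ n).map fac.i))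

end Groth.Agent.Lib.Helper99.KInj
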