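import Mathlib
import Groth.Agent.S0484
import Groth.Agent.Lib.Helper19.JShriekNC
import Groth.Agent.Lib.Helper68.KInj
import Groth.Prelude.Def_DCoh3

/-!
# Restriction of `O_X`-modules to an open preserves K-injective complexes (helper99)
-/

universe u
open CategoryTheory Limits AlgebraicGeometry

namespace Groth.Agent.Lib.Helper99.RestrKInj

/-- `X.Modules` is a Grothendieck abelian category (from S0484 of helper94). -/
instance isGrothendieckAbelian_modules (X : Scheme.{u}) : IsGrothendieckAbelian.{u} X.Modules :=
  Groth.Agent.S0484.result _ X.ringCatSheaf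

variable {X : Scheme.{u}} (U : X.Opens)

/-- extension by zero along an open `U ⊆ X`, for `O`-modules. -/
noncomputable def extZero : (U : Scheme.{u}).Modules ⥤ X.Modules :=
  (Scheme.Modules.overEquiv U).inverse ⋙ Groth.Agent.Lib.Helper19.JShriekNC.jS X.ringCatSheaf U

/-- extension by zero is left adjoint to restriction. -/
noncomputable def extZeroAdj : extZero U ⊣ Scheme.Modules.restrictFunctor U.ι :=
  ((Scheme.Modules.overEquiv U).symm.toAdjunction.comp
    (Groth.Agent.Lib.Helper19.JShriekNC.adjS X.ringCatSheaf U)).ofNatIsoRight
      (Scheme.Modules.overFunctorEquiv U)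

instance : PreservesFiniteColimits (extZero U) := by
  dsimp only [extZero]
  have h1 : PreservesFiniteColimits (Scheme.Modules.overEquiv U).inverse := inferInstance
  have h2 : PreservesFiniteColimits (Groth.Agent.Lib.Helper19.JShriekNC.jS X.ringCatSheaf U) := inferInstance
  exact @comp_preservesFiniteColimits _ _ _ _ _ _ (Scheme.Modules.overEquiv U).inverse
    (Groth.Agent.Lib.Helper19.JShriekNC.jS X.ringCatSheaf U) h1 h2

instance : PreservesFiniteLimits (extZero U) := by
  dsimp only [extZero]
  have h2 := Groth.Agent.Lib.Helper19.JShriekNC.preservesFiniteLimits_jS (A := X.ringCatSheaf) (X := U)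
  have h1 : PreservesFiniteLimits (Scheme.Modules.overEquiv U).inverse := inferInstance
  exact @comp_preservesFiniteLimits _ _ _ _ _ _ (Scheme.Modules.overEquiv U).inverse
    (Groth.Agent.Lib.Helper19.JShriekNC.jS X.ringCatSheaf U) h1 h2

instance : (extZero U).Additive := Functor.additive_of_preserves_binary_products _

theorem isKInjective_restrict (I : CochainComplex X.Modules ℤ) [I.IsKInjective] :
    CochainComplex.IsKInjective
      (((Scheme.Modules.restrictFunctor U.ι).mapHomologicalComplex (ComplexShape.up ℤ)).obj I) :=
  Groth.Agent.Lib.Helper68.KInj.isKInjective_map_of_adjunction (extZeroAdj U) I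

end Groth.Agent.Lib.Helper99.RestrKInj
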