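import Mathlib
import Groth.Agent.Lib.Helper99.KInjRes

set_option autoImplicit false
universe w v u
open CategoryTheory Limits

namespace Groth.Agent.Lib.Helper99.KInj

section General
variable (A : Type u) [Category.{v} A] [Abelian A]

/-- K-injective objects of the homotopy category -/
def kInjK : ObjectProperty (HomotopyCategory A (ComplexShape.up ℤ)) := fun X => CochainComplex.IsKInjective X.as

variable {A}

theorem isLocal_quotient_obj (L : CochainComplex A ℤ) [L.IsKInjective] :
    (HomotopyCategory.quasiIso A (ComplexShape.up ℤ)).isLocal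
      ((HomotopyCategory.quotient _ _).obj L) := by
  rw [HomotopyCategory.quasiIso_eq_trW_subcategoryAcyclic, ObjectProperty.isLocal_trW]
  exact CochainComplex.IsKInjective.rightOrthogonal L

theorem isLocal_of_kInjK (X : HomotopyCategory A (ComplexShape.up ℤ)) (hX : kInjK A X) :
    (HomotopyCategory.quasiIso A (ComplexShape.up ℤ)).isLocal X := by
  have : CochainComplex.IsKInjective X.as := hX
  exact isLocal_quotient_obj X.as

variable (A)

/-- The localizer morphism given by the inclusion of K-injective objects in the homotopy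
category. -/
def kInjKLocalizerMorphism :
    LocalizerMorphism (MorphismProperty.isomorphisms (kInjK A).FullSubcategory)
      (HomotopyCategory.quasiIso A (ComplexShape.up ℤ)) where
  functor := (kInjK A).ι
  map K L f (hf : IsIso f) := by
    dsimp only [MorphismProperty.inverseImage]
    rw [HomotopyCategory.mem_quasiIso_iff]
    intro n
    infer_instance

end General

section Groth

variable (A : Type u) [Category.{v} A] [Abelian A] [IsGrothendieckAbelian.{v} A]

/-- every object of the homotopy category has a K-injective right resolution -/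
theorem exists_rightResolutionK (X : HomotopyCategory A (ComplexShape.up ℤ)) :
    ∃ (I : (kInjK A).FullSubcategory) (w : X ⟶ I.obj),
      HomotopyCategory.quasiIso A (ComplexShape.up ℤ) w := by
  obtain ⟨M, rfl⟩ := HomotopyCategory.quotient_obj_surjective X
  obtain ⟨I, f, hI, hf, -, -⟩ := exists_kInjective_resolution M
  refine ⟨⟨(HomotopyCategory.quotient _ _).obj I, hI⟩, (HomotopyCategory.quotient _ _).map f, ?_⟩
  rw [HomotopyCategory.quotient_map_mem_quasiIso_iff]
  exact hf

instance : (kInjKLocalizerMorphism A).HasRightResolutions := fun X => by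
  obtain ⟨I, w, hw⟩ := exists_rightResolutionK A X
  exact ⟨{ X₁ := I, w := w, hw := hw }⟩

instance (X : HomotopyCategory A (ComplexShape.up ℤ)) :
    IsConnected ((kInjKLocalizerMorphism A).RightResolution X) := by
  have : Nonempty ((kInjKLocalizerMorphism A).RightResolution X) := inferInstance
  refine zigzag_isConnected (fun R R' => ?_)
  obtain ⟨g, hg⟩ := (isLocal_of_kInjK R'.X₁.obj R'.X₁.property R.w R.hw).2 R'.w
  exact Zigzag.of_hom { f := ObjectProperty.homMk g, comm := hg }

instance : (kInjKLocalizerMorphism A).arrow.HasRightResolutions := fun f => by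
  obtain ⟨I, w, hw⟩ := exists_rightResolutionK A f.left
  obtain ⟨I', w', hw'⟩ := exists_rightResolutionK A f.right
  obtain ⟨g, hg⟩ := (isLocal_of_kInjK I'.obj I'.property w hw).2 (f.hom ≫ w')
  exact ⟨{ X₁ := Arrow.mk (ObjectProperty.homMk g : I ⟶ I')
           w := Arrow.homMk w w' hg
           hw := ⟨hw, hw'⟩ }⟩

section

variable [HasDerivedCategory.{w} A]

theorem bijective_map_ι_comp_Qh (X Y : (kInjK A).FullSubcategory) :
    Function.Bijective (((kInjK A).ι ⋙ DerivedCategory.Qh).map : (X ⟶ Y) → _) := by
  have : CochainComplex.IsKInjective Y.obj.as := Y.property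
  have h := CochainComplex.IsKInjective.Qh_map_bijective X.obj Y.obj.as
  constructor
  · intro f g hfg
    ext
    exact h.1 hfg
  · intro g
    obtain ⟨f, hf⟩ := h.2 g
    exact ⟨ObjectProperty.homMk f, hf⟩

instance : ((kInjK A).ι ⋙ (DerivedCategory.Qh : _ ⥤ DerivedCategory A)).Full where
  map_surjective {_ _} := (bijective_map_ι_comp_Qh A _ _).2

instance : ((kInjK A).ι ⋙ (DerivedCategory.Qh : _ ⥤ DerivedCategory A)).Faithful where
  map_injective {_ _} _ _ h := (bijective_map_ι_comp_Qh A _ _).1 h

instance : ((kInjK A).ι ⋙ (DerivedCategory.Qh : _ ⥤ DerivedCategory A)).EssSurj where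
  mem_essImage D := by
    obtain ⟨I, w, hw⟩ := exists_rightResolutionK A (DerivedCategory.Qh.objPreimage D)
    have := Localization.inverts DerivedCategory.Qh _ _ hw
    exact ⟨I, ⟨(asIso (DerivedCategory.Qh.map w)).symm ≪≫ DerivedCategory.Qh.objObjPreimageIso D⟩⟩

instance : ((kInjK A).ι ⋙ (DerivedCategory.Qh : _ ⥤ DerivedCategory A)).IsEquivalence where

end

instance : (kInjKLocalizerMorphism A).IsLocalizedEquivalence := by
  letI := HasDerivedCategory.standard A
  have : ((kInjKLocalizerMorphism A).functor ⋙ DerivedCategory.Qh).IsLocalization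
      (MorphismProperty.isomorphisms (kInjK A).FullSubcategory) :=
    Functor.IsLocalization.of_isEquivalence ((kInjK A).ι ⋙ DerivedCategory.Qh) _ le_rfl
  exact LocalizerMorphism.IsLocalizedEquivalence.of_isLocalization_of_isLocalization _
    DerivedCategory.Qh

instance : (kInjKLocalizerMorphism A).IsRightDerivabilityStructure :=
  LocalizerMorphism.IsRightDerivabilityStructure.mk' _

section Consequences

variable {A} {H : Type*} [Category H] [HasDerivedCategory.{w} A]
  (Ψ : HomotopyCategory A (ComplexShape.up ℤ) ⥤ H) (RΨ : DerivedCategory A ⥤ H)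
  (β : Ψ ⟶ DerivedCategory.Qh ⋙ RΨ)

theorem kInjK_derives : (kInjKLocalizerMorphism A).Derives Ψ :=
  MorphismProperty.isInvertedBy_isomorphisms _

theorem isIso_app_of_kInjK
    [RΨ.IsRightDerivedFunctor β (HomotopyCategory.quasiIso A (ComplexShape.up ℤ))]
    (X : HomotopyCategory A (ComplexShape.up ℤ)) (hX : kInjK A X) : IsIso (β.app X) :=
  (kInjK_derives Ψ).isIso_of_isRightDerivedFunctor β ⟨X, hX⟩

theorem isRightDerivedFunctor_of_isIso_app_kInjK
    (h : ∀ X, kInjK A X → IsIso (β.app X)) :
    RΨ.IsRightDerivedFunctor β (HomotopyCategory.quasiIso A (ComplexShape.up ℤ)) :=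
  (kInjK_derives Ψ).isRightDerivedFunctor_of_isIso β (fun X₁ => h _ X₁.property)

/-- right derived functors on `D(A)` are absolute -/
theorem isRightDerivedFunctor_comp_K {H' : Type*} [Category H'] (T : H ⥤ H')
    [RΨ.IsRightDerivedFunctor β (HomotopyCategory.quasiIso A (ComplexShape.up ℤ))] :
    (RΨ ⋙ T).IsRightDerivedFunctor
      (Functor.whiskerRight β T ≫ (Functor.associator _ _ _).hom)
      (HomotopyCategory.quasiIso A (ComplexShape.up ℤ)) := by
  apply isRightDerivedFunctor_of_isIso_app_kInjK
  intro X hX
  have := isIso_app_of_kInjK Ψ RΨ β X hX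
  simp only [NatTrans.comp_app, Functor.whiskerRight_app, Functor.associator_hom_app]
  infer_instance

end Consequences

end Groth

end Groth.Agent.Lib.Helper99.KInj
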