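import Mathlib
import Groth.Agent.Lib.Helper99.KInjDerK
import Groth.Agent.Lib.Helper12.HomotopyAdjunction

set_option autoImplicit false
universe w w' v v' u u'
open CategoryTheory Limits

namespace Groth.Agent.Lib.Helper99.KInj

section AdjK

variable {A : Type u} [Category.{v} A] [Abelian A] [IsGrothendieckAbelian.{v} A]
  [HasDerivedCategory.{w} A]
  {A' : Type u'} [Category.{v'} A'] [Abelian A'] [HasDerivedCategory.{w'} A']
  (F : A' ⥤ A) (G : A ⥤ A') (adj : F ⊣ G) [F.Additive] [G.Additive]
  [PreservesFiniteLimits F] [PreservesFiniteColimits F]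
  (RG : DerivedCategory A ⥤ DerivedCategory A')
  (β : G.mapHomotopyCategory (ComplexShape.up ℤ) ⋙ DerivedCategory.Qh ⟶ DerivedCategory.Qh ⋙ RG)
  [RG.IsRightDerivedFunctor β (HomotopyCategory.quasiIso A (ComplexShape.up ℤ))]

instance : F.mapDerivedCategory.IsLeftDerivedFunctor F.mapDerivedCategoryFactorsh.hom
    (HomotopyCategory.quasiIso A' (ComplexShape.up ℤ)) :=
  Functor.isLeftDerivedFunctor_of_inverts _ _ _

instance : (F.mapDerivedCategory ⋙ RG).IsLeftDerivedFunctor
    ((Functor.associator _ _ _).inv ≫ Functor.whiskerRight F.mapDerivedCategoryFactorsh.hom RG)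
    (HomotopyCategory.quasiIso A' (ComplexShape.up ℤ)) :=
  Functor.isLeftDerivedFunctor_of_inverts _ _
    ((Functor.associator _ _ _).symm ≪≫ Functor.isoWhiskerRight F.mapDerivedCategoryFactorsh RG)

/-- the derived adjunction -/
noncomputable def derivedAdjK : F.mapDerivedCategory ⊣ RG :=
  haveI := isRightDerivedFunctor_comp_K _ RG β F.mapDerivedCategory
  (Groth.Agent.Lib.Helper12.mapHomotopyCategoryAdj (ComplexShape.up ℤ) adj).derived
    (HomotopyCategory.quasiIso A' (ComplexShape.up ℤ))
    (HomotopyCategory.quasiIso A (ComplexShape.up ℤ)) F.mapDerivedCategoryFactorsh.hom β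

theorem derivedAdjK_counit :
    (derivedAdjK F G adj RG β).counit =
      haveI := isRightDerivedFunctor_comp_K _ RG β F.mapDerivedCategory
      (Groth.Agent.Lib.Helper12.mapHomotopyCategoryAdj (ComplexShape.up ℤ) adj).derivedε
        (HomotopyCategory.quasiIso A (ComplexShape.up ℤ)) F.mapDerivedCategoryFactorsh.hom β := rfl

theorem isIso_derivedAdjK_counit_app_Qh (hadj : ∀ X, IsIso (adj.counit.app X))
    (X : HomotopyCategory A (ComplexShape.up ℤ)) (hX : kInjK A X) :
    IsIso ((derivedAdjK F G adj RG β).counit.app (DerivedCategory.Qh.obj X)) := by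
  haveI := isRightDerivedFunctor_comp_K _ RG β F.mapDerivedCategory
  have h := (Groth.Agent.Lib.Helper12.mapHomotopyCategoryAdj (ComplexShape.up ℤ) adj).derivedε_fac_app
    (HomotopyCategory.quasiIso A (ComplexShape.up ℤ)) F.mapDerivedCategoryFactorsh.hom β X
  have h1 : IsIso (β.app X) := isIso_app_of_kInjK _ RG β X hX
  have h2 : IsIso ((Groth.Agent.Lib.Helper12.mapHomotopyCategoryAdj
      (ComplexShape.up ℤ) adj).counit.app X) := by
    obtain ⟨K, rfl⟩ := HomotopyCategory.quotient_obj_surjective X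
    rw [Groth.Agent.Lib.Helper12.mapHomotopyCategoryAdj_counit_app]
    have : IsIso (Groth.Agent.Lib.Helper12.counitCx (ComplexShape.up ℤ) adj K) := by
      have : ∀ n, IsIso ((Groth.Agent.Lib.Helper12.counitCx (ComplexShape.up ℤ) adj K).f n) :=
        fun n => hadj _
      exact HomologicalComplex.Hom.isIso_of_components _
    exact Functor.map_isIso _ _
  rw [derivedAdjK_counit]
  have h3 : IsIso (F.mapDerivedCategory.map (β.app X) ≫
      ((Groth.Agent.Lib.Helper12.mapHomotopyCategoryAdj (ComplexShape.up ℤ) adj).derivedε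
        (HomotopyCategory.quasiIso A (ComplexShape.up ℤ)) F.mapDerivedCategoryFactorsh.hom β).app
          (DerivedCategory.Qh.obj X)) := by
    rw [h]
    infer_instance
  exact IsIso.of_isIso_comp_left (F.mapDerivedCategory.map (β.app X)) _

theorem isIso_derivedAdjK_counit (hadj : ∀ X, IsIso (adj.counit.app X)) :
    IsIso (derivedAdjK F G adj RG β).counit := by
  rw [NatTrans.isIso_iff_isIso_app]
  intro Y
  let X := ((kInjK A).ι ⋙ (DerivedCategory.Qh : _ ⥤ DerivedCategory A)).objPreimage Y
  let e : DerivedCategory.Qh.obj X.obj ≅ Y :=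
    ((kInjK A).ι ⋙ (DerivedCategory.Qh : _ ⥤ DerivedCategory A)).objObjPreimageIso Y
  rw [← NatTrans.isIso_app_iff_of_iso _ e]
  exact isIso_derivedAdjK_counit_app_Qh F G adj RG β hadj X.obj X.property

end AdjK

end Groth.Agent.Lib.Helper99.KInj
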