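import Mathlib


/-!
# Products of K-injective complexes give products in the derived category (copy of helper6 ProdCx with J universe-polymorphic)
-/

set_option autoImplicit false

namespace Groth.Agent.Lib.Helper99.ProdCxU

open CategoryTheory Limits

universe t w v u

variable {A : Type u} [Category.{v} A] [Abelian A] {J : Type t} [HasLimitsOfShape (Discrete J) A]

variable (I : J → CochainComplex A ℤ)

/-- the termwise product complex -/
noncomputable def prodCx : CochainComplex A ℤ where
  X j := ∏ᶜ (fun n => (I n).X j)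
  d i j := Limits.Pi.map (fun n => (I n).d i j)
  shape i j h := by
    apply Pi.hom_ext
    intro n
    simp [(I n).shape i j h]
  d_comp_d' i j k _ _ := by
    apply Pi.hom_ext
    intro n
    simp

/-- typed projection -/
noncomputable def πX (j : ℤ) (n : J) : (prodCx I).X j ⟶ (I n).X j := Pi.π _ n

/-- typed lift -/
noncomputable def liftX {T : A} (j : ℤ) (g : ∀ n, T ⟶ (I n).X j) : T ⟶ (prodCx I).X j :=
  Pi.lift g

@[reassoc (attr := simp)]
lemma liftX_πX {T : A} (j : ℤ) (g : ∀ n, T ⟶ (I n).X j) (n : J) :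
    liftX I j g ≫ πX I j n = g n := Pi.lift_π _ _

lemma hom_extX {T : A} (j : ℤ) {f g : T ⟶ (prodCx I).X j}
    (h : ∀ n, f ≫ πX I j n = g ≫ πX I j n) : f = g := Pi.hom_ext _ _ h

@[reassoc (attr := simp)]
lemma d_πX (i j : ℤ) (n : J) : (prodCx I).d i j ≫ πX I j n = πX I i n ≫ (I n).d i j :=
  Pi.map_π (fun n => (I n).d i j) n

/-- the projections -/
noncomputable def π (n : J) : prodCx I ⟶ I n where
  f j := πX I j n
  comm' i j _ := (d_πX I i j n).symm

@[simp] lemma π_f (n : J) (j : ℤ) : (π I n).f j = πX I j n := rfl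

/-- the lift -/
noncomputable def lift {M : CochainComplex A ℤ} (g : ∀ n, M ⟶ I n) : M ⟶ prodCx I where
  f j := liftX I j (fun n => (g n).f j)
  comm' i j _ := by
    apply hom_extX
    intro n
    simp

@[reassoc (attr := simp)]
lemma lift_π {M : CochainComplex A ℤ} (g : ∀ n, M ⟶ I n) (n : J) : lift I g ≫ π I n = g n := by
  ext j
  simp [lift]

/-- homotopies can be assembled -/
noncomputable def homotopyOfπ {M : CochainComplex A ℤ} (f g : M ⟶ prodCx I)
    (H : ∀ n, Homotopy (f ≫ π I n) (g ≫ π I n)) : Homotopy f g where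
  hom i j := liftX I j (fun n => (H n).hom i j)
  zero i j h := by
    apply hom_extX
    intro n
    simp [(H n).zero i j h]
  comm i := by
    rw [dNext_eq _ (show (ComplexShape.up ℤ).Rel i (i + 1) from rfl),
      prevD_eq _ (show (ComplexShape.up ℤ).Rel (i - 1) i by simp)]
    apply hom_extX
    intro n
    have h := (H n).comm i
    rw [dNext_eq _ (show (ComplexShape.up ℤ).Rel i (i + 1) from rfl),
      prevD_eq _ (show (ComplexShape.up ℤ).Rel (i - 1) i by simp)] at h
    simp only [HomologicalComplex.comp_f, π_f] at h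
    simp only [Preadditive.add_comp, Category.assoc, liftX_πX, d_πX, liftX_πX_assoc]
    exact h

lemma isKInjective_prodCx (h : ∀ n, (I n).IsKInjective) : (prodCx I).IsKInjective where
  nonempty_homotopy_zero {M} f hM :=
    ⟨homotopyOfπ I f 0 (fun n =>
      (((h n).nonempty_homotopy_zero (f ≫ π I n) hM).some).trans (Homotopy.ofEq (by simp)))⟩

section Derived

variable [HasDerivedCategory.{w} A]

open DerivedCategory

lemma exists_Q_map_eq (M L : CochainComplex A ℤ) [L.IsKInjective] (φ : Q.obj M ⟶ Q.obj L) :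
    ∃ g : M ⟶ L, Q.map g = φ := by
  obtain ⟨gh, hgh⟩ := (CochainComplex.IsKInjective.Qh_map_bijective
    ((HomotopyCategory.quotient _ _).obj M) L).surjective
    ((quotientCompQhIso A).hom.app M ≫ φ ≫ (quotientCompQhIso A).inv.app L)
  obtain ⟨g, rfl⟩ := (HomotopyCategory.quotient _ _).map_surjective gh
  refine ⟨g, ?_⟩
  have h1 := quotientCompQhIso_hom_naturality g
  rw [hgh] at h1
  simp only [Category.assoc, Iso.inv_hom_id_app, Category.comp_id] at h1
  exact ((cancel_epi _).1 h1).symm

lemma nonempty_homotopy_of_Q_map_eq (M L : CochainComplex A ℤ) [L.IsKInjective] (g g' : M ⟶ L)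
    (h : Q.map g = Q.map g') : Nonempty (Homotopy g g') := by
  have h1 := quotientCompQhIso_hom_naturality g
  have h2 := quotientCompQhIso_hom_naturality g'
  rw [h, ← h2] at h1
  have h3 := (cancel_mono _).1 h1
  exact ⟨HomotopyCategory.homotopyOfEq _ _
    ((CochainComplex.IsKInjective.Qh_map_bijective _ L).injective h3)⟩

/-- the derived category product of K-injective complexes -/
noncomputable def isLimitFan (h : ∀ n, (I n).IsKInjective) :
    IsLimit (Fan.mk (Q.obj (prodCx I)) (fun n => Q.map (π I n))) := by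
  haveI := isKInjective_prodCx I h
  have hg : ∀ (s : Fan (fun n => Q.obj (I n))) (n : J), ∃ g : Q.objPreimage s.pt ⟶ I n,
      Q.map g = (Q.objObjPreimageIso s.pt).hom ≫ s.proj n := fun s n =>
    haveI := h n
    exists_Q_map_eq _ _ _
  choose g hg using hg
  refine Fan.IsLimit.mk _ (fun s => (Q.objObjPreimageIso s.pt).inv ≫ Q.map (lift I (g s))) ?_ ?_
  · intro s n
    show ((Q.objObjPreimageIso s.pt).inv ≫ Q.map (lift I (g s))) ≫ Q.map (π I n) = s.proj n
    rw [Category.assoc, ← Functor.map_comp, lift_π, hg, Iso.inv_hom_id_assoc]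
  · intro s m hm
    obtain ⟨g', hg'⟩ := exists_Q_map_eq _ _ ((Q.objObjPreimageIso s.pt).hom ≫ m)
    have hh : ∀ n, Nonempty (Homotopy (g' ≫ π I n) (lift I (g s) ≫ π I n)) := fun n => by
      haveI := h n
      apply nonempty_homotopy_of_Q_map_eq
      rw [lift_π, hg, Functor.map_comp, hg', Category.assoc]
      congr 1
      exact hm n
    have := Q_map_eq_of_homotopy _ (homotopyOfπ I g' (lift I (g s)) (fun n => (hh n).some))
    rw [← this, hg', Iso.inv_hom_id_assoc]

lemma hasProduct_Q (h : ∀ n, (I n).IsKInjective) : HasProduct (fun n => Q.obj (I n)) :=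
  ⟨⟨⟨_, isLimitFan I h⟩⟩⟩

end Derived

end Groth.Agent.Lib.Helper99.ProdCxU
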