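import Mathlib

/-!
# A lemma on distinguished triangles whose middle term is a biproduct (helper99)
-/

set_option autoImplicit false
universe v u
open CategoryTheory Limits Category Pretriangulated

namespace Groth.Agent.Lib.Helper99.GlueTri

variable {C : Type u} [Category.{v} C] [Preadditive C] [HasZeroObject C] [HasShift C ℤ]
  [∀ n : ℤ, (shiftFunctor C n).Additive] [Pretriangulated C]

/-- In a distinguished triangle `X ⟶ Y ⟶ Z ⟶ X⟦1⟧` with `Y` a biproduct of `Y₁` and `Y₂` (given by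
the five identities), if `Y₂ ⟶ Y ⟶ Z` is an isomorphism then `X ⟶ Y ⟶ Y₁` is an isomorphism. -/
theorem isIso_comp_proj {X Y Z Y₁ Y₂ : C} (f : X ⟶ Y) (g : Y ⟶ Z) (h : Z ⟶ X⟦(1 : ℤ)⟧)
    (hT : Triangle.mk f g h ∈ distTriang C)
    (ι₁ : Y₁ ⟶ Y) (ι₂ : Y₂ ⟶ Y) (π₁ : Y ⟶ Y₁) (π₂ : Y ⟶ Y₂)
    (h₁₁ : ι₁ ≫ π₁ = 𝟙 _) (h₂₁ : ι₂ ≫ π₁ = 0)
    (htot : π₁ ≫ ι₁ + π₂ ≫ ι₂ = 𝟙 Y)
    (hiso : IsIso (ι₂ ≫ g)) : IsIso (f ≫ π₁) := by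
  let u : Z ⟶ Y₂ := inv (ι₂ ≫ g)
  have hu : u ≫ ι₂ ≫ g = 𝟙 _ := IsIso.inv_hom_id _
  have hu' : ι₂ ≫ g ≫ u = 𝟙 _ := by
    rw [← assoc]; exact IsIso.hom_inv_id _
  have hfg : f ≫ g = 0 := comp_distTriang_mor_zero₁₂ _ hT
  have hgh : g ≫ h = 0 := comp_distTriang_mor_zero₂₃ _ hT
  -- `h = 0`
  have hh : h = 0 := by
    have : h = (u ≫ ι₂ ≫ g) ≫ h := by rw [hu, id_comp]
    rw [this, assoc, assoc, hgh, comp_zero, comp_zero]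
  let t : Y₁ ⟶ Y := ι₁ - ι₁ ≫ g ≫ u ≫ ι₂
  have ht : t ≫ g = 0 := by
    simp only [t, Preadditive.sub_comp, assoc, hu, comp_id, sub_self]
  obtain ⟨r, hr⟩ : ∃ r : Y₁ ⟶ X, t = r ≫ f := Triangle.coyoneda_exact₂ _ hT t ht
  have hr' : r ≫ f = t := hr.symm
  have h1 : r ≫ f ≫ π₁ = 𝟙 _ := by
    rw [← assoc, hr']
    simp only [t, Preadditive.sub_comp, assoc, h₂₁, comp_zero, sub_zero, h₁₁]
  -- the other composite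
  have hkey : f ≫ π₁ ≫ ι₁ ≫ g ≫ u = -(f ≫ π₂) := by
    have e1 : f ≫ (π₁ ≫ ι₁ + π₂ ≫ ι₂) ≫ g = 0 := by rw [htot, id_comp, hfg]
    have e2 : f ≫ π₁ ≫ ι₁ ≫ g = -(f ≫ π₂ ≫ ι₂ ≫ g) := by
      rw [Preadditive.add_comp, Preadditive.comp_add, assoc, assoc] at e1
      exact eq_neg_of_add_eq_zero_left e1
    calc f ≫ π₁ ≫ ι₁ ≫ g ≫ u = (f ≫ π₁ ≫ ι₁ ≫ g) ≫ u := by simp only [assoc]
      _ = -(f ≫ π₂ ≫ ι₂ ≫ g ≫ u) := by rw [e2, Preadditive.neg_comp]; simp only [assoc]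
      _ = -(f ≫ π₂) := by rw [hu', comp_id]
  have hd : ((f ≫ π₁) ≫ r - 𝟙 X) ≫ f = 0 := by
    rw [Preadditive.sub_comp, assoc, hr', id_comp]
    simp only [t, Preadditive.comp_sub, assoc]
    have e3 : f ≫ π₁ ≫ ι₁ = f - f ≫ π₂ ≫ ι₂ := by
      have := congrArg (f ≫ ·) htot
      simp only [Preadditive.comp_add, comp_id] at this
      exact eq_sub_of_add_eq this
    have e4 : f ≫ π₁ ≫ ι₁ ≫ g ≫ u ≫ ι₂ = -(f ≫ π₂ ≫ ι₂) := by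
      have := congrArg (· ≫ ι₂) hkey
      simpa only [assoc, Preadditive.neg_comp] using this
    rw [e3, e4]
    abel
  have hd0 : (f ≫ π₁) ≫ r - 𝟙 X = 0 := by
    have h2 : (((f ≫ π₁) ≫ r - 𝟙 X)⟦(1 : ℤ)⟧') ≫ f⟦(1 : ℤ)⟧' = 0 := by
      rw [← Functor.map_comp, hd, Functor.map_zero]
    obtain ⟨g', hg'⟩ : ∃ g' : X⟦(1 : ℤ)⟧ ⟶ Z, ((f ≫ π₁) ≫ r - 𝟙 X)⟦(1 : ℤ)⟧' = g' ≫ h :=
      Triangle.coyoneda_exact₁ _ hT _ h2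
    have h3 : ((f ≫ π₁) ≫ r - 𝟙 X)⟦(1 : ℤ)⟧' = 0 := by
      rw [hg', hh, comp_zero]
    exact (shiftFunctor C (1 : ℤ)).map_injective (by rw [h3, Functor.map_zero])
  exact ⟨r, sub_eq_zero.1 hd0, h1⟩

end Groth.Agent.Lib.Helper99.GlueTri
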