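import Mathlib
import Groth.Agent.Lib.Helper99.KInjDerK

/-!
# Precomposition of right derived functors with exact functors preserving K-injectives (helper99)
-/

universe w w' v v' u u'
open CategoryTheory Limits

namespace Groth.Agent.Lib.Helper99.KInj

section

variable {A : Type u} [Category.{v} A] [Abelian A] [IsGrothendieckAbelian.{v} A]
  {B : Type u'} [Category.{v'} B] [Abelian B] [IsGrothendieckAbelian.{v'} B]
  [HasDerivedCategory.{w} A] [HasDerivedCategory.{w'} B]
  (G : A ⥤ B) [G.Additive] [PreservesFiniteLimits G] [PreservesFiniteColimits G]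
  {H : Type*} [Category H]
  (Ψ : HomotopyCategory B (ComplexShape.up ℤ) ⥤ H) (RΨ : DerivedCategory B ⥤ H)
  (β : Ψ ⟶ DerivedCategory.Qh ⋙ RΨ)

/-- the unit for `G.mapDerivedCategory ⋙ RΨ` as a right derived functor of
`G.mapHomotopyCategory ⋙ Ψ`. -/
noncomputable def precompUnit :
    G.mapHomotopyCategory (ComplexShape.up ℤ) ⋙ Ψ ⟶
      DerivedCategory.Qh ⋙ (G.mapDerivedCategory ⋙ RΨ) :=
  Functor.whiskerLeft (G.mapHomotopyCategory (ComplexShape.up ℤ)) β ≫
    (Functor.associator _ _ _).inv ≫
    Functor.whiskerRight G.mapDerivedCategoryFactorsh.inv RΨ ≫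
    (Functor.associator _ _ _).hom

theorem isRightDerivedFunctor_precomp
    (hG : ∀ (I : CochainComplex A ℤ) [I.IsKInjective],
      CochainComplex.IsKInjective ((G.mapHomologicalComplex (ComplexShape.up ℤ)).obj I))
    [RΨ.IsRightDerivedFunctor β (HomotopyCategory.quasiIso B (ComplexShape.up ℤ))] :
    (G.mapDerivedCategory ⋙ RΨ).IsRightDerivedFunctor (precompUnit G Ψ RΨ β)
      (HomotopyCategory.quasiIso A (ComplexShape.up ℤ)) := by
  apply isRightDerivedFunctor_of_isIso_app_kInjK
  intro X hX
  have hX' : CochainComplex.IsKInjective X.as := hX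
  have h1 : kInjK B ((G.mapHomotopyCategory (ComplexShape.up ℤ)).obj X) := hG X.as
  have := isIso_app_of_kInjK Ψ RΨ β _ h1
  simp only [precompUnit, NatTrans.comp_app, Functor.whiskerLeft_app, Functor.whiskerRight_app,
    Functor.associator_hom_app, Functor.associator_inv_app]
  infer_instance

end

end Groth.Agent.Lib.Helper99.KInj
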