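import Mathlib
import Groth.Agent.Lib.Helper99.KInjDerK
import Groth.Agent.Lib.Helper99.KInjDerPre
import Groth.Agent.Lib.Helper99.KInjRes

/-!
# Abstract Mayer–Vietoris triangles for right derived functors (helper99)
-/

set_option autoImplicit false
set_option backward.isDefEq.respectTransparency false
set_option backward.defeqAttrib.useBackward true
universe w w' v v' u u'
open CategoryTheory Limits Category Pretriangulated

namespace Groth.Agent.Lib.Helper99.MV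

section BP

variable {A : Type u} [Category.{v} A] {B : Type u'} [Category.{v'} B] [Preadditive B]
  [HasBinaryBiproducts B] (G₁ G₂ : A ⥤ B)

/-- The objectwise biproduct of two functors. -/
@[simps]
noncomputable def bp : A ⥤ B where
  obj X := G₁.obj X ⊞ G₂.obj X
  map f := biprod.map (G₁.map f) (G₂.map f)

instance [Preadditive A] [G₁.Additive] [G₂.Additive] : (bp G₁ G₂).Additive where
  map_add {X Y f g} := by
    dsimp
    ext <;> simp

/-- first projection -/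
@[simps] noncomputable def bfst : bp G₁ G₂ ⟶ G₁ where
  app X := biprod.fst
/-- second projection -/
@[simps] noncomputable def bsnd : bp G₁ G₂ ⟶ G₂ where
  app X := biprod.snd
/-- first inclusion -/
@[simps] noncomputable def binl : G₁ ⟶ bp G₁ G₂ where
  app X := biprod.inl
/-- second inclusion -/
@[simps] noncomputable def binr : G₂ ⟶ bp G₁ G₂ where
  app X := biprod.inr

variable {G₁ G₂}

/-- lift -/
@[simps] noncomputable def blift {F : A ⥤ B} (a : F ⟶ G₁) (b : F ⟶ G₂) : F ⟶ bp G₁ G₂ where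
  app X := biprod.lift (a.app X) (b.app X)
  naturality X Y f := by dsimp; ext <;> simp

/-- desc -/
@[simps] noncomputable def bdesc {F : A ⥤ B} (c : G₁ ⟶ F) (d : G₂ ⟶ F) : bp G₁ G₂ ⟶ F where
  app X := biprod.desc (c.app X) (d.app X)
  naturality X Y f := by dsimp; ext <;> simp

end BP

section SES

variable {A : Type u} [Category.{v} A] [Abelian A] {B : Type u'} [Category.{v'} B] [Abelian B]
  {F₁ P Q F₃ : A ⥤ B} [F₁.Additive] [P.Additive] [Q.Additive] [F₃.Additive]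
  (a₁ : F₁ ⟶ P) (a₂ : F₁ ⟶ Q) (b₁ : P ⟶ F₃) (b₂ : Q ⟶ F₃) (w : a₁ ≫ b₁ = a₂ ≫ b₂)

/-- the objectwise Mayer–Vietoris short complex -/
@[simps]
noncomputable def sc (J : A) : ShortComplex B :=
  ShortComplex.mk (biprod.lift (a₁.app J) (a₂.app J)) (biprod.desc (b₁.app J) (-b₂.app J)) (by
    rw [biprod.lift_desc, Preadditive.comp_neg, ← sub_eq_add_neg, sub_eq_zero,
      ← NatTrans.comp_app, ← NatTrans.comp_app, w])

/-- termwise application of a functor to a cochain complex -/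
abbrev cx (F : A ⥤ B) [F.Additive] (I : CochainComplex A ℤ) : CochainComplex B ℤ :=
  (F.mapHomologicalComplex (ComplexShape.up ℤ)).obj I

/-- the Mayer–Vietoris short complex of cochain complexes -/
noncomputable def scCx (I : CochainComplex A ℤ) : ShortComplex (CochainComplex B ℤ) :=
  ShortComplex.mk (X₁ := cx F₁ I) (X₂ := cx (bp P Q) I) (X₃ := cx F₃ I)
    ((NatTrans.mapHomologicalComplex (blift a₁ a₂) _).app I)
    ((NatTrans.mapHomologicalComplex (bdesc b₁ (-b₂)) _).app I) (by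
      ext n
      exact (sc a₁ a₂ b₁ b₂ w (I.X n)).zero)

theorem scCx_shortExact (I : CochainComplex A ℤ)
    (hI : ∀ n, (sc a₁ a₂ b₁ b₂ w (I.X n)).ShortExact) : (scCx a₁ a₂ b₁ b₂ w I).ShortExact :=
  HomologicalComplex.shortExact_of_degreewise_shortExact _ (fun n => hI n)

end SES

section Transport

variable {C : Type u} [Category.{v} C] [Preadditive C] [HasZeroObject C] [HasShift C ℤ]
  [∀ n : ℤ, (shiftFunctor C n).Additive] [Pretriangulated C] [HasBinaryBiproducts C]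

theorem exists_triangle_of_isos {X₁ X₂ X₂' X₃ Y₁ Y₂ Y₂' Y₃ : C} (e₁ : X₁ ≅ Y₁) (e₂ : X₂ ≅ Y₂)
    (e₂' : X₂' ≅ Y₂') (e₃ : X₃ ≅ Y₃)
    (h : ∃ (a : Y₁ ⟶ Y₂ ⊞ Y₂') (b : Y₂ ⊞ Y₂' ⟶ Y₃) (c : Y₃ ⟶ Y₁⟦(1 : ℤ)⟧),
      Triangle.mk a b c ∈ distTriang C) :
    ∃ (a : X₁ ⟶ X₂ ⊞ X₂') (b : X₂ ⊞ X₂' ⟶ X₃) (c : X₃ ⟶ X₁⟦(1 : ℤ)⟧),
      Triangle.mk a b c ∈ distTriang C := by
  obtain ⟨a, b, c, hT⟩ := h
  obtain ⟨e⟩ : Nonempty (X₂ ⊞ X₂' ≅ Y₂ ⊞ Y₂') := ⟨biprod.mapIso e₂ e₂'⟩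
  refine ⟨e₁.hom ≫ a ≫ e.inv, e.hom ≫ b ≫ e₃.inv,
    e₃.hom ≫ c ≫ (e₁.inv)⟦(1 : ℤ)⟧', ?_⟩
  refine isomorphic_distinguished _ hT _
    (Triangle.isoMk _ _ e₁ e e₃ ?_ ?_ ?_)
  · simp
  · simp
  · simp only [Triangle.mk_obj₁, Triangle.mk_obj₃, Triangle.mk_mor₃, Category.assoc,
      ← Functor.map_comp, Iso.inv_hom_id, CategoryTheory.Functor.map_id, Category.comp_id]

/-- an object with the five biproduct identities is a biproduct -/
@[simps]
noncomputable def isoBiprodOfTotal {X Y Z : C} (inl : X ⟶ Z) (inr : Y ⟶ Z) (fst : Z ⟶ X) (snd : Z ⟶ Y)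
    (h₁ : inl ≫ fst = 𝟙 X) (h₂ : inl ≫ snd = 0) (h₃ : inr ≫ fst = 0) (h₄ : inr ≫ snd = 𝟙 Y)
    (h₅ : fst ≫ inl + snd ≫ inr = 𝟙 Z) : Z ≅ X ⊞ Y where
  hom := biprod.lift fst snd
  inv := biprod.desc inl inr
  hom_inv_id := by rw [biprod.lift_desc, h₅]
  inv_hom_id := by ext <;> simp [h₁, h₂, h₃, h₄]

end Transport

section Triangle

variable {A : Type u} [Category.{v} A] [Abelian A] {B : Type u'} [Category.{v'} B] [Abelian B]
  [HasDerivedCategory.{w'} B]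
  {F₁ P Q F₃ : A ⥤ B} [F₁.Additive] [P.Additive] [Q.Additive] [F₃.Additive]
  (a₁ : F₁ ⟶ P) (a₂ : F₁ ⟶ Q) (b₁ : P ⟶ F₃) (b₂ : Q ⟶ F₃) (w : a₁ ≫ b₁ = a₂ ≫ b₂)

/-- `Q` of the termwise biproduct is the biproduct -/
noncomputable def bpIso (I : CochainComplex A ℤ) :
    (DerivedCategory.Q : _ ⥤ DerivedCategory B).obj (cx (bp P Q) I) ≅
      DerivedCategory.Q.obj (cx P I) ⊞ DerivedCategory.Q.obj (cx Q I) :=
  isoBiprodOfTotal
    (DerivedCategory.Q.map ((NatTrans.mapHomologicalComplex (binl P Q) _).app I))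
    (DerivedCategory.Q.map ((NatTrans.mapHomologicalComplex (binr P Q) _).app I))
    (DerivedCategory.Q.map ((NatTrans.mapHomologicalComplex (bfst P Q) _).app I))
    (DerivedCategory.Q.map ((NatTrans.mapHomologicalComplex (bsnd P Q) _).app I))
    (by
      have h : (NatTrans.mapHomologicalComplex (binl P Q) (ComplexShape.up ℤ)).app I ≫
          (NatTrans.mapHomologicalComplex (bfst P Q) (ComplexShape.up ℤ)).app I = 𝟙 _ := by
        ext n; simp
      rw [← Functor.map_comp, h, CategoryTheory.Functor.map_id])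
    (by
      have h : (NatTrans.mapHomologicalComplex (binl P Q) (ComplexShape.up ℤ)).app I ≫
          (NatTrans.mapHomologicalComplex (bsnd P Q) (ComplexShape.up ℤ)).app I = 0 := by
        ext n; simp
      rw [← Functor.map_comp, h, Functor.map_zero])
    (by
      have h : (NatTrans.mapHomologicalComplex (binr P Q) (ComplexShape.up ℤ)).app I ≫
          (NatTrans.mapHomologicalComplex (bfst P Q) (ComplexShape.up ℤ)).app I = 0 := by
        ext n; simp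
      rw [← Functor.map_comp, h, Functor.map_zero])
    (by
      have h : (NatTrans.mapHomologicalComplex (binr P Q) (ComplexShape.up ℤ)).app I ≫
          (NatTrans.mapHomologicalComplex (bsnd P Q) (ComplexShape.up ℤ)).app I = 𝟙 _ := by
        ext n; simp
      rw [← Functor.map_comp, h, CategoryTheory.Functor.map_id])
    (by
      have h : (NatTrans.mapHomologicalComplex (bfst P Q) (ComplexShape.up ℤ)).app I ≫
          (NatTrans.mapHomologicalComplex (binl P Q) (ComplexShape.up ℤ)).app I +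
          (NatTrans.mapHomologicalComplex (bsnd P Q) (ComplexShape.up ℤ)).app I ≫
          (NatTrans.mapHomologicalComplex (binr P Q) (ComplexShape.up ℤ)).app I = 𝟙 _ := by
        ext n; simp
      rw [← Functor.map_comp, ← Functor.map_comp, ← Functor.map_add, h, CategoryTheory.Functor.map_id])

theorem exists_triangle (I : CochainComplex A ℤ)
    (hI : ∀ n, (sc a₁ a₂ b₁ b₂ w (I.X n)).ShortExact) :
    ∃ (a : (DerivedCategory.Q : _ ⥤ DerivedCategory B).obj (cx F₁ I) ⟶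
        DerivedCategory.Q.obj (cx P I) ⊞ DerivedCategory.Q.obj (cx Q I))
      (b : DerivedCategory.Q.obj (cx P I) ⊞ DerivedCategory.Q.obj (cx Q I) ⟶
        DerivedCategory.Q.obj (cx F₃ I))
      (c : DerivedCategory.Q.obj (cx F₃ I) ⟶ (DerivedCategory.Q.obj (cx F₁ I))⟦(1 : ℤ)⟧),
      Triangle.mk a b c ∈ distTriang (DerivedCategory B) := by
  have hS := scCx_shortExact a₁ a₂ b₁ b₂ w I hI
  have hT := DerivedCategory.triangleOfSES_distinguished hS
  refine ⟨DerivedCategory.Q.map (scCx a₁ a₂ b₁ b₂ w I).f ≫ (bpIso I).hom,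
    (bpIso I).inv ≫ DerivedCategory.Q.map (scCx a₁ a₂ b₁ b₂ w I).g,
    DerivedCategory.triangleOfSESδ hS, ?_⟩
  refine isomorphic_distinguished _ hT _
    (Triangle.isoMk _ _ (Iso.refl _) (bpIso I).symm (Iso.refl _) ?_ ?_ ?_)
  · simp
  · simp
  · simp

end Triangle

section Main

universe w₁ v₁ u₁ w₂ v₂ u₂ w₃ v₃ u₃

variable {A : Type u} [Category.{v} A] [Abelian A] [IsGrothendieckAbelian.{v} A]
  [HasDerivedCategory.{w} A]

/-- value of a right derived functor at a K-injective complex -/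
noncomputable def objIso {H : Type*} [Category H]
    (Ψ : HomotopyCategory A (ComplexShape.up ℤ) ⥤ H) (RΨ : DerivedCategory A ⥤ H)
    (β : Ψ ⟶ DerivedCategory.Qh ⋙ RΨ)
    [RΨ.IsRightDerivedFunctor β (HomotopyCategory.quasiIso A (ComplexShape.up ℤ))]
    (I : CochainComplex A ℤ) [hI : I.IsKInjective] :
    RΨ.obj (DerivedCategory.Q.obj I) ≅
      Ψ.obj ((HomotopyCategory.quotient A (ComplexShape.up ℤ)).obj I) :=
  haveI := KInj.isIso_app_of_kInjK Ψ RΨ β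
    ((HomotopyCategory.quotient A (ComplexShape.up ℤ)).obj I) hI
  (asIso (β.app ((HomotopyCategory.quotient A (ComplexShape.up ℤ)).obj I))).symm

variable {B : Type u'} [Category.{v'} B] [Abelian B] [HasDerivedCategory.{w'} B]

/-- value of `Φ'`-derived after an exact functor `G` preserving K-injectives -/
noncomputable def pieceIso {A' : Type u₁} [Category.{v₁} A'] [Abelian A']
    [IsGrothendieckAbelian.{v₁} A'] [HasDerivedCategory.{w₁} A']
    (G : A ⥤ A') [G.Additive] [PreservesFiniteLimits G] [PreservesFiniteColimits G]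
    (hG : ∀ (I : CochainComplex A ℤ) [I.IsKInjective],
      CochainComplex.IsKInjective ((G.mapHomologicalComplex (ComplexShape.up ℤ)).obj I))
    (Φ' : A' ⥤ B) [Φ'.Additive] (RΦ' : DerivedCategory A' ⥤ DerivedCategory B)
    (β' : Φ'.mapHomotopyCategory (ComplexShape.up ℤ) ⋙ DerivedCategory.Qh ⟶
      DerivedCategory.Qh ⋙ RΦ')
    [RΦ'.IsRightDerivedFunctor β' (HomotopyCategory.quasiIso A' (ComplexShape.up ℤ))]
    (I : CochainComplex A ℤ) [I.IsKInjective] :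
    RΦ'.obj (G.mapDerivedCategory.obj (DerivedCategory.Q.obj I)) ≅
      DerivedCategory.Q.obj (cx (G ⋙ Φ') I) :=
  haveI := KInj.isRightDerivedFunctor_precomp G
    (Φ'.mapHomotopyCategory (ComplexShape.up ℤ) ⋙ DerivedCategory.Qh) RΦ' β' hG
  objIso (G.mapHomotopyCategory (ComplexShape.up ℤ) ⋙
      (Φ'.mapHomotopyCategory (ComplexShape.up ℤ) ⋙ DerivedCategory.Qh))
    (G.mapDerivedCategory ⋙ RΦ') (KInj.precompUnit G _ RΦ' β') I

/-- value of the derived functor of `Φ` at a K-injective complex -/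
noncomputable def baseIso (Φ : A ⥤ B) [Φ.Additive]
    (RΦ : DerivedCategory A ⥤ DerivedCategory B)
    (β : Φ.mapHomotopyCategory (ComplexShape.up ℤ) ⋙ DerivedCategory.Qh ⟶
      DerivedCategory.Qh ⋙ RΦ)
    [RΦ.IsRightDerivedFunctor β (HomotopyCategory.quasiIso A (ComplexShape.up ℤ))]
    (I : CochainComplex A ℤ) [I.IsKInjective] :
    RΦ.obj (DerivedCategory.Q.obj I) ≅ DerivedCategory.Q.obj (cx Φ I) :=
  objIso (Φ.mapHomotopyCategory (ComplexShape.up ℤ) ⋙ DerivedCategory.Qh) RΦ β I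

theorem exists_mv_triangle
    {A₁ : Type u₁} [Category.{v₁} A₁] [Abelian A₁] [IsGrothendieckAbelian.{v₁} A₁]
    [HasDerivedCategory.{w₁} A₁]
    {A₂ : Type u₂} [Category.{v₂} A₂] [Abelian A₂] [IsGrothendieckAbelian.{v₂} A₂]
    [HasDerivedCategory.{w₂} A₂]
    {A₃ : Type u₃} [Category.{v₃} A₃] [Abelian A₃] [IsGrothendieckAbelian.{v₃} A₃]
    [HasDerivedCategory.{w₃} A₃]
    (G₁ : A ⥤ A₁) [G₁.Additive] [PreservesFiniteLimits G₁] [PreservesFiniteColimits G₁]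
    (hG₁ : ∀ (I : CochainComplex A ℤ) [I.IsKInjective],
      CochainComplex.IsKInjective ((G₁.mapHomologicalComplex (ComplexShape.up ℤ)).obj I))
    (G₂ : A ⥤ A₂) [G₂.Additive] [PreservesFiniteLimits G₂] [PreservesFiniteColimits G₂]
    (hG₂ : ∀ (I : CochainComplex A ℤ) [I.IsKInjective],
      CochainComplex.IsKInjective ((G₂.mapHomologicalComplex (ComplexShape.up ℤ)).obj I))
    (G₃ : A ⥤ A₃) [G₃.Additive] [PreservesFiniteLimits G₃] [PreservesFiniteColimits G₃]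
    (hG₃ : ∀ (I : CochainComplex A ℤ) [I.IsKInjective],
      CochainComplex.IsKInjective ((G₃.mapHomologicalComplex (ComplexShape.up ℤ)).obj I))
    (Φ : A ⥤ B) [Φ.Additive] (Φ₁ : A₁ ⥤ B) [Φ₁.Additive] (Φ₂ : A₂ ⥤ B) [Φ₂.Additive]
    (Φ₃ : A₃ ⥤ B) [Φ₃.Additive]
    (RΦ : DerivedCategory A ⥤ DerivedCategory B)
    (β : Φ.mapHomotopyCategory (ComplexShape.up ℤ) ⋙ DerivedCategory.Qh ⟶
      DerivedCategory.Qh ⋙ RΦ)
    [RΦ.IsRightDerivedFunctor β (HomotopyCategory.quasiIso A (ComplexShape.up ℤ))]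
    (RΦ₁ : DerivedCategory A₁ ⥤ DerivedCategory B)
    (β₁ : Φ₁.mapHomotopyCategory (ComplexShape.up ℤ) ⋙ DerivedCategory.Qh ⟶
      DerivedCategory.Qh ⋙ RΦ₁)
    [RΦ₁.IsRightDerivedFunctor β₁ (HomotopyCategory.quasiIso A₁ (ComplexShape.up ℤ))]
    (RΦ₂ : DerivedCategory A₂ ⥤ DerivedCategory B)
    (β₂ : Φ₂.mapHomotopyCategory (ComplexShape.up ℤ) ⋙ DerivedCategory.Qh ⟶
      DerivedCategory.Qh ⋙ RΦ₂)
    [RΦ₂.IsRightDerivedFunctor β₂ (HomotopyCategory.quasiIso A₂ (ComplexShape.up ℤ))]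
    (RΦ₃ : DerivedCategory A₃ ⥤ DerivedCategory B)
    (β₃ : Φ₃.mapHomotopyCategory (ComplexShape.up ℤ) ⋙ DerivedCategory.Qh ⟶
      DerivedCategory.Qh ⋙ RΦ₃)
    [RΦ₃.IsRightDerivedFunctor β₃ (HomotopyCategory.quasiIso A₃ (ComplexShape.up ℤ))]
    (a₁ : Φ ⟶ G₁ ⋙ Φ₁) (a₂ : Φ ⟶ G₂ ⋙ Φ₂) (b₁ : G₁ ⋙ Φ₁ ⟶ G₃ ⋙ Φ₃)
    (b₂ : G₂ ⋙ Φ₂ ⟶ G₃ ⋙ Φ₃) (w : a₁ ≫ b₁ = a₂ ≫ b₂)
    (hex : ∀ J : A, Injective J → (sc a₁ a₂ b₁ b₂ w J).ShortExact)
    (E : DerivedCategory A) :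
    ∃ (a : RΦ.obj E ⟶ RΦ₁.obj (G₁.mapDerivedCategory.obj E) ⊞
        RΦ₂.obj (G₂.mapDerivedCategory.obj E))
      (b : RΦ₁.obj (G₁.mapDerivedCategory.obj E) ⊞ RΦ₂.obj (G₂.mapDerivedCategory.obj E) ⟶
        RΦ₃.obj (G₃.mapDerivedCategory.obj E))
      (c : RΦ₃.obj (G₃.mapDerivedCategory.obj E) ⟶ (RΦ.obj E)⟦(1 : ℤ)⟧),
      Triangle.mk a b c ∈ distTriang (DerivedCategory B) := by
  obtain ⟨I, f, hI, hf, -, hinj⟩ := KInj.exists_kInjective_resolution
    ((DerivedCategory.Q : _ ⥤ DerivedCategory A).objPreimage E)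
  have : IsIso ((DerivedCategory.Q : _ ⥤ DerivedCategory A).map f) := inferInstance
  let e : E ≅ DerivedCategory.Q.obj I :=
    (DerivedCategory.Q.objObjPreimageIso E).symm ≪≫ asIso (DerivedCategory.Q.map f)
  exact exists_triangle_of_isos
    (RΦ.mapIso e ≪≫ baseIso Φ RΦ β I)
    (RΦ₁.mapIso (G₁.mapDerivedCategory.mapIso e) ≪≫ pieceIso G₁ hG₁ Φ₁ RΦ₁ β₁ I)
    (RΦ₂.mapIso (G₂.mapDerivedCategory.mapIso e) ≪≫ pieceIso G₂ hG₂ Φ₂ RΦ₂ β₂ I)
    (RΦ₃.mapIso (G₃.mapDerivedCategory.mapIso e) ≪≫ pieceIso G₃ hG₃ Φ₃ RΦ₃ β₃ I)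
    (exists_triangle a₁ a₂ b₁ b₂ w I (fun n => hex _ (hinj n)))

end Main

end Groth.Agent.Lib.Helper99.MV
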