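import Mathlib
import Groth.Agent.Lib.Helper99.MVAbs

/-!
# Abstract Mayer–Vietoris triangles, variant with object isomorphisms as hypotheses (helper99)
-/

set_option autoImplicit false
set_option backward.isDefEq.respectTransparency false
set_option backward.defeqAttrib.useBackward true
universe w w' v v' u u' w₁ v₁ u₁ w₂ v₂ u₂ w₃ v₃ u₃
open CategoryTheory Limits Category Pretriangulated

namespace Groth.Agent.Lib.Helper99.MV

variable {A : Type u} [Category.{v} A] [Abelian A] [IsGrothendieckAbelian.{v} A]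
  [HasDerivedCategory.{w} A]
  {B : Type u'} [Category.{v'} B] [Abelian B] [HasDerivedCategory.{w'} B]

theorem exists_mv_triangle_of_isos
    {A₁ : Type u₁} [Category.{v₁} A₁] [Abelian A₁] [HasDerivedCategory.{w₁} A₁]
    {A₂ : Type u₂} [Category.{v₂} A₂] [Abelian A₂] [HasDerivedCategory.{w₂} A₂]
    {A₃ : Type u₃} [Category.{v₃} A₃] [Abelian A₃] [HasDerivedCategory.{w₃} A₃]
    (G₁ : A ⥤ A₁) [G₁.Additive] [PreservesFiniteLimits G₁] [PreservesFiniteColimits G₁]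
    (G₂ : A ⥤ A₂) [G₂.Additive] [PreservesFiniteLimits G₂] [PreservesFiniteColimits G₂]
    (G₃ : A ⥤ A₃) [G₃.Additive] [PreservesFiniteLimits G₃] [PreservesFiniteColimits G₃]
    (Φ : A ⥤ B) [Φ.Additive] (Φ₁ : A₁ ⥤ B) [Φ₁.Additive] (Φ₂ : A₂ ⥤ B) [Φ₂.Additive]
    (Φ₃ : A₃ ⥤ B) [Φ₃.Additive]
    (RΦ : DerivedCategory A ⥤ DerivedCategory B)
    (RΦ₁ : DerivedCategory A₁ ⥤ DerivedCategory B)
    (RΦ₂ : DerivedCategory A₂ ⥤ DerivedCategory B)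
    (RΦ₃ : DerivedCategory A₃ ⥤ DerivedCategory B)
    (h₀ : ∀ (I : CochainComplex A ℤ) [I.IsKInjective],
      Nonempty (RΦ.obj (DerivedCategory.Q.obj I) ≅ DerivedCategory.Q.obj (cx Φ I)))
    (h₁ : ∀ (I : CochainComplex A ℤ) [I.IsKInjective],
      Nonempty (RΦ₁.obj (G₁.mapDerivedCategory.obj (DerivedCategory.Q.obj I)) ≅
        DerivedCategory.Q.obj (cx (G₁ ⋙ Φ₁) I)))
    (h₂ : ∀ (I : CochainComplex A ℤ) [I.IsKInjective],
      Nonempty (RΦ₂.obj (G₂.mapDerivedCategory.obj (DerivedCategory.Q.obj I)) ≅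
        DerivedCategory.Q.obj (cx (G₂ ⋙ Φ₂) I)))
    (h₃ : ∀ (I : CochainComplex A ℤ) [I.IsKInjective],
      Nonempty (RΦ₃.obj (G₃.mapDerivedCategory.obj (DerivedCategory.Q.obj I)) ≅
        DerivedCategory.Q.obj (cx (G₃ ⋙ Φ₃) I)))
    (a₁ : Φ ⟶ G₁ ⋙ Φ₁) (a₂ : Φ ⟶ G₂ ⋙ Φ₂) (b₁ : G₁ ⋙ Φ₁ ⟶ G₃ ⋙ Φ₃)
    (b₂ : G₂ ⋙ Φ₂ ⟶ G₃ ⋙ Φ₃) (w : a₁ ≫ b₁ = a₂ ≫ b₂)
    (hex : ∀ J : A, Injective J → (sc a₁ a₂ b₁ b₂ w J).ShortExact)
    (E : DerivedCategory A) :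
    ∃ (a : RΦ.obj E ⟶ RΦ₁.obj (G₁.mapDerivedCategory.obj E) ⊞
        RΦ₂.obj (G₂.mapDerivedCategory.obj E))
      (b : RΦ₁.obj (G₁.mapDerivedCategory.obj E) ⊞ RΦ₂.obj (G₂.mapDerivedCategory.obj E) ⟶
        RΦ₃.obj (G₃.mapDerivedCategory.obj E))
      (c : RΦ₃.obj (G₃.mapDerivedCategory.obj E) ⟶ (RΦ.obj E)⟦(1 : ℤ)⟧),
      Triangle.mk a b c ∈ distTriang (DerivedCategory B) := by
  obtain ⟨I, f, hI, hf, -, hinj⟩ := KInj.exists_kInjective_resolution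
    ((DerivedCategory.Q : _ ⥤ DerivedCategory A).objPreimage E)
  have : IsIso ((DerivedCategory.Q : _ ⥤ DerivedCategory A).map f) := inferInstance
  let e : E ≅ DerivedCategory.Q.obj I :=
    (DerivedCategory.Q.objObjPreimageIso E).symm ≪≫ asIso (DerivedCategory.Q.map f)
  obtain ⟨e₀⟩ := h₀ I
  obtain ⟨e₁⟩ := h₁ I
  obtain ⟨e₂⟩ := h₂ I
  obtain ⟨e₃⟩ := h₃ I
  exact exists_triangle_of_isos
    (RΦ.mapIso e ≪≫ e₀)
    (RΦ₁.mapIso (G₁.mapDerivedCategory.mapIso e) ≪≫ e₁)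
    (RΦ₂.mapIso (G₂.mapDerivedCategory.mapIso e) ≪≫ e₂)
    (RΦ₃.mapIso (G₃.mapDerivedCategory.mapIso e) ≪≫ e₃)
    (exists_triangle a₁ a₂ b₁ b₂ w I (fun n => hex _ (hinj n)))

/-- the identity functor, termwise -/
noncomputable def idCxIso (I : CochainComplex A ℤ) :
    (𝟭 (DerivedCategory A)).obj (DerivedCategory.Q.obj I) ≅
      DerivedCategory.Q.obj (cx (𝟭 A) I) :=
  DerivedCategory.Q.mapIso ((Functor.mapHomologicalComplexIdIso A (ComplexShape.up ℤ)).app I).symm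

end Groth.Agent.Lib.Helper99.MV
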