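import Mathlib
import Groth.Agent.Lib.Helper99.MVAbs
import Groth.Agent.Lib.Helper99.RestrKInj
import Groth.Agent.S11319
import Groth.Agent.Lib.Cohomology.Helper3_SheafExact

set_option autoImplicit false
universe u
open CategoryTheory Limits AlgebraicGeometry Opposite TopologicalSpace

namespace Groth.Agent.Lib.Helper99.MVSch

/-- Mayer–Vietoris exactness for four maps of abelian groups -/
structure MVExact {G₁ G₂ G₂' G₃ : Type*} [Zero G₁] [Zero G₂] [Zero G₂']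
    (a₁ : G₁ → G₂) (a₂ : G₁ → G₂') (b₁ : G₂ → G₃) (b₂ : G₂' → G₃) : Prop where
  inj : ∀ s, a₁ s = 0 → a₂ s = 0 → s = 0
  mid : ∀ p q, b₁ p = b₂ q → ∃ s, a₁ s = p ∧ a₂ s = q
  surj : ∀ t, ∃ p, b₁ p = t

theorem MVExact.of_factor {G₁ G₂ G₂' G₃ : Type*} [Zero G₁] [Zero G₂] [Zero G₂']
    {a₁ : G₁ → G₂} {a₂ : G₁ → G₂'} {b₁ : G₂ → G₃} {b₂ : G₂' → G₃} (c : G₁ → G₃)
    (hb₁ : ∀ s, b₁ (a₁ s) = c s) (hb₂ : ∀ s, b₂ (a₂ s) = c s)
    (ha₁ : Function.Surjective a₁) (ha₂ : Function.Surjective a₂) (hc : Function.Surjective c)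
    (inj : ∀ s, a₁ s = 0 → a₂ s = 0 → s = 0)
    (glue : ∀ s₁ s₂, c s₁ = c s₂ → ∃ s, a₁ s = a₁ s₁ ∧ a₂ s = a₂ s₂) : MVExact a₁ a₂ b₁ b₂ := by
  refine ⟨inj, fun p q h => ?_, fun t => ?_⟩
  · obtain ⟨s₁, rfl⟩ := ha₁ p
    obtain ⟨s₂, rfl⟩ := ha₂ q
    rw [hb₁, hb₂] at h
    exact glue s₁ s₂ h
  · obtain ⟨s, rfl⟩ := hc t
    exact ⟨a₁ s, hb₁ s⟩

section LemmaG

variable {C : Type*} [Category C] [Preadditive C] [HasBinaryBiproducts C]
  (Γ : C ⥤ AddCommGrpCat.{u}) [Γ.Additive]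
  {X P Q Z : C} (a₁ : X ⟶ P) (a₂ : X ⟶ Q) (b₁ : P ⟶ Z) (b₂ : Q ⟶ Z)

lemma biprod_eq (x : Γ.obj (P ⊞ Q)) :
    x = Γ.map biprod.inl (Γ.map biprod.fst x) + Γ.map biprod.inr (Γ.map biprod.snd x) := by
  have h := congrArg (fun φ => Γ.map φ) (biprod.total (X := P) (Y := Q))
  simp only [Functor.map_add, Functor.map_comp, CategoryTheory.Functor.map_id] at h
  have := congrArg (fun φ : Γ.obj (P ⊞ Q) ⟶ Γ.obj (P ⊞ Q) => φ x) h
  simpa using this.symm

lemma biprod_ext (x y : Γ.obj (P ⊞ Q)) (h1 : Γ.map biprod.fst x = Γ.map biprod.fst y)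
    (h2 : Γ.map biprod.snd x = Γ.map biprod.snd y) : x = y := by
  rw [biprod_eq Γ x, biprod_eq Γ y, h1, h2]

lemma map_comp_apply {X Y Z : C} (f : X ⟶ Y) (g : Y ⟶ Z) (x : Γ.obj X) :
    Γ.map (f ≫ g) x = Γ.map g (Γ.map f x) := by
  rw [Functor.map_comp]; rfl

variable {Γ a₁ a₂ b₁ b₂}

lemma lift_injective (h : MVExact (Γ.map a₁) (Γ.map a₂) (Γ.map b₁) (Γ.map b₂)) :
    Function.Injective (Γ.map (biprod.lift a₁ a₂)) := by
  rw [injective_iff_map_eq_zero]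
  intro s hs
  apply h.inj
  · have := congrArg (Γ.map biprod.fst) hs
    rwa [← map_comp_apply, biprod.lift_fst, map_zero] at this
  · have := congrArg (Γ.map biprod.snd) hs
    rwa [← map_comp_apply, biprod.lift_snd, map_zero] at this

lemma exact_mid (h : MVExact (Γ.map a₁) (Γ.map a₂) (Γ.map b₁) (Γ.map b₂))
    (x : Γ.obj (P ⊞ Q)) (hx : Γ.map (biprod.desc b₁ (-b₂)) x = 0) :
    ∃ y, Γ.map (biprod.lift a₁ a₂) y = x := by
  have hd : biprod.desc b₁ (-b₂) = biprod.fst ≫ b₁ - biprod.snd ≫ b₂ := by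
    ext <;> simp
  rw [hd, Functor.map_sub] at hx
  have hx' : Γ.map b₁ (Γ.map biprod.fst x) = Γ.map b₂ (Γ.map biprod.snd x) := by
    rw [← map_comp_apply, ← map_comp_apply]
    exact sub_eq_zero.1 hx
  obtain ⟨s, hs1, hs2⟩ := h.mid _ _ hx'
  refine ⟨s, biprod_ext Γ _ _ ?_ ?_⟩
  · rw [← map_comp_apply, biprod.lift_fst, hs1]
  · rw [← map_comp_apply, biprod.lift_snd, hs2]

lemma desc_surjective (h : MVExact (Γ.map a₁) (Γ.map a₂) (Γ.map b₁) (Γ.map b₂)) :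
    Function.Surjective (Γ.map (biprod.desc b₁ (-b₂))) := by
  intro t
  obtain ⟨p, hp⟩ := h.surj t
  refine ⟨Γ.map biprod.inl p, ?_⟩
  rw [← map_comp_apply, biprod.inl_desc, hp]

end LemmaG

theorem mvExact_of_injective {X : Scheme.{u}} (J : X.Modules) (hJ : Injective J)
    {O O₁ O₂ O₃ : X.Opens} (i₁ : O₁ ⟶ O) (i₂ : O₂ ⟶ O) (j₁ : O₃ ⟶ O₁) (j₂ : O₃ ⟶ O₂)
    (hcov : O ≤ O₁ ⊔ O₂) (hint : O₁ ⊓ O₂ ≤ O₃) :
    MVExact (J.presheaf.map i₁.op) (J.presheaf.map i₂.op) (J.presheaf.map j₁.op)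
      (J.presheaf.map j₂.op) := by
  have hfl : TopCat.Sheaf.IsFlasque (Coh.toAb J) :=
    Groth.Agent.S11319.isFlasque_toAb_of_injective J hJ
  refine ⟨fun s h1 h2 => ?_, fun p q h => ?_, fun t => ?_⟩
  · refine TopCat.Sheaf.eq_of_locally_eq₂ (C := AddCommGrpCat.{u}) (Coh.toAb J) i₁ i₂ hcov s 0 ?_ ?_
    · rw [map_zero]; exact h1
    · rw [map_zero]; exact h2
  · exact Groth.Agent.Lib.Cohomology.glue₂ (X := X.toTopCat) (Coh.toAb J) i₁ i₂ j₁ j₂ hint hcov p q h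
  · have hepi := TopCat.Presheaf.IsFlasque.epi (F := (Coh.toAb J).obj) j₁.op
    rw [AddCommGrpCat.epi_iff_surjective] at hepi
    exact hepi t


theorem mvExact_of_injective_of_factor {X : Scheme.{u}} (J : X.Modules) (hJ : Injective J)
    {O O₁ O₂ O₃ : X.Opens} (i₁ : O₁ ⟶ O) (i₂ : O₂ ⟶ O) (i₃ : O₃ ⟶ O) (j₁ : O₃ ⟶ O₁)
    (j₂ : O₃ ⟶ O₂) (hcov : O ≤ O₁ ⊔ O₂) (hint : O₁ ⊓ O₂ ≤ O₃)
    (b₁ : Γ(J, O₁) → Γ(J, O₃)) (b₂ : Γ(J, O₂) → Γ(J, O₃))
    (hb₁ : ∀ s, b₁ (J.presheaf.map i₁.op s) = J.presheaf.map i₃.op s)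
    (hb₂ : ∀ s, b₂ (J.presheaf.map i₂.op s) = J.presheaf.map i₃.op s) :
    MVExact (J.presheaf.map i₁.op) (J.presheaf.map i₂.op) b₁ b₂ := by
  have E := mvExact_of_injective J hJ i₁ i₂ j₁ j₂ hcov hint
  have hfl : TopCat.Sheaf.IsFlasque (Coh.toAb J) :=
    Groth.Agent.S11319.isFlasque_toAb_of_injective J hJ
  have hsurj : ∀ {A B : X.Opens} (i : A ⟶ B), Function.Surjective (J.presheaf.map i.op) := by
    intro A B i
    have hepi := TopCat.Presheaf.IsFlasque.epi (F := (Coh.toAb J).obj) i.op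
    rw [AddCommGrpCat.epi_iff_surjective] at hepi
    exact hepi
  have hres : ∀ {A B C : X.Opens} (i : A ⟶ B) (j : B ⟶ C) (k : A ⟶ C) (s : Γ(J, C)),
      J.presheaf.map i.op (J.presheaf.map j.op s) = J.presheaf.map k.op s := by
    intro A B C i j k s
    have : k = i ≫ j := Subsingleton.elim _ _
    rw [this, op_comp, Functor.map_comp]
    rfl
  refine MVExact.of_factor (J.presheaf.map i₃.op) hb₁ hb₂ (hsurj i₁) (hsurj i₂) (hsurj i₃) E.inj ?_
  intro s₁ s₂ h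
  refine E.mid _ _ ?_
  rw [hres j₁ i₁ i₃, hres j₂ i₂ i₃, h]

variable {X : Scheme.{u}}

/-- the functor `M ↦ j_*(M|_U)` -/
noncomputable abbrev R (U : X.Opens) : X.Modules ⥤ X.Modules :=
  Scheme.Modules.restrictFunctor U.ι ⋙ Scheme.Modules.pushforward U.ι

/-- the unit `M ⟶ j_*(M|_U)` -/
noncomputable abbrev eta (U : X.Opens) : 𝟭 X.Modules ⟶ R U :=
  (Scheme.Modules.restrictAdjunction U.ι).unit

instance isIso_restr_eta (U : X.Opens) (M : X.Modules) :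
    IsIso ((Scheme.Modules.restrictFunctor U.ι).map ((eta U).app M)) := by
  have h := (Scheme.Modules.restrictAdjunction U.ι).left_triangle_components M
  have h2 : IsIso ((Scheme.Modules.restrictFunctor U.ι).map ((eta U).app M) ≫
      (Scheme.Modules.restrictAdjunction U.ι).counit.app
        ((Scheme.Modules.restrictFunctor U.ι).obj M)) := by
    rw [h]; infer_instance
  exact IsIso.of_isIso_comp_right _
    ((Scheme.Modules.restrictAdjunction U.ι).counit.app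
        ((Scheme.Modules.restrictFunctor U.ι).obj M))

theorem isIso_restr_eta_of_le {U W : X.Opens} (h : W ≤ U) (M : X.Modules) :
    IsIso ((Scheme.Modules.restrictFunctor W.ι).map ((eta U).app M)) := by
  let e : Scheme.Modules.restrictFunctor W.ι ≅
      Scheme.Modules.restrictFunctor U.ι ⋙ Scheme.Modules.restrictFunctor (X.homOfLE h) :=
    (Scheme.Modules.restrictFunctorCongr (X.homOfLE_ι h)).symm ≪≫
      Scheme.Modules.restrictFunctorComp (X.homOfLE h) U.ι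
  rw [NatIso.isIso_map_iff e]
  dsimp only [Functor.comp_map]
  infer_instance

theorem isIso_whiskerRight_eta {U W : X.Opens} (h : W ≤ U) :
    IsIso (Functor.whiskerRight (eta U) (R W)) := by
  have : ∀ M, IsIso ((Functor.whiskerRight (eta U) (R W)).app M) := fun M => by
    have := isIso_restr_eta_of_le h M
    simp only [Functor.whiskerRight_app, Functor.comp_map]
    infer_instance
  exact NatIso.isIso_of_isIso_app _

/-- the inverse of `R_W(η^U)` for `W ≤ U` -/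
noncomputable def rhoInv {U W : X.Opens} (h : W ≤ U) : R U ⋙ R W ⟶ R W :=
  haveI := isIso_whiskerRight_eta h
  inv (Functor.whiskerRight (eta U) (R W))

theorem map_eta_rhoInv {U W : X.Opens} (h : W ≤ U) (M : X.Modules) :
    (R W).map ((eta U).app M) ≫ (rhoInv h).app M = 𝟙 _ := by
  haveI := isIso_whiskerRight_eta h
  have := congrArg (fun t => t.app M) (IsIso.hom_inv_id (Functor.whiskerRight (eta U) (R W)))
  exact this

/-- restriction `j_{U,*}(M|_U) ⟶ j_{W,*}(M|_W)` for `W ≤ U` -/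
noncomputable def rho {U W : X.Opens} (h : W ≤ U) : R U ⟶ R W :=
  (show R U ⟶ R U ⋙ R W from Functor.whiskerLeft (R U) (eta W)) ≫ rhoInv h

theorem rho_app {U W : X.Opens} (h : W ≤ U) (M : X.Modules) :
    (rho h).app M = (eta W).app ((R U).obj M) ≫ (rhoInv h).app M := rfl

theorem eta_rho_app {U W : X.Opens} (h : W ≤ U) (M : X.Modules) :
    (eta U).app M ≫ (rho h).app M = (eta W).app M := by
  have hnat : (eta U).app M ≫ (eta W).app ((R U).obj M) =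
      (eta W).app M ≫ (R W).map ((eta U).app M) := (eta W).naturality ((eta U).app M)
  rw [rho_app, ← Category.assoc, hnat, Category.assoc, map_eta_rhoInv]
  exact Category.comp_id _

theorem eta_rho {U W : X.Opens} (h : W ≤ U) : eta U ≫ rho h = eta W := by
  ext M : 2
  exact eta_rho_app h M

section Generic

variable {B : Type*} [Category B] (T : X.Modules ⥤ B)

/-- `T ⟶ (restrict to U) ⋙ Φ` for `Φ ≅ j_* ⋙ T` -/
noncomputable def aT {U : X.Opens} {Φ : (U : Scheme.{u}).Modules ⥤ B}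
    (θ : Scheme.Modules.pushforward U.ι ⋙ T ≅ Φ) :
    T ⟶ Scheme.Modules.restrictFunctor U.ι ⋙ Φ :=
  (show T ⟶ R U ⋙ T from Functor.whiskerRight (eta U) T) ≫
    (show R U ⋙ T ⟶ Scheme.Modules.restrictFunctor U.ι ⋙ Φ from
      Functor.whiskerLeft (Scheme.Modules.restrictFunctor U.ι) θ.hom)

theorem aT_app {U : X.Opens} {Φ : (U : Scheme.{u}).Modules ⥤ B}
    (θ : Scheme.Modules.pushforward U.ι ⋙ T ≅ Φ) (M : X.Modules) :
    (aT T θ).app M = T.map ((eta U).app M) ≫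
      θ.hom.app ((Scheme.Modules.restrictFunctor U.ι).obj M) := rfl

/-- the restriction maps between the `(restrict to U) ⋙ Φ` -/
noncomputable def bT {U W : X.Opens} (h : W ≤ U) {ΦU : (U : Scheme.{u}).Modules ⥤ B}
    {ΦW : (W : Scheme.{u}).Modules ⥤ B}
    (θU : Scheme.Modules.pushforward U.ι ⋙ T ≅ ΦU)
    (θW : Scheme.Modules.pushforward W.ι ⋙ T ≅ ΦW) :
    Scheme.Modules.restrictFunctor U.ι ⋙ ΦU ⟶ Scheme.Modules.restrictFunctor W.ι ⋙ ΦW :=
  (show Scheme.Modules.restrictFunctor U.ι ⋙ ΦU ⟶ R U ⋙ T from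
      Functor.whiskerLeft (Scheme.Modules.restrictFunctor U.ι) θU.inv) ≫
    Functor.whiskerRight (rho h) T ≫
    (show R W ⋙ T ⟶ Scheme.Modules.restrictFunctor W.ι ⋙ ΦW from
      Functor.whiskerLeft (Scheme.Modules.restrictFunctor W.ι) θW.hom)

theorem bT_app {U W : X.Opens} (h : W ≤ U) {ΦU : (U : Scheme.{u}).Modules ⥤ B}
    {ΦW : (W : Scheme.{u}).Modules ⥤ B}
    (θU : Scheme.Modules.pushforward U.ι ⋙ T ≅ ΦU)
    (θW : Scheme.Modules.pushforward W.ι ⋙ T ≅ ΦW) (M : X.Modules) :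
    (bT T h θU θW).app M = θU.inv.app ((Scheme.Modules.restrictFunctor U.ι).obj M) ≫
      T.map ((rho h).app M) ≫ θW.hom.app ((Scheme.Modules.restrictFunctor W.ι).obj M) := rfl

theorem aT_bT_app {U W : X.Opens} (h : W ≤ U) {ΦU : (U : Scheme.{u}).Modules ⥤ B}
    {ΦW : (W : Scheme.{u}).Modules ⥤ B}
    (θU : Scheme.Modules.pushforward U.ι ⋙ T ≅ ΦU)
    (θW : Scheme.Modules.pushforward W.ι ⋙ T ≅ ΦW) (M : X.Modules) :
    (aT T θU).app M ≫ (bT T h θU θW).app M = (aT T θW).app M := by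
  rw [aT_app, bT_app, aT_app, Category.assoc, Iso.hom_inv_id_app_assoc, ← Functor.map_comp_assoc,
    eta_rho_app]

theorem aT_bT {U W : X.Opens} (h : W ≤ U) {ΦU : (U : Scheme.{u}).Modules ⥤ B}
    {ΦW : (W : Scheme.{u}).Modules ⥤ B}
    (θU : Scheme.Modules.pushforward U.ι ⋙ T ≅ ΦU)
    (θW : Scheme.Modules.pushforward W.ι ⋙ T ≅ ΦW) :
    aT T θU ≫ bT T h θU θW = aT T θW := by
  ext M : 2
  exact aT_bT_app T h θU θW M

end Generic

section Case2

variable {Y : Scheme.{u}} (f : X ⟶ Y)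

theorem aT_push_app_app (U : X.Opens) (M : X.Modules) (O : Y.Opens) :
    ((aT (Scheme.Modules.pushforward f) (Scheme.Modules.pushforwardComp U.ι f)).app M).app O =
      (show Γ((Scheme.Modules.pushforward f).obj M, O) ⟶
        Γ((Scheme.Modules.restrictFunctor U.ι ⋙ Scheme.Modules.pushforward (U.ι ≫ f)).obj M, O) from
      M.presheaf.map (homOfLE (U.ι.image_preimage_le (f ⁻¹ᵁ O))).op) := by
  rw [aT_app]
  simp
  rfl

theorem img_eq (U O : X.Opens) : U.ι ''ᵁ U.ι ⁻¹ᵁ O = U ⊓ O := by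
  rw [Scheme.Hom.image_preimage_eq_opensRange_inf, Scheme.Opens.opensRange_ι]

theorem img_le (U O : X.Opens) : U.ι ''ᵁ U.ι ⁻¹ᵁ O ≤ O := by
  rw [img_eq]; exact inf_le_right

theorem img_mono {U W : X.Opens} (h : W ≤ U) (O : X.Opens) :
    W.ι ''ᵁ W.ι ⁻¹ᵁ O ≤ U.ι ''ᵁ U.ι ⁻¹ᵁ O := by
  rw [img_eq, img_eq]; exact inf_le_inf_right _ h

theorem img_cover {U V : X.Opens} (hUV : U ⊔ V = ⊤) (O : X.Opens) :
    O ≤ U.ι ''ᵁ U.ι ⁻¹ᵁ O ⊔ V.ι ''ᵁ V.ι ⁻¹ᵁ O := by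
  rw [img_eq, img_eq, ← inf_sup_right, hUV, top_inf_eq]

theorem img_inter (U V O : X.Opens) :
    U.ι ''ᵁ U.ι ⁻¹ᵁ O ⊓ V.ι ''ᵁ V.ι ⁻¹ᵁ O ≤ (U ⊓ V).ι ''ᵁ (U ⊓ V).ι ⁻¹ᵁ O := by
  rw [img_eq, img_eq, img_eq]
  exact le_inf (inf_le_inf inf_le_left inf_le_left) (inf_le_of_left_le inf_le_right)

theorem mvExact_case2 (U V : X.Opens) (hUV : U ⊔ V = ⊤) (J : X.Modules) (hJ : Injective J)
    (O : Y.Opens) :
    MVExact
      (((aT (Scheme.Modules.pushforward f) (Scheme.Modules.pushforwardComp U.ι f)).app J).app O)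
      (((aT (Scheme.Modules.pushforward f) (Scheme.Modules.pushforwardComp V.ι f)).app J).app O)
      (((bT (Scheme.Modules.pushforward f) (inf_le_left : U ⊓ V ≤ U)
        (Scheme.Modules.pushforwardComp U.ι f)
        (Scheme.Modules.pushforwardComp (U ⊓ V).ι f)).app J).app O)
      (((bT (Scheme.Modules.pushforward f) (inf_le_right : U ⊓ V ≤ V)
        (Scheme.Modules.pushforwardComp V.ι f)
        (Scheme.Modules.pushforwardComp (U ⊓ V).ι f)).app J).app O) := by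
  have h1 := congrArg (fun t => t.app O) (aT_bT_app (Scheme.Modules.pushforward f)
    (inf_le_left : U ⊓ V ≤ U) (Scheme.Modules.pushforwardComp U.ι f)
        (Scheme.Modules.pushforwardComp (U ⊓ V).ι f) J)
  have h2 := congrArg (fun t => t.app O) (aT_bT_app (Scheme.Modules.pushforward f)
    (inf_le_right : U ⊓ V ≤ V) (Scheme.Modules.pushforwardComp V.ι f)
        (Scheme.Modules.pushforwardComp (U ⊓ V).ι f) J)
  simp only [Scheme.Modules.Hom.comp_app] at h1 h2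
  rw [aT_push_app_app, aT_push_app_app] at h1 h2
  rw [aT_push_app_app, aT_push_app_app]
  exact mvExact_of_injective_of_factor J hJ (homOfLE (img_le U (f ⁻¹ᵁ O)))
    (homOfLE (img_le V (f ⁻¹ᵁ O))) (homOfLE (img_le (U ⊓ V) (f ⁻¹ᵁ O)))
    (homOfLE (img_mono inf_le_left (f ⁻¹ᵁ O))) (homOfLE (img_mono inf_le_right (f ⁻¹ᵁ O)))
    (img_cover hUV _) (img_inter U V _) _ _
    (fun s => ConcreteCategory.congr_hom h1 s) (fun s => ConcreteCategory.congr_hom h2 s)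

end Case2

section Exactness

open Groth.Agent.Lib.Cohomology.HHLES in
theorem shortExact_of_sections {Y : Scheme.{u}} (S : ShortComplex Y.Modules)
    (h1 : ∀ W : Y.Opens, Function.Injective (S.f.app W))
    (h2 : ∀ (W : Y.Opens) (x : Γ(S.X₂, W)), S.g.app W x = 0 → ∃ y, S.f.app W y = x)
    (h3 : ∀ W : Y.Opens, Function.Surjective (S.g.app W)) : S.ShortExact := by
  haveI : (toAbF Y).Faithful := inferInstanceAs (SheafOfModules.toSheaf.{u} (RR Y)).Faithful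
  exact CategoryTheory.ShortExact.reflects_shortExact_of_faithful (toAbF Y)
    (Groth.Agent.Lib.Cohomology.shortExact_of_sections (S.map (toAbF Y)) h1 h2 h3)

/-- the sections functor -/
noncomputable def sect (Y : Scheme.{u}) (W : Y.Opens) : Y.Modules ⥤ AddCommGrpCat.{u} :=
  Scheme.Modules.toPresheaf Y ⋙ (evaluation _ _).obj (op W)

instance (Y : Scheme.{u}) (W : Y.Opens) : (sect Y W).Additive where
  map_add := by intros; rfl

theorem sect_map {Y : Scheme.{u}} (W : Y.Opens) {M N : Y.Modules} (φ : M ⟶ N) :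
    (sect Y W).map φ = φ.app W := rfl

theorem sc_shortExact_modules {A : Type*} [Category A] [Abelian A] {Y : Scheme.{u}}
    {F₁ P Q F₃ : A ⥤ Y.Modules} [F₁.Additive] [P.Additive] [Q.Additive] [F₃.Additive]
    (a₁ : F₁ ⟶ P) (a₂ : F₁ ⟶ Q) (b₁ : P ⟶ F₃) (b₂ : Q ⟶ F₃) (w : a₁ ≫ b₁ = a₂ ≫ b₂) (J : A)
    (h : ∀ W : Y.Opens, MVExact ((a₁.app J).app W) ((a₂.app J).app W) ((b₁.app J).app W)
      ((b₂.app J).app W)) : (MV.sc a₁ a₂ b₁ b₂ w J).ShortExact :=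
  shortExact_of_sections _
    (fun W => lift_injective (Γ := sect Y W) (h W))
    (fun W x hx => exact_mid (Γ := sect Y W) (h W) x hx)
    (fun W => desc_surjective (Γ := sect Y W) (h W))

theorem sc_shortExact_ab {A : Type*} [Category A] [Abelian A]
    {F₁ P Q F₃ : A ⥤ AddCommGrpCat.{u}} [F₁.Additive] [P.Additive] [Q.Additive] [F₃.Additive]
    (a₁ : F₁ ⟶ P) (a₂ : F₁ ⟶ Q) (b₁ : P ⟶ F₃) (b₂ : Q ⟶ F₃) (w : a₁ ≫ b₁ = a₂ ≫ b₂) (J : A)
    (h : MVExact (a₁.app J) (a₂.app J) (b₁.app J) (b₂.app J)) :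
    (MV.sc a₁ a₂ b₁ b₂ w J).ShortExact := by
  have hm : Mono (MV.sc a₁ a₂ b₁ b₂ w J).f :=
    (AddCommGrpCat.mono_iff_injective _).2 (lift_injective (Γ := 𝟭 AddCommGrpCat.{u}) h)
  have he : Epi (MV.sc a₁ a₂ b₁ b₂ w J).g :=
    (AddCommGrpCat.epi_iff_surjective _).2 (desc_surjective (Γ := 𝟭 AddCommGrpCat.{u}) h)
  refine ShortComplex.ShortExact.mk ?_
  rw [ShortComplex.ab_exact_iff]
  exact fun x hx => exact_mid (Γ := 𝟭 AddCommGrpCat.{u}) h x hx

end Exactness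

end Groth.Agent.Lib.Helper99.MVSch
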