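import Mathlib
import Groth.Agent.Lib.Helper99.MVSch
import Groth.Agent.Lib.Helper99.MVAbs2

/-!
# Mayer–Vietoris: the absolute case and the global sections case (helper99)
-/

set_option autoImplicit false
universe u
open CategoryTheory Limits AlgebraicGeometry Opposite TopologicalSpace

namespace Groth.Agent.Lib.Helper99.MVSch

variable {X : Scheme.{u}}

section Case1

theorem aT_id_app_app (U : X.Opens) (M : X.Modules) (O : X.Opens) :
    ((aT (𝟭 X.Modules) (Functor.rightUnitor (Scheme.Modules.pushforward U.ι))).app M).app O =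
      (show Γ(M, O) ⟶ Γ((R U).obj M, O) from
      M.presheaf.map (homOfLE (U.ι.image_preimage_le O)).op) := by
  rw [aT_app]
  simp

theorem mvExact_case1 (U V : X.Opens) (hUV : U ⊔ V = ⊤) (J : X.Modules) (hJ : Injective J)
    (O : X.Opens) :
    MVExact
      (((aT (𝟭 X.Modules) (Functor.rightUnitor (Scheme.Modules.pushforward U.ι))).app J).app O)
      (((aT (𝟭 X.Modules) (Functor.rightUnitor (Scheme.Modules.pushforward V.ι))).app J).app O)
      (((bT (𝟭 X.Modules) (inf_le_left : U ⊓ V ≤ U)
        (Functor.rightUnitor (Scheme.Modules.pushforward U.ι))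
        (Functor.rightUnitor (Scheme.Modules.pushforward (U ⊓ V).ι))).app J).app O)
      (((bT (𝟭 X.Modules) (inf_le_right : U ⊓ V ≤ V)
        (Functor.rightUnitor (Scheme.Modules.pushforward V.ι))
        (Functor.rightUnitor (Scheme.Modules.pushforward (U ⊓ V).ι))).app J).app O) := by
  have h1 := congrArg (fun t => t.app O) (aT_bT_app (𝟭 X.Modules)
    (inf_le_left : U ⊓ V ≤ U) (Functor.rightUnitor (Scheme.Modules.pushforward U.ι))
        (Functor.rightUnitor (Scheme.Modules.pushforward (U ⊓ V).ι)) J)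
  have h2 := congrArg (fun t => t.app O) (aT_bT_app (𝟭 X.Modules)
    (inf_le_right : U ⊓ V ≤ V) (Functor.rightUnitor (Scheme.Modules.pushforward V.ι))
        (Functor.rightUnitor (Scheme.Modules.pushforward (U ⊓ V).ι)) J)
  simp only [Scheme.Modules.Hom.comp_app] at h1 h2
  rw [aT_id_app_app, aT_id_app_app] at h1 h2
  rw [aT_id_app_app, aT_id_app_app]
  exact mvExact_of_injective_of_factor J hJ (homOfLE (img_le U O))
    (homOfLE (img_le V O)) (homOfLE (img_le (U ⊓ V) O))
    (homOfLE (img_mono inf_le_left O)) (homOfLE (img_mono inf_le_right O))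
    (img_cover hUV _) (img_inter U V _) _ _
    (fun s => ConcreteCategory.congr_hom h1 s) (fun s => ConcreteCategory.congr_hom h2 s)

end Case1

section Case3

/-- global sections of a pushforward along an open immersion -/
noncomputable def gPush (U : X.Opens) :
    Scheme.Modules.pushforward U.ι ⋙ DCoh.gammaAb X ≅ DCoh.gammaAb (U : Scheme.{u}) :=
  NatIso.ofComponents (fun N => Iso.refl _) (by intros; rfl)

theorem gammaAb_map {M N : X.Modules} (φ : M ⟶ N) : (DCoh.gammaAb X).map φ = φ.app ⊤ := rfl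

theorem aT_gamma_app (U : X.Opens) (M : X.Modules) :
    (aT (DCoh.gammaAb X) (gPush U)).app M =
      (show (DCoh.gammaAb X).obj M ⟶
        (Scheme.Modules.restrictFunctor U.ι ⋙ DCoh.gammaAb (U : Scheme.{u})).obj M from
      M.presheaf.map (homOfLE (U.ι.image_preimage_le ⊤)).op) := by
  rw [aT_app, gammaAb_map]
  simp [gPush]
  rfl

theorem mvExact_case3 (U V : X.Opens) (hUV : U ⊔ V = ⊤) (J : X.Modules) (hJ : Injective J) :
    MVExact
      ((aT (DCoh.gammaAb X) (gPush U)).app J)
      ((aT (DCoh.gammaAb X) (gPush V)).app J)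
      ((bT (DCoh.gammaAb X) (inf_le_left : U ⊓ V ≤ U) (gPush U) (gPush (U ⊓ V))).app J)
      ((bT (DCoh.gammaAb X) (inf_le_right : U ⊓ V ≤ V) (gPush V) (gPush (U ⊓ V))).app J) := by
  have h1 := aT_bT_app (DCoh.gammaAb X) (inf_le_left : U ⊓ V ≤ U) (gPush U) (gPush (U ⊓ V)) J
  have h2 := aT_bT_app (DCoh.gammaAb X) (inf_le_right : U ⊓ V ≤ V) (gPush V) (gPush (U ⊓ V)) J
  rw [aT_gamma_app, aT_gamma_app] at h1 h2
  rw [aT_gamma_app, aT_gamma_app]
  exact mvExact_of_injective_of_factor J hJ (homOfLE (img_le U ⊤))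
    (homOfLE (img_le V ⊤)) (homOfLE (img_le (U ⊓ V) ⊤))
    (homOfLE (img_mono inf_le_left ⊤)) (homOfLE (img_mono inf_le_right ⊤))
    (img_cover hUV _) (img_inter U V _) _ _
    (fun s => ConcreteCategory.congr_hom h1 s) (fun s => ConcreteCategory.congr_hom h2 s)

end Case3

end Groth.Agent.Lib.Helper99.MVSch
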