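import Mathlib
import Groth.Agent.Lib.Helper99.GlueTri
import Groth.Agent.Lib.Helper99.MVSch2
import Groth.Prelude.Def_CxOX

/-!
# Gluing objects of `D(O_X)` over two opens (helper99)
-/

set_option autoImplicit false
universe u
open CategoryTheory Limits AlgebraicGeometry Opposite TopologicalSpace Pretriangulated

attribute [local instance] HasDerivedCategory.standard

namespace Groth.Agent.Lib.Helper99.Glue

open Groth.Agent.Lib.Helper99.MVSch Groth.Agent.Lib.Helper99 Groth.Agent.Lib.Helper99.RestrKInj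

/-- existence of `Rf_*` on the unbounded derived category -/
theorem hasRpush {X Y : Scheme.{u}} (f : X ⟶ Y) : DCoh.HasRpush f := by
  have := (KInj.kInjK_derives (DCoh.pushKh f)).hasPointwiseRightDerivedFunctor
  infer_instance

variable {X : Scheme.{u}}

/-- termwise restriction of complexes -/
noncomputable abbrev restrCx (U : X.Opens) :
    CochainComplex X.Modules ℤ ⥤ CochainComplex (U : Scheme.{u}).Modules ℤ :=
  (Scheme.Modules.restrictFunctor U.ι).mapHomologicalComplex (ComplexShape.up ℤ)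

/-- the unit `K ⟶ j_*(K|_W)` as a chain map -/
noncomputable def etaCx (W : X.Opens) (K : CochainComplex X.Modules ℤ) : K ⟶ MV.cx (R W) K where
  f n := (eta W).app (K.X n)
  comm' i j _ := ((eta W).naturality (K.d i j)).symm

section Sections

theorem isIso_presheaf_map_of_le (M : X.Modules) {A B : X.Opens} (i : A ⟶ B) (h : B ≤ A) :
    IsIso (M.presheaf.map i.op) := by
  refine ⟨M.presheaf.map (homOfLE h).op, ?_, ?_⟩
  · rw [← Functor.map_comp, ← op_comp]
    have : homOfLE h ≫ i = 𝟙 _ := Subsingleton.elim _ _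
    rw [this, op_id, CategoryTheory.Functor.map_id]
  · rw [← Functor.map_comp, ← op_comp]
    have : i ≫ homOfLE h = 𝟙 _ := Subsingleton.elim _ _
    rw [this, op_id, CategoryTheory.Functor.map_id]

theorem isIso_R_presheaf_map (V : X.Opens) (M : X.Modules) {A B : X.Opens} (i : A ⟶ B)
    (h : V ⊓ B ≤ A) : IsIso (((R V).obj M).presheaf.map i.op) := by
  have hAB : V.ι ''ᵁ V.ι ⁻¹ᵁ A ≤ V.ι ''ᵁ V.ι ⁻¹ᵁ B := by
    rw [img_eq, img_eq]; exact inf_le_inf_left _ i.le
  have hBA : V.ι ''ᵁ V.ι ⁻¹ᵁ B ≤ V.ι ''ᵁ V.ι ⁻¹ᵁ A := by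
    rw [img_eq, img_eq]; exact le_inf inf_le_left h
  exact isIso_presheaf_map_of_le M (homOfLE hAB) hBA

theorem isIso_restr_eta_R (U V W : X.Opens) (hW : U ⊓ V ≤ W) (N : X.Modules) :
    IsIso ((Scheme.Modules.restrictFunctor U.ι).map ((eta W).app ((R V).obj N))) := by
  rw [Scheme.Modules.Hom.isIso_iff_isIso_app]
  intro O
  change IsIso (((eta W).app ((R V).obj N)).app (U.ι ''ᵁ O))
  rw [Scheme.Modules.restrictAdjunction_unit_app_app]
  apply isIso_R_presheaf_map
  rw [img_eq]
  have hO : U.ι ''ᵁ O ≤ U := by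
    conv_rhs => rw [← Scheme.Opens.opensRange_ι U]
    exact Scheme.Hom.image_le_opensRange _ _
  refine le_inf ?_ inf_le_right
  exact le_trans (le_inf (inf_le_right.trans hO) inf_le_left) hW

end Sections

section Derived

/-- a chain map which becomes a termwise iso after restriction to `U` becomes an iso in `D(O_U)` -/
theorem isIso_restrictD_map (U : X.Opens) {K L : CochainComplex X.Modules ℤ} (φ : K ⟶ L)
    (hφ : ∀ n, IsIso ((Scheme.Modules.restrictFunctor U.ι).map (φ.f n))) :
    IsIso ((DCoh.restrictD U.ι).map (DerivedCategory.Q.map φ)) := by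
  have h1 : IsIso ((restrCx U).map φ) := by
    have : ∀ n, IsIso (((restrCx U).map φ).f n) := fun n => hφ n
    exact HomologicalComplex.Hom.isIso_of_components _
  have h2 : IsIso ((DerivedCategory.Q ⋙ DCoh.restrictD U.ι).map φ) := by
    rw [NatIso.isIso_map_iff (Scheme.Modules.restrictFunctor U.ι).mapDerivedCategoryFactors φ]
    dsimp only [Functor.comp_map]
    infer_instance
  exact h2

theorem isKInjective_R (U : X.Opens) (I : CochainComplex X.Modules ℤ) [I.IsKInjective] :
    (MV.cx (R U) I).IsKInjective := by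
  haveI := isKInjective_restrict U I
  exact Groth.Agent.Lib.Helper68.KInj.isKInjective_map_of_adjunction
    (Scheme.Modules.restrictAdjunction U.ι)
    (((Scheme.Modules.restrictFunctor U.ι).mapHomologicalComplex (ComplexShape.up ℤ)).obj I)

/-- every object of `D(O_U)` is the restriction of (the class of) a K-injective complex on `X` -/
theorem exists_lift (U : X.Opens) (A : DCoh.D (U : Scheme.{u})) :
    ∃ (I : CochainComplex X.Modules ℤ), I.IsKInjective ∧
      Nonempty ((DCoh.restrictD U.ι).obj (DerivedCategory.Q.obj I) ≅ A) := by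
  let M := (DerivedCategory.Q : _ ⥤ DCoh.D (U : Scheme.{u})).objPreimage A
  let a₀ : CochainComplex X.Modules ℤ :=
    ((Scheme.Modules.pushforward U.ι).mapHomologicalComplex (ComplexShape.up ℤ)).obj M
  obtain ⟨I, f, hI, hf, -, -⟩ := KInj.exists_kInjective_resolution a₀
  have : IsIso ((DerivedCategory.Q : _ ⥤ DCoh.D X).map f) := inferInstance
  refine ⟨I, hI, ⟨?_⟩⟩
  let e₁ : (DCoh.restrictD U.ι).obj (DerivedCategory.Q.obj I) ≅
      (DCoh.restrictD U.ι).obj (DerivedCategory.Q.obj a₀) :=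
    (DCoh.restrictD U.ι).mapIso (asIso (DerivedCategory.Q.map f)).symm
  let e₂ : (DCoh.restrictD U.ι).obj (DerivedCategory.Q.obj a₀) ≅
      DerivedCategory.Q.obj ((restrCx U).obj a₀) :=
    (Scheme.Modules.restrictFunctor U.ι).mapDerivedCategoryFactors.app a₀
  let e₃ : (restrCx U).obj a₀ ≅ M :=
    (NatIso.mapHomologicalComplex (Scheme.Modules.restrictFunctorAdjCounitIso U.ι)
      (ComplexShape.up ℤ)).app M ≪≫
      (Functor.mapHomologicalComplexIdIso _ (ComplexShape.up ℤ)).app M
  exact e₁ ≪≫ e₂ ≪≫ DerivedCategory.Q.mapIso e₃ ≪≫ DerivedCategory.Q.objObjPreimageIso A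

/-- restriction to `W ≤ U` in two steps -/
noncomputable def restrictDCompObj {U W : X.Opens} (h : W ≤ U)
    (K : CochainComplex X.Modules ℤ) :
    (DCoh.restrictD W.ι).obj (DerivedCategory.Q.obj K) ≅
      (DCoh.restrictD (X.homOfLE h)).obj ((DCoh.restrictD U.ι).obj (DerivedCategory.Q.obj K)) :=
  (Scheme.Modules.restrictFunctor W.ι).mapDerivedCategoryFactors.app K ≪≫
    DerivedCategory.Q.mapIso ((NatIso.mapHomologicalComplex
      ((Scheme.Modules.restrictFunctorCongr (X.homOfLE_ι h)).symm ≪≫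
        Scheme.Modules.restrictFunctorComp (X.homOfLE h) U.ι) (ComplexShape.up ℤ)).app K) ≪≫
    ((Scheme.Modules.restrictFunctor (X.homOfLE h)).mapDerivedCategoryFactors.app
      ((restrCx U).obj K)).symm ≪≫
    (DCoh.restrictD (X.homOfLE h)).mapIso
      ((Scheme.Modules.restrictFunctor U.ι).mapDerivedCategoryFactors.app K).symm

end Derived

section Main

theorem glue (U V : X.Opens) (A : DCoh.D (U : Scheme.{u})) (B : DCoh.D (V : Scheme.{u}))
    (c : (DCoh.restrictD (X.homOfLE (inf_le_left : U ⊓ V ≤ U))).obj A ≅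
      (DCoh.restrictD (X.homOfLE (inf_le_right : U ⊓ V ≤ V))).obj B) :
    ∃ F : DCoh.D X, Nonempty ((DCoh.restrictD U.ι).obj F ≅ A) ∧
      Nonempty ((DCoh.restrictD V.ι).obj F ≅ B) := by
  classical
  obtain ⟨Ia, hIa, ⟨ea⟩⟩ := exists_lift U A
  obtain ⟨Ib, hIb, ⟨eb⟩⟩ := exists_lift V B
  let W : X.Opens := U ⊓ V
  let Ka : CochainComplex X.Modules ℤ := MV.cx (R U) Ia
  let Kb : CochainComplex X.Modules ℤ := MV.cx (R V) Ib
  haveI hKa : Ka.IsKInjective := isKInjective_R U Ia
  haveI hKb : Kb.IsKInjective := isKInjective_R V Ib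
  haveI := hasRpush W.ι
  -- restrictions of the units are isomorphisms
  have i1 : IsIso ((DCoh.restrictD U.ι).map (DerivedCategory.Q.map (etaCx U Ia))) :=
    isIso_restrictD_map U _ (fun n => isIso_restr_eta U (Ia.X n))
  have i2 : IsIso ((DCoh.restrictD V.ι).map (DerivedCategory.Q.map (etaCx V Ib))) :=
    isIso_restrictD_map V _ (fun n => isIso_restr_eta V (Ib.X n))
  have i3 : IsIso ((DCoh.restrictD W.ι).map (DerivedCategory.Q.map (etaCx U Ia))) :=
    isIso_restrictD_map W _ (fun n => isIso_restr_eta_of_le (inf_le_left : U ⊓ V ≤ U) (Ia.X n))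
  have i4 : IsIso ((DCoh.restrictD W.ι).map (DerivedCategory.Q.map (etaCx V Ib))) :=
    isIso_restrictD_map W _ (fun n => isIso_restr_eta_of_le (inf_le_right : U ⊓ V ≤ V) (Ib.X n))
  have i5 : IsIso ((DCoh.restrictD U.ι).map (DerivedCategory.Q.map (etaCx W Kb))) :=
    isIso_restrictD_map U _ (fun n => isIso_restr_eta_R U V W le_rfl (Ib.X n))
  have i6 : IsIso ((DCoh.restrictD V.ι).map (DerivedCategory.Q.map (etaCx W Ka))) :=
    isIso_restrictD_map V _ (fun n => isIso_restr_eta_R V U W (le_of_eq (inf_comm V U)) (Ia.X n))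
  -- the isomorphism on `W`
  let c' : (DCoh.restrictD W.ι).obj (DerivedCategory.Q.obj Ka) ≅
      (DCoh.restrictD W.ι).obj (DerivedCategory.Q.obj Kb) :=
    (asIso ((DCoh.restrictD W.ι).map (DerivedCategory.Q.map (etaCx U Ia)))).symm ≪≫
      restrictDCompObj (inf_le_left : U ⊓ V ≤ U) Ia ≪≫
      (DCoh.restrictD (X.homOfLE (inf_le_left : U ⊓ V ≤ U))).mapIso ea ≪≫ c ≪≫
      (DCoh.restrictD (X.homOfLE (inf_le_right : U ⊓ V ≤ V))).mapIso eb.symm ≪≫
      (restrictDCompObj (inf_le_right : U ⊓ V ≤ V) Ib).symm ≪≫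
      asIso ((DCoh.restrictD W.ι).map (DerivedCategory.Q.map (etaCx V Ib)))
  let pc : ∀ (K : CochainComplex X.Modules ℤ) [K.IsKInjective],
      (DCoh.Rpush W.ι).obj ((DCoh.restrictD W.ι).obj (DerivedCategory.Q.obj K)) ≅
        DerivedCategory.Q.obj (MV.cx (R W) K) := fun K _ =>
    MV.pieceIso (Scheme.Modules.restrictFunctor W.ι)
      (fun I _ => isKInjective_restrict W I) (Scheme.Modules.pushforward W.ι) (DCoh.Rpush W.ι)
      ((DCoh.pushKh W.ι).totalRightDerivedUnit DerivedCategory.Qh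
        (HomotopyCategory.quasiIso (W : Scheme.{u}).Modules (ComplexShape.up ℤ))) K
  let θ : DerivedCategory.Q.obj (MV.cx (R W) Ka) ≅ DerivedCategory.Q.obj (MV.cx (R W) Kb) :=
    (pc Ka).symm ≪≫ (DCoh.Rpush W.ι).mapIso c' ≪≫ pc Kb
  let gp : DerivedCategory.Q.obj Ka ⟶ DerivedCategory.Q.obj (MV.cx (R W) Kb) :=
    DerivedCategory.Q.map (etaCx W Ka) ≫ θ.hom
  let gq : DerivedCategory.Q.obj Kb ⟶ DerivedCategory.Q.obj (MV.cx (R W) Kb) :=
    DerivedCategory.Q.map (etaCx W Kb)
  obtain ⟨F, f, h, hT⟩ := distinguished_cocone_triangle₁ (biprod.desc gp gq)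
  have e11 : (biprod.inl : DerivedCategory.Q.obj Ka ⟶
      DerivedCategory.Q.obj Ka ⊞ DerivedCategory.Q.obj Kb) ≫ biprod.fst = 𝟙 _ := biprod.inl_fst
  have e21 : (biprod.inr : DerivedCategory.Q.obj Kb ⟶
      DerivedCategory.Q.obj Ka ⊞ DerivedCategory.Q.obj Kb) ≫ biprod.fst = 0 := biprod.inr_fst
  have e22 : (biprod.inr : DerivedCategory.Q.obj Kb ⟶
      DerivedCategory.Q.obj Ka ⊞ DerivedCategory.Q.obj Kb) ≫ biprod.snd = 𝟙 _ := biprod.inr_snd
  have e12 : (biprod.inl : DerivedCategory.Q.obj Ka ⟶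
      DerivedCategory.Q.obj Ka ⊞ DerivedCategory.Q.obj Kb) ≫ biprod.snd = 0 := biprod.inl_snd
  have etot : (biprod.fst : DerivedCategory.Q.obj Ka ⊞ DerivedCategory.Q.obj Kb ⟶ _) ≫ biprod.inl +
      biprod.snd ≫ biprod.inr = 𝟙 _ := biprod.total
  have etot' : (biprod.snd : DerivedCategory.Q.obj Ka ⊞ DerivedCategory.Q.obj Kb ⟶ _) ≫ biprod.inr +
      biprod.fst ≫ biprod.inl = 𝟙 _ := by rw [add_comm]; exact biprod.total
  refine ⟨F, ⟨?_⟩, ⟨?_⟩⟩
  · -- restriction to `U`
    have hT' := (DCoh.restrictD U.ι).map_distinguished _ hT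
    have key : IsIso ((DCoh.restrictD U.ι).map f ≫ (DCoh.restrictD U.ι).map biprod.fst) := by
      refine GlueTri.isIso_comp_proj _ _ _ hT' ((DCoh.restrictD U.ι).map biprod.inl)
        ((DCoh.restrictD U.ι).map biprod.inr) ((DCoh.restrictD U.ι).map biprod.fst)
        ((DCoh.restrictD U.ι).map biprod.snd) ?_ ?_ ?_ ?_
      · rw [← Functor.map_comp]
        exact (congrArg _ e11).trans (CategoryTheory.Functor.map_id _ _)
      · rw [← Functor.map_comp]
        exact (congrArg _ e21).trans (Functor.map_zero _ _ _)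
      · rw [← Functor.map_comp, ← Functor.map_comp, ← Functor.map_add]
        exact (congrArg _ etot).trans (CategoryTheory.Functor.map_id _ _)
      · change IsIso ((DCoh.restrictD U.ι).map biprod.inr ≫
          (DCoh.restrictD U.ι).map (biprod.desc gp gq))
        rw [← Functor.map_comp, biprod.inr_desc]
        exact i5
    haveI := key
    exact asIso ((DCoh.restrictD U.ι).map f ≫ (DCoh.restrictD U.ι).map biprod.fst) ≪≫
      (asIso ((DCoh.restrictD U.ι).map (DerivedCategory.Q.map (etaCx U Ia)))).symm ≪≫ ea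
  · -- restriction to `V`
    have hT' := (DCoh.restrictD V.ι).map_distinguished _ hT
    have key : IsIso ((DCoh.restrictD V.ι).map f ≫ (DCoh.restrictD V.ι).map biprod.snd) := by
      refine GlueTri.isIso_comp_proj _ _ _ hT' ((DCoh.restrictD V.ι).map biprod.inr)
        ((DCoh.restrictD V.ι).map biprod.inl) ((DCoh.restrictD V.ι).map biprod.snd)
        ((DCoh.restrictD V.ι).map biprod.fst) ?_ ?_ ?_ ?_
      · rw [← Functor.map_comp]
        exact (congrArg _ e22).trans (CategoryTheory.Functor.map_id _ _)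
      · rw [← Functor.map_comp]
        exact (congrArg _ e12).trans (Functor.map_zero _ _ _)
      · rw [← Functor.map_comp, ← Functor.map_comp, ← Functor.map_add]
        exact (congrArg _ etot').trans (CategoryTheory.Functor.map_id _ _)
      · change IsIso ((DCoh.restrictD V.ι).map biprod.inl ≫
          (DCoh.restrictD V.ι).map (biprod.desc gp gq))
        rw [← Functor.map_comp, biprod.inl_desc, Functor.map_comp]
        infer_instance
    haveI := key
    exact asIso ((DCoh.restrictD V.ι).map f ≫ (DCoh.restrictD V.ι).map biprod.snd) ≪≫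
      (asIso ((DCoh.restrictD V.ι).map (DerivedCategory.Q.map (etaCx V Ib)))).symm ≪≫ eb

end Main

end Groth.Agent.Lib.Helper99.Glue
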