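import Mathlib
import Groth.Agent.Lib.Helper99.KInjRes

set_option autoImplicit false
universe w v u
open CategoryTheory Limits CategoryTheory.MorphismProperty

namespace Groth.Agent.Lib.Helper99.KInj

section Groth

variable (A : Type u) [Category.{v} A] [Abelian A] [IsGrothendieckAbelian.{v} A]

/-- K-injective cochain complexes -/
def kInjC : ObjectProperty (CochainComplex A ℤ) := fun K => CochainComplex.IsKInjective K

open ZeroObject in
/-- the functor `M ↦ (M ⟶ 0)` -/
noncomputable def toArrowZero : CochainComplex A ℤ ⥤ Arrow (CochainComplex A ℤ) where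
  obj M := Arrow.mk (0 : M ⟶ 0)
  map f := Arrow.homMk f (𝟙 0) (by simp)

/-- the functorial factorization data from the small object argument -/
noncomputable def resData :
    FunctorialFactorizationData (genJ (separator A)).rlp.llp (genJ (separator A)).rlp :=
  functorialFactorizationData (genJ (separator A)).rlp.llp (genJ (separator A)).rlp

/-- functorial K-injective resolution -/
noncomputable def resFunctor : CochainComplex A ℤ ⥤ CochainComplex A ℤ :=
  toArrowZero A ⋙ (resData A).Z

/-- the natural quasi-isomorphism to the functorial K-injective resolution -/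
noncomputable def resι : 𝟭 (CochainComplex A ℤ) ⟶ resFunctor A where
  app M := (resData A).i.app ((toArrowZero A).obj M)
  naturality M N f := (resData A).i.naturality ((toArrowZero A).map f)

open ZeroObject in
theorem res_props (M : CochainComplex A ℤ) :
    CochainComplex.IsKInjective ((resFunctor A).obj M) ∧ QuasiIso ((resι A).app M) := by
  let G := separator A
  have hG : IsSeparator G := isSeparator_separator A
  let fac := (resData A).factorizationData (0 : M ⟶ 0)
  have hi : trivCof A fac.i := llp_rlp_genJ_le G _ fac.hi
  have hp : (trivCof A).rlp fac.p := (transHyp_genJ hG).rlp_le _ fac.hp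
  have hZ : ∀ {K L : CochainComplex A ℤ} (i : K ⟶ L), trivCof A i → ∀ f : K ⟶ fac.Z,
      ∃ g : L ⟶ fac.Z, i ≫ g = f := by
    intro K L i hW f
    have := hp i hW
    have sq : CommSq f i fac.p (0 : L ⟶ 0) := ⟨(isZero_zero _).eq_of_tgt _ _⟩
    exact ⟨sq.lift, sq.fac_left⟩
  exact ⟨isKInjective_of_ext _ hZ, hi.2⟩

instance (M : CochainComplex A ℤ) : CochainComplex.IsKInjective ((resFunctor A).obj M) :=
  (res_props A M).1

instance (M : CochainComplex A ℤ) : QuasiIso ((resι A).app M) := (res_props A M).2

/-- The localizer morphism given by the inclusion of K-injective complexes. -/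
def kInjCLocalizerMorphism :
    LocalizerMorphism ((HomologicalComplex.quasiIso A (ComplexShape.up ℤ)).inverseImage (kInjC A).ι)
      (HomologicalComplex.quasiIso A (ComplexShape.up ℤ)) where
  functor := (kInjC A).ι
  map := le_rfl

/-- functorial resolution, as a functor to the full subcategory -/
noncomputable def resLift : CochainComplex A ℤ ⥤ (kInjC A).FullSubcategory :=
  ObjectProperty.lift (kInjC A) (resFunctor A) (fun M => (res_props A M).1)

/-- the natural transformation to the resolution -/
noncomputable def resLiftι : 𝟭 (CochainComplex A ℤ) ⟶ resLift A ⋙ (kInjCLocalizerMorphism A).functor where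
  app M := (resι A).app M
  naturality M N f := (resι A).naturality f

instance : (kInjCLocalizerMorphism A).functor.Full :=
  inferInstanceAs ((kInjC A).ι).Full

instance : (kInjCLocalizerMorphism A).functor.Faithful :=
  inferInstanceAs ((kInjC A).ι).Faithful

instance : (kInjCLocalizerMorphism A).IsRightDerivabilityStructure :=
  LocalizerMorphism.isRightDerivabilityStructure_of_functorial_resolutions
    (kInjCLocalizerMorphism A) (resLiftι A)
    (fun M => (res_props A M).2) rfl

section Consequences

variable {A} {H : Type*} [Category H] [HasDerivedCategory.{w} A]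
  (Ψ : CochainComplex A ℤ ⥤ H)
  (hΨ : (HomologicalComplex.homotopyEquivalences A (ComplexShape.up ℤ)).IsInvertedBy Ψ)
  (RΨ : DerivedCategory A ⥤ H)
  (β : Ψ ⟶ DerivedCategory.Q ⋙ RΨ)

include hΨ

theorem kInjC_derives : (kInjCLocalizerMorphism A).Derives Ψ := by
  intro K L f hf
  have : CochainComplex.IsKInjective K.obj := K.property
  have : CochainComplex.IsKInjective L.obj := L.property
  have hq : QuasiIso f.hom := hf
  exact hΨ _ ((CochainComplex.IsKInjective.quasiIso_iff f.hom).1 hq)

theorem isIso_app_of_kInjC
    [RΨ.IsRightDerivedFunctor β (HomologicalComplex.quasiIso A (ComplexShape.up ℤ))]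
    (X : CochainComplex A ℤ) [hX : CochainComplex.IsKInjective X] : IsIso (β.app X) :=
  (kInjC_derives Ψ hΨ).isIso_of_isRightDerivedFunctor β ⟨X, hX⟩

theorem isRightDerivedFunctor_of_isIso_app_kInjC
    (h : ∀ (X : CochainComplex A ℤ), CochainComplex.IsKInjective X → IsIso (β.app X)) :
    RΨ.IsRightDerivedFunctor β (HomologicalComplex.quasiIso A (ComplexShape.up ℤ)) :=
  (kInjC_derives Ψ hΨ).isRightDerivedFunctor_of_isIso β (fun X₁ => h _ X₁.property)

/-- right derived functors on `D(A)` are absolute -/
theorem isRightDerivedFunctor_comp_C {H' : Type*} [Category H'] (T : H ⥤ H')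
    [RΨ.IsRightDerivedFunctor β (HomologicalComplex.quasiIso A (ComplexShape.up ℤ))] :
    (RΨ ⋙ T).IsRightDerivedFunctor
      (Functor.whiskerRight β T ≫ (Functor.associator _ _ _).hom)
      (HomologicalComplex.quasiIso A (ComplexShape.up ℤ)) := by
  apply isRightDerivedFunctor_of_isIso_app_kInjC (Ψ ⋙ T)
  · intro K L f hf
    have := hΨ f hf
    exact inferInstanceAs (IsIso (T.map (Ψ.map f)))
  · intro X hX
    have := isIso_app_of_kInjC Ψ hΨ RΨ β X
    simp only [NatTrans.comp_app, Functor.whiskerRight_app, Functor.associator_hom_app]
    infer_instance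

end Consequences

end Groth

end Groth.Agent.Lib.Helper99.KInj
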