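import Mathlib
import Groth.Agent.Lib.Helper99.SPerf10
import Groth.Agent.Lib.QCoh.Local

set_option autoImplicit false
universe u
open CategoryTheory Limits AlgebraicGeometry Opposite TopologicalSpace Pretriangulated ZeroObject

attribute [local instance] HasDerivedCategory.standard

namespace Groth.Agent.Lib.Helper99.SPerf

open Scheme.Modules CochainComplex HomologicalComplex Groth.Agent.Lib.QCoh Groth.Agent.Lib.QCoh.Lift74

variable {X : Scheme.{u}}

/-- cohomology of a complex of quasi-coherent modules is quasi-coherent -/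
theorem isQuasicoherent_homology_of_forall (P : CochainComplex X.Modules ℤ)
    (hP : ∀ i : ℤ, (P.X i).IsQuasicoherent) (i : ℤ) : (P.homology i).IsQuasicoherent := by
  have h0 := hP (i - 1)
  have h1 := hP i
  have h2 := hP (i + 1)
  have hc : (P.cycles i).IsQuasicoherent :=
    isQuasicoherent_of_iso
      (IsLimit.conePointUniqueUpToIso (kernelIsKernel (P.d i (i + 1)))
        (P.cyclesIsKernel i (i + 1) (by simp)))
      (isQuasicoherent_kernel (P.d i (i + 1)))
  exact isQuasicoherent_of_iso
      (IsColimit.coconePointUniqueUpToIso (cokernelIsCokernel (P.toCycles (i - 1) i))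
        (P.homologyIsCokernel (i - 1) i (by simp)))
      (isQuasicoherent_cokernel (P.toCycles (i - 1) i))

theorem isQuasicoherent_homology {P : CochainComplex X.Modules ℤ}
    (hP : DCoh.IsStrictlyPerfect P) (i : ℤ) : (P.homology i).IsQuasicoherent :=
  isQuasicoherent_homology_of_forall P (fun i => isQuasicoherent_of_isFinLocFree (hP.2 i)) i

theorem isQuasicoherent_of_locally (M : X.Modules)
    (h : ∀ x : X, ∃ V : X.Opens, x ∈ V ∧ (M.restrict V.ι).IsQuasicoherent) :
    M.IsQuasicoherent := by
  choose V hxV hV using h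
  refine isQuasicoherent_of_isOpenCover M V ?_ hV
  rw [IsOpenCover, ← top_le_iff]
  intro x _
  exact Opens.mem_iSup.2 ⟨x, hxV x⟩

theorem isQuasicoherent_HD_of_isPseudoCoherentD (m : ℤ) (K : DCoh.D X)
    (hK : DCoh.IsPseudoCoherentD m K) (i : ℤ) (hi : m < i) : (DCoh.HD K i).IsQuasicoherent := by
  rw [isPseudoCoherentD_iff] at hK
  apply isQuasicoherent_of_locally
  intro x
  obtain ⟨V, hxV, E, α, hE, hα⟩ := hK x
  refine ⟨V, hxV, ?_⟩
  have := hα.1 i hi
  have e : E.homology i ≅ (DCoh.HD K i).restrict V.ι :=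
    (homologyQIso E i).symm ≪≫
      asIso ((DerivedCategory.homologyFunctor _ i).map α) ≪≫ homologyRestrictDIso V.ι K i
  exact isQuasicoherent_of_iso e (isQuasicoherent_homology hE i)

theorem exists_qcoh_epi_HD_of_isPseudoCoherentD (m : ℤ) (K : DCoh.D X)
    (hK : DCoh.IsPseudoCoherentD m K) (x : X) :
    ∃ (V : X.Opens) (Q : (V : Scheme.{u}).Modules)
      (π : Q ⟶ (Scheme.Modules.restrictFunctor V.ι).obj (DCoh.HD K m)),
      x ∈ V ∧ Q.IsQuasicoherent ∧ Epi π := by
  rw [isPseudoCoherentD_iff] at hK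
  obtain ⟨V, hxV, E, α, hE, hα⟩ := hK x
  have := hα.2
  exact ⟨V, E.homology m, (homologyQIso E m).inv ≫
    (DerivedCategory.homologyFunctor _ m).map α ≫ (homologyRestrictDIso V.ι K m).hom, hxV,
    isQuasicoherent_homology hE m, inferInstance⟩

end Groth.Agent.Lib.Helper99.SPerf
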