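import Mathlib
import Groth.Agent.Lib.Helper99.SPerf11
import Groth.Agent.Lib.QCoh.Helper74_LocFreeBasis

/-!
# Perfect objects on Noetherian schemes: coherent cohomology, boundedness (helper99; S1006)
-/

set_option autoImplicit false
universe u
open CategoryTheory Limits AlgebraicGeometry Opposite TopologicalSpace Pretriangulated ZeroObject

attribute [local instance] HasDerivedCategory.standard

namespace Groth.Agent.Lib.Helper99.SPerf

open Scheme.Modules CochainComplex HomologicalComplex Groth.Agent.Lib.QCoh Groth.Agent.Lib.QCoh.Lift74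

variable {X : Scheme.{u}}

/-- a module which is locally zero is zero -/
theorem isZero_of_locally (M : X.Modules)
    (h : ∀ x : X, ∃ W : X.Opens, x ∈ W ∧ IsZero (M.restrict W.ι)) : IsZero M := by
  rw [IsZero.iff_id_eq_zero]
  apply hom_ext_of_locally
  intro V x hxV
  obtain ⟨W, hxW, hW⟩ := h x
  refine ⟨W.ι ''ᵁ (W.ι ⁻¹ᵁ V), ⟨⟨x, hxW⟩, hxV, rfl⟩, ?_, ?_⟩
  · rintro _ ⟨y, hy, rfl⟩
    exact hy
  · ext s
    have h0 : (𝟙 (M.restrict W.ι)) = 0 := (IsZero.iff_id_eq_zero _).1 hW
    have h1 : (𝟙 (M.restrict W.ι) : _ ⟶ _).app (W.ι ⁻¹ᵁ V) s =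
        (0 : M.restrict W.ι ⟶ M.restrict W.ι).app (W.ι ⁻¹ᵁ V) s := by rw [h0]
    have h2 : s = 0 := h1
    rw [h2, map_zero, map_zero]

theorem isQuasicoherent_cycles_of_forall (P : CochainComplex X.Modules ℤ)
    (hP : ∀ i : ℤ, (P.X i).IsQuasicoherent) (i : ℤ) : (P.cycles i).IsQuasicoherent := by
  have h1 := hP i
  have h2 := hP (i + 1)
  exact isQuasicoherent_of_iso
      (IsLimit.conePointUniqueUpToIso (kernelIsKernel (P.d i (i + 1)))
        (P.cyclesIsKernel i (i + 1) (by simp)))
      (isQuasicoherent_kernel (P.d i (i + 1)))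

/-- cohomology of a strictly perfect complex on a locally Noetherian scheme is of finite type -/
theorem isFiniteType_homology [IsLocallyNoetherian X] {P : CochainComplex X.Modules ℤ}
    (hP : DCoh.IsStrictlyPerfect P) (i : ℤ) : (P.homology i).IsFiniteType := by
  have h1 : (P.X i).IsQuasicoherent := isQuasicoherent_of_isFinLocFree (hP.2 i)
  have h2 : (P.X i).IsFiniteType := isFiniteType_of_isFinLocFree (hP.2 i)
  have h3 : (P.cycles i).IsQuasicoherent :=
    isQuasicoherent_cycles_of_forall P (fun i => isQuasicoherent_of_isFinLocFree (hP.2 i)) i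
  have h4 : (P.cycles i).IsFiniteType := isFiniteType_of_mono (P.iCycles i)
  exact isFiniteType_of_epi (P.homologyπ i)

/-- local description of the cohomology of a perfect object -/
noncomputable def homologyIsoOfPerfProp {Y : Scheme.{u}} (j : Y ⟶ X) [IsOpenImmersion j]
    {K : DCoh.D X} {E : CochainComplex Y.Modules ℤ}
    (e : (DCoh.restrictD j).obj K ≅ DerivedCategory.Q.obj E) (i : ℤ) :
    E.homology i ≅ (DCoh.HD K i).restrict j :=
  (homologyQIso E i).symm ≪≫ (DerivedCategory.homologyFunctor _ i).mapIso e.symm ≪≫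
    homologyRestrictDIso j K i

theorem isCohD_of_isPerfect [IsLocallyNoetherian X] (K : DCoh.D X) (hK : DCoh.IsPerfect K) :
    DCoh.IsCohD K := by
  rw [isPerfect_iff] at hK
  intro i
  constructor
  · apply isQuasicoherent_of_locally
    intro x
    obtain ⟨V, hxV, E, hE, ⟨e⟩⟩ := hK x
    exact ⟨V, hxV, isQuasicoherent_of_iso (homologyIsoOfPerfProp V.ι e i)
      (isQuasicoherent_homology hE i)⟩
  · apply isFiniteType_of_locally
    intro x
    obtain ⟨V, hxV, E, hE, ⟨e⟩⟩ := hK x
    have := isFiniteType_homology hE i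
    exact ⟨V, hxV, isFiniteType_of_iso (homologyIsoOfPerfProp V.ι e i)⟩

theorem exists_isGE_isLE_of_isPerfect [CompactSpace X] (K : DCoh.D X) (hK : DCoh.IsPerfect K) :
    ∃ a b : ℤ, K.IsGE a ∧ K.IsLE b := by
  rw [isPerfect_iff] at hK
  choose V hxV E hE e using hK
  choose a b hab using fun x => (hE x).1
  obtain ⟨t, -, ht⟩ := isCompact_univ.elim_nhds_subcover (fun x => (V x : Set X))
    (fun x _ => (V x).2.mem_nhds (hxV x))
  obtain ⟨B, hB⟩ := (t.image b).exists_le
  obtain ⟨A, hA⟩ := (t.image (fun x => - a x)).exists_le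
  have key : ∀ i : ℤ, (i < -A ∨ B < i) → IsZero (DCoh.HD K i) := by
    intro i hi
    apply isZero_of_locally
    intro y
    obtain ⟨x, hxt, hyx⟩ := Set.mem_iUnion₂.1 (ht (Set.mem_univ y))
    refine ⟨V x, hyx, ?_⟩
    have h1 : IsZero ((E x).X i) := by
      apply hab x i
      have h2 := hB (b x) (Finset.mem_image_of_mem _ hxt)
      have h3 := hA (- a x) (Finset.mem_image_of_mem (fun x => - a x) hxt)
      omega
    have h2 : IsZero ((E x).homology i) :=
      (HomologicalComplex.exactAt_iff_isZero_homology _ _).1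
        (HomologicalComplex.ExactAt.of_isZero h1)
    exact h2.of_iso (homologyIsoOfPerfProp (V x).ι (e x).some i).symm
  refine ⟨-A, B, ?_, ?_⟩
  · rw [DerivedCategory.isGE_iff]
    exact fun i hi => key i (Or.inl hi)
  · rw [DerivedCategory.isLE_iff]
    exact fun i hi => key i (Or.inr hi)

end Groth.Agent.Lib.Helper99.SPerf
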