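import Mathlib
import Groth.Agent.Lib.QCoh.Helper74_LocFreeStalk
import Groth.Agent.Lib.QCoh.Helper18_StalkLinear
import Groth.Agent.Lib.Helper99.SPerf13

set_option autoImplicit false
universe u
open CategoryTheory Limits AlgebraicGeometry Opposite TopologicalSpace

namespace Groth.Agent.Lib.Helper99.SPerf

open Groth.Agent.Lib.QCoh Scheme.Modules FlatMod

variable {X : Scheme.{u}}

/-- iso invariance of flatness at a point -/
theorem isFlatAt_of_iso {F G : X.Modules} (e : F ≅ G) (x : X) (h : IsFlatAt F x) :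
    IsFlatAt G x := by
  have hb : Function.Bijective (stalkMapₗ e.hom x) := by
    have : IsIso ((stalkFunctor X x).map e.hom) := inferInstance
    exact (ConcreteCategory.isIso_iff_bijective _).1 this
  let L := LinearEquiv.ofBijective (stalkMapₗ e.hom x) hb
  haveI : Module.Flat (X.presheaf.stalk x) (F.presheaf.stalk x) := h
  exact Module.Flat.of_linearEquiv L.symm

theorem restrict_smul_eq (F : X.Modules) (V : X.Opens) (W : (V : Scheme.{u}).Opens) (r : Γ(V, W))
    (m : Γ(F.restrict V.ι, W)) :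
    r • m = (show Γ(X, V.ι ''ᵁ W) from r) • (show Γ(F, V.ι ''ᵁ W) from m) := by
  have h1 : r • m = (show Γ(X, V.ι ''ᵁ W) from (V.ι.appIso W).inv r) •
      (show Γ(F, V.ι ''ᵁ W) from m) := rfl
  rw [h1, Scheme.Opens.ι_appIso]
  rfl

/-- the stalk iso of a restriction is linear over sections -/
theorem restrictStalkIso_smul (F : X.Modules) (V : X.Opens) (x : V)
    (U' : (V : Scheme.{u}).Opens) (hxU' : x ∈ U') (r : Γ(V, U'))
    (n : (F.restrict V.ι).presheaf.stalk x) :
    (restrictStalkIso F V x).hom ((V : Scheme.{u}).presheaf.germ U' x hxU' r • n) =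
      X.presheaf.germ (V.ι ''ᵁ U') (x : X) ⟨x, hxU', rfl⟩ (show Γ(X, V.ι ''ᵁ U') from r) •
        (restrictStalkIso F V x).hom n := by
  obtain ⟨W', hxW', m, rfl⟩ := (F.restrict V.ι).presheaf.exists_germ_eq n
  let W'' : (V : Scheme.{u}).Opens := W' ⊓ U'
  have hxW'' : x ∈ W'' := ⟨hxW', hxU'⟩
  have e1 : (V : Scheme.{u}).presheaf.germ U' x hxU' r = (V : Scheme.{u}).presheaf.germ W'' x hxW''
      ((V : Scheme.{u}).presheaf.map (homOfLE (inf_le_right : W'' ≤ U')).op r) :=
    (TopCat.Presheaf.germ_res_apply _ (homOfLE (inf_le_right : W'' ≤ U')) x hxW'' r).symm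
  have e2 : (F.restrict V.ι).presheaf.germ W' x hxW' m = (F.restrict V.ι).presheaf.germ W'' x hxW''
      ((F.restrict V.ι).presheaf.map (homOfLE (inf_le_left : W'' ≤ W')).op m) :=
    (TopCat.Presheaf.germ_res_apply _ (homOfLE (inf_le_left : W'' ≤ W')) x hxW'' m).symm
  have e3 : ∀ s : Γ(F.restrict V.ι, W''),
      (restrictStalkIso F V x).hom ((F.restrict V.ι).presheaf.germ W'' x hxW'' s) =
        F.presheaf.germ (V.ι ''ᵁ W'') (x : X) ⟨x, hxW'', rfl⟩ s := fun s =>
    ConcreteCategory.congr_hom (germ_restrictStalkNatIso_hom_app V.ι x F hxW'') s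
  have hle : V.ι ''ᵁ W'' ≤ V.ι ''ᵁ U' := Scheme.Hom.image_mono _ inf_le_right
  have e4 : X.presheaf.germ (V.ι ''ᵁ U') (x : X) ⟨x, hxU', rfl⟩ (show Γ(X, V.ι ''ᵁ U') from r) =
      X.presheaf.germ (V.ι ''ᵁ W'') (x : X) ⟨x, hxW'', rfl⟩
        (X.presheaf.map (homOfLE hle).op (show Γ(X, V.ι ''ᵁ U') from r)) :=
    (TopCat.Presheaf.germ_res_apply _ (homOfLE hle) (x : X) ⟨x, hxW'', rfl⟩ _).symm
  rw [e1, e2, ← germ_smul (F.restrict V.ι) x W'' hxW'', e3, e3, e4, ← germ_smul F]
  congr 1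
  exact restrict_smul_eq F V W'' _ _

/-- flatness at a point passes to the restriction to an open subscheme -/
theorem isFlatAt_restrict (F : X.Modules) (V : X.Opens) (x : V) (h : IsFlatAt F (x : X)) :
    IsFlatAt (F.restrict V.ι) x := by
  obtain ⟨_, ⟨U', hU' : IsAffineOpen U', rfl⟩, hxU', -⟩ :=
    ((V : Scheme.{u}).isBasis_affineOpens).exists_subset_of_mem_open (Set.mem_univ x) isOpen_univ
  let U : X.Opens := V.ι ''ᵁ U'
  have hU : IsAffineOpen U := hU'.image_of_isOpenImmersion V.ι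
  have hxU : (x : X) ∈ U := ⟨x, hxU', rfl⟩
  -- X side
  letI a₁ := X.presheaf.algebra_section_stalk ⟨(x : X), hxU⟩
  letI m₁ := stalkModuleOfOpen F U x hxU
  have t₁ : IsScalarTower Γ(X, U) (X.presheaf.stalk (x : X)) (F.presheaf.stalk (x : X)) :=
    .of_algebraMap_smul fun _ _ => rfl
  have l₁ := hU.isLocalization_stalk ⟨(x : X), hxU⟩
  have f₁ : Module.Flat Γ(X, U) (F.presheaf.stalk (x : X)) :=
    (Module.flat_iff_of_isLocalization (X.presheaf.stalk (x : X))
      (hU.primeIdealOf ⟨x, hxU⟩).asIdeal.primeCompl _).1 h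
  -- V side
  letI a₂ := (V : Scheme.{u}).presheaf.algebra_section_stalk ⟨x, hxU'⟩
  letI m₂ := stalkModuleOfOpen (F.restrict V.ι) U' x hxU'
  have t₂ : IsScalarTower Γ(V, U') ((V : Scheme.{u}).presheaf.stalk x)
      ((F.restrict V.ι).presheaf.stalk x) :=
    .of_algebraMap_smul fun _ _ => rfl
  have l₂ := hU'.isLocalization_stalk ⟨x, hxU'⟩
  refine (Module.flat_iff_of_isLocalization ((V : Scheme.{u}).presheaf.stalk x)
      (hU'.primeIdealOf ⟨x, hxU'⟩).asIdeal.primeCompl _).2 ?_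
  -- compare
  letI m₁' : Module Γ(V, U') (F.presheaf.stalk (x : X)) := m₁
  have f₁' : Module.Flat Γ(V, U') (F.presheaf.stalk (x : X)) := f₁
  have hb : Function.Bijective (restrictStalkIso F V x).hom :=
    (ConcreteCategory.isIso_iff_bijective _).1 inferInstance
  let l : (F.restrict V.ι).presheaf.stalk x →ₗ[Γ(V, U')] F.presheaf.stalk (x : X) :=
      { toFun := (restrictStalkIso F V x).hom
        map_add' := map_add _
        map_smul' := fun r n => restrictStalkIso_smul F V x U' hxU' r n }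
  let L : (F.restrict V.ι).presheaf.stalk x ≃ₗ[Γ(V, U')] F.presheaf.stalk (x : X) :=
    LinearEquiv.ofBijective l hb
  exact Module.Flat.of_linearEquiv L

end Groth.Agent.Lib.Helper99.SPerf
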