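import Mathlib
import Groth.Agent.Lib.QCoh.Helper74_LocFreeStalk
import Groth.Agent.Lib.QCoh.Helper18_StalkLinear
import Groth.Agent.Lib.Helper99.SPerf13
import Groth.Agent.Lib.Helper99.SPerf14a

set_option autoImplicit false
universe u
open CategoryTheory Limits AlgebraicGeometry Opposite TopologicalSpace

namespace Groth.Agent.Lib.Helper99.SPerf

open Groth.Agent.Lib.QCoh Scheme.Modules FlatMod

/-- one step of the descending induction -/
theorem finLocFree_step {Y : Scheme.{u}} (P : CochainComplex Y.Modules ℤ)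
    (hP : ∀ i : ℤ, IsFinLocFree (P.X i)) (y : Y) (n : ℤ)
    (hflat : IsFlatAt (P.homology n) y)
    (W : Y.Opens) (hyW : y ∈ W)
    (hZ : IsFinLocFree ((P.cycles (n + 1)).restrict W.ι))
    (hH : IsFinLocFree ((P.homology (n + 1)).restrict W.ι)) :
    ∃ W' : Y.Opens, y ∈ W' ∧ W' ≤ W ∧ IsFinLocFree ((P.cycles n).restrict W'.ι) ∧
      IsFinLocFree ((P.homology n).restrict W'.ι) := by
  let R := restrictFunctor W.ι
  let B := kernel (P.homologyπ (n + 1))
  have hBW : IsFinLocFree (R.obj B) := by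
    haveI : Epi (R.map (P.homologyπ (n + 1))) := inferInstance
    exact isFinLocFree_of_isLimit_kernelFork (R.map (P.homologyπ (n + 1))) hZ hH _
      (KernelFork.mapIsLimit _ (kernelIsKernel _) R)
  let q : P.X n ⟶ B := kernel.lift _ (P.toCycles n (n + 1)) (P.toCycles_comp_homologyπ n (n + 1))
  have hq : Epi q := by
    have hex : (ShortComplex.mk (P.toCycles n (n + 1)) (P.homologyπ (n + 1))
        (P.toCycles_comp_homologyπ _ _)).Exact :=
      ShortComplex.exact_of_g_is_cokernel _ (P.homologyIsCokernel n (n + 1) (by simp))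
    exact hex.epi_kernelLift
  have hq0 : P.iCycles n ≫ q = 0 := by
    rw [← cancel_mono (kernel.ι (P.homologyπ (n + 1))), ← cancel_mono (P.iCycles (n + 1))]
    simp [q]
  have hker : IsLimit (KernelFork.ofι (P.iCycles n) hq0) :=
    isKernelOfComp (kernel.ι _ ≫ P.iCycles (n + 1)) (P.d n (n + 1))
      (P.cyclesIsKernel n (n + 1) (by simp)) hq0 (by simp [q])
  have hZW : IsFinLocFree (R.obj (P.cycles n)) := by
    haveI : Epi (R.map q) := inferInstance
    exact isFinLocFree_of_isLimit_kernelFork (R.map q) (isFinLocFree_restrict W.ι (hP n)) hBW _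
      (KernelFork.mapIsLimit _ hker R)
  have hFP : (R.obj (P.homology n)).IsFinitePresentation :=
    isFinitePresentation_of_isColimit_cokernelCofork (R.map (P.toCycles (n - 1) n))
      (isFinLocFree_restrict W.ι (hP (n - 1))) hZW _
      (CokernelCofork.mapIsColimit _ (P.homologyIsCokernel (n - 1) n (by simp)) R)
  have hfl : IsFlatAt (R.obj (P.homology n)) ⟨y, hyW⟩ := isFlatAt_restrict _ W ⟨y, hyW⟩ hflat
  obtain ⟨W', hyW', hW'⟩ :=
    exists_isFinLocFree_restrict_of_isFlatAt (R.obj (P.homology n)) ⟨y, hyW⟩ hfl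
  have hle : (W'.ι ≫ W.ι).opensRange ≤ W := by
    rintro _ ⟨z, rfl⟩
    exact (W'.ι z).2
  refine ⟨(W'.ι ≫ W.ι).opensRange, ⟨⟨⟨y, hyW⟩, hyW'⟩, rfl⟩, hle, ?_, ?_⟩
  · exact isFinLocFree_restrict_of_le hle hZW
  · exact isFinLocFree_restrict_opensRange (W'.ι ≫ W.ι)
      (isFinLocFree_of_iso ((restrictFunctorComp W'.ι W.ι).app _).symm hW')

theorem isZero_cycles_of_isZero {Y : Scheme.{u}} (P : CochainComplex Y.Modules ℤ) (i : ℤ)
    (h : IsZero (P.X i)) : IsZero (P.cycles i) :=
  IsZero.of_mono (P.iCycles i) h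

theorem isZero_homology_of_isZero_X {Y : Scheme.{u}} (P : CochainComplex Y.Modules ℤ) (i : ℤ)
    (h : IsZero (P.X i)) : IsZero (P.homology i) :=
  ShortComplex.isZero_homology_of_isZero_X₂ _ h

/-- Lemma H: if all cohomology sheaves of a strictly perfect complex are flat at `y`, they are all
finite locally free near `y`. -/
theorem exists_finLocFree_nbhd {Y : Scheme.{u}} (P : CochainComplex Y.Modules ℤ)
    (hP : DCoh.IsStrictlyPerfect P) (y : Y) (hflat : ∀ i : ℤ, IsFlatAt (P.homology i) y) :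
    ∃ W : Y.Opens, y ∈ W ∧ ∀ i : ℤ, IsFinLocFree ((P.homology i).restrict W.ι) := by
  obtain ⟨⟨a, b, hab⟩, hfree⟩ := hP
  have key : ∀ k : ℕ, ∃ W : Y.Opens, y ∈ W ∧
      IsFinLocFree ((P.cycles (b + 1 - k)).restrict W.ι) ∧
      ∀ i : ℤ, b + 1 - k ≤ i → IsFinLocFree ((P.homology i).restrict W.ι) := by
    intro k
    induction k with
    | zero =>
      refine ⟨⊤, trivial, ?_, fun i hi => ?_⟩
      · apply isFinLocFree_of_isZero
        apply (restrictFunctor _).map_isZero
        apply isZero_cycles_of_isZero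
        exact hab _ (Or.inr (by simp))
      · apply isFinLocFree_of_isZero
        apply (restrictFunctor _).map_isZero
        apply isZero_homology_of_isZero_X
        exact hab _ (Or.inr (by simp at hi; omega))
    | succ k ih =>
      obtain ⟨W, hyW, hZ, hH⟩ := ih
      have e1 : b + 1 - (k : ℤ) = (b + 1 - ((k + 1 : ℕ) : ℤ)) + 1 := by push_cast; ring
      rw [e1] at hZ
      obtain ⟨W', hyW', hle, hZ', hH'⟩ := finLocFree_step P hfree y (b + 1 - ((k + 1 : ℕ) : ℤ))
        (hflat _) W hyW hZ (by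
          have := hH (b + 1 - ((k + 1 : ℕ) : ℤ) + 1) (by push_cast; omega)
          exact this)
      refine ⟨W', hyW', hZ', fun i hi => ?_⟩
      rcases eq_or_lt_of_le hi with rfl | hlt
      · exact hH'
      · exact isFinLocFree_restrict_of_le hle (hH i (by push_cast at hlt ⊢; omega))
  obtain ⟨W, hyW, -, hH⟩ := key (b + 1 - a).toNat
  refine ⟨W, hyW, fun i => ?_⟩
  by_cases hi : a ≤ i
  · apply hH
    have := Int.self_le_toNat (b + 1 - a)
    omega
  · apply isFinLocFree_of_isZero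
    apply (restrictFunctor _).map_isZero
    apply isZero_homology_of_isZero_X
    exact hab _ (Or.inl (by omega))

variable {X : Scheme.{u}}

theorem isQuasicoherent_HD_of_isPerfect (K : DCoh.D X) (hK : DCoh.IsPerfect K) (i : ℤ) :
    (DCoh.HD K i).IsQuasicoherent := by
  rw [isPerfect_iff] at hK
  apply isQuasicoherent_of_locally
  intro x
  obtain ⟨V, hxV, E, hE, ⟨e⟩⟩ := hK x
  exact ⟨V, hxV, isQuasicoherent_of_iso (homologyIsoOfPerfProp V.ι e i)
    (isQuasicoherent_homology hE i)⟩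

/-- **S0892**: the locus where all cohomology sheaves of a perfect object have finite free stalks
is open, and is the largest open over which all cohomology sheaves are finite locally free. -/
theorem exists_locFree_locus (E : DCoh.D X) (hE : DCoh.IsPerfect E) :
    ∃ U : X.Opens,
      (U : Set X) = {x : X | ∀ i : ℤ,
        Module.Free (X.presheaf.stalk x) ((DCoh.HD E i).presheaf.stalk x) ∧
        Module.Finite (X.presheaf.stalk x) ((DCoh.HD E i).presheaf.stalk x)} ∧
      (∀ i : ℤ, FlatMod.IsFinLocFree ((DCoh.HD E i).restrict U.ι)) ∧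
      ∀ W : X.Opens, (∀ i : ℤ, FlatMod.IsFinLocFree ((DCoh.HD E i).restrict W.ι)) → W ≤ U := by
  let Fam : Set X.Opens := {W | ∀ i : ℤ, IsFinLocFree ((DCoh.HD E i).restrict W.ι)}
  have hqc : ∀ i, (DCoh.HD E i).IsQuasicoherent := isQuasicoherent_HD_of_isPerfect E hE
  have hB : ∀ W ∈ Fam, ∀ x ∈ W, ∀ i : ℤ,
      Module.Free (X.presheaf.stalk x) ((DCoh.HD E i).presheaf.stalk x) ∧
        Module.Finite (X.presheaf.stalk x) ((DCoh.HD E i).presheaf.stalk x) := by
    intro W hW x hx i
    haveI := hqc i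
    obtain ⟨_, ⟨W', hW' : IsAffineOpen W', rfl⟩, hxW', hW'W⟩ :=
      (X.isBasis_affineOpens).exists_subset_of_mem_open hx W.2
    obtain ⟨h1, h2⟩ := finite_projective_Γ_of_isFinLocFree_restrict hW' (DCoh.HD E i)
      (isFinLocFree_restrict_of_le hW'W (hW i))
    exact free_stalk_of_finite_projective_Γ (DCoh.HD E i) hW' x hxW' h1 h2
  have hA : ∀ x : X, (∀ i : ℤ,
      Module.Free (X.presheaf.stalk x) ((DCoh.HD E i).presheaf.stalk x) ∧
        Module.Finite (X.presheaf.stalk x) ((DCoh.HD E i).presheaf.stalk x)) →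
      ∃ W ∈ Fam, x ∈ W := by
    intro x hx
    obtain ⟨V, hxV, P, hP, ⟨e⟩⟩ := (isPerfect_iff E).1 hE x
    have hfl : ∀ i : ℤ, IsFlatAt (P.homology i) (⟨x, hxV⟩ : (V : Scheme.{u})) := fun i => by
      have h1 : IsFlatAt (DCoh.HD E i) x := by
        haveI := (hx i).1
        exact (inferInstance : Module.Flat (X.presheaf.stalk x) ((DCoh.HD E i).presheaf.stalk x))
      exact isFlatAt_of_iso (homologyIsoOfPerfProp V.ι e i).symm _
        (isFlatAt_restrict _ V ⟨x, hxV⟩ h1)
    obtain ⟨W', hxW', hW'⟩ := exists_finLocFree_nbhd P hP ⟨x, hxV⟩ hfl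
    refine ⟨(W'.ι ≫ V.ι).opensRange, fun i => ?_, ⟨⟨⟨x, hxV⟩, hxW'⟩, rfl⟩⟩
    apply isFinLocFree_restrict_opensRange (W'.ι ≫ V.ι)
    apply isFinLocFree_of_iso ((restrictFunctorComp W'.ι V.ι).app _).symm
    exact isFinLocFree_of_iso ((restrictFunctor W'.ι).mapIso (homologyIsoOfPerfProp V.ι e i))
      (hW' i)
  refine ⟨sSup Fam, ?_, ?_, fun W hW => le_sSup hW⟩
  · ext x
    constructor
    · intro hx
      obtain ⟨W, hW, hxW⟩ := Opens.mem_sSup.1 hx
      exact hB W hW x hxW
    · intro hx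
      obtain ⟨W, hW, hxW⟩ := hA x hx
      exact Opens.mem_sSup.2 ⟨W, hW, hxW⟩
  · intro i
    apply isFinLocFree_of_locally
    rintro ⟨x, hx⟩
    obtain ⟨W, hW, hxW⟩ := Opens.mem_sSup.1 hx
    have hle : W ≤ sSup Fam := le_sSup hW
    refine ⟨W, X.homOfLE hle, inferInstance, ⟨⟨x, hxW⟩, Subtype.ext (by simp)⟩, ?_⟩
    exact isFinLocFree_of_iso
      (((restrictFunctorComp (X.homOfLE hle) (sSup Fam).ι).app (DCoh.HD E i)).symm ≪≫
        (restrictFunctorCongr (X.homOfLE_ι hle)).app (DCoh.HD E i)).symm (hW i)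

end Groth.Agent.Lib.Helper99.SPerf
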