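import Mathlib
import Groth.Agent.Lib.QCoh.Helper74_FlatOverExact
import Groth.Agent.Lib.Helper99.SPerf14b

/-!
# Flat amplitude + pseudo-coherent ⟹ perfect (helper99), part A: flat cycles
-/

set_option autoImplicit false
universe u
open CategoryTheory Limits AlgebraicGeometry Opposite TopologicalSpace

namespace Groth.Agent.Lib.Helper99.SPerf

open Groth.Agent.Lib.QCoh Scheme.Modules FlatMod

variable {Y : Scheme.{u}}

theorem isFlat_of_isZero' {M : Y.Modules} (h : IsZero M) : IsFlat M := by
  intro x
  have hz : IsZero ((stalkFunctor Y x).obj M) := (stalkFunctor Y x).map_isZero h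
  haveI : Subsingleton (M.presheaf.stalk x) :=
    AddCommGrpCat.isZero_iff_subsingleton.1 hz
  exact (inferInstance : Module.Flat (Y.presheaf.stalk x) (M.presheaf.stalk x))

theorem isFlat_of_iso' {M N : Y.Modules} (e : M ≅ N) (h : IsFlat M) : IsFlat N :=
  fun x => isFlatAt_of_iso e x (h x)

theorem isFlat_biprod {A B : Y.Modules} (hA : IsFlat A) (hB : IsFlat B) : IsFlat (A ⊞ B) := by
  let T : ShortComplex Y.Modules := ShortComplex.mk (biprod.inl : A ⟶ A ⊞ B) biprod.snd (by simp)
  have hT : T.ShortExact :=
    { exact := ShortComplex.Splitting.exact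
        { r := biprod.fst
          s := biprod.inr
          f_r := by simp [T]
          s_g := by simp [T]
          id := by simp [T] }
      mono_f := inferInstanceAs (Mono (biprod.inl : A ⟶ A ⊞ B))
      epi_g := inferInstanceAs (Epi (biprod.snd : A ⊞ B ⟶ B)) }
  exact (isFlat_iff_of_shortExact T hT hB).2 hA

theorem isFlat_restrict {X : Scheme.{u}} {M : X.Modules} (V : X.Opens) (h : IsFlat M) :
    IsFlat (M.restrict V.ι) :=
  fun x => isFlatAt_restrict M V x (h (V.ι x))

theorem epi_of_isColimit_cokernelCofork_of_isZero {C : Type*} [Category C] [Preadditive C]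
    {A B : C} {f : A ⟶ B} (c : CokernelCofork f) (hc : IsColimit c) (hz : IsZero c.pt) : Epi f := by
  apply Preadditive.epi_of_cancel_zero
  intro Z g hg
  have h1 : c.π ≫ hc.desc (CokernelCofork.ofπ g hg) = g :=
    hc.fac (CokernelCofork.ofπ g hg) WalkingParallelPair.one
  rw [← h1, hz.eq_of_tgt c.π 0, zero_comp]

/-- the cycles of a bounded above complex with flat terms which is exact in degrees `> n`
are flat in degrees `≥ n` -/
theorem isFlat_cycles_of_exact (C : CochainComplex Y.Modules ℤ) (n N : ℤ)
    (hfl : ∀ i : ℤ, n ≤ i → IsFlat (C.X i)) (hex : ∀ i : ℤ, n < i → C.ExactAt i)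
    (hN : ∀ i : ℤ, N < i → IsZero (C.X i)) : ∀ i : ℤ, n ≤ i → IsFlat (C.cycles i) := by
  have key : ∀ (k : ℕ) (i : ℤ), n ≤ i → N < i + k → IsFlat (C.cycles i) := by
    intro k
    induction k with
    | zero =>
      intro i _ hi
      exact isFlat_of_isZero' (isZero_cycles_of_isZero C i (hN i (by simpa using hi)))
    | succ k ih =>
      intro i hi hk
      have h1 : IsFlat (C.cycles (i + 1)) := ih (i + 1) (by omega) (by push_cast at hk; omega)
      let T : ShortComplex Y.Modules :=
        ShortComplex.mk (C.iCycles i) (C.toCycles i (i + 1))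
          (by rw [← cancel_mono (C.iCycles (i + 1))]; simp)
      have hepi : Epi (C.toCycles i (i + 1)) :=
        epi_of_isColimit_cokernelCofork_of_isZero _ (C.homologyIsCokernel i (i + 1) (by simp))
          ((hex (i + 1) (by omega)).isZero_homology)
      have hT : T.ShortExact :=
        { exact := by
            refine ShortComplex.exact_of_f_is_kernel _ ?_
            exact isKernelOfComp (C.iCycles (i + 1)) (C.d i (i + 1))
              (C.cyclesIsKernel i (i + 1) (by simp)) _ (by simp [T])
          mono_f := inferInstanceAs (Mono (C.iCycles i))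
          epi_g := hepi }
      exact (isFlat_iff_of_shortExact T hT h1).1 (hfl i hi)
  intro i hi
  exact key (N + 1 - i).toNat i hi (by have := Int.self_le_toNat (N + 1 - i); omega)

end Groth.Agent.Lib.Helper99.SPerf
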