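import Mathlib
import Groth.Agent.Lib.Helper99.SPerf15a

/-!
# Flat amplitude + pseudo-coherent ⟹ perfect (helper99), part B: the truncation is strictly perfect
-/

set_option autoImplicit false
universe u
open CategoryTheory Limits AlgebraicGeometry Opposite TopologicalSpace

attribute [local instance] HasDerivedCategory.standard

namespace Groth.Agent.Lib.Helper99.SPerf

open Groth.Agent.Lib.QCoh Scheme.Modules FlatMod

variable {Y : Scheme.{u}}

theorem isFlat_of_biprod_left {A B : Y.Modules} (hB : IsFlat B) (h : IsFlat (A ⊞ B)) : IsFlat A := by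
  let T : ShortComplex Y.Modules := ShortComplex.mk (biprod.inl : A ⟶ A ⊞ B) biprod.snd (by simp)
  have hT : T.ShortExact :=
    { exact := ShortComplex.Splitting.exact
        { r := biprod.fst
          s := biprod.inr
          f_r := by simp [T]
          s_g := by simp [T]
          id := by simp [T] }
      mono_f := inferInstanceAs (Mono (biprod.inl : A ⟶ A ⊞ B))
      epi_g := inferInstanceAs (Epi (biprod.snd : A ⊞ B ⟶ B)) }
  exact (isFlat_iff_of_shortExact T hT hB).1 h

theorem isZero_biprod' {A B : Y.Modules} (hA : IsZero A) (hB : IsZero B) : IsZero (A ⊞ B) := by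
  rw [IsZero.iff_id_eq_zero]
  apply biprod.hom_ext
  · exact hA.eq_of_tgt _ _
  · exact hB.eq_of_tgt _ _

/-- Core lemma: a strictly perfect complex mapping to a bounded complex of flat modules
concentrated in degrees `≥ a`, quasi-isomorphically in degrees `≥ a`: the target is perfect. -/
theorem exists_strictlyPerfect_of_flat (P F : CochainComplex Y.Modules ℤ)
    (hP : DCoh.IsStrictlyPerfect P) (a b : ℤ)
    (hFfl : ∀ i : ℤ, IsFlat (F.X i)) (hFa : ∀ i : ℤ, i < a → IsZero (F.X i))
    (hFb : ∀ i : ℤ, b < i → IsZero (F.X i))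
    (β : P ⟶ F) (hβ : ∀ i : ℤ, a ≤ i → QuasiIsoAt β i) :
    ∃ P' : CochainComplex Y.Modules ℤ, DCoh.IsStrictlyPerfect P' ∧
      (∀ i : ℤ, i < a → IsZero (P'.X i)) ∧
      Nonempty (DerivedCategory.Q.obj F ≅ DerivedCategory.Q.obj P') := by
  haveI : F.IsStrictlyGE a := (CochainComplex.isStrictlyGE_iff F a).2 hFa
  let P' := P.truncGE a
  let F' := F.truncGE a
  let β' : P' ⟶ F' := CochainComplex.truncGEMap β a
  haveI hqi : QuasiIso β' := (CochainComplex.quasiIso_truncGEMap_iff β a).2 hβ
  have eF : ∀ i : ℤ, F'.X i ≅ F.X i := fun i =>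
    ((HomologicalComplex.eval _ _ i).mapIso (asIso (F.πTruncGE a))).symm
  have eP : ∀ i : ℤ, a < i → (P'.X i ≅ P.X i) := fun i hi => P.truncGEXIso a i hi
  have eP0 : P'.X a ≅ P.opcycles a := P.truncGEXIsoOpcycles a
  have zP : ∀ i : ℤ, i < a → IsZero (P'.X i) := fun i hi =>
    CochainComplex.isZero_of_isStrictlyGE P' a i hi
  obtain ⟨⟨aP, bP, hab⟩, hfree⟩ := hP
  -- the cone
  let C := CochainComplex.mappingCone β'
  have eC : ∀ i : ℤ, C.X i ≅ P'.X (i + 1) ⊞ F'.X i := fun i =>
    HomologicalComplex.homotopyCofiber.XIsoBiprod β' i (i + 1) rfl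
  have hCex : ∀ i : ℤ, C.ExactAt i := by
    intro i
    rw [HomologicalComplex.exactAt_iff_isZero_homology]
    apply isZero_homology_mappingCone
    · infer_instance
    · infer_instance
  have hCfl : ∀ i : ℤ, a ≤ i → IsFlat (C.X i) := fun i hi =>
    isFlat_of_iso' (eC i).symm (isFlat_biprod
      (isFlat_of_iso' (eP (i + 1) (by omega)).symm (isFlat_of_isFinLocFree (hfree (i + 1))))
      (isFlat_of_iso' (eF i).symm (hFfl i)))
  have hCN : ∀ i : ℤ, max (max b bP) a < i → IsZero (C.X i) := by
    intro i hi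
    have h1 : b < i := lt_of_le_of_lt (le_trans (le_max_left _ _) (le_max_left _ _)) hi
    have h2 : bP < i := lt_of_le_of_lt (le_trans (le_max_right _ _) (le_max_left _ _)) hi
    have h3 : a < i := lt_of_le_of_lt (le_max_right _ _) hi
    refine IsZero.of_iso (isZero_biprod' ?_ ?_) (eC i)
    · exact (hab (i + 1) (Or.inr (by omega))).of_iso (eP (i + 1) (by omega))
    · exact (hFb i h1).of_iso (eF i)
  have hZa : IsFlat (C.cycles a) :=
    isFlat_cycles_of_exact C a (max (max b bP) a) hCfl (fun i _ => hCex i) hCN a le_rfl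
  have hz2 : IsZero (C.X (a - 2)) := by
    refine IsZero.of_iso (isZero_biprod' ?_ ?_) (eC (a - 2))
    · exact zP _ (by omega)
    · exact (hFa _ (by omega)).of_iso (eF _)
  have hmono : Mono (C.d (a - 1) a) := by
    have h1 : (C.sc' (a - 2) (a - 1) a).Exact :=
      (C.exactAt_iff' (a - 2) (a - 1) a (by simp; omega) (by simp)).1 (hCex (a - 1))
    exact h1.mono_g (hz2.eq_of_src _ _)
  have hiso : IsIso (C.toCycles (a - 1) a) := by
    haveI : Mono (C.toCycles (a - 1) a) := by
      haveI : Mono (C.toCycles (a - 1) a ≫ C.iCycles a) := by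
        rw [C.toCycles_i]; exact hmono
      exact mono_of_mono (C.toCycles (a - 1) a) (C.iCycles a)
    haveI : Epi (C.toCycles (a - 1) a) :=
      epi_of_isColimit_cokernelCofork_of_isZero _ (C.homologyIsCokernel (a - 1) a (by simp))
        ((hCex a).isZero_homology)
    exact isIso_of_mono_of_epi _
  have hop : IsFlat (P.opcycles a) := by
    have h1 : IsFlat (C.X (a - 1)) := isFlat_of_iso' (asIso (C.toCycles (a - 1) a)).symm hZa
    have h2 : IsFlat (P'.X (a - 1 + 1) ⊞ F'.X (a - 1)) := isFlat_of_iso' (eC (a - 1)) h1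
    have h3 : IsFlat (P'.X (a - 1 + 1)) :=
      isFlat_of_biprod_left (isFlat_of_isZero' ((hFa _ (by omega)).of_iso (eF _))) h2
    have e : P'.X (a - 1 + 1) ≅ P.opcycles a :=
      (HomologicalComplex.XIsoOfEq P' (by omega : a - 1 + 1 = a)) ≪≫ eP0
    exact isFlat_of_iso' e h3
  -- the opcycles are finite locally free
  have hfp : (P.opcycles a).IsFinitePresentation :=
    isFinitePresentation_of_isColimit_cokernelCofork (P.d (a - 1) a) (hfree (a - 1)) (hfree a) _
      (P.opcyclesIsCokernel (a - 1) a (by simp))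
  have hlf : IsFinLocFree (P.opcycles a) :=
    isFinLocFree_of_isFlat_of_isFinitePresentation (P.opcycles a) hop
  refine ⟨P', ⟨⟨a, max bP a, fun i hi => ?_⟩, fun i => ?_⟩, zP, ⟨?_⟩⟩
  · rcases hi with hi | hi
    · exact zP i hi
    · have h2 : bP < i := lt_of_le_of_lt (le_max_left _ _) hi
      have h3 : a < i := lt_of_le_of_lt (le_max_right _ _) hi
      exact (hab i (Or.inr h2)).of_iso (eP i h3)
  · rcases lt_trichotomy i a with hi | rfl | hi
    · exact isFinLocFree_of_isZero (zP i hi)
    · exact isFinLocFree_of_iso eP0.symm hlf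
    · exact isFinLocFree_of_iso (eP i hi).symm (hfree i)
  · haveI : IsIso (DerivedCategory.Q.map β') := by
      rw [DerivedCategory.isIso_Q_map_iff_quasiIso]; exact hqi
    exact DerivedCategory.Q.mapIso (asIso (F.πTruncGE a)) ≪≫ (asIso (DerivedCategory.Q.map β')).symm

end Groth.Agent.Lib.Helper99.SPerf
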