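import Mathlib
import Groth.Agent.Lib.Helper99.SPerf15b
import Groth.Prelude.Def_DTor2

/-!
# Flat amplitude + pseudo-coherent ⟹ perfect (helper99), part C
-/

set_option autoImplicit false
universe u
open CategoryTheory Limits AlgebraicGeometry Opposite TopologicalSpace

attribute [local instance] HasDerivedCategory.standard

namespace Groth.Agent.Lib.Helper99.SPerf

open Groth.Agent.Lib.QCoh Scheme.Modules FlatMod

theorem quasiIsoAt_of_isIso_homology_Q_map {C : Type*} [Category C] [Abelian C]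
    [HasDerivedCategory C] {E F : CochainComplex C ℤ} (t : E ⟶ F) (i : ℤ)
    (h : IsIso ((DerivedCategory.homologyFunctor C i).map (DerivedCategory.Q.map t))) :
    QuasiIsoAt t i := by
  rw [quasiIsoAt_iff_isIso_homologyMap]
  have key : (HomologicalComplex.homologyFunctor C (ComplexShape.up ℤ) i).map t =
      (DerivedCategory.homologyFunctorFactors C i).inv.app E ≫
        (DerivedCategory.homologyFunctor C i).map (DerivedCategory.Q.map t) ≫
        (DerivedCategory.homologyFunctorFactors C i).hom.app F := by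
    have := (DerivedCategory.homologyFunctorFactors C i).hom.naturality t
    dsimp only [Functor.comp_map] at this
    rw [this, Iso.inv_hom_id_app_assoc]
  change IsIso ((HomologicalComplex.homologyFunctor C (ComplexShape.up ℤ) i).map t)
  rw [key]
  infer_instance

variable {X : Scheme.{u}}

/-- **S0913** -/
theorem isPerfect_of_flatAmplitude_of_pseudoCoherent (E : DCoh.D X) (a b : ℤ)
    (h1 : DCoh.HasFlatAmplitudeIn a b E) (h2 : DCoh.IsPseudoCoherentD (a - 1) E) :
    DCoh.IsPerfect E := by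
  obtain ⟨F, hF, hFfl, ⟨eF⟩⟩ := h1
  rw [isPerfect_iff]
  rw [isPseudoCoherentD_iff] at h2
  intro x
  obtain ⟨V, hxV, P, α, hP, hα⟩ := h2 x
  let F_V := (restrCx V.ι).obj F
  let eV : (DCoh.restrictD V.ι).obj E ≅ DerivedCategory.Q.obj F_V :=
    (DCoh.restrictD V.ι).mapIso eF.symm ≪≫ restrictDQIso V.ι F
  let α' : DCoh.toD (V : Scheme.{u}) P ⟶ DCoh.toD (V : Scheme.{u}) F_V := α ≫ eV.hom
  have hα' : Cond (a - 1) α' := Cond.comp hα (Cond.of_isIso _)
  obtain ⟨V', hxV', hV'⟩ := exists_chain_map hP α' (⟨x, hxV⟩ : (V : Scheme.{u}))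
  obtain ⟨β, hβ⟩ := hV'
  have hc1 : Cond (a - 1) ((DCoh.restrictD V'.ι).map α') := hα'.map_restrictD V'.ι
  have hc2 : Cond (a - 1) (DerivedCategory.Q.map β) := by
    have e1 : DerivedCategory.Q.map β =
        (Scheme.Modules.restrictFunctor V'.ι).mapDerivedCategoryFactors.inv.app P ≫
          (DCoh.restrictD V'.ι).map α' ≫
          (Scheme.Modules.restrictFunctor V'.ι).mapDerivedCategoryFactors.hom.app F_V := by
      rw [hβ]
      simp
    rw [e1]
    exact Cond.comp (Cond.of_isIso _) (Cond.comp hc1 (Cond.of_isIso _))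
  have hqi : ∀ i : ℤ, a ≤ i → QuasiIsoAt β i := fun i hi =>
    quasiIsoAt_of_isIso_homology_Q_map β i (hc2.1 i (by omega))
  obtain ⟨P'', hP'', -, ⟨e''⟩⟩ := exists_strictlyPerfect_of_flat ((DCoh.restrictCx V').obj P)
    ((DCoh.restrictCx V').obj F_V) (isStrictlyPerfect_restrict V'.ι hP) a b
    (fun i => isFlat_restrict V' (isFlat_restrict V (hFfl i)))
    (fun i hi => (restrictFunctor V'.ι).map_isZero ((restrictFunctor V.ι).map_isZero
      (hF i (Or.inl hi))))
    (fun i hi => (restrictFunctor V'.ι).map_isZero ((restrictFunctor V.ι).map_isZero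
      (hF i (Or.inr hi)))) β hqi
  refine (isLocalProp_perf E).of_two_step V V' x hxV hxV' ⟨P'', hP'', ⟨?_⟩⟩
  exact (DCoh.restrictD V'.ι).mapIso eV ≪≫ restrictDQIso V'.ι F_V ≪≫ e''

end Groth.Agent.Lib.Helper99.SPerf
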