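import Mathlib
import Groth.Agent.Lib.Helper99.SPerf15c

/-!
# Perfect ⟺ pseudo-coherent + locally finite tor dimension (helper99)
-/

set_option autoImplicit false
universe u
open CategoryTheory Limits AlgebraicGeometry Opposite TopologicalSpace

attribute [local instance] HasDerivedCategory.standard

namespace Groth.Agent.Lib.Helper99.SPerf

open Groth.Agent.Lib.QCoh Scheme.Modules FlatMod

variable {X : Scheme.{u}}

theorem isPseudoCoherentD_of_isPerfect (K : DCoh.D X) (hK : DCoh.IsPerfect K) (m : ℤ) :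
    DCoh.IsPseudoCoherentD m K := by
  rw [isPerfect_iff] at hK
  rw [isPseudoCoherentD_iff]
  intro x
  obtain ⟨V, hxV, P, hP, ⟨e⟩⟩ := hK x
  exact ⟨V, hxV, P, e.inv, hP, Cond.of_isIso _⟩

/-- transport of a local property to an open subscheme -/
theorem IsLocalProp.restrict_open {P : ∀ (U : Scheme.{u}), (DCoh.D X ⥤ DCoh.D U) → Prop}
    (hP : IsLocalProp P) (V W : X.Opens) (h : P W (DCoh.restrictD W.ι)) :
    P (V.ι ⁻¹ᵁ W : (V : Scheme.{u}).Opens)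
      (DCoh.restrictD V.ι ⋙ DCoh.restrictD (V.ι ⁻¹ᵁ W).ι) := by
  let V'' : (V : Scheme.{u}).Opens := V.ι ⁻¹ᵁ W
  have hr : Set.range (V''.ι ≫ V.ι).base ⊆ Set.range W.ι.base := by
    rintro _ ⟨z, rfl⟩
    have hz : V.ι (V''.ι z) ∈ W := z.2
    exact ⟨⟨_, hz⟩, rfl⟩
  let k : (V'' : Scheme.{u}) ⟶ (W : Scheme.{u}) := IsOpenImmersion.lift W.ι (V''.ι ≫ V.ι) hr
  haveI : IsOpenImmersion k := by
    have hk : k ≫ W.ι = V''.ι ≫ V.ι := IsOpenImmersion.lift_fac _ _ _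
    exact IsOpenImmersion.of_comp k W.ι
  have hk : k ≫ W.ι = V''.ι ≫ V.ι := IsOpenImmersion.lift_fac _ _ _
  have h1 : P V'' (DCoh.restrictD (k ≫ W.ι)) := hP.comp W.ι k h
  exact hP.iso (restrictDCongr hk ≪≫ restrictDComp V''.ι V.ι) h1

theorem isPseudoCoherentD_restrict (m : ℤ) (K : DCoh.D X) (V : X.Opens)
    (h : DCoh.IsPseudoCoherentD m K) : DCoh.IsPseudoCoherentD m ((DCoh.restrictD V.ι).obj K) := by
  rw [isPseudoCoherentD_iff] at h ⊢
  intro x'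
  obtain ⟨W, hxW, hW⟩ := h (V.ι x')
  refine ⟨V.ι ⁻¹ᵁ W, hxW, ?_⟩
  exact (isLocalProp_pc m K).restrict_open V W hW

theorem isPerfect_of_locally (K : DCoh.D X)
    (h : ∀ x : X, ∃ V : X.Opens, x ∈ V ∧ DCoh.IsPerfect ((DCoh.restrictD V.ι).obj K)) :
    DCoh.IsPerfect K := by
  rw [isPerfect_iff]
  intro x
  obtain ⟨V, hxV, hV⟩ := h x
  rw [isPerfect_iff] at hV
  obtain ⟨V', hxV', hV'⟩ := hV ⟨x, hxV⟩
  exact (isLocalProp_perf K).of_two_step V V' x hxV hxV' hV'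

/-- **S0914** -/
theorem isPerfect_iff_pseudoCoherent_locFiniteTorDim (E : DCoh.D X) :
    DCoh.IsPerfect E ↔ (∀ m : ℤ, DCoh.IsPseudoCoherentD m E) ∧ DCoh.LocHasFiniteTorDim E := by
  constructor
  · intro hE
    refine ⟨isPseudoCoherentD_of_isPerfect E hE, fun x => ?_⟩
    obtain ⟨V, hxV, P, hP, ⟨e⟩⟩ := (isPerfect_iff E).1 hE x
    obtain ⟨⟨a, b, hab⟩, hfree⟩ := hP
    refine ⟨V, a, b, hxV, fun F' ⟨eF'⟩ => ⟨P, hab, fun i => isFlat_of_isFinLocFree (hfree i), ⟨?_⟩⟩⟩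
    exact e.symm ≪≫ (DCoh.restrictD V.ι).mapIso eF'.symm ≪≫ restrictDQIso V.ι F'
  · rintro ⟨hpc, htor⟩
    apply isPerfect_of_locally
    intro x
    obtain ⟨V, a, b, hxV, hV⟩ := htor x
    refine ⟨V, hxV, ?_⟩
    let F' := (DerivedCategory.Q : _ ⥤ DCoh.D X).objPreimage E
    let eF' : DerivedCategory.Q.obj F' ≅ E := DerivedCategory.Q.objObjPreimageIso E
    have h1 := hV F' ⟨eF'⟩
    let eV : (DCoh.restrictD V.ι).obj E ≅ DerivedCategory.Q.obj ((DCoh.restrictCx V).obj F') :=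
      (DCoh.restrictD V.ι).mapIso eF'.symm ≪≫ restrictDQIso V.ι F'
    have h2 : DCoh.HasFlatAmplitudeIn a b ((DCoh.restrictD V.ι).obj E) := by
      obtain ⟨G, hG, hGfl, ⟨eG⟩⟩ := h1
      exact ⟨G, hG, hGfl, ⟨eG ≪≫ eV.symm⟩⟩
    exact isPerfect_of_flatAmplitude_of_pseudoCoherent _ a b h2
      (isPseudoCoherentD_restrict (a - 1) E V (hpc (a - 1)))

end Groth.Agent.Lib.Helper99.SPerf
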