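import Mathlib
import Groth.Agent.Lib.Helper99.SPerf15d

/-!
# Perfect amplitude (helper99), part A: flatness of the bottom opcycles of a flat resolution
-/

set_option autoImplicit false
universe u
open CategoryTheory Limits AlgebraicGeometry Opposite TopologicalSpace

attribute [local instance] HasDerivedCategory.standard

namespace Groth.Agent.Lib.Helper99.SPerf

open Groth.Agent.Lib.QCoh Scheme.Modules FlatMod

variable {X : Scheme.{u}}

/-- flatness at a point can be checked on an open subscheme -/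
theorem isFlatAt_of_restrict (F : X.Modules) (V : X.Opens) (x : V)
    (h : IsFlatAt (F.restrict V.ι) x) : IsFlatAt F (x : X) := by
  obtain ⟨_, ⟨U', hU' : IsAffineOpen U', rfl⟩, hxU', -⟩ :=
    ((V : Scheme.{u}).isBasis_affineOpens).exists_subset_of_mem_open (Set.mem_univ x) isOpen_univ
  let U : X.Opens := V.ι ''ᵁ U'
  have hU : IsAffineOpen U := hU'.image_of_isOpenImmersion V.ι
  have hxU : (x : X) ∈ U := ⟨x, hxU', rfl⟩
  letI a₁ := X.presheaf.algebra_section_stalk ⟨(x : X), hxU⟩
  letI m₁ := stalkModuleOfOpen F U x hxU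
  have t₁ : IsScalarTower Γ(X, U) (X.presheaf.stalk (x : X)) (F.presheaf.stalk (x : X)) :=
    .of_algebraMap_smul fun _ _ => rfl
  have l₁ := hU.isLocalization_stalk ⟨(x : X), hxU⟩
  letI a₂ := (V : Scheme.{u}).presheaf.algebra_section_stalk ⟨x, hxU'⟩
  letI m₂ := stalkModuleOfOpen (F.restrict V.ι) U' x hxU'
  have t₂ : IsScalarTower Γ(V, U') ((V : Scheme.{u}).presheaf.stalk x)
      ((F.restrict V.ι).presheaf.stalk x) :=
    .of_algebraMap_smul fun _ _ => rfl
  have l₂ := hU'.isLocalization_stalk ⟨x, hxU'⟩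
  have f₂ : Module.Flat Γ(V, U') ((F.restrict V.ι).presheaf.stalk x) :=
    (Module.flat_iff_of_isLocalization ((V : Scheme.{u}).presheaf.stalk x)
      (hU'.primeIdealOf ⟨x, hxU'⟩).asIdeal.primeCompl _).1 h
  refine (Module.flat_iff_of_isLocalization (X.presheaf.stalk (x : X))
      (hU.primeIdealOf ⟨x, hxU⟩).asIdeal.primeCompl _).2 ?_
  letI m₁' : Module Γ(V, U') (F.presheaf.stalk (x : X)) := m₁
  have hb : Function.Bijective (restrictStalkIso F V x).hom :=
    (ConcreteCategory.isIso_iff_bijective _).1 inferInstance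
  let l : (F.restrict V.ι).presheaf.stalk x →ₗ[Γ(V, U')] F.presheaf.stalk (x : X) :=
      { toFun := (restrictStalkIso F V x).hom
        map_add' := map_add _
        map_smul' := fun r n => restrictStalkIso_smul F V x U' hxU' r n }
  let L : (F.restrict V.ι).presheaf.stalk x ≃ₗ[Γ(V, U')] F.presheaf.stalk (x : X) :=
    LinearEquiv.ofBijective l hb
  have f₁' : Module.Flat Γ(V, U') (F.presheaf.stalk (x : X)) := Module.Flat.of_linearEquiv L.symm
  exact f₁'

variable {Y : Scheme.{u}}

theorem isFlat_of_biprod_right {A B : Y.Modules} (hA : IsFlat A) (h : IsFlat (A ⊞ B)) :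
    IsFlat B :=
  isFlat_of_biprod_left hA (isFlat_of_iso' (biprod.braiding A B) h)

/-- restriction commutes with opcycles -/
noncomputable def opcyclesRestrictIso {U : Scheme.{u}} (j : U ⟶ Y) [IsOpenImmersion j]
    (K : CochainComplex Y.Modules ℤ) (m : ℤ) :
    ((restrCx j).obj K).opcycles m ≅ (restrictFunctor j).obj (K.opcycles m) :=
  IsColimit.coconePointUniqueUpToIso
    (((restrCx j).obj K).opcyclesIsCokernel (m - 1) m (by simp))
    (CokernelCofork.mapIsColimit _ (K.opcyclesIsCokernel (m - 1) m (by simp)) (restrictFunctor j))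

theorem cycles_comp_zero (C : CochainComplex Y.Modules ℤ) (i : ℤ) :
    C.iCycles i ≫ C.toCycles i (i + 1) = 0 := by
  rw [← cancel_mono (C.iCycles (i + 1))]; simp

theorem shortExact_cycles (C : CochainComplex Y.Modules ℤ) (i : ℤ) (hex : C.ExactAt (i + 1)) :
    (ShortComplex.mk (C.iCycles i) (C.toCycles i (i + 1)) (cycles_comp_zero C i)).ShortExact :=
  { exact := by
      refine ShortComplex.exact_of_f_is_kernel _ ?_
      exact isKernelOfComp (C.iCycles (i + 1)) (C.d i (i + 1))
        (C.cyclesIsKernel i (i + 1) (by simp)) _ (by simp)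
    mono_f := inferInstanceAs (Mono (C.iCycles i))
    epi_g := epi_of_isColimit_cokernelCofork_of_isZero _
      (C.homologyIsCokernel i (i + 1) (by simp)) hex.isZero_homology }

/-- Lemma W: if a bounded above complex `K` of flat modules receives a quasi-isomorphism from a
bounded above complex of flat modules concentrated in degrees `≥ m`, then `coker(K^{m-1} → K^m)` is
flat. -/
theorem isFlat_opcycles_of_quasiIso (P K : CochainComplex Y.Modules ℤ) (m N : ℤ)
    (hPfl : ∀ i : ℤ, IsFlat (P.X i)) (hPm : ∀ i : ℤ, i < m → IsZero (P.X i))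
    (hPN : ∀ i : ℤ, N < i → IsZero (P.X i))
    (hKfl : ∀ i : ℤ, IsFlat (K.X i)) (hKN : ∀ i : ℤ, N < i → IsZero (K.X i))
    (β : P ⟶ K) [QuasiIso β] : IsFlat (K.opcycles m) := by
  let T := K.truncGE m
  haveI : K.IsGE m := by
    rw [CochainComplex.isGE_iff]
    intro i hi
    rw [HomologicalComplex.exactAt_iff_isZero_homology]
    exact (isZero_homology_of_isZero_X P i (hPm i hi)).of_iso
      (asIso (HomologicalComplex.homologyMap β i)).symm
  let β'' : P ⟶ T := β ≫ K.πTruncGE m
  haveI : QuasiIso β'' := inferInstance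
  have eT : ∀ i : ℤ, m < i → (T.X i ≅ K.X i) := fun i hi => K.truncGEXIso m i hi
  have eT0 : T.X m ≅ K.opcycles m := K.truncGEXIsoOpcycles m
  have zT : ∀ i : ℤ, i < m → IsZero (T.X i) := fun i hi =>
    CochainComplex.isZero_of_isStrictlyGE T m i hi
  let C := CochainComplex.mappingCone β''
  have eC : ∀ i : ℤ, C.X i ≅ P.X (i + 1) ⊞ T.X i := fun i =>
    HomologicalComplex.homotopyCofiber.XIsoBiprod β'' i (i + 1) rfl
  have hCex : ∀ i : ℤ, C.ExactAt i := by
    intro i
    rw [HomologicalComplex.exactAt_iff_isZero_homology]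
    apply isZero_homology_mappingCone
    · infer_instance
    · infer_instance
  have hCfl : ∀ i : ℤ, m + 1 ≤ i → IsFlat (C.X i) := fun i hi =>
    isFlat_of_iso' (eC i).symm (isFlat_biprod (hPfl (i + 1))
      (isFlat_of_iso' (eT i (by omega)).symm (hKfl i)))
  have hCN : ∀ i : ℤ, max N m < i → IsZero (C.X i) := by
    intro i hi
    have h1 : N < i := lt_of_le_of_lt (le_max_left _ _) hi
    have h3 : m < i := lt_of_le_of_lt (le_max_right _ _) hi
    refine IsZero.of_iso (isZero_biprod' ?_ ?_) (eC i)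
    · exact hPN (i + 1) (by omega)
    · exact (hKN i h1).of_iso (eT i h3)
  have hZ1 : IsFlat (C.cycles (m + 1)) :=
    isFlat_cycles_of_exact C (m + 1) (max N m) hCfl (fun i _ => hCex i) hCN (m + 1) le_rfl
  have hz2 : IsZero (C.X (m - 2)) := by
    refine IsZero.of_iso (isZero_biprod' ?_ ?_) (eC (m - 2))
    · exact hPm _ (by omega)
    · exact zT _ (by omega)
  have hmono : Mono (C.d (m - 1) m) := by
    have h1 : (C.sc' (m - 2) (m - 1) m).Exact :=
      (C.exactAt_iff' (m - 2) (m - 1) m (by simp; omega) (by simp)).1 (hCex (m - 1))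
    exact h1.mono_g (hz2.eq_of_src _ _)
  have hiso : IsIso (C.toCycles (m - 1) m) := by
    haveI : Mono (C.toCycles (m - 1) m) := by
      haveI : Mono (C.toCycles (m - 1) m ≫ C.iCycles m) := by
        rw [C.toCycles_i]; exact hmono
      exact mono_of_mono (C.toCycles (m - 1) m) (C.iCycles m)
    haveI : Epi (C.toCycles (m - 1) m) :=
      epi_of_isColimit_cokernelCofork_of_isZero _ (C.homologyIsCokernel (m - 1) m (by simp))
        ((hCex m).isZero_homology)
    exact isIso_of_mono_of_epi _
  have h1 : IsFlat (C.X (m - 1)) :=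
    isFlat_of_iso' (eC (m - 1)).symm (isFlat_biprod (hPfl _)
      (isFlat_of_isZero' (zT _ (by omega))))
  have hZ0 : IsFlat (C.cycles m) := isFlat_of_iso' (asIso (C.toCycles (m - 1) m)) h1
  have hCm : IsFlat (C.X m) :=
    (isFlat_iff_of_shortExact _ (shortExact_cycles C m (hCex (m + 1))) hZ1).2 hZ0
  have hTm : IsFlat (T.X m) := isFlat_of_biprod_right (hPfl (m + 1)) (isFlat_of_iso' (eC m) hCm)
  exact isFlat_of_iso' eT0 hTm

end Groth.Agent.Lib.Helper99.SPerf
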