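import Mathlib
import Groth.Agent.Lib.Helper99.SPerf16a
import Groth.Prelude.Def_KSix

/-!
# Perfect amplitude (helper99), part B: local property, top truncation, and the direction
"pseudo-coherent + flat amplitude ⟹ perfect amplitude"
-/

set_option autoImplicit false
universe u
open CategoryTheory Limits AlgebraicGeometry Opposite TopologicalSpace

attribute [local instance] HasDerivedCategory.standard

namespace Groth.Agent.Lib.Helper99.SPerf

open Groth.Agent.Lib.QCoh Scheme.Modules FlatMod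

variable {X : Scheme.{u}}

/-- local property underlying perfect amplitude -/
def PerfAmpProp (m n : ℤ) (K : DCoh.D X) (U : Scheme.{u}) (Φ : DCoh.D X ⥤ DCoh.D U) : Prop :=
  ∃ E : CochainComplex U.Modules ℤ, DCoh.VanishesOutside E m n ∧
    (∀ i : ℤ, IsFinLocFree (E.X i)) ∧ Nonempty (Φ.obj K ≅ DerivedCategory.Q.obj E)

theorem isLocalProp_perfAmp (m n : ℤ) (K : DCoh.D X) : IsLocalProp (PerfAmpProp m n K) where
  post Φ k _ h := by
    obtain ⟨E, hE, hfl, ⟨e⟩⟩ := h
    exact ⟨(restrCx k).obj E, fun i hi => isZero_restrCx_X k i (hE i hi),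
      fun i => isFinLocFree_restrict k (hfl i),
      ⟨(DCoh.restrictD k).mapIso e ≪≫ restrictDQIso k E⟩⟩
  iso e h := by
    obtain ⟨E, hE, hfl, ⟨e'⟩⟩ := h
    exact ⟨E, hE, hfl, ⟨(e.app K).symm ≪≫ e'⟩⟩

theorem hasPerfectAmplitudeIn_iff (m n : ℤ) (K : DCoh.D X) :
    KSix.HasPerfectAmplitudeIn m n K ↔
      ∀ x : X, ∃ V : X.Opens, x ∈ V ∧ PerfAmpProp m n K V (DCoh.restrictD V.ι) := by
  constructor
  · intro h x
    obtain ⟨V, hx, hV⟩ := h x
    refine ⟨V, hx, ?_⟩
    let F := (DerivedCategory.Q : _ ⥤ DCoh.D X).objPreimage K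
    let eK : DerivedCategory.Q.obj F ≅ K := DerivedCategory.Q.objObjPreimageIso K
    obtain ⟨E, hE, hfl, ⟨e⟩⟩ := hV F ⟨eK⟩
    exact ⟨E, hE, hfl, ⟨(DCoh.restrictD V.ι).mapIso eK.symm ≪≫ restrictDQIso V.ι F ≪≫ e⟩⟩
  · intro h x
    obtain ⟨V, hx, E, hE, hfl, ⟨e⟩⟩ := h x
    refine ⟨V, hx, fun F ⟨eK⟩ => ⟨E, hE, hfl, ⟨?_⟩⟩⟩
    exact (restrictDQIso V.ι F).symm ≪≫ (DCoh.restrictD V.ι).mapIso eK ≪≫ e

variable {Y : Scheme.{u}}

/-- Lemma U: top truncation of a strictly perfect complex without cohomology above `n` -/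
theorem exists_truncLE_finLocFree (P : CochainComplex Y.Modules ℤ)
    (hP : DCoh.IsStrictlyPerfect P) (m n : ℤ) (hmn : m ≤ n)
    (hm : ∀ i : ℤ, i < m → IsZero (P.X i)) (hH : ∀ i : ℤ, n < i → IsZero (P.homology i)) :
    ∃ P'' : CochainComplex Y.Modules ℤ, DCoh.VanishesOutside P'' m n ∧
      (∀ i : ℤ, IsFinLocFree (P''.X i)) ∧
      Nonempty (DerivedCategory.Q.obj P ≅ DerivedCategory.Q.obj P'') := by
  haveI : P.IsLE n := by
    rw [CochainComplex.isLE_iff]
    intro i hi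
    rw [HomologicalComplex.exactAt_iff_isZero_homology]
    exact hH i hi
  let P'' := P.truncLE n
  have e1 : ∀ i : ℤ, i < n → (P''.X i ≅ P.X i) := fun i hi => P.truncLEXIso n i hi
  have e0 : P''.X n ≅ P.cycles n := P.truncLEXIsoCycles n
  have z : ∀ i : ℤ, n < i → IsZero (P''.X i) := fun i hi =>
    CochainComplex.isZero_of_isStrictlyLE P'' n i hi
  refine ⟨P'', fun i hi => ?_, fun i => ?_, ⟨?_⟩⟩
  · rcases hi with hi | hi
    · exact (hm i hi).of_iso (e1 i (by omega))
    · exact z i hi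
  · rcases lt_trichotomy i n with hi | rfl | hi
    · exact isFinLocFree_of_iso (e1 i hi).symm (hP.2 i)
    · exact isFinLocFree_of_iso e0.symm (isFinLocFree_cycles hP i hH i le_rfl)
    · exact isFinLocFree_of_isZero (z i hi)
  · haveI : IsIso (DerivedCategory.Q.map (P.ιTruncLE n)) := by
      rw [DerivedCategory.isIso_Q_map_iff_quasiIso]; infer_instance
    exact (asIso (DerivedCategory.Q.map (P.ιTruncLE n))).symm

theorem isZero_homology_of_iso_Q {A B : CochainComplex Y.Modules ℤ}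
    (e : DerivedCategory.Q.obj A ≅ DerivedCategory.Q.obj B) (i : ℤ) (h : IsZero (A.homology i)) :
    IsZero (B.homology i) :=
  h.of_iso ((homologyQIso B i).symm ≪≫
    (DerivedCategory.homologyFunctor _ i).mapIso e.symm ≪≫ homologyQIso A i)

end Groth.Agent.Lib.Helper99.SPerf
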