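import Mathlib
import Groth.Agent.Lib.Helper99.SPerf16b
import Groth.Agent.Lib.Helper94.FlatResScheme

/-!
# Perfect amplitude ⟺ pseudo-coherent + flat amplitude (helper99)
-/

set_option autoImplicit false
universe u
open CategoryTheory Limits AlgebraicGeometry Opposite TopologicalSpace

attribute [local instance] HasDerivedCategory.standard

namespace Groth.Agent.Lib.Helper99.SPerf

open Groth.Agent.Lib.QCoh Scheme.Modules FlatMod

variable {X : Scheme.{u}}

/-- pseudo-coherent + flat amplitude ⟹ perfect amplitude -/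
theorem hasPerfectAmplitudeIn_of_pc_flat (E : DCoh.D X) (m n : ℤ) (hmn : m ≤ n)
    (h1 : DCoh.IsPseudoCoherentD (m - 1) E) (h2 : DCoh.HasFlatAmplitudeIn m n E) :
    KSix.HasPerfectAmplitudeIn m n E := by
  obtain ⟨F, hF, hFfl, ⟨eF⟩⟩ := h2
  rw [hasPerfectAmplitudeIn_iff]
  rw [isPseudoCoherentD_iff] at h1
  intro x
  obtain ⟨V, hxV, P, α, hP, hα⟩ := h1 x
  let F_V := (restrCx V.ι).obj F
  let eV : (DCoh.restrictD V.ι).obj E ≅ DerivedCategory.Q.obj F_V :=
    (DCoh.restrictD V.ι).mapIso eF.symm ≪≫ restrictDQIso V.ι F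
  let α' : DCoh.toD (V : Scheme.{u}) P ⟶ DCoh.toD (V : Scheme.{u}) F_V := α ≫ eV.hom
  have hα' : Cond (m - 1) α' := Cond.comp hα (Cond.of_isIso _)
  obtain ⟨V', hxV', hV'⟩ := exists_chain_map hP α' (⟨x, hxV⟩ : (V : Scheme.{u}))
  obtain ⟨β, hβ⟩ := hV'
  have hc1 : Cond (m - 1) ((DCoh.restrictD V'.ι).map α') := hα'.map_restrictD V'.ι
  have hc2 : Cond (m - 1) (DerivedCategory.Q.map β) := by
    have e1 : DerivedCategory.Q.map β =
        (Scheme.Modules.restrictFunctor V'.ι).mapDerivedCategoryFactors.inv.app P ≫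
          (DCoh.restrictD V'.ι).map α' ≫
          (Scheme.Modules.restrictFunctor V'.ι).mapDerivedCategoryFactors.hom.app F_V := by
      rw [hβ]
      simp
    rw [e1]
    exact Cond.comp (Cond.of_isIso _) (Cond.comp hc1 (Cond.of_isIso _))
  have hqi : ∀ i : ℤ, m ≤ i → QuasiIsoAt β i := fun i hi =>
    quasiIsoAt_of_isIso_homology_Q_map β i (hc2.1 i (by omega))
  have hzb : ∀ i : ℤ, n < i → IsZero (((DCoh.restrictCx V').obj F_V).X i) := fun i hi =>
    (restrictFunctor V'.ι).map_isZero ((restrictFunctor V.ι).map_isZero (hF i (Or.inr hi)))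
  obtain ⟨P'', hP'', hz, ⟨e''⟩⟩ := exists_strictlyPerfect_of_flat ((DCoh.restrictCx V').obj P)
    ((DCoh.restrictCx V').obj F_V) (isStrictlyPerfect_restrict V'.ι hP) m n
    (fun i => isFlat_restrict V' (isFlat_restrict V (hFfl i)))
    (fun i hi => (restrictFunctor V'.ι).map_isZero ((restrictFunctor V.ι).map_isZero
      (hF i (Or.inl hi)))) hzb β hqi
  have hH : ∀ i : ℤ, n < i → IsZero (P''.homology i) := fun i hi =>
    isZero_homology_of_iso_Q e'' i (isZero_homology_of_isZero_X _ i (hzb i hi))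
  obtain ⟨P3, hv, hfl, ⟨e3⟩⟩ := exists_truncLE_finLocFree P'' hP'' m n hmn hz hH
  refine (isLocalProp_perfAmp m n E).of_two_step V V' x hxV hxV' ⟨P3, hv, hfl, ⟨?_⟩⟩
  exact (DCoh.restrictD V'.ι).mapIso eV ≪≫ restrictDQIso V'.ι F_V ≪≫ e'' ≪≫ e3

theorem isZero_HD_of_perfAmp (E : DCoh.D X) (m n : ℤ)
    (h : ∀ x : X, ∃ V : X.Opens, x ∈ V ∧ PerfAmpProp m n E V (DCoh.restrictD V.ι)) (i : ℤ)
    (hi : i < m ∨ n < i) : IsZero (DCoh.HD E i) := by
  apply isZero_of_locally
  intro x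
  obtain ⟨V, hxV, P, hv, hfl, ⟨e⟩⟩ := h x
  exact ⟨V, hxV, (isZero_homology_of_isZero_X P i (hv i hi)).of_iso
    (homologyIsoOfPerfProp V.ι e i).symm⟩

/-- perfect amplitude ⟹ flat amplitude (global flat representative) -/
theorem hasFlatAmplitudeIn_of_perfAmp (E : DCoh.D X) (m n : ℤ) (hmn : m ≤ n)
    (h : ∀ x : X, ∃ V : X.Opens, x ∈ V ∧ PerfAmpProp m n E V (DCoh.restrictD V.ι)) :
    DCoh.HasFlatAmplitudeIn m n E := by
  let F₀ := (DerivedCategory.Q : _ ⥤ DCoh.D X).objPreimage E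
  let e₀ : DerivedCategory.Q.obj F₀ ≅ E := DerivedCategory.Q.objObjPreimageIso E
  have hH₀ : ∀ i : ℤ, (i < m ∨ n < i) → IsZero (F₀.homology i) := fun i hi =>
    (isZero_HD_of_perfAmp E m n h i hi).of_iso ((homologyQIso F₀ i).symm ≪≫
      (DerivedCategory.homologyFunctor _ i).mapIso e₀)
  haveI : F₀.IsLE n := by
    rw [CochainComplex.isLE_iff]
    intro i hi
    rw [HomologicalComplex.exactAt_iff_isZero_homology]
    exact hH₀ i (Or.inr hi)
  let F₁ := F₀.truncLE n
  obtain ⟨K, q, hq, hKN, hKfl⟩ :=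
    Groth.Agent.Lib.Helper94.FlatResScheme.exists_bdd_flat_resolution F₁ n
      (fun i hi => CochainComplex.isZero_of_isStrictlyLE F₁ n i hi)
  haveI := hq
  haveI : IsIso (DerivedCategory.Q.map q) := by
    rw [DerivedCategory.isIso_Q_map_iff_quasiIso]; infer_instance
  haveI : IsIso (DerivedCategory.Q.map (F₀.ιTruncLE n)) := by
    rw [DerivedCategory.isIso_Q_map_iff_quasiIso]; infer_instance
  let eK : DerivedCategory.Q.obj K ≅ E :=
    asIso (DerivedCategory.Q.map q) ≪≫ asIso (DerivedCategory.Q.map (F₀.ιTruncLE n)) ≪≫ e₀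
  have hHK : ∀ i : ℤ, i < m → IsZero (K.homology i) := fun i hi =>
    (isZero_HD_of_perfAmp E m n h i (Or.inl hi)).of_iso ((homologyQIso K i).symm ≪≫
      (DerivedCategory.homologyFunctor _ i).mapIso eK)
  haveI : K.IsGE m := by
    rw [CochainComplex.isGE_iff]
    intro i hi
    rw [HomologicalComplex.exactAt_iff_isZero_homology]
    exact hHK i hi
  let G := K.truncGE m
  have hop : IsFlat (K.opcycles m) := by
    intro x
    obtain ⟨V, hxV, P, hv, hfl, ⟨e⟩⟩ := h x
    let K_V := (restrCx V.ι).obj K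
    let φ : DCoh.toD (V : Scheme.{u}) P ≅ DCoh.toD (V : Scheme.{u}) K_V :=
      e.symm ≪≫ (DCoh.restrictD V.ι).mapIso eK.symm ≪≫ restrictDQIso V.ι K
    have hP : DCoh.IsStrictlyPerfect P := ⟨⟨m, n, hv⟩, hfl⟩
    obtain ⟨V', hxV', hV'⟩ := exists_chain_map hP φ.hom (⟨x, hxV⟩ : (V : Scheme.{u}))
    obtain ⟨β, hβ⟩ := hV'
    have hiso : IsIso (DerivedCategory.Q.map β) := by
      have e1 : DerivedCategory.Q.map β =
          (Scheme.Modules.restrictFunctor V'.ι).mapDerivedCategoryFactors.inv.app P ≫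
            (DCoh.restrictD V'.ι).map φ.hom ≫
            (Scheme.Modules.restrictFunctor V'.ι).mapDerivedCategoryFactors.hom.app K_V := by
        rw [hβ]
        simp
      rw [e1]
      infer_instance
    haveI : QuasiIso β := (DerivedCategory.isIso_Q_map_iff_quasiIso _ β).1 hiso
    have hW := isFlat_opcycles_of_quasiIso ((DCoh.restrictCx V').obj P)
      ((DCoh.restrictCx V').obj K_V) m n
      (fun i => isFlat_of_isFinLocFree (isFinLocFree_restrict V'.ι (hfl i)))
      (fun i hi => (restrictFunctor V'.ι).map_isZero (hv i (Or.inl hi)))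
      (fun i hi => (restrictFunctor V'.ι).map_isZero (hv i (Or.inr hi)))
      (fun i => isFlat_restrict V' (isFlat_restrict V (hKfl i)))
      (fun i hi => (restrictFunctor V'.ι).map_isZero ((restrictFunctor V.ι).map_isZero
        (hKN i hi))) β
    have h1 : IsFlat ((restrictFunctor V'.ι).obj (K_V.opcycles m)) :=
      isFlat_of_iso' (opcyclesRestrictIso V'.ι K_V m) hW
    have h2 : IsFlatAt (K_V.opcycles m) (⟨x, hxV⟩ : (V : Scheme.{u})) :=
      isFlatAt_of_restrict _ V' ⟨⟨x, hxV⟩, hxV'⟩ (h1 ⟨⟨x, hxV⟩, hxV'⟩)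
    have h3 : IsFlatAt ((restrictFunctor V.ι).obj (K.opcycles m)) (⟨x, hxV⟩ : (V : Scheme.{u})) :=
      isFlatAt_of_iso (opcyclesRestrictIso V.ι K m) _ h2
    exact isFlatAt_of_restrict _ V ⟨x, hxV⟩ h3
  haveI : IsIso (DerivedCategory.Q.map (K.πTruncGE m)) := by
    rw [DerivedCategory.isIso_Q_map_iff_quasiIso]; infer_instance
  refine ⟨G, fun i hi => ?_, fun i => ?_,
    ⟨(asIso (DerivedCategory.Q.map (K.πTruncGE m))).symm ≪≫ eK⟩⟩
  · rcases hi with hi | hi
    · exact CochainComplex.isZero_of_isStrictlyGE G m i hi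
    · exact (hKN i hi).of_iso (K.truncGEXIso m i (by omega))
  · rcases lt_trichotomy i m with hi | rfl | hi
    · exact isFlat_of_isZero' (CochainComplex.isZero_of_isStrictlyGE G m i hi)
    · exact isFlat_of_iso' (K.truncGEXIsoOpcycles i).symm hop
    · exact isFlat_of_iso' (K.truncGEXIso m i hi).symm (hKfl i)

/-- **S4275** -/
theorem hasPerfectAmplitudeIn_iff_pseudoCoherent_flatAmplitude (E : DCoh.D X) (m n : ℤ)
    (hmn : m ≤ n) :
    KSix.HasPerfectAmplitudeIn m n E ↔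
      DCoh.IsPseudoCoherentD (m - 1) E ∧ DCoh.HasFlatAmplitudeIn m n E := by
  constructor
  · intro h
    have h' := (hasPerfectAmplitudeIn_iff m n E).1 h
    refine ⟨?_, hasFlatAmplitudeIn_of_perfAmp E m n hmn h'⟩
    apply isPseudoCoherentD_of_isPerfect
    rw [isPerfect_iff]
    intro x
    obtain ⟨V, hxV, P, hv, hfl, he⟩ := h' x
    exact ⟨V, hxV, P, ⟨⟨m, n, hv⟩, hfl⟩, he⟩
  · rintro ⟨h1, h2⟩
    exact hasPerfectAmplitudeIn_of_pc_flat E m n hmn h1 h2

end Groth.Agent.Lib.Helper99.SPerf
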