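import Mathlib
import Groth.Agent.Lib.Helper99.SPerf16c

/-!
# Direct summands of perfect objects are perfect (helper99)
-/

set_option autoImplicit false
universe u
open CategoryTheory Limits AlgebraicGeometry Opposite TopologicalSpace

attribute [local instance] HasDerivedCategory.standard

namespace Groth.Agent.Lib.Helper99.SPerf

open Groth.Agent.Lib.QCoh Scheme.Modules FlatMod

variable {Y : Scheme.{u}}

/-- flatness passes to retracts -/
theorem isFlat_of_retract {A B : Y.Modules} (i : A ⟶ B) (r : B ⟶ A) (hir : i ≫ r = 𝟙 A)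
    (hB : IsFlat B) : IsFlat A := by
  intro y
  haveI : Module.Flat (Y.presheaf.stalk y) (B.presheaf.stalk y) := hB y
  refine Module.Flat.of_retract (stalkMapₗ i y) (stalkMapₗ r y) ?_
  ext a
  have h1 : (stalkFunctor Y y).map i ≫ (stalkFunctor Y y).map r = 𝟙 _ := by
    rw [← Functor.map_comp, hir, CategoryTheory.Functor.map_id]
  exact ConcreteCategory.congr_hom h1 a

/-- Lemma V'' (global form): bottom opcycles of a bounded above flat complex which is
quasi-isomorphic (in `D`) to a complex of finite locally free modules in `[m, n]` -/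
theorem isFlat_opcycles_of_iso_perfAmp (M P : CochainComplex Y.Modules ℤ) (m n : ℤ)
    (hMfl : ∀ i : ℤ, IsFlat (M.X i)) (hMN : ∀ i : ℤ, n < i → IsZero (M.X i))
    (hv : DCoh.VanishesOutside P m n) (hfl : ∀ i : ℤ, IsFinLocFree (P.X i))
    (φ : DCoh.toD Y P ≅ DCoh.toD Y M) : IsFlat (M.opcycles m) := by
  intro y
  have hP : DCoh.IsStrictlyPerfect P := ⟨⟨m, n, hv⟩, hfl⟩
  obtain ⟨V', hyV', hV'⟩ := exists_chain_map hP φ.hom y
  obtain ⟨β, hβ⟩ := hV'
  have hiso : IsIso (DerivedCategory.Q.map β) := by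
    have e1 : DerivedCategory.Q.map β =
        (Scheme.Modules.restrictFunctor V'.ι).mapDerivedCategoryFactors.inv.app P ≫
          (DCoh.restrictD V'.ι).map φ.hom ≫
          (Scheme.Modules.restrictFunctor V'.ι).mapDerivedCategoryFactors.hom.app M := by
      rw [hβ]
      simp
    rw [e1]
    infer_instance
  haveI : QuasiIso β := (DerivedCategory.isIso_Q_map_iff_quasiIso _ β).1 hiso
  have hW := isFlat_opcycles_of_quasiIso ((DCoh.restrictCx V').obj P)
    ((DCoh.restrictCx V').obj M) m n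
    (fun i => isFlat_of_isFinLocFree (isFinLocFree_restrict V'.ι (hfl i)))
    (fun i hi => (restrictFunctor V'.ι).map_isZero (hv i (Or.inl hi)))
    (fun i hi => (restrictFunctor V'.ι).map_isZero (hv i (Or.inr hi)))
    (fun i => isFlat_restrict V' (hMfl i))
    (fun i hi => (restrictFunctor V'.ι).map_isZero (hMN i hi)) β
  have h1 : IsFlat ((restrictFunctor V'.ι).obj (M.opcycles m)) :=
    isFlat_of_iso' (opcyclesRestrictIso V'.ι M m) hW
  exact isFlatAt_of_restrict _ V' ⟨y, hyV'⟩ (h1 ⟨y, hyV'⟩)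

/-- Lemma V': the bottom truncation of a bounded above flat complex with flat bottom opcycles -/
theorem hasFlatAmplitudeIn_Q_of_opcycles (K : CochainComplex Y.Modules ℤ) (m n : ℤ) (hmn : m ≤ n)
    (hKfl : ∀ i : ℤ, IsFlat (K.X i)) (hKN : ∀ i : ℤ, n < i → IsZero (K.X i))
    (hHK : ∀ i : ℤ, i < m → IsZero (K.homology i)) (hop : IsFlat (K.opcycles m)) :
    DCoh.HasFlatAmplitudeIn m n (DerivedCategory.Q.obj K) := by
  haveI : K.IsGE m := by
    rw [CochainComplex.isGE_iff]
    intro i hi
    rw [HomologicalComplex.exactAt_iff_isZero_homology]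
    exact hHK i hi
  let G := K.truncGE m
  haveI : IsIso (DerivedCategory.Q.map (K.πTruncGE m)) := by
    rw [DerivedCategory.isIso_Q_map_iff_quasiIso]; infer_instance
  refine ⟨G, fun i hi => ?_, fun i => ?_,
    ⟨(asIso (DerivedCategory.Q.map (K.πTruncGE m))).symm⟩⟩
  · rcases hi with hi | hi
    · exact CochainComplex.isZero_of_isStrictlyGE G m i hi
    · exact (hKN i hi).of_iso (K.truncGEXIso m i (by omega))
  · rcases lt_trichotomy i m with hi | rfl | hi
    · exact isFlat_of_isZero' (CochainComplex.isZero_of_isStrictlyGE G m i hi)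
    · exact isFlat_of_iso' (K.truncGEXIsoOpcycles i).symm hop
    · exact isFlat_of_iso' (K.truncGEXIso m i hi).symm (hKfl i)

/-- bounded above flat representative of an object without cohomology above `n` -/
theorem exists_bdd_flat_rep (K : DCoh.D Y) (n : ℤ) (hH : ∀ i : ℤ, n < i → IsZero (DCoh.HD K i)) :
    ∃ K' : CochainComplex Y.Modules ℤ, (∀ i : ℤ, IsFlat (K'.X i)) ∧
      (∀ i : ℤ, n < i → IsZero (K'.X i)) ∧ Nonempty (DerivedCategory.Q.obj K' ≅ K) := by
  let F₀ := (DerivedCategory.Q : _ ⥤ DCoh.D Y).objPreimage K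
  let e₀ : DerivedCategory.Q.obj F₀ ≅ K := DerivedCategory.Q.objObjPreimageIso K
  haveI : F₀.IsLE n := by
    rw [CochainComplex.isLE_iff]
    intro i hi
    rw [HomologicalComplex.exactAt_iff_isZero_homology]
    exact (hH i hi).of_iso ((homologyQIso F₀ i).symm ≪≫
      (DerivedCategory.homologyFunctor _ i).mapIso e₀)
  let F₁ := F₀.truncLE n
  obtain ⟨K', q, hq, hKN, hKfl⟩ :=
    Groth.Agent.Lib.Helper94.FlatResScheme.exists_bdd_flat_resolution F₁ n
      (fun i hi => CochainComplex.isZero_of_isStrictlyLE F₁ n i hi)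
  haveI := hq
  haveI : IsIso (DerivedCategory.Q.map q) := by
    rw [DerivedCategory.isIso_Q_map_iff_quasiIso]; infer_instance
  haveI : IsIso (DerivedCategory.Q.map (F₀.ιTruncLE n)) := by
    rw [DerivedCategory.isIso_Q_map_iff_quasiIso]; infer_instance
  exact ⟨K', hKfl, hKN, ⟨asIso (DerivedCategory.Q.map q) ≪≫
    asIso (DerivedCategory.Q.map (F₀.ιTruncLE n)) ≪≫ e₀⟩⟩

end Groth.Agent.Lib.Helper99.SPerf
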