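import Mathlib
import Groth.Agent.Lib.Helper99.SPerf17a

/-!
# Direct summands of perfect objects are perfect (helper99), part B
-/

set_option autoImplicit false
universe u
open CategoryTheory Limits AlgebraicGeometry Opposite TopologicalSpace

attribute [local instance] HasDerivedCategory.standard

namespace Groth.Agent.Lib.Helper99.SPerf

open Groth.Agent.Lib.QCoh Scheme.Modules FlatMod

variable {Y : Scheme.{u}}

theorem isZero_of_retract' {C : Type*} [Category C] [HasZeroMorphisms C] {A B : C} (i : A ⟶ B)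
    (r : B ⟶ A) (hir : i ≫ r = 𝟙 A) (hB : IsZero B) : IsZero A := by
  rw [IsZero.iff_id_eq_zero, ← hir, hB.eq_of_tgt i 0, zero_comp]

theorem hasFlatAmplitudeIn_of_iso {K K' : DCoh.D Y} (e : K ≅ K') (m n : ℤ)
    (h : DCoh.HasFlatAmplitudeIn m n K) : DCoh.HasFlatAmplitudeIn m n K' := by
  obtain ⟨G, hG, hGfl, ⟨eG⟩⟩ := h
  exact ⟨G, hG, hGfl, ⟨eG ≪≫ e⟩⟩

/-- a direct summand of an object of perfect amplitude `[m, n]` has flat amplitude `[m, n]` -/
theorem hasFlatAmplitudeIn_of_biprod_perfAmp (K L : DCoh.D Y) [HasBinaryBiproduct K L]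
    (m n : ℤ) (hmn : m ≤ n) (P : CochainComplex Y.Modules ℤ) (hv : DCoh.VanishesOutside P m n)
    (hfl : ∀ i : ℤ, IsFinLocFree (P.X i)) (e : K ⊞ L ≅ DerivedCategory.Q.obj P) :
    DCoh.HasFlatAmplitudeIn m n K := by
  -- vanishing of cohomology
  have hHP : ∀ i : ℤ, (i < m ∨ n < i) → IsZero (DCoh.HD (K ⊞ L) i) := fun i hi =>
    (isZero_homology_of_isZero_X P i (hv i hi)).of_iso
      ((DerivedCategory.homologyFunctor _ i).mapIso e ≪≫ homologyQIso P i)
  have hHK : ∀ i : ℤ, (i < m ∨ n < i) → IsZero (DCoh.HD K i) := fun i hi =>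
    isZero_of_retract' ((DerivedCategory.homologyFunctor _ i).map (biprod.inl : K ⟶ K ⊞ L))
      ((DerivedCategory.homologyFunctor _ i).map biprod.fst)
      (by rw [← Functor.map_comp, biprod.inl_fst, CategoryTheory.Functor.map_id]) (hHP i hi)
  have hHL : ∀ i : ℤ, (i < m ∨ n < i) → IsZero (DCoh.HD L i) := fun i hi =>
    isZero_of_retract' ((DerivedCategory.homologyFunctor _ i).map (biprod.inr : L ⟶ K ⊞ L))
      ((DerivedCategory.homologyFunctor _ i).map biprod.snd)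
      (by rw [← Functor.map_comp, biprod.inr_snd, CategoryTheory.Functor.map_id]) (hHP i hi)
  obtain ⟨K', hK'fl, hK'N, ⟨eK'⟩⟩ := exists_bdd_flat_rep K n (fun i hi => hHK i (Or.inr hi))
  obtain ⟨L', hL'fl, hL'N, ⟨eL'⟩⟩ := exists_bdd_flat_rep L n (fun i hi => hHL i (Or.inr hi))
  let M : CochainComplex Y.Modules ℤ := K' ⊞ L'
  have hMfl : ∀ i : ℤ, IsFlat (M.X i) := fun i =>
    isFlat_of_iso' (HomologicalComplex.biprodXIso K' L' i).symm
      (isFlat_biprod (hK'fl i) (hL'fl i))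
  have hMN : ∀ i : ℤ, n < i → IsZero (M.X i) := fun i hi =>
    IsZero.of_iso (isZero_biprod' (hK'N i hi) (hL'N i hi)) (HomologicalComplex.biprodXIso K' L' i)
  haveI : PreservesBinaryBiproducts (DerivedCategory.Q : CochainComplex Y.Modules ℤ ⥤ _) :=
    preservesBinaryBiproducts_of_preservesBiproducts _
  let φ : DCoh.toD Y P ≅ DCoh.toD Y M :=
    e.symm ≪≫ biprod.mapIso eK'.symm eL'.symm ≪≫ (DerivedCategory.Q.mapBiprod K' L').symm
  have hMop : IsFlat (M.opcycles m) := isFlat_opcycles_of_iso_perfAmp M P m n hMfl hMN hv hfl φ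
  have hK'op : IsFlat (K'.opcycles m) :=
    isFlat_of_retract (HomologicalComplex.opcyclesMap (biprod.inl : K' ⟶ K' ⊞ L') m)
      (HomologicalComplex.opcyclesMap (biprod.fst : K' ⊞ L' ⟶ K') m)
      (by rw [← HomologicalComplex.opcyclesMap_comp, biprod.inl_fst,
        HomologicalComplex.opcyclesMap_id]) hMop
  have hHK' : ∀ i : ℤ, i < m → IsZero (K'.homology i) := fun i hi =>
    (hHK i (Or.inl hi)).of_iso ((homologyQIso K' i).symm ≪≫
      (DerivedCategory.homologyFunctor _ i).mapIso eK')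
  exact hasFlatAmplitudeIn_of_iso eK' m n
    (hasFlatAmplitudeIn_Q_of_opcycles K' m n hmn hK'fl hK'N hHK' hK'op)

variable {X : Scheme.{u}}

theorem isPerfect_of_iso {K K' : DCoh.D X} (e : K ≅ K') (h : DCoh.IsPerfect K) :
    DCoh.IsPerfect K' := by
  rw [isPerfect_iff] at h ⊢
  intro x
  obtain ⟨V, hxV, P, hP, ⟨eP⟩⟩ := h x
  exact ⟨V, hxV, P, hP, ⟨(DCoh.restrictD V.ι).mapIso e.symm ≪≫ eP⟩⟩

theorem isPerfect_left_of_biprod (K L : DCoh.D X) [HasBinaryBiproduct K L]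
    (h : DCoh.IsPerfect (K ⊞ L)) : DCoh.IsPerfect K := by
  rw [isPerfect_iff_pseudoCoherent_locFiniteTorDim]
  refine ⟨fun m => (isPseudoCoherent_of_biprod m K L
    (isPseudoCoherentD_of_isPerfect _ h m)).1, fun x => ?_⟩
  obtain ⟨V, hxV, P, ⟨⟨a, b, hab⟩, hfl⟩, ⟨e⟩⟩ := (isPerfect_iff (K ⊞ L)).1 h x
  refine ⟨V, a, max a b, hxV, fun F' ⟨eF'⟩ => ?_⟩
  have hv : DCoh.VanishesOutside P a (max a b) := fun i hi => by
    rcases hi with hi | hi
    · exact hab i (Or.inl hi)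
    · exact hab i (Or.inr (lt_of_le_of_lt (le_max_right _ _) hi))
  haveI : PreservesBinaryBiproducts (DCoh.restrictD V.ι) :=
    preservesBinaryBiproducts_of_preservesBiproducts _
  let e' : (DCoh.restrictD V.ι).obj K ⊞ (DCoh.restrictD V.ι).obj L ≅ DerivedCategory.Q.obj P :=
    ((DCoh.restrictD V.ι).mapBiprod K L).symm ≪≫ e
  have h1 := hasFlatAmplitudeIn_of_biprod_perfAmp _ _ a (max a b) (le_max_left _ _) P hv hfl e'
  exact hasFlatAmplitudeIn_of_iso
    ((DCoh.restrictD V.ι).mapIso eF'.symm ≪≫ restrictDQIso V.ι F') _ _ h1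

/-- **S0924** -/
theorem isPerfect_of_biprod (K L : DCoh.D X) [HasBinaryBiproduct K L]
    (h : DCoh.IsPerfect (K ⊞ L)) : DCoh.IsPerfect K ∧ DCoh.IsPerfect L :=
  ⟨isPerfect_left_of_biprod K L h,
    isPerfect_left_of_biprod L K (isPerfect_of_iso (biprod.braiding K L) h)⟩

end Groth.Agent.Lib.Helper99.SPerf
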