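import Mathlib
import Groth.Agent.Lib.QCoh.Helper74_FlatOverExact
import Groth.Agent.Lib.Helper99.SPerf15d

/-!
# Relative flatness of modules over a base (helper99), part 1: basic closure properties
-/

set_option autoImplicit false
universe u
open CategoryTheory Limits AlgebraicGeometry Opposite TopologicalSpace

namespace Groth.Agent.Lib.Helper99.SRel

open Groth.Agent.Lib.QCoh Scheme.Modules FlatMod Groth.Agent.Lib.Helper99.SPerf

variable {Y S : Scheme.{u}}

/-- an `O_Y`-flat module is flat over `S` when `g : Y ⟶ S` is flat -/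
theorem isFlatOverAt_of_isFlatAt (g : Y ⟶ S) (F : Y.Modules) (y : Y)
    (hg : (g.stalkMap y).hom.Flat) (h : IsFlatAt F y) : IsFlatOverAt g F y := by
  let _ : Algebra (S.presheaf.stalk (g y)) (Y.presheaf.stalk y) := (g.stalkMap y).hom.toAlgebra
  let _ : Module (S.presheaf.stalk (g y)) (F.presheaf.stalk y) := moduleStalkOver g F y
  have : IsScalarTower (S.presheaf.stalk (g y)) (Y.presheaf.stalk y) (F.presheaf.stalk y) :=
    .of_algebraMap_smul fun a m => rfl
  have : Module.Flat (S.presheaf.stalk (g y)) (Y.presheaf.stalk y) := hg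
  have : Module.Flat (Y.presheaf.stalk y) (F.presheaf.stalk y) := h
  exact Module.Flat.trans (S.presheaf.stalk (g y)) (Y.presheaf.stalk y) (F.presheaf.stalk y)

theorem isFlatOver_of_isFlat (g : Y ⟶ S) [Flat g] {F : Y.Modules} (h : IsFlat F) :
    IsFlatOver g F :=
  fun y => isFlatOverAt_of_isFlatAt g F y (Flat.stalkMap g y) (h y)

theorem isFlatOver_of_isFinLocFree (g : Y ⟶ S) [Flat g] {F : Y.Modules} (h : IsFinLocFree F) :
    IsFlatOver g F :=
  isFlatOver_of_isFlat g (isFlat_of_isFinLocFree h)

end Groth.Agent.Lib.Helper99.SRel
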