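import Mathlib
import Groth.Agent.Lib.Helper99.SRel1
import Groth.Agent.Lib.Helper99.SPerf17b

/-!
# Flat-like classes of modules (helper99): closure properties and the two-sided "Lemma W"
-/

set_option autoImplicit false
universe u
open CategoryTheory Limits AlgebraicGeometry Opposite TopologicalSpace

attribute [local instance] HasDerivedCategory.standard

namespace Groth.Agent.Lib.Helper99.SRel

open Groth.Agent.Lib.QCoh Scheme.Modules FlatMod Groth.Agent.Lib.Helper99.SPerf

variable {Y S : Scheme.{u}}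

/-- a class of modules behaving like flat modules -/
structure FlatLike (Φ : Y.Modules → Prop) : Prop where
  zero : ∀ {M : Y.Modules}, IsZero M → Φ M
  iso : ∀ {M N : Y.Modules}, (M ≅ N) → Φ M → Φ N
  ses : ∀ (T : ShortComplex Y.Modules), T.ShortExact → Φ T.X₃ → (Φ T.X₂ ↔ Φ T.X₁)
  retract : ∀ {A B : Y.Modules} (i : A ⟶ B) (r : B ⟶ A), i ≫ r = 𝟙 A → Φ B → Φ A
  flat : ∀ {M : Y.Modules}, IsFlat M → Φ M

theorem isFlatOver_of_isZero (g : Y ⟶ S) {M : Y.Modules} (h : IsZero M) : IsFlatOver g M := by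
  intro x
  have hz : IsZero ((stalkFunctor Y x).obj M) := (stalkFunctor Y x).map_isZero h
  haveI : Subsingleton (M.presheaf.stalk x) :=
    AddCommGrpCat.isZero_iff_subsingleton.1 hz
  letI := moduleStalkOver g M x
  exact (inferInstance : Module.Flat (S.presheaf.stalk (g.base x)) (M.presheaf.stalk x))

theorem isFlatOver_of_retract (g : Y ⟶ S) {A B : Y.Modules} (i : A ⟶ B) (r : B ⟶ A)
    (hir : i ≫ r = 𝟙 A) (hB : IsFlatOver g B) : IsFlatOver g A := by
  intro y
  letI := moduleStalkOver g A y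
  letI := moduleStalkOver g B y
  haveI : Module.Flat (S.presheaf.stalk (g.base y)) (B.presheaf.stalk y) := hB y
  refine Module.Flat.of_retract (stalkMapOverₗ g i y) (stalkMapOverₗ g r y) ?_
  ext a
  have h1 : (stalkFunctor Y y).map i ≫ (stalkFunctor Y y).map r = 𝟙 _ := by
    rw [← Functor.map_comp, hir, CategoryTheory.Functor.map_id]
  exact ConcreteCategory.congr_hom h1 a

theorem flatLike_isFlatOver (g : Y ⟶ S) [Flat g] : FlatLike (IsFlatOver g) where
  zero h := isFlatOver_of_isZero g h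
  iso e h := isFlatOver_of_retract g e.inv e.hom e.inv_hom_id h
  ses T hT h3 := isFlatOver_iff_of_shortExact g T hT h3
  retract i r hir hB := isFlatOver_of_retract g i r hir hB
  flat h := isFlatOver_of_isFlat g h

namespace FlatLike

variable {Φ : Y.Modules → Prop} (hΦ : FlatLike Φ)
include hΦ

theorem biprod {A B : Y.Modules} (hA : Φ A) (hB : Φ B) : Φ (A ⊞ B) := by
  let T : ShortComplex Y.Modules := ShortComplex.mk (biprod.inl : A ⟶ A ⊞ B) biprod.snd (by simp)
  have hT : T.ShortExact :=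
    { exact := ShortComplex.Splitting.exact
        { r := biprod.fst
          s := biprod.inr
          f_r := by simp [T]
          s_g := by simp [T]
          id := by simp [T] }
      mono_f := inferInstanceAs (Mono (biprod.inl : A ⟶ A ⊞ B))
      epi_g := inferInstanceAs (Epi (biprod.snd : A ⊞ B ⟶ B)) }
  exact (hΦ.ses T hT hB).2 hA

theorem of_biprod_left {A B : Y.Modules} (h : Φ (A ⊞ B)) : Φ A :=
  hΦ.retract biprod.inl biprod.fst (by simp) h

theorem of_biprod_right {A B : Y.Modules} (h : Φ (A ⊞ B)) : Φ B :=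
  hΦ.retract biprod.inr biprod.snd (by simp) h

/-- the cycles of a bounded above complex with `Φ` terms which is exact in degrees `> n`
are `Φ` in degrees `≥ n` -/
theorem cycles_of_exact (C : CochainComplex Y.Modules ℤ) (n N : ℤ)
    (hfl : ∀ i : ℤ, n ≤ i → Φ (C.X i)) (hex : ∀ i : ℤ, n < i → C.ExactAt i)
    (hN : ∀ i : ℤ, N < i → IsZero (C.X i)) : ∀ i : ℤ, n ≤ i → Φ (C.cycles i) := by
  have key : ∀ (k : ℕ) (i : ℤ), n ≤ i → N < i + k → Φ (C.cycles i) := by
    intro k
    induction k with
    | zero =>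
      intro i _ hi
      exact hΦ.zero (isZero_cycles_of_isZero C i (hN i (by simpa using hi)))
    | succ k ih =>
      intro i hi hk
      have h1 : Φ (C.cycles (i + 1)) := ih (i + 1) (by omega) (by push_cast at hk; omega)
      exact (hΦ.ses _ (shortExact_cycles C i (hex (i + 1) (by omega))) h1).1 (hfl i hi)
  intro i hi
  exact key (N + 1 - i).toNat i hi (by have := Int.self_le_toNat (N + 1 - i); omega)

/-- Lemma W₀: a quasi-isomorphism between complexes concentrated in `[m, N]` whose terms in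
degrees `> m` are `Φ`: the bottom term of the source is `Φ` iff the bottom term of the target is -/
theorem bottom_iff_of_quasiIso (A B : CochainComplex Y.Modules ℤ) (m N : ℤ)
    (hAm : ∀ i : ℤ, i < m → IsZero (A.X i)) (hAN : ∀ i : ℤ, N < i → IsZero (A.X i))
    (hBm : ∀ i : ℤ, i < m → IsZero (B.X i)) (hBN : ∀ i : ℤ, N < i → IsZero (B.X i))
    (hAfl : ∀ i : ℤ, m < i → Φ (A.X i)) (hBfl : ∀ i : ℤ, m < i → Φ (B.X i))
    (β : A ⟶ B) [QuasiIso β] : Φ (A.X m) ↔ Φ (B.X m) := by
  let C := CochainComplex.mappingCone β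
  have eC : ∀ i : ℤ, C.X i ≅ A.X (i + 1) ⊞ B.X i := fun i =>
    HomologicalComplex.homotopyCofiber.XIsoBiprod β i (i + 1) rfl
  have hCex : ∀ i : ℤ, C.ExactAt i := by
    intro i
    rw [HomologicalComplex.exactAt_iff_isZero_homology]
    apply isZero_homology_mappingCone
    · infer_instance
    · infer_instance
  have hCfl : ∀ i : ℤ, m + 1 ≤ i → Φ (C.X i) := fun i hi =>
    hΦ.iso (eC i).symm (hΦ.biprod (hAfl (i + 1) (by omega)) (hBfl i (by omega)))
  have hCN : ∀ i : ℤ, N < i → IsZero (C.X i) := by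
    intro i hi
    refine IsZero.of_iso (isZero_biprod' ?_ ?_) (eC i)
    · exact hAN (i + 1) (by omega)
    · exact hBN i hi
  have hZ1 : Φ (C.cycles (m + 1)) :=
    hΦ.cycles_of_exact C (m + 1) N hCfl (fun i _ => hCex i) hCN (m + 1) le_rfl
  have hz2 : IsZero (C.X (m - 2)) := by
    refine IsZero.of_iso (isZero_biprod' ?_ ?_) (eC (m - 2))
    · exact hAm _ (by omega)
    · exact hBm _ (by omega)
  have hmono : Mono (C.d (m - 1) m) := by
    have h1 : (C.sc' (m - 2) (m - 1) m).Exact :=
      (C.exactAt_iff' (m - 2) (m - 1) m (by simp; omega) (by simp)).1 (hCex (m - 1))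
    exact h1.mono_g (hz2.eq_of_src _ _)
  have hiso : IsIso (C.toCycles (m - 1) m) := by
    haveI : Mono (C.toCycles (m - 1) m) := by
      haveI : Mono (C.toCycles (m - 1) m ≫ C.iCycles m) := by
        rw [C.toCycles_i]; exact hmono
      exact mono_of_mono (C.toCycles (m - 1) m) (C.iCycles m)
    haveI : Epi (C.toCycles (m - 1) m) :=
      epi_of_isColimit_cokernelCofork_of_isZero _ (C.homologyIsCokernel (m - 1) m (by simp))
        ((hCex m).isZero_homology)
    exact isIso_of_mono_of_epi _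
  -- `Z^m(C) ≅ C^{m-1} ≅ A^m ⊞ B^{m-1}`, with `B^{m-1} = 0`
  have hBz : IsZero (B.X (m - 1)) := hBm _ (by omega)
  have e1 : C.cycles m ≅ A.X m :=
    (asIso (C.toCycles (m - 1) m)).symm ≪≫ eC (m - 1) ≪≫
      (biprod.mapIso (eqToIso (by rw [sub_add_cancel])) (Iso.refl _)) ≪≫
      { hom := biprod.fst
        inv := biprod.inl
        hom_inv_id := by
          have h0 : (biprod.snd : A.X m ⊞ B.X (m - 1) ⟶ _) = 0 := hBz.eq_of_tgt _ _
          rw [← biprod.total (X := A.X m) (Y := B.X (m - 1)), h0, zero_comp, add_zero]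
        inv_hom_id := by simp }
  have hses := hΦ.ses _ (shortExact_cycles C m (hCex (m + 1))) hZ1
  -- hses : Φ (C.X m) ↔ Φ (C.cycles m)
  have hA1 : Φ (A.X (m + 1)) := hAfl _ (by omega)
  constructor
  · intro hA
    have h1 : Φ (C.cycles m) := hΦ.iso e1.symm hA
    have h2 : Φ (C.X m) := hses.2 h1
    exact hΦ.of_biprod_right (hΦ.iso (eC m) h2)
  · intro hB
    have h2 : Φ (C.X m) := hΦ.iso (eC m).symm (hΦ.biprod hA1 hB)
    exact hΦ.iso e1 (hses.1 h2)

end FlatLike

end Groth.Agent.Lib.Helper99.SRel
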