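import Mathlib
import Groth.Agent.Lib.Helper99.SRel2

/-!
# Amplitude with respect to a flat-like class (helper99): criterion via bottom opcycles
-/

set_option autoImplicit false
universe u
open CategoryTheory Limits AlgebraicGeometry Opposite TopologicalSpace

attribute [local instance] HasDerivedCategory.standard

namespace Groth.Agent.Lib.Helper99.SRel

open Groth.Agent.Lib.QCoh Scheme.Modules FlatMod Groth.Agent.Lib.Helper99.SPerf

variable {Y S : Scheme.{u}}

/-- `K` is represented by a complex with terms in `Φ` placed in `[a, b]` -/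
def ΦAmp (Φ : Y.Modules → Prop) (a b : ℤ) (K : DCoh.D Y) : Prop :=
  ∃ E : CochainComplex Y.Modules ℤ, DCoh.VanishesOutside E a b ∧ (∀ i : ℤ, Φ (E.X i)) ∧
    Nonempty (DCoh.toD Y E ≅ K)

theorem ΦAmp.of_iso {Φ : Y.Modules → Prop} {a b : ℤ} {K K' : DCoh.D Y} (e : K ≅ K')
    (h : ΦAmp Φ a b K) : ΦAmp Φ a b K' := by
  obtain ⟨E, hE, hfl, ⟨e'⟩⟩ := h
  exact ⟨E, hE, hfl, ⟨e' ≪≫ e⟩⟩

theorem ΦAmp.mono {Φ : Y.Modules → Prop} {a b a' b' : ℤ} {K : DCoh.D Y}
    (h : ΦAmp Φ a b K) (ha : a' ≤ a) (hb : b ≤ b') : ΦAmp Φ a' b' K := by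
  obtain ⟨E, hE, hfl, e⟩ := h
  refine ⟨E, fun i hi => hE i ?_, hfl, e⟩
  rcases hi with hi | hi
  · exact Or.inl (by omega)
  · exact Or.inr (by omega)

theorem ΦAmp.isZero_HD {Φ : Y.Modules → Prop} {a b : ℤ} {K : DCoh.D Y}
    (h : ΦAmp Φ a b K) (i : ℤ) (hi : i < a ∨ b < i) : IsZero (DCoh.HD K i) := by
  obtain ⟨E, hE, -, ⟨e⟩⟩ := h
  exact (isZero_homology_of_isZero_X E i (hE i hi)).of_iso
    ((DerivedCategory.homologyFunctor _ i).mapIso e.symm ≪≫ homologyQIso E i)

namespace FlatLike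

variable {Φ : Y.Modules → Prop} (hΦ : FlatLike Φ)
include hΦ

/-- R1: bottom opcycles along a quasi-isomorphism of bounded above `Φ`-complexes -/
theorem opcycles_iff_of_quasiIso (A B : CochainComplex Y.Modules ℤ) (m N : ℤ)
    (hAfl : ∀ i : ℤ, Φ (A.X i)) (hAN : ∀ i : ℤ, N < i → IsZero (A.X i))
    (hBfl : ∀ i : ℤ, Φ (B.X i)) (hBN : ∀ i : ℤ, N < i → IsZero (B.X i))
    (β : A ⟶ B) [QuasiIso β] : Φ (A.opcycles m) ↔ Φ (B.opcycles m) := by
  haveI : QuasiIso (CochainComplex.truncGEMap β m) := by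
    rw [CochainComplex.quasiIso_truncGEMap_iff]
    intro i _
    infer_instance
  have key := hΦ.bottom_iff_of_quasiIso (A.truncGE m) (B.truncGE m) m (max N m)
    (fun i hi => CochainComplex.isZero_of_isStrictlyGE _ m i hi)
    (fun i hi => (hAN i (lt_of_le_of_lt (le_max_left _ _) hi)).of_iso
      (A.truncGEXIso m i (lt_of_le_of_lt (le_max_right _ _) hi)))
    (fun i hi => CochainComplex.isZero_of_isStrictlyGE _ m i hi)
    (fun i hi => (hBN i (lt_of_le_of_lt (le_max_left _ _) hi)).of_iso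
      (B.truncGEXIso m i (lt_of_le_of_lt (le_max_right _ _) hi)))
    (fun i hi => hΦ.iso (A.truncGEXIso m i hi).symm (hAfl i))
    (fun i hi => hΦ.iso (B.truncGEXIso m i hi).symm (hBfl i))
    (CochainComplex.truncGEMap β m)
  constructor
  · intro h
    exact hΦ.iso (B.truncGEXIsoOpcycles m) (key.1 (hΦ.iso (A.truncGEXIsoOpcycles m).symm h))
  · intro h
    exact hΦ.iso (A.truncGEXIsoOpcycles m) (key.2 (hΦ.iso (B.truncGEXIsoOpcycles m).symm h))

/-- R2: truncating at flat-like bottom opcycles -/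
theorem amp_Q_of_opcycles (K : CochainComplex Y.Modules ℤ) (m n : ℤ) (hmn : m ≤ n)
    (hKfl : ∀ i : ℤ, Φ (K.X i)) (hKN : ∀ i : ℤ, n < i → IsZero (K.X i))
    (hHK : ∀ i : ℤ, i < m → IsZero (K.homology i)) (hop : Φ (K.opcycles m)) :
    ΦAmp Φ m n (DerivedCategory.Q.obj K) := by
  haveI : K.IsGE m := by
    rw [CochainComplex.isGE_iff]
    intro i hi
    rw [HomologicalComplex.exactAt_iff_isZero_homology]
    exact hHK i hi
  let G := K.truncGE m
  haveI : IsIso (DerivedCategory.Q.map (K.πTruncGE m)) := by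
    rw [DerivedCategory.isIso_Q_map_iff_quasiIso]; infer_instance
  refine ⟨G, fun i hi => ?_, fun i => ?_,
    ⟨(asIso (DerivedCategory.Q.map (K.πTruncGE m))).symm⟩⟩
  · rcases hi with hi | hi
    · exact CochainComplex.isZero_of_isStrictlyGE G m i hi
    · exact (hKN i hi).of_iso (K.truncGEXIso m i (by omega))
  · rcases lt_trichotomy i m with hi | rfl | hi
    · exact hΦ.zero (CochainComplex.isZero_of_isStrictlyGE G m i hi)
    · exact hΦ.iso (K.truncGEXIsoOpcycles i).symm hop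
    · exact hΦ.iso (K.truncGEXIso m i hi).symm (hKfl i)

/-- R3: the bottom opcycles of any bounded above `Φ`-representative are in `Φ` -/
theorem opcycles_of_amp {a b : ℤ} {K : DCoh.D Y} (h : ΦAmp Φ a b K)
    (P : CochainComplex Y.Modules ℤ) (N : ℤ) (hPfl : ∀ i : ℤ, Φ (P.X i))
    (hPN : ∀ i : ℤ, N < i → IsZero (P.X i)) (e : DerivedCategory.Q.obj P ≅ K) :
    Φ (P.opcycles a) := by
  obtain ⟨E, hE, hEfl, ⟨eE⟩⟩ := h
  haveI : E.IsStrictlyLE b := by
    rw [CochainComplex.isStrictlyLE_iff]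
    exact fun i hi => hE i (Or.inr hi)
  obtain ⟨X', hX', s, hs, g, fac⟩ :=
    DerivedCategory.right_fac_of_isStrictlyLE (eE.hom ≫ e.inv) b
  haveI := hs
  haveI : QuasiIso s := (DerivedCategory.isIso_Q_map_iff_quasiIso _ s).1 hs
  have hg : IsIso (DerivedCategory.Q.map g) := by
    have h1 : DerivedCategory.Q.map g = DerivedCategory.Q.map s ≫ (eE.hom ≫ e.inv) := by
      rw [fac, IsIso.hom_inv_id_assoc]
    rw [h1]
    infer_instance
  haveI : QuasiIso g := (DerivedCategory.isIso_Q_map_iff_quasiIso _ g).1 hg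
  obtain ⟨P', q, hq, hP'N, hP'fl⟩ :=
    Groth.Agent.Lib.Helper94.FlatResScheme.exists_bdd_flat_resolution X' b
      (fun i hi => CochainComplex.isZero_of_isStrictlyLE X' b i hi)
  haveI := hq
  haveI : QuasiIso (q ≫ s) := inferInstance
  haveI : QuasiIso (q ≫ g) := inferInstance
  have hEop : Φ (E.opcycles a) := by
    haveI : IsIso (E.pOpcycles a) :=
      E.isIso_pOpcycles (a - 1) a (by simp) ((hE (a - 1) (Or.inl (by omega))).eq_of_src _ _)
    exact hΦ.iso (asIso (E.pOpcycles a)) (hEfl a)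
  have h1 : Φ (P'.opcycles a) :=
    (hΦ.opcycles_iff_of_quasiIso P' E a b (fun i => hΦ.flat (hP'fl i)) hP'N hEfl
      (fun i hi => hE i (Or.inr hi)) (q ≫ s)).2 hEop
  exact (hΦ.opcycles_iff_of_quasiIso P' P a (max b N) (fun i => hΦ.flat (hP'fl i))
    (fun i hi => hP'N i (lt_of_le_of_lt (le_max_left _ _) hi)) hPfl
    (fun i hi => hPN i (lt_of_le_of_lt (le_max_right _ _) hi)) (q ≫ g)).1 h1

end FlatLike

/-- F4: a morphism of `D` between cohomologically bounded above objects is represented by a chain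
map from a bounded above flat complex into any given representative of the target -/
theorem exists_flat_rep_map {K L : DCoh.D Y} (ψ : K ⟶ L) (n : ℤ)
    (hK : ∀ i : ℤ, n < i → IsZero (DCoh.HD K i))
    (PL : CochainComplex Y.Modules ℤ) (eL : DerivedCategory.Q.obj PL ≅ L) :
    ∃ (PK : CochainComplex Y.Modules ℤ) (φ : PK ⟶ PL) (eK : DerivedCategory.Q.obj PK ≅ K),
      (∀ i : ℤ, IsFlat (PK.X i)) ∧ (∀ i : ℤ, n < i → IsZero (PK.X i)) ∧
        DerivedCategory.Q.map φ ≫ eL.hom = eK.hom ≫ ψ := by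
  let F₀ := (DerivedCategory.Q : _ ⥤ DCoh.D Y).objPreimage K
  let e₀ : DerivedCategory.Q.obj F₀ ≅ K := DerivedCategory.Q.objObjPreimageIso K
  haveI : F₀.IsLE n := by
    rw [CochainComplex.isLE_iff]
    intro i hi
    rw [HomologicalComplex.exactAt_iff_isZero_homology]
    exact (hK i hi).of_iso ((homologyQIso F₀ i).symm ≪≫
      (DerivedCategory.homologyFunctor _ i).mapIso e₀)
  let F₁ := F₀.truncLE n
  haveI : IsIso (DerivedCategory.Q.map (F₀.ιTruncLE n)) := by
    rw [DerivedCategory.isIso_Q_map_iff_quasiIso]; infer_instance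
  let e₁ : DerivedCategory.Q.obj F₁ ≅ K := asIso (DerivedCategory.Q.map (F₀.ιTruncLE n)) ≪≫ e₀
  obtain ⟨X', hX', s, hs, g, fac⟩ :=
    DerivedCategory.right_fac_of_isStrictlyLE (e₁.hom ≫ ψ ≫ eL.inv) n
  haveI := hs
  obtain ⟨PK, q, hq, hPN, hPfl⟩ :=
    Groth.Agent.Lib.Helper94.FlatResScheme.exists_bdd_flat_resolution X' n
      (fun i hi => CochainComplex.isZero_of_isStrictlyLE X' n i hi)
  haveI := hq
  haveI : IsIso (DerivedCategory.Q.map q) := by
    rw [DerivedCategory.isIso_Q_map_iff_quasiIso]; infer_instance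
  refine ⟨PK, q ≫ g, asIso (DerivedCategory.Q.map q) ≪≫ asIso (DerivedCategory.Q.map s) ≪≫ e₁,
    hPfl, hPN, ?_⟩
  have h1 : DerivedCategory.Q.map g ≫ eL.hom = DerivedCategory.Q.map s ≫ e₁.hom ≫ ψ := by
    have := congrArg (fun t => DerivedCategory.Q.map s ≫ t ≫ eL.hom) fac
    simp only [Category.assoc, Iso.inv_hom_id, Category.comp_id, IsIso.hom_inv_id_assoc] at this
    exact this.symm
  simp only [Functor.map_comp, Category.assoc, Iso.trans_hom, asIso_hom]
  rw [h1]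

end Groth.Agent.Lib.Helper99.SRel
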