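import Mathlib
import Groth.Agent.Lib.Helper99.SRel3

/-!
# Amplitude with respect to a flat-like class (helper99): cones, shifts, summands
-/

set_option autoImplicit false
universe u
open CategoryTheory Limits AlgebraicGeometry Opposite TopologicalSpace Pretriangulated

attribute [local instance] HasDerivedCategory.standard

namespace Groth.Agent.Lib.Helper99.SRel

open Groth.Agent.Lib.QCoh Scheme.Modules FlatMod Groth.Agent.Lib.Helper99.SPerf

variable {Y S : Scheme.{u}}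

theorem cone_iso' (T : Triangle (DCoh.D Y)) (hT : T ∈ distTriang (DCoh.D Y))
    {E₁ E₂ : CochainComplex Y.Modules ℤ}
    (e₁ : T.obj₁ ≅ DerivedCategory.Q.obj E₁) (e₂ : T.obj₂ ≅ DerivedCategory.Q.obj E₂) (f : E₁ ⟶ E₂)
    (hf : T.mor₁ ≫ e₂.hom = e₁.hom ≫ DerivedCategory.Q.map f) :
    Nonempty (T.obj₃ ≅ DerivedCategory.Q.obj (CochainComplex.mappingCone f)) := by
  let T' := DerivedCategory.Q.mapTriangle.obj (CochainComplex.mappingCone.triangle f)
  have hT' : T' ∈ distTriang (DCoh.D Y) := DerivedCategory.mappingCone_triangle_distinguished f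
  exact ⟨Triangle.π₃.mapIso (isoTriangleOfIso₁₂ T T' hT hT' e₁ e₂ hf)⟩

theorem isGE_of_isZero_HD {K : DCoh.D Y} (P : CochainComplex Y.Modules ℤ)
    (e : DerivedCategory.Q.obj P ≅ K) (a : ℤ) (h : ∀ i : ℤ, i < a → IsZero (DCoh.HD K i)) :
    P.IsGE a := by
  rw [CochainComplex.isGE_iff]
  intro i hi
  rw [HomologicalComplex.exactAt_iff_isZero_homology]
  exact (h i hi).of_iso ((homologyQIso P i).symm ≪≫
    (DerivedCategory.homologyFunctor _ i).mapIso e)

namespace FlatLike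

variable {Φ : Y.Modules → Prop} (hΦ : FlatLike Φ)
include hΦ

/-- terms of the bottom truncation of a bounded above `Φ`-complex with `Φ` bottom opcycles -/
theorem truncGE_terms (P : CochainComplex Y.Modules ℤ) (a : ℤ) (hPfl : ∀ i : ℤ, Φ (P.X i))
    (hop : Φ (P.opcycles a)) (i : ℤ) : Φ ((P.truncGE a).X i) := by
  rcases lt_trichotomy i a with hi | rfl | hi
  · exact hΦ.zero (CochainComplex.isZero_of_isStrictlyGE _ a i hi)
  · exact hΦ.iso (P.truncGEXIsoOpcycles i).symm hop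
  · exact hΦ.iso (P.truncGEXIso a i hi).symm (hPfl i)

theorem amp_cone (T : Triangle (DCoh.D Y)) (hT : T ∈ distTriang (DCoh.D Y)) {a b : ℤ}
    (hab : a ≤ b) (h1 : ΦAmp Φ a b T.obj₁) (h2 : ΦAmp Φ a b T.obj₂) :
    ΦAmp Φ (a - 1) b T.obj₃ := by
  obtain ⟨P₂, hP₂fl, hP₂N, ⟨e₂⟩⟩ := exists_bdd_flat_rep T.obj₂ b
    (fun i hi => h2.isZero_HD i (Or.inr hi))
  obtain ⟨P₁, φ, e₁, hP₁fl, hP₁N, hφ⟩ := exists_flat_rep_map T.mor₁ b
    (fun i hi => h1.isZero_HD i (Or.inr hi)) P₂ e₂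
  have hop₁ : Φ (P₁.opcycles a) :=
    hΦ.opcycles_of_amp h1 P₁ b (fun i => hΦ.flat (hP₁fl i)) hP₁N e₁
  have hop₂ : Φ (P₂.opcycles a) :=
    hΦ.opcycles_of_amp h2 P₂ b (fun i => hΦ.flat (hP₂fl i)) hP₂N e₂
  haveI : P₁.IsGE a := isGE_of_isZero_HD P₁ e₁ a (fun i hi => h1.isZero_HD i (Or.inl hi))
  haveI : P₂.IsGE a := isGE_of_isZero_HD P₂ e₂ a (fun i hi => h2.isZero_HD i (Or.inl hi))
  haveI : IsIso (DerivedCategory.Q.map (P₁.πTruncGE a)) := by
    rw [DerivedCategory.isIso_Q_map_iff_quasiIso]; infer_instance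
  haveI : IsIso (DerivedCategory.Q.map (P₂.πTruncGE a)) := by
    rw [DerivedCategory.isIso_Q_map_iff_quasiIso]; infer_instance
  let e₁' : T.obj₁ ≅ DerivedCategory.Q.obj (P₁.truncGE a) :=
    e₁.symm ≪≫ asIso (DerivedCategory.Q.map (P₁.πTruncGE a))
  let e₂' : T.obj₂ ≅ DerivedCategory.Q.obj (P₂.truncGE a) :=
    e₂.symm ≪≫ asIso (DerivedCategory.Q.map (P₂.πTruncGE a))
  have hcomm : T.mor₁ ≫ e₂'.hom =
      e₁'.hom ≫ DerivedCategory.Q.map (CochainComplex.truncGEMap φ a) := by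
    dsimp only [e₁', e₂', Iso.trans_hom, Iso.symm_hom, asIso_hom]
    rw [Category.assoc, ← CategoryTheory.Functor.map_comp, CochainComplex.πTruncGE_naturality,
      CategoryTheory.Functor.map_comp]
    have h3 : e₁.inv ≫ DerivedCategory.Q.map φ = T.mor₁ ≫ e₂.inv := by
      rw [Iso.inv_comp_eq, ← Category.assoc, ← hφ, Category.assoc, Iso.hom_inv_id,
        Category.comp_id]
    rw [← Category.assoc e₁.inv, h3, Category.assoc]
  obtain ⟨e₃⟩ := cone_iso' T hT e₁' e₂' (CochainComplex.truncGEMap φ a) hcomm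
  let C := CochainComplex.mappingCone (CochainComplex.truncGEMap φ a)
  have eC : ∀ i : ℤ, C.X i ≅ (P₁.truncGE a).X (i + 1) ⊞ (P₂.truncGE a).X i := fun i =>
    HomologicalComplex.homotopyCofiber.XIsoBiprod (CochainComplex.truncGEMap φ a) i (i + 1) rfl
  refine ⟨C, fun i hi => ?_, fun i => ?_, ⟨e₃.symm⟩⟩
  · refine IsZero.of_iso (isZero_biprod' ?_ ?_) (eC i)
    · rcases hi with hi | hi
      · exact CochainComplex.isZero_of_isStrictlyGE _ a _ (by omega)
      · exact (hP₁N (i + 1) (by omega)).of_iso (P₁.truncGEXIso a (i + 1) (by omega))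
    · rcases hi with hi | hi
      · exact CochainComplex.isZero_of_isStrictlyGE _ a _ (by omega)
      · exact (hP₂N i hi).of_iso (P₂.truncGEXIso a i (by omega))
  · exact hΦ.iso (eC i).symm (hΦ.biprod
      (hΦ.truncGE_terms P₁ a (fun i => hΦ.flat (hP₁fl i)) hop₁ (i + 1))
      (hΦ.truncGE_terms P₂ a (fun i => hΦ.flat (hP₂fl i)) hop₂ i))

end FlatLike

theorem ΦAmp.shift {Φ : Y.Modules → Prop} {a b : ℤ} {K : DCoh.D Y} (h : ΦAmp Φ a b K) (n : ℤ) :
    ΦAmp Φ (a - n) (b - n) (K⟦n⟧) := by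
  obtain ⟨E, hE, hfl, ⟨e⟩⟩ := h
  refine ⟨E⟦n⟧, fun i hi => ?_, fun i => ?_,
    ⟨(DerivedCategory.Q.commShiftIso n).app E ≪≫ (shiftFunctor (DCoh.D Y) n).mapIso e⟩⟩
  · rw [CochainComplex.shiftFunctor_obj_X']
    apply hE
    rcases hi with hi | hi
    · exact Or.inl (by omega)
    · exact Or.inr (by omega)
  · rw [CochainComplex.shiftFunctor_obj_X']
    exact hfl _

/-- a direct summand of an object of `Φ`-amplitude `[m, n]` has `Φ`-amplitude `[m, n]` -/
theorem FlatLike.amp_of_biprod {Φ : Y.Modules → Prop} (hΦ : FlatLike Φ) (K L : DCoh.D Y)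
    [HasBinaryBiproduct K L] (m n : ℤ) (hmn : m ≤ n) (h : ΦAmp Φ m n (K ⊞ L)) :
    ΦAmp Φ m n K := by
  have hHK : ∀ i : ℤ, (i < m ∨ n < i) → IsZero (DCoh.HD K i) := fun i hi =>
    isZero_of_retract' ((DerivedCategory.homologyFunctor _ i).map (biprod.inl : K ⟶ K ⊞ L))
      ((DerivedCategory.homologyFunctor _ i).map biprod.fst)
      (by rw [← Functor.map_comp, biprod.inl_fst, CategoryTheory.Functor.map_id])
      (h.isZero_HD i hi)
  have hHL : ∀ i : ℤ, (i < m ∨ n < i) → IsZero (DCoh.HD L i) := fun i hi =>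
    isZero_of_retract' ((DerivedCategory.homologyFunctor _ i).map (biprod.inr : L ⟶ K ⊞ L))
      ((DerivedCategory.homologyFunctor _ i).map biprod.snd)
      (by rw [← Functor.map_comp, biprod.inr_snd, CategoryTheory.Functor.map_id])
      (h.isZero_HD i hi)
  obtain ⟨K', hK'fl, hK'N, ⟨eK'⟩⟩ := exists_bdd_flat_rep K n (fun i hi => hHK i (Or.inr hi))
  obtain ⟨L', hL'fl, hL'N, ⟨eL'⟩⟩ := exists_bdd_flat_rep L n (fun i hi => hHL i (Or.inr hi))
  let M : CochainComplex Y.Modules ℤ := K' ⊞ L'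
  have hMfl : ∀ i : ℤ, Φ (M.X i) := fun i =>
    hΦ.iso (HomologicalComplex.biprodXIso K' L' i).symm
      (hΦ.biprod (hΦ.flat (hK'fl i)) (hΦ.flat (hL'fl i)))
  have hMN : ∀ i : ℤ, n < i → IsZero (M.X i) := fun i hi =>
    IsZero.of_iso (isZero_biprod' (hK'N i hi) (hL'N i hi)) (HomologicalComplex.biprodXIso K' L' i)
  haveI : PreservesBinaryBiproducts (DerivedCategory.Q : CochainComplex Y.Modules ℤ ⥤ _) :=
    preservesBinaryBiproducts_of_preservesBiproducts _
  let φ : DerivedCategory.Q.obj M ≅ K ⊞ L :=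
    (DerivedCategory.Q.mapBiprod K' L') ≪≫ biprod.mapIso eK' eL'
  have hMop : Φ (M.opcycles m) := hΦ.opcycles_of_amp h M n hMfl hMN φ
  have hK'op : Φ (K'.opcycles m) :=
    hΦ.retract (HomologicalComplex.opcyclesMap (biprod.inl : K' ⟶ K' ⊞ L') m)
      (HomologicalComplex.opcyclesMap (biprod.fst : K' ⊞ L' ⟶ K') m)
      (by rw [← HomologicalComplex.opcyclesMap_comp, biprod.inl_fst,
        HomologicalComplex.opcyclesMap_id]) hMop
  have hHK' : ∀ i : ℤ, i < m → IsZero (K'.homology i) := fun i hi =>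
    (hHK i (Or.inl hi)).of_iso ((homologyQIso K' i).symm ≪≫
      (DerivedCategory.homologyFunctor _ i).mapIso eK')
  exact (hΦ.amp_Q_of_opcycles K' m n hmn (fun i => hΦ.flat (hK'fl i)) hK'N hHK' hK'op).of_iso eK'

end Groth.Agent.Lib.Helper99.SRel
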