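import Mathlib
import Groth.Agent.Lib.Helper99.SRel4

/-!
# Relative flatness and restriction along open immersions (helper99)
-/

set_option autoImplicit false
universe u
open CategoryTheory Limits AlgebraicGeometry Opposite TopologicalSpace

attribute [local instance] HasDerivedCategory.standard

namespace Groth.Agent.Lib.Helper99.SRel

open Groth.Agent.Lib.QCoh Scheme.Modules FlatMod Groth.Agent.Lib.Helper99.SPerf

variable {U' U S : Scheme.{u}}

/-- the stalk iso of a restriction along an open immersion -/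
noncomputable def restrStalkIso (k : U' ⟶ U) [IsOpenImmersion k] (M : U.Modules) (y : U') :
    (M.restrict k).presheaf.stalk y ≅ M.presheaf.stalk (k y) :=
  (Scheme.Modules.restrictStalkNatIso k y).app M

theorem restrict_smul_eq' (k : U' ⟶ U) [IsOpenImmersion k] (M : U.Modules) (W : U'.Opens)
    (β : Γ(U, k ''ᵁ W)) (m : Γ(M.restrict k, W)) :
    ((k.appIso W).hom β) • m = β • (show Γ(M, k ''ᵁ W) from m) := by
  have h1 : ((k.appIso W).hom β) • m =
      (show Γ(U, k ''ᵁ W) from (k.appIso W).inv ((k.appIso W).hom β)) •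
        (show Γ(M, k ''ᵁ W) from m) := rfl
  rw [h1]
  congr 1
  exact ConcreteCategory.congr_hom (k.appIso W).hom_inv_id β

/-- the stalk iso of a restriction is semilinear along the stalk map -/
theorem restrStalkIso_smul (k : U' ⟶ U) [IsOpenImmersion k] (M : U.Modules) (y : U')
    (b : U.presheaf.stalk (k y)) (n : (M.restrict k).presheaf.stalk y) :
    (restrStalkIso k M y).hom ((k.stalkMap y b) • n) = b • (restrStalkIso k M y).hom n := by
  obtain ⟨W', hyW', ν, rfl⟩ := (M.restrict k).presheaf.exists_germ_eq n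
  obtain ⟨W₀, hW₀, β, rfl⟩ := U.presheaf.exists_germ_eq b
  let W : U'.Opens := W' ⊓ k ⁻¹ᵁ W₀
  have hyW : y ∈ W := ⟨hyW', hW₀⟩
  have hle : k ''ᵁ W ≤ W₀ := by
    rintro _ ⟨z, hz, rfl⟩
    exact hz.2
  have hky : k y ∈ k ''ᵁ W := ⟨y, hyW, rfl⟩
  let β' : Γ(U, k ''ᵁ W) := U.presheaf.map (homOfLE hle).op β
  let ν' : Γ(M.restrict k, W) := (M.restrict k).presheaf.map (homOfLE (inf_le_left : W ≤ W')).op ν
  have e1 : U.presheaf.germ W₀ (k y) hW₀ β = U.presheaf.germ (k ''ᵁ W) (k y) hky β' :=
    (TopCat.Presheaf.germ_res_apply _ (homOfLE hle) (k y) hky β).symm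
  have e2 : (M.restrict k).presheaf.germ W' y hyW' ν = (M.restrict k).presheaf.germ W y hyW ν' :=
    (TopCat.Presheaf.germ_res_apply _ (homOfLE (inf_le_left : W ≤ W')) y hyW ν).symm
  have e3 : ∀ s : Γ(M.restrict k, W),
      (restrStalkIso k M y).hom ((M.restrict k).presheaf.germ W y hyW s) =
        M.presheaf.germ (k ''ᵁ W) (k y) hky s := fun s =>
    ConcreteCategory.congr_hom (germ_restrictStalkNatIso_hom_app k y M hyW) s
  have e4 : k.stalkMap y (U.presheaf.germ (k ''ᵁ W) (k y) hky β') =
      U'.presheaf.germ W y hyW ((k.appIso W).hom β') := by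
    rw [Scheme.Hom.germ_stalkMap_apply, Scheme.Hom.appIso_hom]
    exact (TopCat.Presheaf.germ_res_apply _ _ y hyW _).symm
  rw [e1, e2, e4, ← germ_smul (M.restrict k) y W hyW, e3, e3, restrict_smul_eq', germ_smul M]

/-- relative flatness passes to restrictions along open immersions -/
theorem isFlatOver_restrict (k : U' ⟶ U) [IsOpenImmersion k] (g : U ⟶ S) (M : U.Modules)
    (h : IsFlatOver g M) : IsFlatOver (k ≫ g) (M.restrict k) := by
  intro y
  letI m₁ := moduleStalkOver g M (k y)
  letI m₂ : Module (S.presheaf.stalk (g (k y))) ((M.restrict k).presheaf.stalk y) :=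
    moduleStalkOver (k ≫ g) (M.restrict k) y
  haveI : Module.Flat (S.presheaf.stalk (g (k y))) (M.presheaf.stalk (k y)) := h (k y)
  have hb : Function.Bijective (restrStalkIso k M y).hom :=
    (ConcreteCategory.isIso_iff_bijective _).1 inferInstance
  let l : (M.restrict k).presheaf.stalk y →ₗ[S.presheaf.stalk (g (k y))] M.presheaf.stalk (k y) :=
    { toFun := (restrStalkIso k M y).hom
      map_add' := map_add _
      map_smul' := fun r n => by
        change (restrStalkIso k M y).hom (((k ≫ g).stalkMap y r) • n) =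
          (g.stalkMap (k y) r) • (restrStalkIso k M y).hom n
        rw [← restrStalkIso_smul, Scheme.Hom.stalkMap_comp]
        rfl }
  have key : Module.Flat (S.presheaf.stalk (g (k y))) ((M.restrict k).presheaf.stalk y) :=
    Module.Flat.of_linearEquiv (LinearEquiv.ofBijective l hb)
  exact key

end Groth.Agent.Lib.Helper99.SRel
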