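import Mathlib
import Groth.Agent.Lib.Helper99.SRel5

/-!
# Locally finite relative tor dimension: closure properties (helper99)
-/

set_option autoImplicit false
universe u
open CategoryTheory Limits AlgebraicGeometry Opposite TopologicalSpace Pretriangulated ZeroObject

attribute [local instance] HasDerivedCategory.standard

namespace Groth.Agent.Lib.Helper99.SRel

open Groth.Agent.Lib.QCoh Scheme.Modules FlatMod Groth.Agent.Lib.Helper99.SPerf

variable {X S : Scheme.{u}} (f : X ⟶ S)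

/-- local form of `DCoh.LocHasFiniteRelTorDim` in terms of `restrictD` -/
def LRT (K : DCoh.D X) : Prop :=
  ∀ x : X, ∃ (V : X.Opens) (a b : ℤ), x ∈ V ∧
    ΦAmp (IsFlatOver (V.ι ≫ f)) a b ((DCoh.restrictD V.ι).obj K)

theorem locHasFiniteRelTorDim_iff (K : DCoh.D X) : DCoh.LocHasFiniteRelTorDim f K ↔ LRT f K := by
  constructor
  · intro h x
    obtain ⟨V, a, b, hx, hV⟩ := h x
    refine ⟨V, a, b, hx, ?_⟩
    let F := (DerivedCategory.Q : _ ⥤ DCoh.D X).objPreimage K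
    let eK : DerivedCategory.Q.obj F ≅ K := DerivedCategory.Q.objObjPreimageIso K
    obtain ⟨E, hE, hfl, ⟨e⟩⟩ := hV F ⟨eK⟩
    exact ⟨E, hE, hfl, ⟨e ≪≫ (restrictDQIso V.ι F).symm ≪≫ (DCoh.restrictD V.ι).mapIso eK⟩⟩
  · intro h x
    obtain ⟨V, a, b, hx, E, hE, hfl, ⟨e⟩⟩ := h x
    refine ⟨V, a, b, hx, fun F ⟨eK⟩ => ⟨E, hE, hfl, ⟨?_⟩⟩⟩
    exact e ≪≫ (DCoh.restrictD V.ι).mapIso eK.symm ≪≫ restrictDQIso V.ι F

variable {f}

theorem ΦAmp.restrict {V V' : X.Opens} (hle : V' ≤ V) {a b : ℤ} {K : DCoh.D X}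
    (h : ΦAmp (IsFlatOver (V.ι ≫ f)) a b ((DCoh.restrictD V.ι).obj K)) :
    ΦAmp (IsFlatOver (V'.ι ≫ f)) a b ((DCoh.restrictD V'.ι).obj K) := by
  obtain ⟨E, hE, hfl, ⟨e⟩⟩ := h
  let k := X.homOfLE hle
  have hk : k ≫ V.ι ≫ f = V'.ι ≫ f := by rw [← Category.assoc, X.homOfLE_ι]
  refine ⟨(restrCx k).obj E, fun i hi => (restrictFunctor k).map_isZero (hE i hi), fun i => ?_, ⟨?_⟩⟩
  · have h1 := isFlatOver_restrict k (V.ι ≫ f) (E.X i) (hfl i)
    rw [hk] at h1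
    exact h1
  · exact (restrictDQIso k E).symm ≪≫ (DCoh.restrictD k).mapIso e ≪≫
      ((restrictDComp k V.ι).app K).symm ≪≫ (restrictDCongr (X.homOfLE_ι hle)).app K

theorem LRT.of_iso {K K' : DCoh.D X} (e : K ≅ K') (h : LRT f K) : LRT f K' := by
  intro x
  obtain ⟨V, a, b, hx, hV⟩ := h x
  exact ⟨V, a, b, hx, hV.of_iso ((DCoh.restrictD V.ι).mapIso e)⟩

theorem LRT.of_isZero {K : DCoh.D X} (hK : IsZero K) : LRT f K := by
  intro x
  refine ⟨⊤, 0, 0, trivial, (0 : CochainComplex ((⊤ : X.Opens) : Scheme.{u}).Modules ℤ),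
    fun i _ => ?_, fun i => ?_, ⟨?_⟩⟩
  · exact (HomologicalComplex.eval _ _ i).map_isZero (isZero_zero _)
  · exact isFlatOver_of_isZero _ ((HomologicalComplex.eval _ _ i).map_isZero (isZero_zero _))
  · exact (DerivedCategory.Q.map_isZero (isZero_zero _)).iso
      ((DCoh.restrictD (⊤ : X.Opens).ι).map_isZero hK)

theorem LRT.shift {K : DCoh.D X} (h : LRT f K) (n : ℤ) : LRT f (K⟦n⟧) := by
  intro x
  obtain ⟨V, a, b, hx, hV⟩ := h x
  exact ⟨V, a - n, b - n, hx,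
    (hV.shift n).of_iso (((DCoh.restrictD V.ι).commShiftIso n).app K).symm⟩

variable [Flat f]

theorem LRT.obj₃ (T : Triangle (DCoh.D X)) (hT : T ∈ distTriang (DCoh.D X))
    (h1 : LRT f T.obj₁) (h2 : LRT f T.obj₂) : LRT f T.obj₃ := by
  intro x
  obtain ⟨V₁, a₁, b₁, hx₁, hV₁⟩ := h1 x
  obtain ⟨V₂, a₂, b₂, hx₂, hV₂⟩ := h2 x
  let V := V₁ ⊓ V₂
  let a := min a₁ a₂
  let b := max (max b₁ b₂) a
  have hab : a ≤ b := le_max_right _ _
  have k1 : ΦAmp (IsFlatOver (V.ι ≫ f)) a b ((DCoh.restrictD V.ι).obj T.obj₁) :=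
    (ΦAmp.restrict (inf_le_left : V ≤ V₁) hV₁).mono (min_le_left _ _)
      (le_trans (le_max_left _ _) (le_max_left _ _))
  have k2 : ΦAmp (IsFlatOver (V.ι ≫ f)) a b ((DCoh.restrictD V.ι).obj T.obj₂) :=
    (ΦAmp.restrict (inf_le_right : V ≤ V₂) hV₂).mono (min_le_right _ _)
      (le_trans (le_max_right _ _) (le_max_left _ _))
  have hT' := (DCoh.restrictD V.ι).map_distinguished _ hT
  exact ⟨V, a - 1, b, ⟨hx₁, hx₂⟩,
    (flatLike_isFlatOver (V.ι ≫ f)).amp_cone _ hT' hab k1 k2⟩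

theorem LRT.obj₂ (T : Triangle (DCoh.D X)) (hT : T ∈ distTriang (DCoh.D X))
    (h1 : LRT f T.obj₁) (h3 : LRT f T.obj₃) : LRT f T.obj₂ :=
  LRT.obj₃ T.invRotate (inv_rot_of_distTriang _ hT) (h3.shift (-1)) h1

theorem LRT.of_biprod (K L : DCoh.D X) [HasBinaryBiproduct K L] (h : LRT f (K ⊞ L)) :
    LRT f K := by
  intro x
  obtain ⟨V, a, b, hx, hV⟩ := h x
  refine ⟨V, a, max a b, hx, ?_⟩
  haveI : PreservesBinaryBiproducts (DCoh.restrictD V.ι) :=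
    preservesBinaryBiproducts_of_preservesBiproducts _
  have h1 : ΦAmp (IsFlatOver (V.ι ≫ f)) a (max a b)
      ((DCoh.restrictD V.ι).obj K ⊞ (DCoh.restrictD V.ι).obj L) :=
    (hV.mono le_rfl (le_max_right _ _)).of_iso ((DCoh.restrictD V.ι).mapBiprod K L)
  exact (flatLike_isFlatOver (V.ι ≫ f)).amp_of_biprod _ _ a (max a b) (le_max_left _ _) h1

end Groth.Agent.Lib.Helper99.SRel
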