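import Mathlib
import Groth.Agent.Lib.Helper99.SStalk1
import Groth.Agent.Lib.QCoh.Helper18_StalkLinear

/-!
# The stalk functor to modules over the local ring is exact (helper99)
-/

set_option autoImplicit false
universe u
open CategoryTheory Limits AlgebraicGeometry Opposite TopologicalSpace

attribute [local instance] HasDerivedCategory.standard

namespace Groth.Agent.Lib.Helper99.SStalk

open DerSch

variable {X Y Z : Scheme.{u}}

theorem stalkFunctor_map_shortExact (x : X) (S : ShortComplex X.Modules) (hS : S.ShortExact) :
    (S.map (DerSch.stalkFunctor X x)).ShortExact := by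
  obtain ⟨h_inj, h_surj, h_ex⟩ := Groth.Agent.Lib.QCoh.stalk_exact_of_shortExact S hS x
  have hmono : Mono (S.map (DerSch.stalkFunctor X x)).f :=
    (ModuleCat.mono_iff_injective _).2 h_inj
  have hepi : Epi (S.map (DerSch.stalkFunctor X x)).g :=
    (ModuleCat.epi_iff_surjective _).2 h_surj
  refine ShortComplex.ShortExact.mk' ?_ hmono hepi
  rw [ShortComplex.moduleCat_exact_iff]
  intro m hm
  exact h_ex m hm

instance preservesHomology_stalkFunctor (x : X) : (DerSch.stalkFunctor X x).PreservesHomology :=
  ((Functor.exact_tfae (DerSch.stalkFunctor X x)).out 0 2).1 (stalkFunctor_map_shortExact x)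

instance preservesHomology_stalkOver (f : X ⟶ Y) (x : X) : (stalkOver f x).PreservesHomology := by
  haveI : PreservesFiniteLimits (DerSch.stalkFunctor X x) :=
    Functor.preservesFiniteLimits_of_preservesHomology _
  haveI : PreservesFiniteColimits (DerSch.stalkFunctor X x) :=
    Functor.preservesFiniteColimits_of_preservesHomology _
  haveI : PreservesFiniteLimits (stalkOver f x) := comp_preservesFiniteLimits _ _
  haveI : PreservesFiniteColimits (stalkOver f x) := comp_preservesFiniteColimits _ _
  have h : PreservesFiniteLimits (stalkOver f x) ∧ PreservesFiniteColimits (stalkOver f x) :=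
    ⟨inferInstance, inferInstance⟩
  exact ((Functor.exact_tfae (stalkOver f x)).out 3 2).1 h

end Groth.Agent.Lib.Helper99.SStalk
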