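import Mathlib
import Groth.Agent.Lib.Helper99.SStalk2
import Groth.Agent.Lib.Helper99.SRel6
import Groth.Agent.Lib.QCoh.Helper18_Ass

/-!
# Flat amplitude versus stalkwise tor amplitude (helper99)
-/

set_option autoImplicit false
universe u
open CategoryTheory Limits AlgebraicGeometry Opposite TopologicalSpace

attribute [local instance] HasDerivedCategory.standard

namespace Groth.Agent.Lib.Helper99.SStalk

open DerSch Groth.Agent.Lib.Helper99.SRel Groth.Agent.Lib.Helper99.SPerf FlatMod

variable {X Y Z : Scheme.{u}}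

instance (f : X ⟶ Y) (x : X) : PreservesFiniteLimits (stalkOver f x) :=
  Functor.preservesFiniteLimits_of_preservesHomology _

instance (f : X ⟶ Y) (x : X) : PreservesFiniteColimits (stalkOver f x) :=
  Functor.preservesFiniteColimits_of_preservesHomology _

/-- the complex of stalks of quasi-isomorphic (in `D`) complexes -/
noncomputable def toDStalkCxIso (f : X ⟶ Y) (x : X) {E F : CochainComplex X.Modules ℤ}
    (e : DCoh.toD X E ≅ DCoh.toD X F) :
    DRing.toD ((stalkCxOver f x).obj E) ≅ DRing.toD ((stalkCxOver f x).obj F) :=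
  ((stalkOver f x).mapDerivedCategoryFactors.app E).symm ≪≫
    (stalkOver f x).mapDerivedCategory.mapIso e ≪≫ (stalkOver f x).mapDerivedCategoryFactors.app F

/-- relative flat amplitude (representative form) implies stalkwise tor amplitude -/
theorem hasTorAmplitude_of_relFlatAmp (f : X ⟶ Y) (F : CochainComplex X.Modules ℤ) (a b : ℤ)
    (h : ΦAmp (IsFlatOver f) a b (DCoh.toD X F)) : HasTorAmplitude f a b F := by
  intro x
  obtain ⟨E, hE, hfl, ⟨e⟩⟩ := h
  refine ⟨(stalkCxOver f x).obj E, fun i hi => (stalkOver f x).map_isZero (hE i hi),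
    fun i => hfl i x, ⟨toDStalkCxIso f x e⟩⟩

/-- homology of the complex of stalks -/
noncomputable def stalkCxHomologyIso (f : X ⟶ Y) (x : X) (F : CochainComplex X.Modules ℤ) (i : ℤ) :
    ((stalkCxOver f x).obj F).homology i ≅ (stalkOver f x).obj (F.homology i) :=
  (F.sc i).mapHomologyIso (stalkOver f x)

/-- opcycles of the complex of stalks -/
noncomputable def stalkCxOpcyclesIso (f : X ⟶ Y) (x : X) (F : CochainComplex X.Modules ℤ) (i : ℤ) :
    ((stalkCxOver f x).obj F).opcycles i ≅ (stalkOver f x).obj (F.opcycles i) :=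
  (F.sc i).mapOpcyclesIso (stalkOver f x)

theorem isZero_homology_of_stalks (f : X ⟶ Y) (F : CochainComplex X.Modules ℤ) (i : ℤ)
    (h : ∀ x : X, IsZero (((stalkCxOver f x).obj F).homology i)) : IsZero (F.homology i) := by
  apply Groth.Agent.Lib.QCoh.isZero_of_forall_stalk_subsingleton
  intro x
  have h1 : IsZero ((stalkOver f x).obj (F.homology i)) := (h x).of_iso (stalkCxHomologyIso f x F i).symm
  exact ModuleCat.subsingleton_of_isZero h1

open Groth.Agent.Lib.Helper12 in
theorem isZero_homology_of_hasTorAmplitude (f : X ⟶ Y) (F : CochainComplex X.Modules ℤ) (a b : ℤ)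
    (h : HasTorAmplitude f a b F) (i : ℤ) (hi : i < a ∨ b < i) : IsZero (F.homology i) := by
  apply isZero_homology_of_stalks f
  intro x
  have h1 := isZero_HF_of_hasTorAmplitudeIn (h x) i hi
  exact h1.of_iso ((DerivedCategory.homologyFunctorFactors _ i).app _).symm

theorem isFlatAt_of_isFlatOverAt_id (M : X.Modules) (x : X) (h : IsFlatOverAt (𝟙 X) M x) :
    IsFlatAt M x := by
  have key : moduleStalkOver (𝟙 X) M x =
      (inferInstance : Module (X.presheaf.stalk x) (M.presheaf.stalk x)) := by
    refine Module.ext' _ _ (fun r y => ?_)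
    have h1 : ((𝟙 X : X ⟶ X).stalkMap x).hom r = (r : X.presheaf.stalk x) := by
      rw [Scheme.Hom.stalkMap_id]; rfl
    exact congrArg (fun t : X.presheaf.stalk x => t • y) h1
  unfold IsFlatOverAt at h
  rw [key] at h
  exact h

end Groth.Agent.Lib.Helper99.SStalk
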