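import Mathlib
import Groth.Agent.Lib.Helper99.SStalk3
import Groth.Agent.Lib.Helper99.SPerf17b
import Groth.Agent.Lib.Helper12.DRingTorAmp

/-!
# Flat amplitude versus stalkwise tor amplitude, II (helper99)
-/

set_option autoImplicit false
universe u
open CategoryTheory Limits AlgebraicGeometry Opposite TopologicalSpace
open scoped ZeroObject

attribute [local instance] HasDerivedCategory.standard

namespace Groth.Agent.Lib.Helper99.SStalk

open DerSch Groth.Agent.Lib.Helper99.SRel Groth.Agent.Lib.Helper99.SPerf FlatMod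

variable {X Y Z : Scheme.{u}}

theorem isZero_Q_of_acyclic (F : CochainComplex X.Modules ℤ) (h : ∀ i : ℤ, IsZero (F.homology i)) :
    IsZero (DerivedCategory.Q.obj F) := by
  have hz : IsZero (0 : CochainComplex X.Modules ℤ) := isZero_zero _
  haveI : QuasiIso (0 : F ⟶ 0) := by
    refine ⟨fun i => ?_⟩
    rw [quasiIsoAt_iff_exactAt (0 : F ⟶ 0) i
      ((HomologicalComplex.exactAt_iff_isZero_homology _ _).2 (h i))]
    rw [HomologicalComplex.exactAt_iff_isZero_homology]
    exact (HomologicalComplex.homologyFunctor _ _ i).map_isZero hz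
  haveI : IsIso (DerivedCategory.Q.map (0 : F ⟶ 0)) := by
    rw [DerivedCategory.isIso_Q_map_iff_quasiIso]; infer_instance
  exact ((DerivedCategory.Q : _ ⥤ DCoh.D X).map_isZero hz).of_iso
    (asIso (DerivedCategory.Q.map (0 : F ⟶ 0)))

open Groth.Agent.Lib.Helper12 in
/-- stalkwise tor amplitude relative to the identity implies flat amplitude -/
theorem hasFlatAmplitudeIn_of_hasTorAmplitude_id (F : CochainComplex X.Modules ℤ) (a b : ℤ)
    (h : HasTorAmplitude (𝟙 X) a b F) : DCoh.HasFlatAmplitudeIn a b (DCoh.toD X F) := by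
  have hH : ∀ i : ℤ, (i < a ∨ b < i) → IsZero (F.homology i) :=
    isZero_homology_of_hasTorAmplitude (𝟙 X) F a b h
  by_cases hab : a ≤ b
  · have hHD : ∀ i : ℤ, b < i → IsZero (DCoh.HD (DCoh.toD X F) i) := fun i hi =>
      (hH i (Or.inr hi)).of_iso (homologyQIso F i)
    obtain ⟨P, hPfl, hPN, ⟨e⟩⟩ := exists_bdd_flat_rep (DCoh.toD X F) b hHD
    have hHP : ∀ i : ℤ, i < a → IsZero (P.homology i) := fun i hi =>
      (hH i (Or.inl hi)).of_iso ((homologyQIso P i).symm ≪≫
        (DerivedCategory.homologyFunctor _ i).mapIso e ≪≫ homologyQIso F i)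
    have hop : IsFlat (P.opcycles a) := by
      intro x
      apply isFlatAt_of_isFlatOverAt_id
      have h1 : Module.Flat (X.presheaf.stalk ((𝟙 X : X ⟶ X).base x))
          (((stalkCxOver (𝟙 X) x).obj P).opcycles a) :=
        flat_opcycles_of_hasTorAmplitudeIn ((stalkCxOver (𝟙 X) x).obj P) b
          (fun i hi => (stalkOver (𝟙 X) x).map_isZero (hPN i hi)) a b
          (fun j _ => isFlatOver_of_isFlat (𝟙 X) (hPfl j) x)
          (hasTorAmplitudeIn_of_iso (toDStalkCxIso (𝟙 X) x e.symm) (h x))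
      have h2 : Module.Flat (X.presheaf.stalk ((𝟙 X : X ⟶ X).base x))
          ((stalkOver (𝟙 X) x).obj (P.opcycles a)) :=
        Module.Flat.of_linearEquiv (stalkCxOpcyclesIso (𝟙 X) x P a).symm.toLinearEquiv
      exact h2
    exact hasFlatAmplitudeIn_of_iso e a b (hasFlatAmplitudeIn_Q_of_opcycles P a b hab hPfl hPN hHP hop)
  · have hz : IsZero (DCoh.toD X F) := isZero_Q_of_acyclic F (fun i => hH i (by omega))
    have hz0 : IsZero (0 : CochainComplex X.Modules ℤ) := isZero_zero _
    refine ⟨0, fun i _ => (HomologicalComplex.eval _ _ i).map_isZero hz0,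
      fun i => isFlat_of_isZero' ((HomologicalComplex.eval _ _ i).map_isZero hz0),
      ⟨(((DerivedCategory.Q : _ ⥤ DCoh.D X).map_isZero hz0).iso hz)⟩⟩

/-- flat amplitude implies stalkwise tor amplitude relative to the identity -/
theorem hasTorAmplitude_id_of_hasFlatAmplitudeIn (F : CochainComplex X.Modules ℤ) (a b : ℤ)
    (h : DCoh.HasFlatAmplitudeIn a b (DCoh.toD X F)) : HasTorAmplitude (𝟙 X) a b F := by
  apply hasTorAmplitude_of_relFlatAmp
  obtain ⟨E, hE, hfl, ⟨e⟩⟩ := h
  exact ⟨E, hE, fun i => isFlatOver_of_isFlat (𝟙 X) (hfl i), ⟨e⟩⟩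

end Groth.Agent.Lib.Helper99.SStalk
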