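import Mathlib
import Groth.Agent.Lib.Helper99.SStalk4
import Groth.Agent.Lib.Helper20.PushStalk

/-!
# Stalks of direct images along inducing morphisms; tor amplitude (helper99)
-/

set_option autoImplicit false
universe u
open CategoryTheory Limits AlgebraicGeometry Opposite TopologicalSpace

attribute [local instance] HasDerivedCategory.standard

namespace Groth.Agent.Lib.Helper99.SStalk

open DerSch Groth.Agent.Lib.Helper99.SRel Groth.Agent.Lib.Helper99.SPerf FlatMod
open Groth.Agent.Lib.Helper20.PushStalk

variable {X X' Y : Scheme.{u}}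

/-- `(i_* M)_{i x} ≃ M_x`, linear over `O_{X', i x}` -/
noncomputable def pushStalkLinearEquiv (i : X ⟶ X') (hi : Topology.IsInducing i) (M : X.Modules)
    (x : X) :
    ((DerSch.stalkFunctor X' (i.base x)).obj ((Scheme.Modules.pushforward i).obj M))
      ≃ₗ[X'.presheaf.stalk (i.base x)] ((stalkOver i x).obj M) :=
  LinearEquiv.ofBijective
    ({ toFun := fun m => pushStalk i M x m
       map_add' := fun m m' => map_add (pushStalk i M x).hom m m'
       map_smul' := fun r m => pushStalk_smul i M x r m } :
      ((DerSch.stalkFunctor X' (i.base x)).obj ((Scheme.Modules.pushforward i).obj M))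
        →ₗ[X'.presheaf.stalk (i.base x)] ((stalkOver i x).obj M))
    (pushStalk_bijective i hi M x)

theorem pushStalkLinearEquiv_apply (i : X ⟶ X') (hi : Topology.IsInducing i) (M : X.Modules)
    (x : X) (m : ((Scheme.Modules.pushforward i).obj M).presheaf.stalk (i.base x)) :
    pushStalkLinearEquiv i hi M x m = pushStalk i M x m := rfl

/-- stalks of the direct image along an inducing morphism, as a functor -/
noncomputable def pushStalkOverIso (i : X ⟶ X') (hi : Topology.IsInducing i) (x : X) :
    Scheme.Modules.pushforward i ⋙ DerSch.stalkFunctor X' (i.base x) ≅ stalkOver i x :=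
  NatIso.ofComponents (fun M => (pushStalkLinearEquiv i hi M x).toModuleIso) (by
    intro M N φ
    ext m
    obtain ⟨W, hW, s, rfl⟩ := ((Scheme.Modules.pushforward i).obj M).presheaf.exists_germ_eq
      (x := i.base x) m
    change pushStalk i N x ((DerSch.stalkFunctor X' (i.base x)).map
        ((Scheme.Modules.pushforward i).map φ)
        (((Scheme.Modules.pushforward i).obj M).presheaf.germ W (i.base x) hW s)) =
      (DerSch.stalkFunctor X x).map φ (pushStalk i M x
        (((Scheme.Modules.pushforward i).obj M).presheaf.germ W (i.base x) hW s))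
    rw [DerSch.stalkFunctor_map_germ]
    erw [pushStalk_germ, pushStalk_germ]
    rw [DerSch.stalkFunctor_map_germ]
    rfl)

/-- stalks over the base of the direct image along an inducing morphism -/
noncomputable def pushStalkOverCompIso (i : X ⟶ X') (hi : Topology.IsInducing i) (f' : X' ⟶ Y)
    (x : X) :
    Scheme.Modules.pushforward i ⋙ stalkOver f' (i.base x) ≅ stalkOver (i ≫ f') x :=
  (Functor.associator _ _ _).symm ≪≫
    Functor.isoWhiskerRight (pushStalkOverIso i hi x)
      (ModuleCat.restrictScalars (f'.stalkMap (i.base x)).hom) ≪≫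
    (stalkOverCompIso i f' x).symm

/-- the complex of stalks of a termwise direct image -/
noncomputable def pushStalkCxOverIso (i : X ⟶ X') (hi : Topology.IsInducing i) (f' : X' ⟶ Y)
    (x : X) (F : CochainComplex X.Modules ℤ) :
    (stalkCxOver f' (i.base x)).obj
      (((Scheme.Modules.pushforward i).mapHomologicalComplex (ComplexShape.up ℤ)).obj F) ≅
      (stalkCxOver (i ≫ f') x).obj F :=
  HomologicalComplex.Hom.isoOfComponents
    (fun n => (pushStalkOverCompIso i hi f' x).app (F.X n))
    (fun n m _ => ((pushStalkOverCompIso i hi f' x).hom.naturality (F.d n m)).symm)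

open Groth.Agent.Lib.Helper12 in
theorem hasTorAmplitudeAt_push_iff (i : X ⟶ X') (hi : Topology.IsInducing i) (f' : X' ⟶ Y)
    (F : CochainComplex X.Modules ℤ) (a b : ℤ) (x : X) :
    HasTorAmplitudeAt f' a b
      (((Scheme.Modules.pushforward i).mapHomologicalComplex (ComplexShape.up ℤ)).obj F)
      (i.base x) ↔ HasTorAmplitudeAt (i ≫ f') a b F x :=
  ⟨fun h => hasTorAmplitudeIn_of_iso (DerivedCategory.Q.mapIso (pushStalkCxOverIso i hi f' x F)) h,
    fun h => hasTorAmplitudeIn_of_iso
      (DerivedCategory.Q.mapIso (pushStalkCxOverIso i hi f' x F).symm) h⟩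

/-- **S6191** -/
theorem hasTorAmplitude_of_hasFlatAmplitudeIn_push (i : X ⟶ X') (hi : Topology.IsInducing i)
    (f' : X' ⟶ Y) [Flat f'] (F : CochainComplex X.Modules ℤ) (a b : ℤ)
    (hF : DCoh.HasFlatAmplitudeIn a b (DCoh.toD X'
      (((Scheme.Modules.pushforward i).mapHomologicalComplex (ComplexShape.up ℤ)).obj F))) :
    HasTorAmplitude (i ≫ f') a b F := by
  obtain ⟨E, hE, hfl, ⟨e⟩⟩ := hF
  have h1 : HasTorAmplitude f' a b
      (((Scheme.Modules.pushforward i).mapHomologicalComplex (ComplexShape.up ℤ)).obj F) :=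
    hasTorAmplitude_of_relFlatAmp f' _ a b
      ⟨E, hE, fun j => isFlatOver_of_isFlat f' (hfl j), ⟨e⟩⟩
  intro x
  exact (hasTorAmplitudeAt_push_iff i hi f' F a b x).1 (h1 (i.base x))

end Groth.Agent.Lib.Helper99.SStalk
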