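import Mathlib
import Groth.Agent.Lib.Helper99.SStalk5
import Groth.Agent.Lib.Helper99.SPerf13
import Groth.Prelude.Def_DerSch2

/-!
# Boundedness above of relatively pseudo-coherent objects (helper99)
-/

set_option autoImplicit false
universe u
open CategoryTheory Limits AlgebraicGeometry Opposite TopologicalSpace

attribute [local instance] HasDerivedCategory.standard

namespace Groth.Agent.Lib.Helper99.SStalk

open DerSch Groth.Agent.Lib.Helper99.SRel Groth.Agent.Lib.Helper99.SPerf FlatMod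

variable {X X' Y : Scheme.{u}}

/-- the termwise direct image along an inducing morphism reflects vanishing of cohomology -/
theorem isZero_homology_of_push (i : X ⟶ X') (hi : Topology.IsInducing i)
    (K : CochainComplex X.Modules ℤ) (n : ℤ)
    (h : IsZero ((((Scheme.Modules.pushforward i).mapHomologicalComplex
      (ComplexShape.up ℤ)).obj K).homology n)) : IsZero (K.homology n) := by
  apply isZero_homology_of_stalks (i ≫ 𝟙 X') K n
  intro x
  have h1 : IsZero (((stalkCxOver (𝟙 X') (i.base x)).obj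
      (((Scheme.Modules.pushforward i).mapHomologicalComplex
        (ComplexShape.up ℤ)).obj K)).homology n) :=
    ((stalkOver (𝟙 X') (i.base x)).map_isZero h).of_iso (stalkCxHomologyIso (𝟙 X') (i.base x) _ n)
  exact h1.of_iso ((HomologicalComplex.homologyFunctor _ _ n).mapIso
    (pushStalkCxOverIso i hi (𝟙 X') x K)).symm

/-- a pseudo-coherent object on a quasi-compact scheme has bounded above cohomology -/
theorem exists_bound_of_isPseudoCoherentD [CompactSpace X] (m : ℤ) (K : DCoh.D X)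
    (hK : DCoh.IsPseudoCoherentD m K) : ∃ b : ℤ, ∀ i : ℤ, b < i → IsZero (DCoh.HD K i) := by
  rw [isPseudoCoherentD_iff] at hK
  have key : ∀ x : X, ∃ (V : X.Opens) (b : ℤ), x ∈ V ∧
      ∀ i : ℤ, b < i → IsZero ((DCoh.HD K i).restrict V.ι) := by
    intro x
    obtain ⟨V, hxV, E, α, hE, hα⟩ := hK x
    obtain ⟨⟨a, b, hab⟩, -⟩ := hE
    refine ⟨V, max m b, hxV, fun i hi => ?_⟩
    have hi1 : m < i := lt_of_le_of_lt (le_max_left m b) hi
    have hi2 : b < i := lt_of_le_of_lt (le_max_right m b) hi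
    haveI := hα.1 i hi1
    have hz : IsZero (E.homology i) := isZero_homology_of_isZero_X E i (hab i (Or.inr hi2))
    exact (hz.of_iso (homologyQIso E i)).of_iso
      ((homologyRestrictDIso V.ι K i).symm ≪≫
        (asIso ((DerivedCategory.homologyFunctor _ i).map α)).symm)
  choose V b hxV hb using key
  obtain ⟨t, ht⟩ := isCompact_univ.elim_finite_subcover (fun x : X => ((V x : X.Opens) : Set X))
    (fun x => (V x).isOpen) (fun x _ => Set.mem_iUnion.2 ⟨x, hxV x⟩)
  obtain ⟨B, hB⟩ := Finset.exists_le (t.image b)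
  refine ⟨B, fun i hi => ?_⟩
  apply isZero_of_locally
  intro y
  obtain ⟨x, hx⟩ := Set.mem_iUnion.1 (ht (Set.mem_univ y))
  obtain ⟨hxt, hyx⟩ := Set.mem_iUnion.1 hx
  exact ⟨V x, hyx, hb x i (lt_of_le_of_lt (hB _ (Finset.mem_image_of_mem b hxt)) hi)⟩

theorem isClosedImmersion_chartImm (U : X.Opens) (hU : IsAffineOpen U) {R : Type u} [CommRing R]
    {n : ℕ} (φ : MvPolynomial (Fin n) R →+* Γ(X, U)) (hφ : Function.Surjective φ) :
    IsClosedImmersion (chartImm U φ) := by
  haveI : IsIso U.toSpecΓ := by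
    rw [← hU.isoSpec_hom]; infer_instance
  haveI : IsClosedImmersion (Spec.map (CommRingCat.ofHom φ)) :=
    IsClosedImmersion.spec_of_surjective _ hφ
  unfold chartImm
  infer_instance

/-- **S6236** -/
theorem exists_isLE_of_isPseudoCoherentRel [CompactSpace X] (f : X ⟶ Y) (n : ℤ) (E : DCoh.D X)
    (hE : IsPseudoCoherentRel f n E) : ∃ b : ℤ, E.IsLE b := by
  obtain ⟨-, 𝒱, h𝒱, H⟩ := hE
  let G := (DerivedCategory.Q : _ ⥤ DCoh.D X).objPreimage E
  let e₀ : DCoh.toD X G ≅ E := DerivedCategory.Q.objObjPreimageIso E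
  have key : ∀ x : X, ∃ (U : X.Opens) (b : ℤ), x ∈ U ∧
      ∀ i : ℤ, b < i → IsZero ((DCoh.HD E i).restrict U.ι) := by
    intro x
    have hfx : f.base x ∈ (⨆ V ∈ 𝒱, (V : Y.Opens)) := by rw [h𝒱]; trivial
    obtain ⟨V, hV⟩ := Opens.mem_iSup.1 hfx
    obtain ⟨hV𝒱, hfxV⟩ := Opens.mem_iSup.1 hV
    obtain ⟨𝒰, h𝒰, HU⟩ := H V hV𝒱
    have hx : x ∈ (⨆ U ∈ 𝒰, (U : X.Opens)) := by rw [h𝒰]; exact hfxV
    obtain ⟨U, hU⟩ := Opens.mem_iSup.1 hx
    obtain ⟨hU𝒰, hxU⟩ := Opens.mem_iSup.1 hU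
    have hUV : (U : X.Opens) ≤ f ⁻¹ᵁ (V : Y.Opens) := by
      rw [← h𝒰]; exact le_iSup₂ (f := fun (U : X.affineOpens) (_ : U ∈ 𝒰) => (U : X.Opens)) U hU𝒰
    obtain ⟨n', φ, hchart, hPC⟩ := HU U hU𝒰 hUV
    haveI : IsClosedImmersion (chartImm (U : X.Opens) φ) :=
      isClosedImmersion_chartImm (U : X.Opens) U.2 φ hchart.1
    obtain ⟨b, hb⟩ := exists_bound_of_isPseudoCoherentD n _ (hPC G ⟨e₀⟩)
    refine ⟨U, b, hxU, fun i hi => ?_⟩
    have h1 : IsZero (((pushCx (chartImm (U : X.Opens) φ)).obj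
        ((DCoh.restrictCx (U : X.Opens)).obj G)).homology i) :=
      (hb i hi).of_iso (homologyQIso _ i).symm
    have h2 : IsZero (((DCoh.restrictCx (U : X.Opens)).obj G).homology i) :=
      isZero_homology_of_push (chartImm (U : X.Opens) φ)
        (chartImm (U : X.Opens) φ).isClosedEmbedding.isInducing _ i h1
    exact h2.of_iso ((homologyRestrictDIso (U : X.Opens).ι E i).symm ≪≫
      (DerivedCategory.homologyFunctor _ i).mapIso
        ((DCoh.restrictD (U : X.Opens).ι).mapIso e₀.symm ≪≫ restrictDQIso (U : X.Opens).ι G) ≪≫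
      homologyQIso _ i)
  choose U b hxU hb using key
  obtain ⟨t, ht⟩ := isCompact_univ.elim_finite_subcover (fun x : X => ((U x : X.Opens) : Set X))
    (fun x => (U x).isOpen) (fun x _ => Set.mem_iUnion.2 ⟨x, hxU x⟩)
  obtain ⟨B, hB⟩ := Finset.exists_le (t.image b)
  refine ⟨B, ?_⟩
  rw [DerivedCategory.isLE_iff]
  intro i hi
  apply isZero_of_locally
  intro y
  obtain ⟨x, hx⟩ := Set.mem_iUnion.1 (ht (Set.mem_univ y))
  obtain ⟨hxt, hyx⟩ := Set.mem_iUnion.1 hx
  exact ⟨U x, hyx, hb x i (lt_of_le_of_lt (hB _ (Finset.mem_image_of_mem b hxt)) hi)⟩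

end Groth.Agent.Lib.Helper99.SStalk
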