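import Mathlib
import Groth.Agent.Lib.Helper99.SStalk6
import Groth.Agent.Lib.QCoh.Helper18_GlobGen

/-!
# Direct image along a closed immersion is exact (helper99)
-/

set_option autoImplicit false
universe u
open CategoryTheory Limits AlgebraicGeometry Opposite TopologicalSpace

attribute [local instance] HasDerivedCategory.standard

namespace Groth.Agent.Lib.Helper99.SPush

open DerSch Groth.Agent.Lib.Helper20.PushStalk Groth.Agent.Lib.QCoh

variable {Z A : Scheme.{u}}

theorem pushStalk_naturality (c : Z ⟶ A) {M N : Z.Modules} (g : M ⟶ N) (z : Z)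
    (m : ((Scheme.Modules.pushforward c).obj M).presheaf.stalk (c.base z)) :
    pushStalk c N z (stalkMap ((Scheme.Modules.pushforward c).map g) (c.base z) m) =
      stalkMap g z (pushStalk c M z m) := by
  obtain ⟨W, hW, s, rfl⟩ := ((Scheme.Modules.pushforward c).obj M).presheaf.exists_germ_eq
    (x := c.base z) m
  rw [stalkMap_germ]
  erw [pushStalk_germ, pushStalk_germ]
  rw [stalkMap_germ]
  rfl

theorem epi_pushforward_map (c : Z ⟶ A) (hc : Topology.IsClosedEmbedding c.base)
    {M N : Z.Modules} (g : M ⟶ N) [Epi g] : Epi ((Scheme.Modules.pushforward c).map g) := by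
  apply epi_of_forall_stalkMap_surjective
  intro y
  by_cases hy : y ∈ Set.range c.base
  · obtain ⟨z, rfl⟩ := hy
    intro n
    obtain ⟨m, hm⟩ := stalkMap_surjective_of_epi g z (pushStalk c N z n)
    obtain ⟨m', rfl⟩ := (pushStalk_bijective c hc.isInducing M z).2 m
    refine ⟨m', (pushStalk_bijective c hc.isInducing N z).1 ?_⟩
    rw [pushStalk_naturality, hm]
  · haveI := subsingleton_stalk_push_of_notMem_range c hc.isClosed_range N y hy
    exact fun n => ⟨0, Subsingleton.elim _ _⟩

theorem preservesFiniteColimits_pushforward (c : Z ⟶ A) (hc : Topology.IsClosedEmbedding c.base) :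
    PreservesFiniteColimits (Scheme.Modules.pushforward c) := by
  refine ((Functor.preservesFiniteColimits_tfae (Scheme.Modules.pushforward c)).out 0 3).1 ?_
  intro S hS
  haveI := hS.epi_g
  have h1 : PreservesFiniteLimits (Scheme.Modules.pushforward c) := inferInstance
  have h0 : ∀ (S : ShortComplex Z.Modules), S.ShortExact →
      (S.map (Scheme.Modules.pushforward c)).Exact ∧ Mono ((Scheme.Modules.pushforward c).map S.f) :=
    ((Functor.preservesFiniteLimits_tfae (Scheme.Modules.pushforward c)).out 3 0).1 h1
  exact ⟨(h0 S hS).1, epi_pushforward_map c hc S.g⟩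

theorem preservesHomology_pushforward (c : Z ⟶ A) (hc : Topology.IsClosedEmbedding c.base) :
    (Scheme.Modules.pushforward c).PreservesHomology := by
  haveI := preservesFiniteColimits_pushforward c hc
  have h1 : PreservesFiniteLimits (Scheme.Modules.pushforward c) := inferInstance
  have h2 : PreservesFiniteColimits (Scheme.Modules.pushforward c) := inferInstance
  have h3 : PreservesFiniteLimits (Scheme.Modules.pushforward c) ∧
      PreservesFiniteColimits (Scheme.Modules.pushforward c) := ⟨h1, h2⟩
  exact ((Functor.exact_tfae (Scheme.Modules.pushforward c)).out 3 2).1 h3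

/-- cohomology of the termwise direct image along a closed immersion -/
noncomputable def pushCxHomologyIso (c : Z ⟶ A) (hc : Topology.IsClosedEmbedding c.base)
    (L : CochainComplex Z.Modules ℤ) (i : ℤ) :
    ((pushCx c).obj L).homology i ≅ (Scheme.Modules.pushforward c).obj (L.homology i) :=
  haveI := preservesHomology_pushforward c hc
  (L.sc i).mapHomologyIso (Scheme.Modules.pushforward c)

end Groth.Agent.Lib.Helper99.SPush
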