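import Groth.Prelude.Def_GrSeg
import Groth.Prelude.Def_GrLC
import Mathlib.RingTheory.GradedAlgebra.Basic
import Mathlib.RingTheory.FiniteType
import Mathlib.RingTheory.Artinian.Module
import Mathlib.RingTheory.Noetherian.Basic
import Mathlib.LinearAlgebra.Dual.Lemmas
import Mathlib.LinearAlgebra.FiniteDimensional.Lemmas
import Mathlib.RingTheory.HopkinsLevitzki
import Mathlib.FieldTheory.Finiteness

/-!
# Graded duals over a field: helper library (helper99)

Graded modules over a nonnegatively graded `k`-algebra `R` with `R_0 = k`, their graded `k`-duals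
(`GrSeg.IsGDual`), finiteness of pieces, Artinian/Noetherian duality.
-/

set_option autoImplicit false
set_option linter.unusedSectionVars false
universe u

namespace Groth.Agent.Lib.Helper99.GrDual

open DirectSum

section Basics

variable {k : Type u} [Field k] {R : Type u} [CommRing R] [Algebra k R] (𝒜 : ℤ → Submodule k R)
  [GradedAlgebra 𝒜] {M : Type u} [AddCommGroup M] [Module R M] {τ : Type u} [SetLike τ M] [AddSubgroupClass τ M] (ℳ : ℤ → τ)
  [DirectSum.Decomposition ℳ] [SetLike.GradedSMul 𝒜 ℳ]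

/-- components of `a • x` for homogeneous `a`. -/
theorem decompose_smul_homogeneous {c : ℤ} {a : R} (ha : a ∈ 𝒜 c) (n : ℤ) (x : M) :
    ((DirectSum.decompose ℳ (a • x) n : ℳ n) : M) =
      a • ((DirectSum.decompose ℳ x (n - c) : ℳ (n - c)) : M) := by
  classical
  induction x using DirectSum.Decomposition.inductionOn ℳ with
  | zero => simp
  | @homogeneous j m =>
    have hax : a • (m : M) ∈ ℳ (c + j) := SetLike.GradedSMul.smul_mem ha m.2
    by_cases hj : j = n - c
    · subst hj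
      rw [DirectSum.decompose_coe, DirectSum.of_eq_same]
      have hax' : a • (m : M) ∈ ℳ n := by
        have : c + (n - c) = n := by ring
        rwa [this] at hax
      exact DirectSum.decompose_of_mem_same ℳ hax'
    · rw [DirectSum.decompose_coe, DirectSum.of_eq_of_ne _ _ _ (fun h => hj h.symm)]
      rw [ZeroMemClass.coe_zero, smul_zero]
      exact DirectSum.decompose_of_mem_ne ℳ hax (by omega)
  | add x y hx hy =>
    rw [smul_add, DirectSum.decompose_add, DirectSum.add_apply, AddMemClass.coe_add, hx, hy,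
      DirectSum.decompose_add, DirectSum.add_apply, AddMemClass.coe_add, smul_add]

theorem smul_mem_piece {c n : ℤ} {a : R} (ha : a ∈ 𝒜 c) {x : M} (hx : x ∈ ℳ n) :
    a • x ∈ ℳ (c + n) := SetLike.GradedSMul.smul_mem ha hx

/-- an additive map vanishing on all homogeneous elements vanishes. -/
theorem eq_zero_of_homogeneous {N : Type*} [AddCommGroup N] (f : M →+ N)
    (h : ∀ (n : ℤ) (x : M), x ∈ ℳ n → f x = 0) (x : M) : f x = 0 := by
  classical
  induction x using DirectSum.Decomposition.inductionOn ℳ with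
  | zero => simp
  | @homogeneous j m => exact h j m m.2
  | add x y hx hy => rw [map_add, hx, hy, add_zero]

/-- two additive maps agreeing on all homogeneous elements agree. -/
theorem ext_of_homogeneous {N : Type*} [AddCommGroup N] (f g : M →+ N)
    (h : ∀ (n : ℤ) (x : M), x ∈ ℳ n → f x = g x) (x : M) : f x = g x := by
  have := eq_zero_of_homogeneous ℳ (f - g) (fun n x hx => by simp [h n x hx]) x
  simpa [sub_eq_zero] using this

/-- a homogeneous element of degree `n` is its own `n`-th component, others vanish. -/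
theorem decompose_of_mem {n : ℤ} {x : M} (hx : x ∈ ℳ n) (m : ℤ) :
    ((DirectSum.decompose ℳ x m : ℳ m) : M) = if m = n then x else 0 := by
  classical
  split_ifs with h
  · subst h
    exact DirectSum.decompose_of_mem_same ℳ hx
  · exact DirectSum.decompose_of_mem_ne ℳ hx (fun h' => h h'.symm)

/-- if all components vanish the element is zero -/
theorem eq_zero_of_decompose_eq_zero {x : M}
    (h : ∀ m : ℤ, ((DirectSum.decompose ℳ x m : ℳ m) : M) = 0) : x = 0 := by
  classical
  have : DirectSum.decompose ℳ x = 0 := by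
    ext m
    simpa using h m
  have h2 := congrArg (DirectSum.decompose ℳ).symm this
  simpa using h2

end Basics

section Filtration

variable {k : Type u} [Field k] {R : Type u} [CommRing R] [Algebra k R] (𝒜 : ℤ → Submodule k R)
  [GradedAlgebra 𝒜] (hposR : ∀ n : ℤ, n < 0 → 𝒜 n = ⊥) (h0R : 𝒜 0 = Submodule.span k {(1 : R)})
  {M : Type u} [AddCommGroup M] [Module R M] [Module k M] [IsScalarTower k R M]
  {τ : Type u} [SetLike τ M] [AddSubgroupClass τ M] (ℳ : ℤ → τ) [DirectSum.Decomposition ℳ] [SetLike.GradedSMul 𝒜 ℳ]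

include hposR in
theorem eq_zero_of_mem_neg {c : ℤ} (hc : c < 0) {a : R} (ha : a ∈ 𝒜 c) : a = 0 := by
  rw [hposR c hc] at ha
  simpa using ha

include h0R in
theorem exists_smul_one_of_mem_zero {a : R} (ha : a ∈ 𝒜 0) : ∃ c : k, a = c • (1 : R) := by
  rw [h0R, Submodule.mem_span_singleton] at ha
  obtain ⟨c, hc⟩ := ha
  exact ⟨c, hc.symm⟩

/-- the pieces are `k`-subspaces -/
def pieceSub (n : ℤ) : Submodule k M where
  carrier := (ℳ n : Set M)
  add_mem' ha hb := add_mem ha hb
  zero_mem' := zero_mem _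
  smul_mem' c x hx := by
    have h1 : (algebraMap k R c) ∈ 𝒜 0 := SetLike.algebraMap_mem_graded 𝒜 c
    have h2 := smul_mem_piece 𝒜 ℳ h1 hx
    rw [zero_add, algebraMap_smul] at h2
    exact h2

@[simp] theorem mem_pieceSub {n : ℤ} {x : M} : x ∈ pieceSub 𝒜 ℳ n ↔ x ∈ ℳ n := Iff.rfl

/-- `M_{≥ n}` as an `R`-submodule (uses that `R` is nonnegatively graded). -/
def gradedGE (n : ℤ) : Submodule R M where
  carrier := {x | ∀ m : ℤ, m < n → ((DirectSum.decompose ℳ x m : ℳ m) : M) = 0}
  add_mem' := by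
    intro x y hx hy m hm
    rw [DirectSum.decompose_add, DirectSum.add_apply, AddMemClass.coe_add, hx m hm, hy m hm,
      add_zero]
  zero_mem' := by
    intro m _
    simp
  smul_mem' := by
    classical
    intro r x hx
    induction r using DirectSum.Decomposition.inductionOn 𝒜 with
    | zero => intro m _; simp
    | @homogeneous j a =>
      intro m hm
      by_cases hj : j < 0
      · rw [eq_zero_of_mem_neg 𝒜 hposR hj a.2]; simp
      · rw [decompose_smul_homogeneous 𝒜 ℳ a.2, hx (m - j) (by omega), smul_zero]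
    | add r r' hr hr' =>
      intro m hm
      rw [add_smul, DirectSum.decompose_add, DirectSum.add_apply, AddMemClass.coe_add,
        hr m hm, hr' m hm, add_zero]

theorem mem_gradedGE {n : ℤ} {x : M} : x ∈ gradedGE 𝒜 hposR ℳ n ↔
    ∀ m : ℤ, m < n → ((DirectSum.decompose ℳ x m : ℳ m) : M) = 0 := Iff.rfl

theorem gradedGE_anti {n n' : ℤ} (h : n ≤ n') : gradedGE 𝒜 hposR ℳ n' ≤ gradedGE 𝒜 hposR ℳ n :=
  fun _ hx m hm => hx m (by omega)

theorem piece_le_gradedGE {n n' : ℤ} (h : n ≤ n') {x : M} (hx : x ∈ ℳ n') :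
    x ∈ gradedGE 𝒜 hposR ℳ n := by
  intro m hm
  rw [decompose_of_mem ℳ hx, if_neg (by omega)]

theorem smul_mem_gradedGE {j n : ℤ} {a : R} (ha : a ∈ 𝒜 j) {x : M}
    (hx : x ∈ gradedGE 𝒜 hposR ℳ n) : a • x ∈ gradedGE 𝒜 hposR ℳ (n + j) := by
  intro m hm
  rw [decompose_smul_homogeneous 𝒜 ℳ ha, hx (m - j) (by omega), smul_zero]

/-- every element lies in some `M_{≥ n}` -/
theorem exists_mem_gradedGE (x : M) : ∃ n : ℤ, x ∈ gradedGE 𝒜 hposR ℳ n := by
  classical
  obtain ⟨n, hn⟩ := (DirectSum.decompose ℳ x).support.bddBelow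
  refine ⟨n, fun m hm => ?_⟩
  by_contra h
  have : m ∈ (DirectSum.decompose ℳ x).support := by
    rw [DFinsupp.mem_support_iff]
    intro h0
    apply h
    rw [h0]; rfl
  have := hn this
  omega

/-- `M_{≥ n} = 0` if the pieces vanish from `n` on -/
theorem gradedGE_eq_bot {n : ℤ} (h : ∀ m : ℤ, n ≤ m → ∀ y ∈ ℳ m, y = 0) :
    gradedGE 𝒜 hposR ℳ n = ⊥ := by
  rw [eq_bot_iff]
  intro x hx
  rw [Submodule.mem_bot]
  apply eq_zero_of_decompose_eq_zero ℳ
  intro m
  by_cases hm : m < n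
  · exact hx m hm
  · exact h m (by omega) _ (SetLike.coe_mem _)

end Filtration

section FiniteDim

variable {k : Type u} [Field k] {R : Type u} [CommRing R] [Algebra k R]
  {M : Type u} [AddCommGroup M] [Module R M] [Module k M] [IsScalarTower k R M]

theorem finite_of_isArtinian_field (V : Type*) [AddCommGroup V] [Module k V] [IsArtinian k V] :
    Module.Finite k V := by
  have : IsNoetherian k V := IsSemiprimaryRing.isNoetherian_iff_isArtinian.mpr inferInstance
  exact IsNoetherian.iff_fg.mp this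

/-- for `R`-submodules `P`, `Q` such that `R` acts on `Q/P` through `k`, and a `k`-subspace `U` of a
`k`-subspace `V ⊆ Q`, the `R`-submodule `U + P`. -/
def addSub (P Q : Submodule R M)
    (hact : ∀ (r : R) (x : M), x ∈ Q → ∃ c : k, r • x - c • x ∈ P)
    (V : Submodule k M) (hVQ : ∀ x ∈ V, x ∈ Q) (U : Submodule k V) : Submodule R M where
  carrier := {y | ∃ u ∈ U, y - (u : M) ∈ P}
  add_mem' := by
    rintro y y' ⟨u, hu, h⟩ ⟨u', hu', h'⟩
    refine ⟨u + u', add_mem hu hu', ?_⟩
    have : y + y' - ((u + u' : V) : M) = (y - u) + (y' - u') := by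
      rw [Submodule.coe_add]; abel
    rw [this]
    exact add_mem h h'
  zero_mem' := ⟨0, zero_mem _, by simp⟩
  smul_mem' := by
    rintro r y ⟨u, hu, h⟩
    obtain ⟨c, hc⟩ := hact r (u : M) (hVQ _ u.2)
    refine ⟨c • u, Submodule.smul_mem _ _ hu, ?_⟩
    have : r • y - ((c • u : V) : M) = r • (y - u) + (r • (u : M) - c • (u : M)) := by
      rw [Submodule.coe_smul, smul_sub]; abel
    rw [this]
    exact add_mem (Submodule.smul_mem _ _ h) hc

theorem addSub_strictMono (P Q : Submodule R M)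
    (hact : ∀ (r : R) (x : M), x ∈ Q → ∃ c : k, r • x - c • x ∈ P)
    (V : Submodule k M) (hVQ : ∀ x ∈ V, x ∈ Q) (hVP : ∀ x ∈ V, x ∈ P → x = 0) :
    StrictMono (addSub P Q hact V hVQ) := by
  intro U U' hUU'
  have hle : addSub P Q hact V hVQ U ≤ addSub P Q hact V hVQ U' := by
    rintro y ⟨u, hu, h⟩
    exact ⟨u, hUU'.le hu, h⟩
  refine lt_of_le_of_ne hle (fun heq => ?_)
  apply hUU'.not_ge
  intro u' hu'
  have h1 : (u' : M) ∈ addSub P Q hact V hVQ U' := ⟨u', hu', by simp⟩
  rw [← heq] at h1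
  obtain ⟨u, hu, h⟩ := h1
  have h2 : ((u' - u : V) : M) = 0 := hVP _ (u' - u).2 (by simpa using h)
  have h3 : u' - u = 0 := by
    apply Subtype.ext
    simpa using h2
  rw [sub_eq_zero] at h3
  rw [h3]
  exact hu

theorem finite_of_addSub_isArtinian [IsArtinian R M] (P Q : Submodule R M)
    (hact : ∀ (r : R) (x : M), x ∈ Q → ∃ c : k, r • x - c • x ∈ P)
    (V : Submodule k M) (hVQ : ∀ x ∈ V, x ∈ Q) (hVP : ∀ x ∈ V, x ∈ P → x = 0) :
    Module.Finite k V := by
  have : IsArtinian k V := (addSub_strictMono P Q hact V hVQ hVP).wellFoundedLT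
  exact finite_of_isArtinian_field V

theorem finite_of_addSub_isNoetherian [IsNoetherian R M] (P Q : Submodule R M)
    (hact : ∀ (r : R) (x : M), x ∈ Q → ∃ c : k, r • x - c • x ∈ P)
    (V : Submodule k M) (hVQ : ∀ x ∈ V, x ∈ Q) (hVP : ∀ x ∈ V, x ∈ P → x = 0) :
    Module.Finite k V := by
  have : WellFoundedGT (Submodule k V) := (addSub_strictMono P Q hact V hVQ hVP).wellFoundedGT
  have : IsNoetherian k V := isNoetherian_iff'.mpr this
  exact IsNoetherian.iff_fg.mp this

end FiniteDim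

section Pieces

variable {k : Type u} [Field k] {R : Type u} [CommRing R] [Algebra k R] (𝒜 : ℤ → Submodule k R)
  [GradedAlgebra 𝒜] (hposR : ∀ n : ℤ, n < 0 → 𝒜 n = ⊥) (h0R : 𝒜 0 = Submodule.span k {(1 : R)})
  {M : Type u} [AddCommGroup M] [Module R M] [Module k M] [IsScalarTower k R M]
  {τ : Type u} [SetLike τ M] [AddSubgroupClass τ M] (ℳ : ℤ → τ) [DirectSum.Decomposition ℳ] [SetLike.GradedSMul 𝒜 ℳ]

include h0R in
theorem gradedGE_act (n : ℤ) (r : R) (x : M) (hx : x ∈ gradedGE 𝒜 hposR ℳ n) :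
    ∃ c : k, r • x - c • x ∈ gradedGE 𝒜 hposR ℳ (n + 1) := by
  classical
  induction r using DirectSum.Decomposition.inductionOn 𝒜 with
  | zero => exact ⟨0, by simp⟩
  | @homogeneous j a =>
    rcases lt_trichotomy j 0 with hj | hj | hj
    · exact ⟨0, by rw [eq_zero_of_mem_neg 𝒜 hposR hj a.2]; simp⟩
    · subst hj
      obtain ⟨c, hc⟩ := exists_smul_one_of_mem_zero 𝒜 h0R a.2
      refine ⟨c, ?_⟩
      rw [hc, smul_assoc, one_smul, sub_self]; exact zero_mem _
    · refine ⟨0, ?_⟩
      rw [zero_smul, sub_zero]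
      exact gradedGE_anti 𝒜 hposR ℳ (by omega) (smul_mem_gradedGE 𝒜 hposR ℳ a.2 hx)
  | add r r' hr hr' =>
    obtain ⟨c, hc⟩ := hr
    obtain ⟨c', hc'⟩ := hr'
    refine ⟨c + c', ?_⟩
    have : (r + r') • x - (c + c') • x = (r • x - c • x) + (r' • x - c' • x) := by
      rw [add_smul, add_smul]; abel
    rw [this]; exact add_mem hc hc'

theorem piece_inter_gradedGE_succ {n : ℤ} {x : M} (hx : x ∈ ℳ n)
    (hx' : x ∈ gradedGE 𝒜 hposR ℳ (n + 1)) : x = 0 := by
  have := hx' n (by omega)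
  rwa [DirectSum.decompose_of_mem_same ℳ hx] at this

include hposR h0R in
theorem finite_piece_of_isArtinian [IsArtinian R M] (n : ℤ) :
    Module.Finite k (pieceSub 𝒜 ℳ n) :=
  finite_of_addSub_isArtinian (gradedGE 𝒜 hposR ℳ (n + 1)) (gradedGE 𝒜 hposR ℳ n)
    (gradedGE_act 𝒜 hposR h0R ℳ n) (pieceSub 𝒜 ℳ n)
    (fun _ hx => piece_le_gradedGE 𝒜 hposR ℳ le_rfl hx)
    (fun _ hx hxP => piece_inter_gradedGE_succ 𝒜 hposR ℳ hx hxP)

include hposR h0R in
theorem finite_piece_of_isNoetherian [IsNoetherian R M] (n : ℤ) :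
    Module.Finite k (pieceSub 𝒜 ℳ n) :=
  finite_of_addSub_isNoetherian (gradedGE 𝒜 hposR ℳ (n + 1)) (gradedGE 𝒜 hposR ℳ n)
    (gradedGE_act 𝒜 hposR h0R ℳ n) (pieceSub 𝒜 ℳ n)
    (fun _ hx => piece_le_gradedGE 𝒜 hposR ℳ le_rfl hx)
    (fun _ hx hxP => piece_inter_gradedGE_succ 𝒜 hposR ℳ hx hxP)

include hposR in
/-- a finitely generated graded module is bounded below -/
theorem exists_bddBelow_of_finite [Module.Finite R M] :
    ∃ n₀ : ℤ, ∀ m : ℤ, m < n₀ → ∀ x ∈ ℳ m, x = 0 := by
  classical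
  obtain ⟨S, hS⟩ := (Module.Finite.fg_top : (⊤ : Submodule R M).FG)
  have key : ∀ S : Finset M, ∃ n₀ : ℤ, ∀ s ∈ S, s ∈ gradedGE 𝒜 hposR ℳ n₀ := by
    intro S
    induction S using Finset.induction_on with
    | empty => exact ⟨0, by simp⟩
    | insert a S ha ih =>
      obtain ⟨n₁, h₁⟩ := ih
      obtain ⟨n₂, h₂⟩ := exists_mem_gradedGE 𝒜 hposR ℳ a
      refine ⟨min n₁ n₂, ?_⟩
      intro s hs
      rw [Finset.mem_insert] at hs
      rcases hs with rfl | hs
      · exact gradedGE_anti _ _ _ (min_le_right _ _) h₂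
      · exact gradedGE_anti _ _ _ (min_le_left _ _) (h₁ s hs)
  obtain ⟨n₀, hn₀⟩ := key S
  have htop : gradedGE 𝒜 hposR ℳ n₀ = ⊤ := by
    rw [eq_top_iff, ← hS, Submodule.span_le]
    exact fun s hs => hn₀ s hs
  refine ⟨n₀, fun m hm x hx => ?_⟩
  have h1 : x ∈ gradedGE 𝒜 hposR ℳ n₀ := by rw [htop]; trivial
  have h2 := h1 m hm
  rwa [DirectSum.decompose_of_mem_same ℳ hx] at h2

include hposR in
/-- an Artinian graded module is bounded above -/
theorem exists_bddAbove_of_isArtinian [IsArtinian R M] :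
    ∃ n₁ : ℤ, ∀ m : ℤ, n₁ ≤ m → ∀ x ∈ ℳ m, x = 0 := by
  obtain ⟨n, hn⟩ := IsArtinian.monotone_stabilizes
    (⟨fun i : ℕ => OrderDual.toDual (gradedGE 𝒜 hposR ℳ (i : ℤ)), fun i j hij =>
      gradedGE_anti 𝒜 hposR ℳ (by exact_mod_cast hij)⟩ : ℕ →o (Submodule R M)ᵒᵈ)
  refine ⟨n, fun m hm x hx => ?_⟩
  obtain ⟨j, rfl⟩ : ∃ j : ℕ, m = (j : ℤ) := ⟨m.toNat, by omega⟩
  have hj : n ≤ j := by exact_mod_cast hm
  have e1 : gradedGE 𝒜 hposR ℳ (n : ℤ) = gradedGE 𝒜 hposR ℳ (j : ℤ) := hn j hj
  have e2 : gradedGE 𝒜 hposR ℳ (n : ℤ) = gradedGE 𝒜 hposR ℳ ((j + 1 : ℕ) : ℤ) :=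
    hn (j + 1) (by omega)
  have h1 : x ∈ gradedGE 𝒜 hposR ℳ ((j : ℤ) + 1) := by
    have : x ∈ gradedGE 𝒜 hposR ℳ (j : ℤ) := piece_le_gradedGE 𝒜 hposR ℳ le_rfl hx
    rw [← e1, e2] at this
    exact_mod_cast this
  exact piece_inter_gradedGE_succ 𝒜 hposR ℳ hx h1

end Pieces

section Dual

variable {k : Type u} [Field k] {R : Type u} [CommRing R] [Algebra k R]
  {M : Type u} [AddCommGroup M] [Module R M] [Module k M] [IsScalarTower k R M]
  {τ : Type u} [SetLike τ M] [AddSubgroupClass τ M] {ℳ : ℤ → τ} [DirectSum.Decomposition ℳ]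
  {D : Type u} [AddCommGroup D] [Module R D] [Module k D] [IsScalarTower k R D]
  {τ' : Type u} [SetLike τ' D] [AddSubgroupClass τ' D] {𝒟 : ℤ → τ'} [DirectSum.Decomposition 𝒟]
  {β : D →ₗ[k] M →ₗ[k] k} (hD : GrSeg.IsGDual R ℳ 𝒟 β)

include hD

theorem vanish' {n m : ℤ} {d : D} (hd : d ∈ 𝒟 n) {x : M} (hx : x ∈ ℳ m) (hnm : n + m ≠ 0) :
    β d x = 0 :=
  hD.vanish n d hd m (by omega) x hx

theorem eq_zero' {n m : ℤ} (hnm : n + m = 0) {d : D} (hd : d ∈ 𝒟 n)
    (h : ∀ x : M, x ∈ ℳ m → β d x = 0) : d = 0 := by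
  obtain rfl : m = -n := by omega
  exact hD.eq_zero n d hd h

theorem exists_eq' {n m : ℤ} (hnm : n + m = 0) (g : M →ₗ[k] k) :
    ∃ d : D, d ∈ 𝒟 n ∧ ∀ x : M, x ∈ ℳ m → β d x = g x := by
  obtain rfl : m = -n := by omega
  exact hD.exists_eq n g

/-- `β d x` for `x ∈ ℳ m` only sees the component of `d` in degree `n = -m`. -/
theorem beta_eq_component (d : D) {n m : ℤ} (hnm : n + m = 0) {x : M} (hx : x ∈ ℳ m) :
    β d x = β ((DirectSum.decompose 𝒟 d n : 𝒟 n) : D) x := by
  classical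
  induction d using DirectSum.Decomposition.inductionOn 𝒟 with
  | zero => simp
  | @homogeneous j d =>
    by_cases hj : j = n
    · subst hj
      rw [DirectSum.decompose_of_mem_same 𝒟 d.2]
    · rw [DirectSum.decompose_of_mem_ne 𝒟 d.2 hj, map_zero, LinearMap.zero_apply]
      exact vanish' hD d.2 hx (by omega)
  | add d d' hd hd' =>
    rw [map_add, LinearMap.add_apply, hd, hd', DirectSum.decompose_add, DirectSum.add_apply,
      AddMemClass.coe_add, map_add, LinearMap.add_apply]

/-- `β d x` for `d ∈ 𝒟 n` only sees the component of `x` in degree `m = -n`. -/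
theorem beta_eq_component_right {n m : ℤ} (hnm : n + m = 0) {d : D} (hd : d ∈ 𝒟 n) (x : M) :
    β d x = β d ((DirectSum.decompose ℳ x m : ℳ m) : M) := by
  classical
  induction x using DirectSum.Decomposition.inductionOn ℳ with
  | zero => simp
  | @homogeneous j x =>
    by_cases hj : j = m
    · subst hj
      rw [DirectSum.decompose_of_mem_same ℳ x.2]
    · rw [DirectSum.decompose_of_mem_ne ℳ x.2 hj, map_zero]
      exact vanish' hD hd x.2 (by omega)
  | add x x' hx hx' =>
    rw [map_add, hx, hx', DirectSum.decompose_add, DirectSum.add_apply,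
      AddMemClass.coe_add, map_add]

theorem beta_injective : Function.Injective β := by
  rw [injective_iff_map_eq_zero]
  intro d hd
  apply eq_zero_of_decompose_eq_zero 𝒟
  intro n
  apply eq_zero' hD (n := n) (m := -n) (by omega) (SetLike.coe_mem _)
  intro x hx
  rw [← beta_eq_component hD d (by omega) hx, hd, LinearMap.zero_apply]

theorem beta_ext {d d' : D} (h : ∀ (m : ℤ) (x : M), x ∈ ℳ m → β d x = β d' x) : d = d' := by
  apply beta_injective hD
  apply LinearMap.ext
  intro x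
  exact ext_of_homogeneous ℳ (β d).toAddMonoidHom (β d').toAddMonoidHom h x

theorem mem_piece_iff {n : ℤ} {d : D} :
    d ∈ 𝒟 n ↔ ∀ m : ℤ, n + m ≠ 0 → ∀ x : M, x ∈ ℳ m → β d x = 0 := by
  constructor
  · intro hd m hm x hx
    exact vanish' hD hd hx hm
  · intro h
    have : d = ((DirectSum.decompose 𝒟 d n : 𝒟 n) : D) := by
      apply beta_ext hD
      intro m x hx
      by_cases hm : n + m = 0
      · exact beta_eq_component hD d hm hx
      · rw [h m hm x hx, vanish' hD (SetLike.coe_mem _) hx hm]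
    rw [this]
    exact SetLike.coe_mem _

theorem piece_smul_mem {n : ℤ} {d : D} (hd : d ∈ 𝒟 n) (c : k) : c • d ∈ 𝒟 n := by
  rw [mem_piece_iff hD] at hd ⊢
  intro m hm x hx
  rw [map_smul, LinearMap.smul_apply, hd m hm x hx, smul_zero]

/-- the pieces of the dual as `k`-subspaces -/
def dualPieceSub (n : ℤ) : Submodule k D where
  carrier := (𝒟 n : Set D)
  add_mem' ha hb := add_mem ha hb
  zero_mem' := zero_mem _
  smul_mem' c _ hx := piece_smul_mem hD hx c

/-- a functional on `M` supported in finitely many degrees is represented by an element of `D` -/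
theorem exists_of_finite_support (φ : M →ₗ[k] k) (s : Finset ℤ)
    (h : ∀ m : ℤ, m ∉ s → ∀ x : M, x ∈ ℳ m → φ x = 0) : ∃ d : D, β d = φ := by
  classical
  choose e he1 he2 using fun m : ℤ => exists_eq' hD (n := -m) (m := m) (by omega) φ
  refine ⟨∑ m ∈ s, e m, ?_⟩
  apply LinearMap.ext
  intro x
  refine ext_of_homogeneous ℳ (β (∑ m ∈ s, e m)).toAddMonoidHom φ.toAddMonoidHom ?_ x
  intro m x hx
  show β (∑ m ∈ s, e m) x = φ x
  rw [map_sum, LinearMap.sum_apply]
  by_cases hm : m ∈ s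
  · rw [Finset.sum_eq_single_of_mem m hm, he2 m x hx]
    intro j _ hj
    exact vanish' hD (he1 j) hx (by omega)
  · rw [h m hm x hx]
    apply Finset.sum_eq_zero
    intro j hj
    have : j ≠ m := fun h' => hm (h' ▸ hj)
    exact vanish' hD (he1 j) hx (by omega)

/-- a functional on `M` supported in degree `m = -n` is represented by an element of `D_n` -/
theorem exists_of_homogeneous {n : ℤ} (φ : M →ₗ[k] k)
    (h : ∀ m : ℤ, n + m ≠ 0 → ∀ x : M, x ∈ ℳ m → φ x = 0) : ∃ d : D, d ∈ 𝒟 n ∧ β d = φ := by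
  obtain ⟨d, hd⟩ := exists_of_finite_support hD φ {-n} (fun m hm x hx => h m (by
    rw [Finset.mem_singleton] at hm; omega) x hx)
  refine ⟨d, ?_, hd⟩
  rw [mem_piece_iff hD]
  intro m hm x hx
  rw [hd]
  exact h m hm x hx

/-- if `M_m = 0` then `D_{-m} = 0` -/
theorem dual_piece_eq_bot {n m : ℤ} (hnm : n + m = 0) (h : ∀ x ∈ ℳ m, x = 0) :
    ∀ d ∈ 𝒟 n, d = 0 := by
  intro d hd
  apply eq_zero' hD hnm hd
  intro x hx
  rw [h x hx, map_zero]

end Dual

section Flip

variable {k : Type u} [Field k] {R : Type u} [CommRing R] [Algebra k R]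
  {M : Type u} [AddCommGroup M] [Module R M] [Module k M] [IsScalarTower k R M]
  {τ : Type u} [SetLike τ M] [AddSubgroupClass τ M] {ℳ : ℤ → τ} [DirectSum.Decomposition ℳ]
  {D : Type u} [AddCommGroup D] [Module R D] [Module k D] [IsScalarTower k R D]
  {τ' : Type u} [SetLike τ' D] [AddSubgroupClass τ' D] {𝒟 : ℤ → τ'} [DirectSum.Decomposition 𝒟]
  {β : D →ₗ[k] M →ₗ[k] k} (hD : GrSeg.IsGDual R ℳ 𝒟 β)

include hD

/-- the pairing is nondegenerate on the `M` side -/
theorem flip_eq_zero {n m : ℤ} (hnm : n + m = 0) {x : M} (hx : x ∈ ℳ m)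
    (h : ∀ d : D, d ∈ 𝒟 n → β d x = 0) : x = 0 := by
  by_contra hne
  obtain ⟨g, hg⟩ : ∃ g : Module.Dual k M, g x ≠ 0 := by
    by_contra hcon
    push Not at hcon
    exact hne ((Module.forall_dual_apply_eq_zero_iff k x).mp hcon)
  obtain ⟨d, hd, hdg⟩ := exists_eq' hD hnm g
  apply hg
  rw [← hdg x hx]
  exact h d hd

/-- restriction to `D_n × M_m`, `n + m = 0`, as a map `D_n → (M_m)^*` -/
noncomputable def pairingMap (n : ℤ) (V : Submodule k M) : dualPieceSub hD n →ₗ[k] Module.Dual k V :=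
  (LinearMap.lcomp k k V.subtype) ∘ₗ β ∘ₗ (dualPieceSub hD n).subtype

theorem pairingMap_apply (n : ℤ) (V : Submodule k M) (d : dualPieceSub hD n) (x : V) :
    pairingMap hD n V d x = β (d : D) (x : M) := rfl

theorem pairingMap_bijective {n m : ℤ} (hnm : n + m = 0) (V : Submodule k M)
    (hV : ∀ x, x ∈ V ↔ x ∈ ℳ m) : Function.Bijective (pairingMap hD n V) := by
  constructor
  · rw [injective_iff_map_eq_zero]
    intro d hd
    apply Subtype.ext
    apply eq_zero' hD hnm d.2
    intro x hx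
    have := LinearMap.congr_fun hd ⟨x, (hV x).mpr hx⟩
    simpa [pairingMap_apply] using this
  · intro φ
    obtain ⟨g, hg⟩ := LinearMap.exists_extend φ
    obtain ⟨d, hd, hdg⟩ := exists_eq' hD hnm g
    refine ⟨⟨d, hd⟩, ?_⟩
    apply LinearMap.ext
    intro x
    rw [pairingMap_apply]
    show β d (x : M) = φ x
    rw [hdg _ ((hV _).mp x.2), ← hg]
    rfl

theorem finite_dualPiece {n m : ℤ} (hnm : n + m = 0) (V : Submodule k M)
    (hV : ∀ x, x ∈ V ↔ x ∈ ℳ m) [Module.Finite k V] : Module.Finite k (dualPieceSub hD n) :=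
  Module.Finite.of_injective (pairingMap hD n V) (pairingMap_bijective hD hnm V hV).1

theorem flip_exists_eq {n m : ℤ} (hnm : n + m = 0) (V : Submodule k M)
    (hV : ∀ x, x ∈ V ↔ x ∈ ℳ m) [Module.Finite k V] (g : D →ₗ[k] k) :
    ∃ x : M, x ∈ ℳ m ∧ ∀ d : D, d ∈ 𝒟 n → β d x = g d := by
  have := finite_dualPiece hD hnm V hV
  let W := dualPieceSub hD n
  let Θ : W ≃ₗ[k] Module.Dual k V :=
    LinearEquiv.ofBijective (pairingMap hD n V) (pairingMap_bijective hD hnm V hV)
  -- evaluation `V → W^*`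
  let Ξ : V →ₗ[k] Module.Dual k W :=
    (LinearMap.lcomp k k W.subtype) ∘ₗ β.flip ∘ₗ V.subtype
  have hΞ : ∀ (x : V) (d : W), Ξ x d = β (d : D) (x : M) := fun _ _ => rfl
  have hinj : Function.Injective Ξ := by
    rw [injective_iff_map_eq_zero]
    intro x hx
    apply Subtype.ext
    apply flip_eq_zero hD hnm ((hV _).mp x.2)
    intro d hd
    have := LinearMap.congr_fun hx ⟨d, hd⟩
    simpa [hΞ] using this
  have hdim : Module.finrank k V = Module.finrank k (Module.Dual k W) := by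
    rw [Subspace.dual_finrank_eq, Θ.finrank_eq, Subspace.dual_finrank_eq]
  have hsurj : Function.Surjective Ξ :=
    (LinearMap.injective_iff_surjective_of_finrank_eq_finrank hdim).mp hinj
  obtain ⟨x, hx⟩ := hsurj (g ∘ₗ W.subtype)
  refine ⟨x, (hV _).mp x.2, fun d hd => ?_⟩
  have := LinearMap.congr_fun hx ⟨d, hd⟩
  simpa [hΞ] using this

/-- reflexivity: if the pieces of `M` are finite dimensional, `M` is the graded dual of `D`. -/
theorem isGDual_flip (V : ℤ → Submodule k M) (hV : ∀ n x, x ∈ V n ↔ x ∈ ℳ n)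
    [∀ n, Module.Finite k (V n)] : GrSeg.IsGDual R 𝒟 ℳ β.flip where
  map_smul r x d := by
    rw [LinearMap.flip_apply, LinearMap.flip_apply, hD.map_smul]
  vanish n x hx m hm d hd := by
    rw [LinearMap.flip_apply]
    exact vanish' hD hd hx (by omega)
  eq_zero n x hx h := by
    apply flip_eq_zero hD (n := -n) (m := n) (by omega) hx
    intro d hd
    have := h d hd
    rwa [LinearMap.flip_apply] at this
  exists_eq n g := by
    obtain ⟨x, hx, h⟩ := flip_exists_eq hD (n := -n) (m := n) (by omega) (V n) (hV n) g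
    exact ⟨x, hx, fun d hd => by rw [LinearMap.flip_apply]; exact h d hd⟩

end Flip

section DCC

variable {R : Type*} [CommRing R] {E : Type*} [AddCommGroup E] [Module R E]

/-- descending chain condition for submodules below `N` -/
def DCCBelow (N : Submodule R E) : Prop :=
  ∀ f : ℕ → Submodule R E, Antitone f → (∀ i, f i ≤ N) → ∃ n, ∀ m, n ≤ m → f m = f n

theorem DCCBelow.mono {N N' : Submodule R E} (h : N ≤ N') (h' : DCCBelow N') : DCCBelow N :=
  fun f hf hfN => h' f hf (fun i => (hfN i).trans h)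

theorem isArtinian_of_dccBelow_top (h : DCCBelow (⊤ : Submodule R E)) : IsArtinian R E := by
  rw [← monotone_stabilizes_iff_artinian]
  intro f
  obtain ⟨n, hn⟩ := h (fun i => OrderDual.ofDual (f i)) (fun i j hij => f.monotone hij)
    (fun _ => le_top)
  exact ⟨n, fun m hm => (congrArg OrderDual.toDual (hn m hm)).symm⟩

theorem dccBelow_of_isArtinian (N : Submodule R E) [IsArtinian R N] : DCCBelow N := by
  intro f hf hfN
  obtain ⟨n, hn⟩ := IsArtinian.monotone_stabilizes
    (⟨fun i => OrderDual.toDual ((f i).comap N.subtype), fun i j hij =>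
      Submodule.comap_mono (hf hij)⟩ : ℕ →o (Submodule R N)ᵒᵈ)
  refine ⟨n, fun m hm => ?_⟩
  have h1 : (f n).comap N.subtype = (f m).comap N.subtype := congrArg OrderDual.ofDual (hn m hm)
  have h2 : ∀ i, f i = ((f i).comap N.subtype).map N.subtype := fun i => by
    rw [Submodule.map_comap_subtype, inf_of_le_right (hfN i)]
  rw [h2 m, h2 n, h1]

/-- `x^j (P ∩ ker x^{j+1})` -/
def grJ (x : R) (j : ℕ) (P : Submodule R E) : Submodule R E :=
  (P ⊓ LinearMap.ker (LinearMap.lsmul R E (x ^ (j + 1)))).map (LinearMap.lsmul R E (x ^ j))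

theorem mem_grJ {x : R} {j : ℕ} {P : Submodule R E} {y : E} :
    y ∈ grJ x j P ↔ ∃ e ∈ P, x ^ (j + 1) • e = 0 ∧ x ^ j • e = y := by
  simp only [grJ, Submodule.mem_map, Submodule.mem_inf, LinearMap.mem_ker, LinearMap.lsmul_apply]
  constructor
  · rintro ⟨e, ⟨h1, h2⟩, h3⟩
    exact ⟨e, h1, h2, h3⟩
  · rintro ⟨e, h1, h2, h3⟩
    exact ⟨e, ⟨h1, h2⟩, h3⟩

theorem grJ_le (x : R) (j : ℕ) {P N : Submodule R E} (h : P ≤ N) :
    grJ x j P ≤ N ⊓ LinearMap.ker (LinearMap.lsmul R E x) := by
  intro y hy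
  obtain ⟨e, he, h1, rfl⟩ := mem_grJ.mp hy
  refine ⟨N.smul_mem _ (h he), ?_⟩
  show x ^ j • e ∈ LinearMap.ker (LinearMap.lsmul R E x)
  rw [LinearMap.mem_ker, LinearMap.lsmul_apply, ← mul_smul, ← pow_succ', h1]

theorem grJ_mono (x : R) (j : ℕ) {P P' : Submodule R E} (h : P ≤ P') : grJ x j P ≤ grJ x j P' :=
  Submodule.map_mono (inf_le_inf_right _ h)

theorem grJ_succ_le (x : R) (j : ℕ) (P : Submodule R E) : grJ x (j + 1) P ≤ grJ x j P := by
  intro y hy
  obtain ⟨e, he, h1, rfl⟩ := mem_grJ.mp hy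
  refine mem_grJ.mpr ⟨x • e, P.smul_mem _ he, ?_, ?_⟩
  · rw [← mul_smul, ← pow_succ, h1]
  · rw [← mul_smul, ← pow_succ]

theorem le_of_grJ_le (x : R) {P P' : Submodule R E} (hPP' : P ≤ P')
    (hnil : ∀ e ∈ P', ∃ n : ℕ, x ^ n • e = 0) (h : ∀ j, grJ x j P' ≤ grJ x j P) : P' ≤ P := by
  have key : ∀ (j : ℕ) (e : E), e ∈ P' → x ^ j • e = 0 → e ∈ P := by
    intro j
    induction j with
    | zero =>
      intro e _ h0
      rw [pow_zero, one_smul] at h0
      rw [h0]; exact zero_mem _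
    | succ j ih =>
      intro e he h0
      have h1 : x ^ j • e ∈ grJ x j P := h j (mem_grJ.mpr ⟨e, he, h0, rfl⟩)
      obtain ⟨e', he', _, h3⟩ := mem_grJ.mp h1
      have h4 : e - e' ∈ P := by
        apply ih (e - e') (sub_mem he (hPP' he'))
        rw [smul_sub, h3, sub_self]
      have : e = (e - e') + e' := by abel
      rw [this]
      exact add_mem h4 he'
  intro e he
  obtain ⟨n, hn⟩ := hnil e he
  exact key n e he hn

/-- **Key lemma**: if `x` is locally nilpotent on `N` and the DCC holds below `N ∩ ker x`, then the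
DCC holds below `N`. -/
theorem dccBelow_of_ker (x : R) (N : Submodule R E) (hnil : ∀ e ∈ N, ∃ n : ℕ, x ^ n • e = 0)
    (h : DCCBelow (N ⊓ LinearMap.ker (LinearMap.lsmul R E x))) : DCCBelow N := by
  intro f hf hfN
  set g : ℕ → ℕ → Submodule R E := fun i j => grJ x j (f i) with hg
  have hg1 : ∀ j, Antitone (fun i => g i j) := fun j i i' h => grJ_mono x j (hf h)
  have hg2 : ∀ i, Antitone (fun j => g i j) := fun i =>
    antitone_nat_of_succ_le (fun j => grJ_succ_le x j (f i))
  have hgK : ∀ i j, g i j ≤ N ⊓ LinearMap.ker (LinearMap.lsmul R E x) :=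
    fun i j => grJ_le x j (hfN i)
  obtain ⟨n₀, hn₀⟩ := h (fun i => g i i)
    (fun i i' hii' => (hg1 i' hii').trans (hg2 i hii')) (fun i => hgK i i)
  have hsq : ∀ i j, n₀ ≤ i → n₀ ≤ j → g i j = g n₀ n₀ := by
    intro i j hi hj
    apply le_antisymm
    · exact (hg1 j hi).trans (hg2 n₀ hj)
    · have e : g (max i j) (max i j) = g n₀ n₀ := hn₀ (max i j) (le_trans hi (le_max_left _ _))
      rw [← e]
      exact (hg1 _ (le_max_left i j)).trans (hg2 i (le_max_right i j))
  have hstab : ∀ j, ∃ n, ∀ m, n ≤ m → g m j = g n j :=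
    fun j => h (fun i => g i j) (hg1 j) (fun i => hgK i j)
  choose ν hν using hstab
  refine ⟨max n₀ ((Finset.range n₀).sup ν), fun m hm => ?_⟩
  set n' := max n₀ ((Finset.range n₀).sup ν) with hn'
  apply le_antisymm (hf hm)
  apply le_of_grJ_le x (hf hm) (fun e he => hnil e (hfN n' he))
  intro j
  show g n' j ≤ g m j
  by_cases hj : n₀ ≤ j
  · rw [hsq n' j (le_max_left _ _) hj, ← hsq m j (le_trans (le_max_left _ _) hm) hj]
  · push Not at hj
    have hνj : ν j ≤ n' :=
      le_trans (Finset.le_sup (f := ν) (Finset.mem_range.mpr hj)) (le_max_right _ _)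
    rw [hν j n' hνj, hν j m (hνj.trans hm)]

/-- joint kernel of a list of elements -/
def jointKer : List R → Submodule R E
  | [] => ⊤
  | a :: l => LinearMap.ker (LinearMap.lsmul R E a) ⊓ jointKer l

theorem mem_jointKer {l : List R} {e : E} : e ∈ jointKer (E := E) l ↔ ∀ a ∈ l, a • e = 0 := by
  induction l with
  | nil => simp [jointKer]
  | cons a l ih =>
    simp only [jointKer, Submodule.mem_inf, LinearMap.mem_ker, LinearMap.lsmul_apply, ih,
      List.mem_cons, forall_eq_or_imp]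

theorem dccBelow_of_jointKer (l : List R) : ∀ (N : Submodule R E),
    (∀ a ∈ l, ∀ e ∈ N, ∃ n : ℕ, a ^ n • e = 0) → DCCBelow (N ⊓ jointKer l) → DCCBelow N := by
  induction l with
  | nil =>
    intro N _ h
    simpa [jointKer] using h
  | cons a l ih =>
    intro N hnil h
    apply dccBelow_of_ker a N (hnil a List.mem_cons_self)
    apply ih (N ⊓ LinearMap.ker (LinearMap.lsmul R E a))
      (fun a' ha' e he => hnil a' (List.mem_cons_of_mem _ ha') e he.1)
    rw [inf_assoc]
    exact h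

end DCC

section ArtinianDual

variable {k : Type u} [Field k] {R : Type u} [CommRing R] [Algebra k R] (𝒜 : ℤ → Submodule k R)
  [GradedAlgebra 𝒜] (hposR : ∀ n : ℤ, n < 0 → 𝒜 n = ⊥) (h0R : 𝒜 0 = Submodule.span k {(1 : R)})
  {M : Type u} [AddCommGroup M] [Module R M] [Module k M] [IsScalarTower k R M]
  {τ : Type u} [SetLike τ M] [AddSubgroupClass τ M] (ℳ : ℤ → τ) [DirectSum.Decomposition ℳ] [SetLike.GradedSMul 𝒜 ℳ]

/-- `a • x - a_0 • x ∈ M_{≥ n+1}` for `x ∈ M_{≥ n}` -/
theorem smul_sub_zero_component_mem (n : ℤ) (a : R) (x : M) (hx : x ∈ gradedGE 𝒜 hposR ℳ n) :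
    a • x - ((DirectSum.decompose 𝒜 a 0 : 𝒜 0) : R) • x ∈ gradedGE 𝒜 hposR ℳ (n + 1) := by
  classical
  induction a using DirectSum.Decomposition.inductionOn 𝒜 with
  | zero => simp
  | @homogeneous j a =>
    rcases lt_trichotomy j 0 with hj | hj | hj
    · rw [eq_zero_of_mem_neg 𝒜 hposR hj a.2]; simp
    · subst hj
      rw [DirectSum.decompose_of_mem_same 𝒜 a.2, sub_self]; exact zero_mem _
    · rw [DirectSum.decompose_of_mem_ne 𝒜 a.2 (by omega), zero_smul, sub_zero]
      exact gradedGE_anti 𝒜 hposR ℳ (by omega) (smul_mem_gradedGE 𝒜 hposR ℳ a.2 hx)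
  | add r r' hr hr' =>
    have : (r + r') • x - ((DirectSum.decompose 𝒜 (r + r') 0 : 𝒜 0) : R) • x =
        (r • x - ((DirectSum.decompose 𝒜 r 0 : 𝒜 0) : R) • x) +
          (r' • x - ((DirectSum.decompose 𝒜 r' 0 : 𝒜 0) : R) • x) := by
      rw [DirectSum.decompose_add, DirectSum.add_apply, Submodule.coe_add, add_smul, add_smul]
      abel
    rw [this]; exact add_mem hr hr'

/-- the positive part of an element of `R` -/
def posPart (a : R) : R := a - ((DirectSum.decompose 𝒜 a 0 : 𝒜 0) : R)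

theorem posPart_smul_mem (n : ℤ) (a : R) (x : M) (hx : x ∈ gradedGE 𝒜 hposR ℳ n) :
    posPart 𝒜 a • x ∈ gradedGE 𝒜 hposR ℳ (n + 1) := by
  rw [posPart, sub_smul]
  exact smul_sub_zero_component_mem 𝒜 hposR ℳ n a x hx

theorem posPart_pow_smul_mem (n : ℤ) (a : R) (x : M) (hx : x ∈ gradedGE 𝒜 hposR ℳ n) (N : ℕ) :
    posPart 𝒜 a ^ N • x ∈ gradedGE 𝒜 hposR ℳ (n + N) := by
  induction N with
  | zero => simpa using hx
  | succ N ih =>
    rw [pow_succ', mul_smul]
    have := posPart_smul_mem 𝒜 hposR ℳ _ a _ ih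
    have e : n + (N : ℤ) + 1 = n + ((N + 1 : ℕ) : ℤ) := by push_cast; ring
    rwa [e] at this

include hposR in
/-- positive parts act locally nilpotently on a module bounded above -/
theorem posPart_locally_nilpotent {B : ℤ} (hB : ∀ m : ℤ, B ≤ m → ∀ y ∈ ℳ m, y = 0) (a : R)
    (x : M) :
    ∃ N : ℕ, posPart 𝒜 a ^ N • x = 0 := by
  obtain ⟨n, hn⟩ := exists_mem_gradedGE 𝒜 hposR ℳ x
  refine ⟨(B - n).toNat, ?_⟩
  have h1 := posPart_pow_smul_mem 𝒜 hposR ℳ n a x hn (B - n).toNat
  have h2 : gradedGE 𝒜 hposR ℳ (n + ((B - n).toNat : ℤ)) = ⊥ :=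
    gradedGE_eq_bot 𝒜 hposR ℳ (fun m hm => hB m (by omega))
  rw [h2] at h1
  simpa using h1

include h0R in
theorem smul_eq_of_posPart_smul_eq_zero {a : R} {x : M} (h : posPart 𝒜 a • x = 0) :
    ∃ c : k, a • x = c • x := by
  obtain ⟨c, hc⟩ := exists_smul_one_of_mem_zero 𝒜 h0R (DirectSum.decompose 𝒜 a 0 : 𝒜 0).2
  refine ⟨c, ?_⟩
  rw [posPart, sub_smul, sub_eq_zero] at h
  rw [h, hc, smul_assoc, one_smul]

end ArtinianDual

section ArtinianDual2

variable {k : Type u} [Field k] {R : Type u} [CommRing R] [Algebra k R] (𝒜 : ℤ → Submodule k R)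
  [GradedAlgebra 𝒜] (hposR : ∀ n : ℤ, n < 0 → 𝒜 n = ⊥) (h0R : 𝒜 0 = Submodule.span k {(1 : R)})
  [Algebra.FiniteType k R]
  {M : Type u} [AddCommGroup M] [Module R M] [Module k M] [IsScalarTower k R M]
  {τ : Type u} [SetLike τ M] [AddSubgroupClass τ M] (ℳ : ℤ → τ) [DirectSum.Decomposition ℳ] [SetLike.GradedSMul 𝒜 ℳ]
  {D : Type u} [AddCommGroup D] [Module R D] [Module k D] [IsScalarTower k R D]
  {τ' : Type u} [SetLike τ' D] [AddSubgroupClass τ' D] (𝒟 : ℤ → τ') [DirectSum.Decomposition 𝒟] [SetLike.GradedSMul 𝒜 𝒟]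
  {β : D →ₗ[k] M →ₗ[k] k} (hD : GrSeg.IsGDual R ℳ 𝒟 β)

include hposR h0R hD in
/-- the graded dual of a finitely generated graded module is Artinian -/
theorem isArtinian_dual_of_finite [Module.Finite R M] : IsArtinian R D := by
  classical
  -- `D` is bounded above
  obtain ⟨n₀, hn₀⟩ := exists_bddBelow_of_finite 𝒜 hposR ℳ
  have hB : ∀ m : ℤ, (-n₀ + 1) ≤ m → ∀ d ∈ 𝒟 m, d = 0 := fun m hm =>
    dual_piece_eq_bot hD (n := m) (m := -m) (by omega) (hn₀ (-m) (by omega))
  -- generators of `R`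
  obtain ⟨S, hS⟩ := (Algebra.FiniteType.out : (⊤ : Subalgebra k R).FG)
  set l : List R := S.toList.map (posPart 𝒜) with hl
  apply isArtinian_of_dccBelow_top
  apply dccBelow_of_jointKer l ⊤
  · intro a ha e _
    rw [hl, List.mem_map] at ha
    obtain ⟨s, _, rfl⟩ := ha
    exact posPart_locally_nilpotent 𝒜 hposR 𝒟 hB s e
  · rw [top_inf_eq]
    -- `R` acts on the joint kernel through `k`
    have hact : ∀ d ∈ jointKer (E := D) l, ∀ r : R, ∃ c : k, r • d = c • d := by
      intro d hd r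
      rw [mem_jointKer] at hd
      have hr : r ∈ Algebra.adjoin k (S : Set R) := by rw [hS]; trivial
      induction hr using Algebra.adjoin_induction with
      | mem s hs =>
        apply smul_eq_of_posPart_smul_eq_zero 𝒜 h0R
        apply hd
        rw [hl, List.mem_map]
        exact ⟨s, Finset.mem_toList.mpr hs, rfl⟩
      | algebraMap c => exact ⟨c, algebraMap_smul R c d⟩
      | add r r' _ _ h h' =>
        obtain ⟨c, hc⟩ := h
        obtain ⟨c', hc'⟩ := h'
        exact ⟨c + c', by rw [add_smul, add_smul, hc, hc']⟩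
      | mul r r' _ _ h h' =>
        obtain ⟨c, hc⟩ := h
        obtain ⟨c', hc'⟩ := h'
        exact ⟨c * c', by rw [mul_smul, hc', smul_comm r c' d, hc, smul_smul, mul_comm c' c]⟩
    -- generators of `M`
    obtain ⟨G, hG⟩ := (Module.Finite.fg_top : (⊤ : Submodule R M).FG)
    set K' : Submodule k D := (jointKer (E := D) l).restrictScalars k with hK'
    let ev : K' →ₗ[k] (G → k) := LinearMap.pi (fun g => (β.flip (g : M)) ∘ₗ K'.subtype)
    have hev : Function.Injective ev := by
      rw [injective_iff_map_eq_zero]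
      intro d hd0
      apply Subtype.ext
      apply beta_injective hD
      apply LinearMap.ext
      intro x
      rw [ZeroMemClass.coe_zero, map_zero, LinearMap.zero_apply]
      have hx : x ∈ Submodule.span R (G : Set M) := by rw [hG]; trivial
      induction hx using Submodule.span_induction with
      | mem g hg => exact congrFun hd0 ⟨g, hg⟩
      | zero => simp
      | add x y _ _ hx hy => rw [map_add, hx, hy, add_zero]
      | smul r x _ hx =>
        obtain ⟨c, hc⟩ := hact d d.2 r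
        rw [← hD.map_smul, hc, map_smul, LinearMap.smul_apply, hx, smul_zero]
    have : Module.Finite k K' := Module.Finite.of_injective ev hev
    have hdcc : DCCBelow (R := k) K' := dccBelow_of_isArtinian K'
    intro f hf hfK
    obtain ⟨n, hn⟩ := hdcc (fun i => (f i).restrictScalars k) (fun i j hij => hf hij)
      (fun i => hfK i)
    exact ⟨n, fun m hm => Submodule.restrictScalars_injective k _ _ (hn m hm)⟩

end ArtinianDual2

section Socle

variable {k : Type u} [Field k] {R : Type u} [CommRing R] [Algebra k R] (𝒜 : ℤ → Submodule k R)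
  [GradedAlgebra 𝒜] (hposR : ∀ n : ℤ, n < 0 → 𝒜 n = ⊥) (h0R : 𝒜 0 = Submodule.span k {(1 : R)})
  {M : Type u} [AddCommGroup M] [Module R M] [Module k M] [IsScalarTower k R M]
  {τ : Type u} [SetLike τ M] [AddSubgroupClass τ M] (ℳ : ℤ → τ) [DirectSum.Decomposition ℳ] [SetLike.GradedSMul 𝒜 ℳ]

theorem decompose_smul_homogeneous' {c n m : ℤ} {a : R} (ha : a ∈ 𝒜 c) (h : c + m = n) (x : M) :
    ((DirectSum.decompose ℳ (a • x) n : ℳ n) : M) =
      a • ((DirectSum.decompose ℳ x m : ℳ m) : M) := by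
  obtain rfl : m = n - c := by omega
  exact decompose_smul_homogeneous 𝒜 ℳ ha n x

include 𝒜 in
theorem decompose_smul_field (c : k) (x : M) (m : ℤ) :
    ((DirectSum.decompose ℳ (c • x) m : ℳ m) : M) =
      c • ((DirectSum.decompose ℳ x m : ℳ m) : M) := by
  have h1 : algebraMap k R c ∈ 𝒜 0 := SetLike.algebraMap_mem_graded 𝒜 c
  have := decompose_smul_homogeneous' 𝒜 ℳ h1 (show 0 + m = m by omega) x
  rwa [algebraMap_smul, algebraMap_smul] at this

/-- the socle: elements killed by all homogeneous elements of positive degree -/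
def socle : Submodule R M where
  carrier := {x | ∀ c : ℤ, 0 < c → ∀ a ∈ 𝒜 c, a • x = 0}
  add_mem' := by
    intro x y hx hy c hc a ha
    rw [smul_add, hx c hc a ha, hy c hc a ha, add_zero]
  zero_mem' := by
    intro c _ a _
    exact smul_zero a
  smul_mem' := by
    intro r x hx c hc a ha
    rw [smul_comm, hx c hc a ha, smul_zero]

theorem mem_socle {x : M} : x ∈ socle 𝒜 (M := M) ↔ ∀ c : ℤ, 0 < c → ∀ a ∈ 𝒜 c, a • x = 0 :=
  Iff.rfl

include hposR in
theorem socle_smul_eq {x : M} (hx : x ∈ socle 𝒜 (M := M)) (r : R) :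
    r • x = ((DirectSum.decompose 𝒜 r 0 : 𝒜 0) : R) • x := by
  classical
  induction r using DirectSum.Decomposition.inductionOn 𝒜 with
  | zero => simp
  | @homogeneous j a =>
    rcases lt_trichotomy j 0 with hj | hj | hj
    · rw [eq_zero_of_mem_neg 𝒜 hposR hj a.2]; simp
    · subst hj
      rw [DirectSum.decompose_of_mem_same 𝒜 a.2]
    · rw [DirectSum.decompose_of_mem_ne 𝒜 a.2 (by omega), zero_smul]
      exact hx j hj a a.2
  | add r r' hr hr' =>
    rw [DirectSum.decompose_add, DirectSum.add_apply, Submodule.coe_add, add_smul, add_smul,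
      hr, hr']

include hposR h0R in
theorem socle_act (r : R) (x : M) (hx : x ∈ socle 𝒜 (M := M)) :
    ∃ c : k, r • x - c • x ∈ (⊥ : Submodule R M) := by
  obtain ⟨c, hc⟩ := exists_smul_one_of_mem_zero 𝒜 h0R (DirectSum.decompose 𝒜 r 0 : 𝒜 0).2
  refine ⟨c, ?_⟩
  rw [socle_smul_eq 𝒜 hposR hx r, hc, smul_assoc, one_smul, sub_self]
  exact zero_mem _

include hposR h0R in
theorem finite_socle [IsArtinian R M] :
    Module.Finite k ((socle 𝒜 (M := M)).restrictScalars k) :=
  finite_of_addSub_isArtinian ⊥ (socle 𝒜 (M := M)) (socle_act 𝒜 hposR h0R)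
    ((socle 𝒜 (M := M)).restrictScalars k) (fun _ hx => hx)
    (fun _ _ hx => (Submodule.mem_bot R).mp hx)

/-- the socle is a graded submodule -/
theorem socle_component_mem {x : M} (hx : x ∈ socle 𝒜 (M := M)) (m : ℤ) :
    ((DirectSum.decompose ℳ x m : ℳ m) : M) ∈ socle 𝒜 (M := M) := by
  intro c hc a ha
  rw [← decompose_smul_homogeneous' 𝒜 ℳ ha (rfl : c + m = c + m) x, hx c hc a ha]
  simp

include hposR in
/-- essentiality of the socle in an Artinian graded module -/
theorem exists_mem_socle_of_ne_bot [IsArtinian R M] (N : Submodule R M)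
    (hgr : ∀ x ∈ N, ∀ m : ℤ, ((DirectSum.decompose ℳ x m : ℳ m) : M) ∈ N) (hne : N ≠ ⊥) :
    ∃ (m : ℤ) (y : M), y ∈ N ∧ y ∈ ℳ m ∧ y ≠ 0 ∧ y ∈ socle 𝒜 (M := M) := by
  obtain ⟨n₁, hn₁⟩ := exists_bddAbove_of_isArtinian 𝒜 hposR ℳ
  obtain ⟨x, hxN, hx0⟩ := Submodule.exists_mem_ne_zero_of_ne_bot hne
  have hP : ∃ m : ℤ, ∃ y : M, y ∈ N ∧ y ∈ ℳ m ∧ y ≠ 0 := by
    by_contra hcon
    push Not at hcon
    apply hx0
    apply eq_zero_of_decompose_eq_zero ℳ
    intro m
    by_contra h
    exact h (hcon m _ (hgr x hxN m) (SetLike.coe_mem _))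
  have hbdd : ∃ b : ℤ, ∀ m : ℤ, (∃ y : M, y ∈ N ∧ y ∈ ℳ m ∧ y ≠ 0) → m ≤ b := by
    refine ⟨n₁, fun m hm => ?_⟩
    obtain ⟨y, _, hym, hy0⟩ := hm
    by_contra hlt
    push Not at hlt
    exact hy0 (hn₁ m hlt.le y hym)
  obtain ⟨m, ⟨y, hyN, hym, hy0⟩, hmax⟩ := Int.exists_greatest_of_bdd hbdd hP
  refine ⟨m, y, hyN, hym, hy0, ?_⟩
  intro c hc a ha
  by_contra hne'
  have := hmax (c + m) ⟨a • y, N.smul_mem a hyN, smul_mem_piece 𝒜 ℳ ha hym, hne'⟩
  omega

end Socle

section FiniteDual

variable {k : Type u} [Field k] {R : Type u} [CommRing R] [Algebra k R] (𝒜 : ℤ → Submodule k R)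
  [GradedAlgebra 𝒜] (hposR : ∀ n : ℤ, n < 0 → 𝒜 n = ⊥) (h0R : 𝒜 0 = Submodule.span k {(1 : R)})
  {M : Type u} [AddCommGroup M] [Module R M] [Module k M] [IsScalarTower k R M]
  {τ : Type u} [SetLike τ M] [AddSubgroupClass τ M] (ℳ : ℤ → τ) [DirectSum.Decomposition ℳ] [SetLike.GradedSMul 𝒜 ℳ]
  {D : Type u} [AddCommGroup D] [Module R D] [Module k D] [IsScalarTower k R D]
  {τ' : Type u} [SetLike τ' D] [AddSubgroupClass τ' D] (𝒟 : ℤ → τ') [DirectSum.Decomposition 𝒟] [SetLike.GradedSMul 𝒜 𝒟]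
  {β : D →ₗ[k] M →ₗ[k] k} (hD : GrSeg.IsGDual R ℳ 𝒟 β)

include 𝒜 in
/-- the span of homogeneous elements is a graded submodule -/
theorem span_homogeneous_component_mem (Gen : Set M) (hGen : ∀ w ∈ Gen, ∃ j : ℤ, w ∈ ℳ j)
    {x : M} (hx : x ∈ Submodule.span R Gen) (n : ℤ) :
    ((DirectSum.decompose ℳ x n : ℳ n) : M) ∈ Submodule.span R Gen := by
  classical
  induction hx using Submodule.span_induction generalizing n with
  | mem w hw =>
    obtain ⟨j, hj⟩ := hGen w hw
    rw [decompose_of_mem ℳ hj]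
    split_ifs
    · exact Submodule.subset_span hw
    · exact zero_mem _
  | zero => simp
  | add x y _ _ hx hy =>
    rw [DirectSum.decompose_add, DirectSum.add_apply, AddMemClass.coe_add]
    exact add_mem (hx n) (hy n)
  | smul r x _ hx =>
    induction r using DirectSum.Decomposition.inductionOn 𝒜 with
    | zero => simp
    | @homogeneous j a =>
      rw [decompose_smul_homogeneous 𝒜 ℳ a.2]
      exact Submodule.smul_mem _ _ (hx _)
    | add r r' hr hr' =>
      rw [add_smul, DirectSum.decompose_add, DirectSum.add_apply, AddMemClass.coe_add]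
      exact add_mem hr hr'

include hposR h0R hD in
/-- the graded dual of an Artinian graded module is finitely generated -/
theorem finite_dual_of_isArtinian [IsArtinian R M] : Module.Finite R D := by
  classical
  have hfinM : ∀ n, Module.Finite k (pieceSub 𝒜 ℳ n) :=
    finite_piece_of_isArtinian 𝒜 hposR h0R ℳ
  have hsoc := finite_socle 𝒜 hposR h0R (M := M)
  obtain ⟨B, hB⟩ := Module.Finite.iff_fg.mp hsoc
  set T : Finset ℤ := B.biUnion (fun b => (DirectSum.decompose ℳ b).support) with hT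
  have hT' : ∀ y ∈ socle 𝒜 (M := M), ∀ m, y ∈ ℳ m → m ∉ T → y = 0 := by
    intro y hy m hym hmT
    let Z : Submodule k M :=
      { carrier := {x | ((DirectSum.decompose ℳ x m : ℳ m) : M) = 0}
        add_mem' := by
          intro x x' hx hx'
          show ((DirectSum.decompose ℳ (x + x') m : ℳ m) : M) = 0
          rw [DirectSum.decompose_add, DirectSum.add_apply, AddMemClass.coe_add, hx, hx', add_zero]
        zero_mem' := by
          show ((DirectSum.decompose ℳ (0 : M) m : ℳ m) : M) = 0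
          simp
        smul_mem' := by
          intro c x hx
          show ((DirectSum.decompose ℳ (c • x) m : ℳ m) : M) = 0
          rw [decompose_smul_field 𝒜 ℳ, hx, smul_zero] }
    have hBZ : (B : Set M) ⊆ Z := by
      intro b hb
      show ((DirectSum.decompose ℳ b m : ℳ m) : M) = 0
      by_contra h
      apply hmT
      rw [hT, Finset.mem_biUnion]
      refine ⟨b, hb, ?_⟩
      rw [DFinsupp.mem_support_iff]
      intro h0
      apply h
      rw [h0]; rfl
    have hyZ : y ∈ Z := by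
      have : y ∈ Submodule.span k (B : Set M) := by rw [hB]; exact hy
      exact Submodule.span_le.mpr hBZ this
    have h2 : ((DirectSum.decompose ℳ y m : ℳ m) : M) = 0 := hyZ
    rwa [DirectSum.decompose_of_mem_same ℳ hym] at h2
  have hfinD : ∀ m : ℤ, ∃ F : Finset D,
      Submodule.span k (F : Set D) = dualPieceSub hD (-m) := by
    intro m
    have := finite_dualPiece hD (n := -m) (m := m) (by omega) (pieceSub 𝒜 ℳ m)
      (fun x => Iff.rfl)
    exact Module.Finite.iff_fg.mp this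
  choose F hF using hfinD
  set Gen : Finset D := T.biUnion F with hGen
  set N : Submodule R D := Submodule.span R (Gen : Set D) with hN
  suffices hNtop : N = ⊤ from ⟨⟨Gen, hNtop⟩⟩
  have hgen_hom : ∀ w ∈ (Gen : Set D), ∃ j : ℤ, w ∈ 𝒟 j := by
    intro w hw
    rw [hGen, Finset.mem_coe, Finset.mem_biUnion] at hw
    obtain ⟨m, _, hw⟩ := hw
    refine ⟨-m, ?_⟩
    have : w ∈ Submodule.span k (F m : Set D) := Submodule.subset_span hw
    rw [hF m] at this
    exact this
  have hNgr : ∀ d ∈ N, ∀ n, ((DirectSum.decompose 𝒟 d n : 𝒟 n) : D) ∈ N :=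
    fun d hd n => span_homogeneous_component_mem 𝒜 𝒟 _ hgen_hom hd n
  by_contra hne
  obtain ⟨n, d, hdn, hdN⟩ : ∃ (n : ℤ) (d : D), d ∈ 𝒟 n ∧ d ∉ N := by
    by_contra hcon
    push Not at hcon
    apply hne
    rw [eq_top_iff]
    intro d _
    rw [← DirectSum.sum_support_decompose 𝒟 d]
    exact sum_mem (fun n _ => hcon n _ (SetLike.coe_mem _))
  obtain ⟨g, hgd, hgN⟩ := Submodule.exists_dual_map_eq_bot_of_notMem
    (p := N.restrictScalars k) (x := d) hdN inferInstance
  have hgN' : ∀ d' ∈ N, g d' = 0 := by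
    intro d' hd'
    have : g d' ∈ (N.restrictScalars k).map g := Submodule.mem_map_of_mem hd'
    rw [hgN] at this
    simpa using this
  obtain ⟨x, hx, hxg⟩ := flip_exists_eq hD (n := n) (m := -n) (by omega)
    (pieceSub 𝒜 ℳ (-n)) (fun _ => Iff.rfl) g
  have hx0 : x ≠ 0 := by
    intro h0
    apply hgd
    rw [← hxg d hdn, h0, map_zero]
  let Nperp : Submodule R M :=
    { carrier := {x | ∀ d ∈ N, β d x = 0}
      add_mem' := by
        intro x x' hx hx' d hd
        rw [map_add, hx d hd, hx' d hd, add_zero]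
      zero_mem' := by
        intro d _
        exact map_zero _
      smul_mem' := by
        intro r x hx d hd
        rw [← hD.map_smul]
        exact hx _ (N.smul_mem r hd) }
  have hxperp : x ∈ Nperp := by
    intro d' hd'
    rw [beta_eq_component hD d' (n := n) (m := -n) (by omega) hx, hxg _ (SetLike.coe_mem _)]
    exact hgN' _ (hNgr d' hd' n)
  have hperp_gr : ∀ x ∈ Nperp, ∀ m, ((DirectSum.decompose ℳ x m : ℳ m) : M) ∈ Nperp := by
    intro x hx m d' hd'
    rw [beta_eq_component hD d' (n := -m) (m := m) (by omega) (SetLike.coe_mem _)]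
    have h1 := hx _ (hNgr d' hd' (-m))
    rwa [beta_eq_component_right hD (n := -m) (m := m) (by omega) (SetLike.coe_mem _)] at h1
  have hperp_ne : Nperp ≠ ⊥ := by
    intro h
    apply hx0
    have := hxperp
    rw [h] at this
    simpa using this
  obtain ⟨m, y, hyN, hym, hy0, hysoc⟩ :=
    exists_mem_socle_of_ne_bot 𝒜 hposR ℳ Nperp hperp_gr hperp_ne
  apply hy0
  have hmT : m ∈ T := by
    by_contra hmT
    exact hy0 (hT' y hysoc m hym hmT)
  apply flip_eq_zero hD (n := -m) (m := m) (by omega) hym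
  intro d' hd'
  have h1 : d' ∈ Submodule.span k (F m : Set D) := by rw [hF m]; exact hd'
  have hle : Submodule.span k (F m : Set D) ≤ N.restrictScalars k :=
    Submodule.span_le.mpr (fun w hw => Submodule.subset_span
      (Finset.mem_coe.mpr (Finset.mem_biUnion.mpr ⟨m, hmT, hw⟩)))
  exact hyN d' (hle h1)

end FiniteDual

section Hom

variable {k : Type u} [Field k] {R : Type u} [CommRing R] [Algebra k R] (𝒜 : ℤ → Submodule k R)
  [GradedAlgebra 𝒜] (hposR : ∀ n : ℤ, n < 0 → 𝒜 n = ⊥) (h0R : 𝒜 0 = Submodule.span k {(1 : R)})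
  {M : Type u} [AddCommGroup M] [Module R M] [Module k M] [IsScalarTower k R M]
  {τ : Type u} [SetLike τ M] [AddSubgroupClass τ M] (ℳ : ℤ → τ) [DirectSum.Decomposition ℳ]
  [SetLike.GradedSMul 𝒜 ℳ]

include hposR h0R in
/-- the socle of an Artinian graded module lives in finitely many degrees -/
theorem exists_finset_socle_degrees [IsArtinian R M] :
    ∃ T : Finset ℤ, ∀ y ∈ socle 𝒜 (M := M), ∀ m : ℤ, y ∈ ℳ m → m ∉ T → y = 0 := by
  classical
  have hsoc := finite_socle 𝒜 hposR h0R (M := M)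
  obtain ⟨B, hB⟩ := Module.Finite.iff_fg.mp hsoc
  refine ⟨B.biUnion (fun b => (DirectSum.decompose ℳ b).support), ?_⟩
  intro y hy m hym hmT
  let Z : Submodule k M :=
    { carrier := {x | ((DirectSum.decompose ℳ x m : ℳ m) : M) = 0}
      add_mem' := by
        intro x x' hx hx'
        show ((DirectSum.decompose ℳ (x + x') m : ℳ m) : M) = 0
        rw [DirectSum.decompose_add, DirectSum.add_apply, AddMemClass.coe_add, hx, hx', add_zero]
      zero_mem' := by
        show ((DirectSum.decompose ℳ (0 : M) m : ℳ m) : M) = 0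
        simp
      smul_mem' := by
        intro c x hx
        show ((DirectSum.decompose ℳ (c • x) m : ℳ m) : M) = 0
        rw [decompose_smul_field 𝒜 ℳ, hx, smul_zero] }
  have hBZ : (B : Set M) ⊆ Z := by
    intro b hb
    show ((DirectSum.decompose ℳ b m : ℳ m) : M) = 0
    by_contra h
    apply hmT
    rw [Finset.mem_biUnion]
    refine ⟨b, hb, ?_⟩
    rw [DFinsupp.mem_support_iff]
    intro h0
    apply h
    rw [h0]; rfl
  have hyZ : y ∈ Z := by
    have : y ∈ Submodule.span k (B : Set M) := by rw [hB]; exact hy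
    exact Submodule.span_le.mpr hBZ this
  have h2 : ((DirectSum.decompose ℳ y m : ℳ m) : M) = 0 := hyZ
  rwa [DirectSum.decompose_of_mem_same ℳ hym] at h2

/-- the projection onto the degree `m` piece as a `k`-linear map -/
def componentMap (m : ℤ) : M →ₗ[k] pieceSub 𝒜 ℳ m where
  toFun x := ⟨((DirectSum.decompose ℳ x m : ℳ m) : M), SetLike.coe_mem _⟩
  map_add' x y := by
    apply Subtype.ext
    show ((DirectSum.decompose ℳ (x + y) m : ℳ m) : M) =
      ((DirectSum.decompose ℳ x m : ℳ m) : M) + ((DirectSum.decompose ℳ y m : ℳ m) : M)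
    rw [DirectSum.decompose_add, DirectSum.add_apply, AddMemClass.coe_add]
  map_smul' c x := by
    apply Subtype.ext
    show ((DirectSum.decompose ℳ (c • x) m : ℳ m) : M) =
      c • ((DirectSum.decompose ℳ x m : ℳ m) : M)
    exact decompose_smul_field 𝒜 ℳ c x m

theorem componentMap_apply (m : ℤ) (x : M) :
    ((componentMap 𝒜 ℳ m x : pieceSub 𝒜 ℳ m) : M) = ((DirectSum.decompose ℳ x m : ℳ m) : M) :=
  rfl

theorem componentMap_of_mem {m : ℤ} {x : M} (hx : x ∈ ℳ m) :
    ((componentMap 𝒜 ℳ m x : pieceSub 𝒜 ℳ m) : M) = x := by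
  rw [componentMap_apply, DirectSum.decompose_of_mem_same ℳ hx]

theorem componentMap_of_mem_ne {m g : ℤ} (hg : g ≠ m) {x : M} (hx : x ∈ ℳ g) :
    componentMap 𝒜 ℳ m x = 0 := by
  apply Subtype.ext
  rw [componentMap_apply, DirectSum.decompose_of_mem_ne ℳ hx hg]
  rfl

variable {D : Type u} [AddCommGroup D] [Module R D]
  {τ' : Type u} [SetLike τ' D] [AddSubgroupClass τ' D] (𝒟 : ℤ → τ') [DirectSum.Decomposition 𝒟]

omit [Module k M] [IsScalarTower k R M] [SetLike.GradedSMul 𝒜 ℳ] in
/-- a homomorphism of degree `s` commutes with taking components -/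
theorem decompose_map_of_degree (h : M →ₗ[R] D) (s : ℤ)
    (hh : ∀ (g : ℤ) (b : M), b ∈ ℳ g → h b ∈ 𝒟 (g + s)) (x : M) (g : ℤ) :
    ((DirectSum.decompose 𝒟 (h x) (g + s) : 𝒟 (g + s)) : D) =
      h ((DirectSum.decompose ℳ x g : ℳ g) : M) := by
  classical
  induction x using DirectSum.Decomposition.inductionOn ℳ with
  | zero => simp
  | @homogeneous j x =>
    by_cases hj : j = g
    · subst hj
      rw [DirectSum.decompose_of_mem_same ℳ x.2, DirectSum.decompose_of_mem_same 𝒟 (hh _ _ x.2)]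
    · rw [DirectSum.decompose_of_mem_ne ℳ x.2 hj, map_zero,
        DirectSum.decompose_of_mem_ne 𝒟 (hh _ _ x.2) (by omega)]
  | add x y hx hy =>
    rw [map_add, DirectSum.decompose_add, DirectSum.add_apply, AddMemClass.coe_add, hx, hy,
      DirectSum.decompose_add, DirectSum.add_apply, AddMemClass.coe_add, map_add]

omit [Module k M] [IsScalarTower k R M] [SetLike.GradedSMul 𝒜 ℳ] in
/-- a graded homomorphism commutes with taking components -/
theorem decompose_map_of_grHom (h : M →ₗ[R] D)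
    (hh : ∀ (g : ℤ) (b : M), b ∈ ℳ g → h b ∈ 𝒟 g) (x : M) (g : ℤ) :
    ((DirectSum.decompose 𝒟 (h x) g : 𝒟 g) : D) =
      h ((DirectSum.decompose ℳ x g : ℳ g) : M) := by
  classical
  induction x using DirectSum.Decomposition.inductionOn ℳ with
  | zero => simp
  | @homogeneous j x =>
    by_cases hj : j = g
    · subst hj
      rw [DirectSum.decompose_of_mem_same ℳ x.2, DirectSum.decompose_of_mem_same 𝒟 (hh _ _ x.2)]
    · rw [DirectSum.decompose_of_mem_ne ℳ x.2 hj, map_zero,
        DirectSum.decompose_of_mem_ne 𝒟 (hh _ _ x.2) hj]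
  | add x y hx hy =>
    rw [map_add, DirectSum.decompose_add, DirectSum.add_apply, AddMemClass.coe_add, hx, hy,
      DirectSum.decompose_add, DirectSum.add_apply, AddMemClass.coe_add, map_add]

end Hom

section HomToDual

variable {k : Type u} [Field k] {R : Type u} [CommRing R] [Algebra k R] (𝒜 : ℤ → Submodule k R)
  [GradedAlgebra 𝒜]
  {M : Type u} [AddCommGroup M] [Module R M] [Module k M] [IsScalarTower k R M]
  {τ : Type u} [SetLike τ M] [AddSubgroupClass τ M] (ℳ : ℤ → τ) [DirectSum.Decomposition ℳ]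
  [SetLike.GradedSMul 𝒜 ℳ]
  {D : Type u} [AddCommGroup D] [Module R D] [Module k D] [IsScalarTower k R D]
  {τ' : Type u} [SetLike τ' D] [AddSubgroupClass τ' D] {𝒟 : ℤ → τ'} [DirectSum.Decomposition 𝒟]
  {β : D →ₗ[k] R →ₗ[k] k} (hD : GrSeg.IsGDual R 𝒜 𝒟 β)

omit [IsScalarTower k R M] [SetLike.GradedSMul 𝒜 ℳ] in
/-- a functional supported in degree `s` only sees the component of degree `s` -/
theorem functional_eq_component {s : ℤ} (l : M →ₗ[k] k)
    (hl : ∀ g : ℤ, g ≠ s → ∀ x : M, x ∈ ℳ g → l x = 0) (x : M) :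
    l x = l ((DirectSum.decompose ℳ x s : ℳ s) : M) := by
  classical
  induction x using DirectSum.Decomposition.inductionOn ℳ with
  | zero => simp
  | @homogeneous j x =>
    by_cases hj : j = s
    · subst hj
      rw [DirectSum.decompose_of_mem_same ℳ x.2]
    · rw [DirectSum.decompose_of_mem_ne ℳ x.2 hj, map_zero]
      exact hl j hj x x.2
  | add x y hx hy =>
    rw [map_add, hx, hy, DirectSum.decompose_add, DirectSum.add_apply, AddMemClass.coe_add,
      map_add]

include hD in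
/-- **Hom into the graded dual of `R`**: a functional `l` on `M` supported in degree `s` gives a
homomorphism `h : M → R^*` of degree `-s` with `β (h b) r = l (r • b)`. -/
theorem exists_hom_of_functional {s : ℤ} (l : M →ₗ[k] k)
    (hl : ∀ g : ℤ, g ≠ s → ∀ x : M, x ∈ ℳ g → l x = 0) :
    ∃ h : M →ₗ[R] D, (∀ (b : M) (r : R), β (h b) r = l (r • b)) ∧
      ∀ (g : ℤ) (b : M), b ∈ ℳ g → h b ∈ 𝒟 (g - s) := by
  classical
  have key : ∀ b : M, ∃ d : D, ∀ r : R, β d r = l (r • b) := by
    intro b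
    let φ : R →ₗ[k] k := l ∘ₗ ((LinearMap.toSpanSingleton R M b).restrictScalars k)
    have hφ : ∀ r : R, φ r = l (r • b) := fun _ => rfl
    obtain ⟨d, hd⟩ := exists_of_finite_support hD φ
      ((DirectSum.decompose ℳ b).support.image (fun g => s - g)) (by
        intro n hn r hr
        rw [hφ, functional_eq_component ℳ l hl, decompose_smul_homogeneous 𝒜 ℳ hr]
        have : s - n ∉ (DirectSum.decompose ℳ b).support := by
          intro h
          apply hn
          rw [Finset.mem_image]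
          exact ⟨s - n, h, by omega⟩
        rw [DFinsupp.notMem_support_iff] at this
        rw [this]
        simp)
    exact ⟨d, fun r => by rw [hd, hφ]⟩
  choose h hh using key
  have hinj : ∀ d d' : D, (∀ r : R, β d r = β d' r) → d = d' := fun d d' hdd' =>
    beta_injective hD (LinearMap.ext hdd')
  let h' : M →ₗ[R] D :=
    { toFun := h
      map_add' := fun b b' => hinj _ _ (fun r => by
        rw [hh, map_add, LinearMap.add_apply, hh, hh, smul_add, map_add])
      map_smul' := fun r b => hinj _ _ (fun r' => by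
        rw [RingHom.id_apply, hh, hD.map_smul, hh, smul_eq_mul, mul_smul, smul_smul, smul_smul,
          mul_comm]) }
  refine ⟨h', hh, ?_⟩
  intro g b hb
  rw [mem_piece_iff hD]
  intro m hm r hr
  show β (h b) r = 0
  rw [hh]
  exact hl (m + g) (by omega) _ (smul_mem_piece 𝒜 ℳ hr hb)

end HomToDual

end Groth.Agent.Lib.Helper99.GrDual
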