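import Groth.Prelude.Def_GrSeg
import Mathlib.RingTheory.GradedAlgebra.Basic
import Mathlib.RingTheory.TensorProduct.Basic
import Mathlib.RingTheory.Flat.Basic
import Mathlib.LinearAlgebra.Basis.VectorSpace

/-!
# Segre products of graded modules: helper lemmas (helper99)
-/

set_option autoImplicit false
set_option linter.unusedSectionVars false
universe u

namespace Groth.Agent.Lib.Helper99.Segre

open scoped TensorProduct

section

variable {k : Type u} [Field k] {R S T : Type u} [CommRing R] [CommRing S] [CommRing T]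
  [Algebra k R] [Algebra k S] [Algebra k T]
  {M N P : Type u} [AddCommGroup M] [Module R M] [Module k M] [IsScalarTower k R M]
  [AddCommGroup N] [Module S N] [Module k N] [IsScalarTower k S N]
  [AddCommGroup P] [Module T P] [Module k P] [IsScalarTower k T P]
  {τM τN : Type u} [SetLike τM M] [SetLike τN N]
  {τQ : Type u} [SetLike τQ P] [AddSubgroupClass τQ P]
  {ψ : T →ₐ[k] R ⊗[k] S} {ℳ : ℤ → τM} {𝒩 : ℤ → τN} {𝒬 : ℤ → τQ}
  [DirectSum.Decomposition 𝒬] {φ : P →ₗ[k] M ⊗[k] N}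

theorem mem_piece_iff (hP : GrSeg.IsSegreMod ψ ℳ 𝒩 𝒬 φ) {n : ℤ} {p : P} :
    p ∈ 𝒬 n ↔ φ p ∈ GrSeg.segrePiece k ℳ 𝒩 n := by
  constructor
  · intro hp
    have : φ p ∈ φ '' (𝒬 n : Set P) := ⟨p, hp, rfl⟩
    rw [hP.image_piece n] at this
    exact this
  · intro hp
    have : φ p ∈ φ '' (𝒬 n : Set P) := by
      rw [hP.image_piece n]
      exact hp
    obtain ⟨q, hq, hqp⟩ := this
    rw [← hP.injective hqp]
    exact hq

theorem tmul_mem_segrePiece {n : ℤ} {x : M} {y : N} (hx : x ∈ ℳ n) (hy : y ∈ 𝒩 n) :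
    x ⊗ₜ[k] y ∈ GrSeg.segrePiece k ℳ 𝒩 n :=
  Submodule.subset_span ⟨x, hx, y, hy, rfl⟩

/-- the action of a "diagonal" element of degree `c` moves Segre pieces -/
theorem act_mem_segrePiece {σR σS : Type u} [SetLike σR R] [SetLike σS S]
    {𝒜 : ℤ → σR} {ℬ : ℤ → σS} {c n n' : ℤ}
    (hR : ∀ a ∈ 𝒜 c, ∀ x ∈ ℳ n, a • x ∈ ℳ n') (hS : ∀ b ∈ ℬ c, ∀ y ∈ 𝒩 n, b • y ∈ 𝒩 n')
    {z : R ⊗[k] S} (hz : z ∈ GrSeg.segrePiece k 𝒜 ℬ c) {e : M ⊗[k] N}
    (he : e ∈ GrSeg.segrePiece k ℳ 𝒩 n) :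
    GrSeg.act k R S M N z e ∈ GrSeg.segrePiece k ℳ 𝒩 n' := by
  induction hz using Submodule.span_induction with
  | mem z hz =>
    obtain ⟨a, ha, b, hb, rfl⟩ := hz
    induction he using Submodule.span_induction with
    | mem e he =>
      obtain ⟨x, hx, y, hy, rfl⟩ := he
      rw [GrSeg.act_tmul]
      exact tmul_mem_segrePiece (hR a ha x hx) (hS b hb y hy)
    | zero => rw [map_zero]; exact zero_mem _
    | add e e' _ _ h h' => rw [map_add]; exact add_mem h h'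
    | smul r e _ h => rw [map_smul]; exact Submodule.smul_mem _ _ h
  | zero => rw [map_zero, LinearMap.zero_apply]; exact zero_mem _
  | add z z' _ _ h h' => rw [map_add, LinearMap.add_apply]; exact add_mem h h'
  | smul r z _ h => rw [map_smul, LinearMap.smul_apply]; exact Submodule.smul_mem _ _ h

theorem smul_mem_piece {𝒜 : ℤ → Submodule k R} {ℬ : ℤ → Submodule k S} {𝒯 : ℤ → Submodule k T}
    [GradedAlgebra 𝒜] [GradedAlgebra ℬ] [GradedAlgebra 𝒯]
    (hT : GrSeg.IsSegreRing 𝒜 ℬ 𝒯 ψ) (hP : GrSeg.IsSegreMod ψ ℳ 𝒩 𝒬 φ) {c n n' : ℤ}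
    (hR : ∀ a ∈ 𝒜 c, ∀ x ∈ ℳ n, a • x ∈ ℳ n') (hS : ∀ b ∈ ℬ c, ∀ y ∈ 𝒩 n, b • y ∈ 𝒩 n')
    {t : T} (ht : t ∈ 𝒯 c) {p : P} (hp : p ∈ 𝒬 n) : t • p ∈ 𝒬 n' := by
  rw [mem_piece_iff hP, hP.map_smul]
  have hz : ψ t ∈ GrSeg.segrePiece k 𝒜 ℬ c := by
    rw [← hT.2 c]
    exact ⟨t, ht, rfl⟩
  exact act_mem_segrePiece hR hS hz ((mem_piece_iff hP).mp hp)

/-- a pure tensor of degree `(c,c)` comes from `T_c` -/
theorem exists_psi_eq_tmul {𝒜 : ℤ → Submodule k R} {ℬ : ℤ → Submodule k S}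
    {𝒯 : ℤ → Submodule k T} [GradedAlgebra 𝒜] [GradedAlgebra ℬ] [GradedAlgebra 𝒯]
    (hT : GrSeg.IsSegreRing 𝒜 ℬ 𝒯 ψ) {c : ℤ} {z : R ⊗[k] S}
    (hz : z ∈ GrSeg.segrePiece k 𝒜 ℬ c) : ∃ t ∈ 𝒯 c, ψ t = z := by
  rw [← hT.2 c] at hz
  obtain ⟨t, ht, htz⟩ := hz
  exact ⟨t, ht, htz⟩

end

/-- over a field, `x ↦ x ⊗ 1` is injective when the right factor is nontrivial -/
theorem eq_zero_of_tmul_one_eq_zero {k : Type u} [Field k] {R S : Type u} [CommRing R] [CommRing S]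
    [Algebra k R] [Algebra k S] [Nontrivial S] {x : R} (h : x ⊗ₜ[k] (1 : S) = 0) : x = 0 := by
  have h3 : Function.Injective (Algebra.TensorProduct.includeLeft : R →ₐ[k] R ⊗[k] S) :=
    Algebra.TensorProduct.includeLeft_injective (algebraMap k S).injective
  apply h3
  rw [map_zero]
  exact h

/-- bilinear span: `x ∈ span A`, `y ∈ span B` gives `x ⊗ y ∈ span {a ⊗ b}` -/
theorem tmul_mem_of_mem_span {k : Type u} [Field k] {M N : Type u} [AddCommGroup M] [Module k M]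
    [AddCommGroup N] [Module k N] {A : Set M} {B : Set N} (W : Submodule k (M ⊗[k] N))
    (h : ∀ a ∈ A, ∀ b ∈ B, a ⊗ₜ[k] b ∈ W) {x : M} (hx : x ∈ Submodule.span k A) {y : N}
    (hy : y ∈ Submodule.span k B) : x ⊗ₜ[k] y ∈ W := by
  induction hx using Submodule.span_induction with
  | mem x hx0 =>
    induction hy using Submodule.span_induction with
    | mem y hy0 => exact h x hx0 y hy0
    | zero => rw [TensorProduct.tmul_zero]; exact zero_mem _
    | add y y' _ _ h h' => rw [TensorProduct.tmul_add]; exact add_mem h h'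
    | smul c y _ h => rw [TensorProduct.tmul_smul]; exact Submodule.smul_mem _ _ h
  | zero => rw [TensorProduct.zero_tmul]; exact zero_mem _
  | add x x' _ _ h h' => rw [TensorProduct.add_tmul]; exact add_mem h h'
  | smul c x _ h => rw [← TensorProduct.smul_tmul']; exact Submodule.smul_mem _ _ h

end Groth.Agent.Lib.Helper99.Segre
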