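import Groth.Agent.Lib.Helper99.GrDual
import Groth.Agent.Lib.Helper99.Segre
import Mathlib.RingTheory.FiniteStability

/-!
# Finiteness for Segre products (helper99)

`E = M ⊗ N` is a Noetherian module over `A = R ⊗ S`; diagonal projections; finitely many homogeneous
generators for families of homogeneous elements of a Segre module.
-/

set_option autoImplicit false
set_option linter.unusedSectionVars false
universe u

namespace Groth.Agent.Lib.Helper99.SegreFin

open scoped TensorProduct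
open Groth.Agent.Lib.Helper99.GrDual Groth.Agent.Lib.Helper99.Segre

section ActHom

variable (k : Type u) [Field k] (R S : Type u) [CommRing R] [CommRing S] [Algebra k R] [Algebra k S]
  (M N : Type u) [AddCommGroup M] [Module R M] [Module k M] [IsScalarTower k R M]
  [AddCommGroup N] [Module S N] [Module k N] [IsScalarTower k S N]

/-- the algebra homomorphism `R ⊗ S → End_k (M ⊗ N)` underlying `GrSeg.act` -/
noncomputable def actHom : R ⊗[k] S →ₐ[k] Module.End k (M ⊗[k] N) :=
  Algebra.TensorProduct.lift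
    ((Module.End.rTensorAlgHom k M N).comp (Algebra.lsmul k k M : R →ₐ[k] Module.End k M))
    ((Module.End.lTensorAlgHom k N M).comp (Algebra.lsmul k k N : S →ₐ[k] Module.End k N))
    (fun r s => by
      show LinearMap.rTensor N _ * LinearMap.lTensor M _ = LinearMap.lTensor M _ * LinearMap.rTensor N _
      rw [Module.End.mul_eq_comp, Module.End.mul_eq_comp, LinearMap.rTensor_comp_lTensor,
        LinearMap.lTensor_comp_rTensor])

theorem actHom_eq (z : R ⊗[k] S) (e : M ⊗[k] N) : actHom k R S M N z e = GrSeg.act k R S M N z e := by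
  induction z using TensorProduct.induction_on with
  | zero => simp
  | tmul r s =>
    induction e using TensorProduct.induction_on with
    | zero => simp
    | tmul m n =>
      rw [GrSeg.act_tmul]
      have h1 : actHom k R S M N (r ⊗ₜ[k] s) =
          (Module.End.rTensorAlgHom k M N) (Algebra.lsmul k k M r) *
            (Module.End.lTensorAlgHom k N M) (Algebra.lsmul k k N s) := rfl
      rw [h1, Module.End.mul_apply]
      show LinearMap.rTensor N (Algebra.lsmul k k M r : Module.End k M)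
        (LinearMap.lTensor M (Algebra.lsmul k k N s : Module.End k N) (m ⊗ₜ[k] n)) = _
      rw [LinearMap.lTensor_tmul, LinearMap.rTensor_tmul]
      rfl
    | add e e' h h' => rw [map_add, map_add, h, h']
  | add z z' h h' => rw [map_add, map_add, LinearMap.add_apply, LinearMap.add_apply, h, h']

end ActHom

section Proj

variable {k : Type u} [Field k] {R : Type u} [CommRing R] [Algebra k R] (𝒜 : ℤ → Submodule k R)
  [GradedAlgebra 𝒜]
  {M : Type u} [AddCommGroup M] [Module R M] [Module k M] [IsScalarTower k R M]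
  {τ : Type u} [SetLike τ M] [AddSubgroupClass τ M] (ℳ : ℤ → τ) [DirectSum.Decomposition ℳ]
  [SetLike.GradedSMul 𝒜 ℳ]

/-- projection onto the degree `n` component, as a `k`-linear endomorphism -/
noncomputable def proj (n : ℤ) : M →ₗ[k] M := (pieceSub 𝒜 ℳ n).subtype ∘ₗ componentMap 𝒜 ℳ n

theorem proj_apply (n : ℤ) (x : M) :
    proj 𝒜 ℳ n x = ((DirectSum.decompose ℳ x n : ℳ n) : M) := rfl

theorem proj_of_mem {n : ℤ} {x : M} (hx : x ∈ ℳ n) : proj 𝒜 ℳ n x = x := by
  rw [proj_apply, DirectSum.decompose_of_mem_same ℳ hx]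

theorem proj_mem (n : ℤ) (x : M) : proj 𝒜 ℳ n x ∈ ℳ n := by
  rw [proj_apply]; exact SetLike.coe_mem _

/-- components of `r • x` for homogeneous `x` -/
theorem proj_smul_of_mem {j : ℤ} {x : M} (hx : x ∈ ℳ j) (n : ℤ) (r : R) :
    proj 𝒜 ℳ n (r • x) = (proj 𝒜 𝒜 (n - j) r) • x := by
  classical
  induction r using DirectSum.Decomposition.inductionOn 𝒜 with
  | zero => simp
  | @homogeneous c r =>
    have hrx : (r : R) • x ∈ ℳ (c + j) := smul_mem_piece 𝒜 ℳ r.2 hx
    by_cases hc : c = n - j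
    · subst hc
      rw [proj_of_mem 𝒜 𝒜 r.2]
      have e : n - j + j = n := by ring
      rw [e] at hrx
      exact proj_of_mem 𝒜 ℳ hrx
    · rw [proj_apply, proj_apply, DirectSum.decompose_of_mem_ne ℳ hrx (by omega),
        DirectSum.decompose_of_mem_ne 𝒜 r.2 hc, zero_smul]
  | add r r' h h' =>
    rw [add_smul, map_add, map_add, add_smul, h, h']

end Proj

section Key

/-- **Key finiteness lemma**: among any family `H₀` of homogeneous elements of a Segre module `M # N`
(`M`, `N` finitely generated over finite type `k`-algebras) there are finitely many `e ∈ H₀` such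
that every `q ∈ H₀` of degree `n` is a combination `∑ t_e • e` with `t_e ∈ T_{n - deg e}`. -/
theorem exists_finset_homogeneous_generators (k : Type u) [Field k] (R : Type u) [CommRing R]
    [Algebra k R] (𝒜 : ℤ → Submodule k R) [GradedAlgebra 𝒜] [Algebra.FiniteType k R]
    (S : Type u) [CommRing S] [Algebra k S] (ℬ : ℤ → Submodule k S) [GradedAlgebra ℬ]
    [Algebra.FiniteType k S] (T : Type u) [CommRing T] [Algebra k T] (𝒯 : ℤ → Submodule k T)
    [GradedAlgebra 𝒯] (ψ : T →ₐ[k] R ⊗[k] S) (hT : GrSeg.IsSegreRing 𝒜 ℬ 𝒯 ψ)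
    (M : Type u) [AddCommGroup M] [Module R M] [Module k M] [IsScalarTower k R M]
    {τM : Type u} [SetLike τM M] [AddSubgroupClass τM M] (ℳ : ℤ → τM)
    [DirectSum.Decomposition ℳ] [SetLike.GradedSMul 𝒜 ℳ] [Module.Finite R M]
    (N : Type u) [AddCommGroup N] [Module S N] [Module k N] [IsScalarTower k S N]
    {τN : Type u} [SetLike τN N] [AddSubgroupClass τN N] (𝒩 : ℤ → τN)
    [DirectSum.Decomposition 𝒩] [SetLike.GradedSMul ℬ 𝒩] [Module.Finite S N]
    (P : Type u) [AddCommGroup P] [Module T P] [Module k P] [IsScalarTower k T P]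
    {τQ : Type u} [SetLike τQ P] [AddSubgroupClass τQ P] (𝒬 : ℤ → τQ)
    [DirectSum.Decomposition 𝒬] (φ : P →ₗ[k] M ⊗[k] N) (hP : GrSeg.IsSegreMod ψ ℳ 𝒩 𝒬 φ)
    (H₀ : Set P) (d : P → ℤ) (hH₀ : ∀ p ∈ H₀, p ∈ 𝒬 (d p)) :
    ∃ G : Finset P, (G : Set P) ⊆ H₀ ∧
      ∀ (n : ℤ) (q : P), q ∈ 𝒬 n → q ∈ H₀ →
        ∃ t : P → T, (∀ e ∈ G, t e ∈ 𝒯 (n - d e)) ∧ q = ∑ e ∈ G, t e • e := by
  classical
  let PrE : ℤ → (M ⊗[k] N →ₗ[k] M ⊗[k] N) := fun n => TensorProduct.map (proj 𝒜 ℳ n) (proj ℬ 𝒩 n)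
  let PrA : ℤ → (R ⊗[k] S →ₗ[k] R ⊗[k] S) := fun c => TensorProduct.map (proj 𝒜 𝒜 c) (proj ℬ ℬ c)
  have hPrE_id : ∀ n : ℤ, ∀ e ∈ GrSeg.segrePiece k ℳ 𝒩 n, PrE n e = e := by
    intro n e he
    induction he using Submodule.span_induction with
    | mem e he =>
      obtain ⟨x, hx, y, hy, rfl⟩ := he
      show (proj 𝒜 ℳ n x) ⊗ₜ[k] (proj ℬ 𝒩 n y) = x ⊗ₜ[k] y
      rw [proj_of_mem 𝒜 ℳ hx, proj_of_mem ℬ 𝒩 hy]
    | zero => exact map_zero _
    | add e e' _ _ h h' => rw [map_add, h, h']
    | smul c e _ h => rw [map_smul, h]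
  have hPrA_mem : ∀ (c : ℤ) (z : R ⊗[k] S), PrA c z ∈ GrSeg.segrePiece k 𝒜 ℬ c := by
    intro c z
    induction z using TensorProduct.induction_on with
    | zero => rw [map_zero]; exact zero_mem _
    | tmul r s => exact tmul_mem_segrePiece (k := k) (proj_mem 𝒜 𝒜 c r) (proj_mem ℬ ℬ c s)
    | add z z' h h' => rw [map_add]; exact add_mem h h'
  have hPract : ∀ (n j : ℤ) (z : R ⊗[k] S), ∀ e ∈ GrSeg.segrePiece k ℳ 𝒩 j,
      PrE n (GrSeg.act k R S M N z e) = GrSeg.act k R S M N (PrA (n - j) z) e := by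
    intro n j z e he
    induction z using TensorProduct.induction_on with
    | zero => simp
    | tmul r s =>
      induction he using Submodule.span_induction with
      | mem e he =>
        obtain ⟨x, hx, y, hy, rfl⟩ := he
        rw [GrSeg.act_tmul]
        show (proj 𝒜 ℳ n (r • x)) ⊗ₜ[k] (proj ℬ 𝒩 n (s • y)) =
          GrSeg.act k R S M N ((proj 𝒜 𝒜 (n - j) r) ⊗ₜ[k] (proj ℬ ℬ (n - j) s)) (x ⊗ₜ[k] y)
        rw [GrSeg.act_tmul, proj_smul_of_mem 𝒜 ℳ hx, proj_smul_of_mem ℬ 𝒩 hy]
      | zero => simp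
      | add e e' _ _ h h' => rw [map_add, map_add, map_add, h, h']
      | smul c e _ h => rw [map_smul, map_smul, map_smul, h]
    | add z z' h h' =>
      rw [map_add, LinearMap.add_apply, map_add, map_add, map_add, LinearMap.add_apply, h, h']
  let modA : Module (R ⊗[k] S) (M ⊗[k] N) :=
    Module.compHom (M ⊗[k] N) (actHom k R S M N : R ⊗[k] S →+* Module.End k (M ⊗[k] N))
  have hsmulA : ∀ (z : R ⊗[k] S) (e : M ⊗[k] N), z • e = GrSeg.act k R S M N z e :=
    fun z e => actHom_eq k R S M N z e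
  have : Algebra.FiniteType k (R ⊗[k] S) :=
    Algebra.FiniteType.trans (S := R) inferInstance inferInstance
  have : IsNoetherianRing (R ⊗[k] S) := Algebra.FiniteType.isNoetherianRing k (R ⊗[k] S)
  obtain ⟨GM, hGM⟩ := (Module.Finite.fg_top : (⊤ : Submodule R M).FG)
  obtain ⟨GN, hGN⟩ := (Module.Finite.fg_top : (⊤ : Submodule S N).FG)
  have hEfin : Module.Finite (R ⊗[k] S) (M ⊗[k] N) := by
    refine ⟨⟨Finset.image₂ (fun x y => x ⊗ₜ[k] y) GM GN, ?_⟩⟩
    rw [eq_top_iff]
    suffices hall : ∀ e : M ⊗[k] N, e ∈ Submodule.span (R ⊗[k] S)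
        ((Finset.image₂ (fun x y => x ⊗ₜ[k] y) GM GN : Finset (M ⊗[k] N)) : Set (M ⊗[k] N)) from
      fun e _ => hall e
    intro e
    induction e using TensorProduct.induction_on with
    | zero => exact zero_mem _
    | tmul x y =>
      have hx : x ∈ Submodule.span R (GM : Set M) := by rw [hGM]; trivial
      have hy : y ∈ Submodule.span S (GN : Set N) := by rw [hGN]; trivial
      induction hx using Submodule.span_induction with
      | mem x hx =>
        induction hy using Submodule.span_induction with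
        | mem y hy =>
          apply Submodule.subset_span
          rw [Finset.coe_image₂]
          exact ⟨x, hx, y, hy, rfl⟩
        | zero => rw [TensorProduct.tmul_zero]; exact zero_mem _
        | add y y' _ _ h h' => rw [TensorProduct.tmul_add]; exact add_mem h h'
        | smul s y _ h =>
          have : x ⊗ₜ[k] (s • y) = ((1 : R) ⊗ₜ[k] s) • (x ⊗ₜ[k] y) := by
            rw [hsmulA, GrSeg.act_tmul, one_smul]
          rw [this]
          exact Submodule.smul_mem _ _ h
      | zero => rw [TensorProduct.zero_tmul]; exact zero_mem _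
      | add x x' _ _ h h' => rw [TensorProduct.add_tmul]; exact add_mem h h'
      | smul r x _ h =>
        have : (r • x) ⊗ₜ[k] y = (r ⊗ₜ[k] (1 : S)) • (x ⊗ₜ[k] y) := by
          rw [hsmulA, GrSeg.act_tmul, one_smul]
        rw [this]
        exact Submodule.smul_mem _ _ h
    | add e e' h h' => exact add_mem h h'
  have : IsNoetherian (R ⊗[k] S) (M ⊗[k] N) := isNoetherian_of_isNoetherianRing_of_finite _ _
  have hfg : (Submodule.span (R ⊗[k] S) (φ '' H₀)).FG := IsNoetherian.noetherian _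
  obtain ⟨s', hs'sub, hs'span⟩ := (Submodule.fg_span_iff_fg_span_finset_subset _).mp hfg
  have hGenfin : (φ ⁻¹' (s' : Set (M ⊗[k] N))).Finite :=
    Set.Finite.preimage (hP.injective.injOn) s'.finite_toSet
  set G : Finset P := hGenfin.toFinset with hG
  have hGmem : ∀ e : P, e ∈ G ↔ φ e ∈ s' := by
    intro e
    rw [hG, Set.Finite.mem_toFinset, Set.mem_preimage, Finset.mem_coe]
  have hGH₀ : ∀ e ∈ G, e ∈ H₀ := by
    intro e he
    obtain ⟨p, hp, hpe⟩ := hs'sub ((hGmem e).mp he)
    rw [← hP.injective hpe]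
    exact hp
  have hGimage : G.image φ = s' := by
    ext e'
    rw [Finset.mem_image]
    constructor
    · rintro ⟨e, he, rfl⟩
      exact (hGmem e).mp he
    · intro he'
      obtain ⟨p, _, hpe⟩ := hs'sub he'
      exact ⟨p, (hGmem p).mpr (hpe ▸ he'), hpe⟩
  have hd : ∀ e ∈ G, e ∈ 𝒬 (d e) := fun e he => hH₀ e (hGH₀ e he)
  refine ⟨G, fun e he => hGH₀ e (Finset.mem_coe.mp he), ?_⟩
  intro n q hqn hqH
  have hφq : φ q ∈ Submodule.span (R ⊗[k] S) ((s' : Finset (M ⊗[k] N)) : Set (M ⊗[k] N)) := by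
    rw [← hs'span]
    exact Submodule.subset_span ⟨q, hqH, rfl⟩
  obtain ⟨f, _, hf⟩ := Submodule.mem_span_finset.mp hφq
  have hterm : ∀ e ∈ G, ∃ t : T, t ∈ 𝒯 (n - d e) ∧ φ (t • e) = PrE n (f (φ e) • φ e) := by
    intro e he
    have he' : φ e ∈ GrSeg.segrePiece k ℳ 𝒩 (d e) := (mem_piece_iff hP).mp (hd e he)
    obtain ⟨t, ht, htψ⟩ := exists_psi_eq_tmul hT (hPrA_mem (n - d e) (f (φ e)))
    refine ⟨t, ht, ?_⟩
    rw [hP.map_smul, htψ, hsmulA, hPract n (d e) (f (φ e)) (φ e) he']
  choose! t ht1 ht2 using hterm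
  refine ⟨t, ht1, ?_⟩
  apply hP.injective
  rw [map_sum, ← hPrE_id n (φ q) ((mem_piece_iff hP).mp hqn), ← hf, map_sum, ← hGimage,
    Finset.sum_image (fun x _ y _ h => hP.injective h)]
  exact Finset.sum_congr rfl (fun e he => (ht2 e he).symm)

end Key

end Groth.Agent.Lib.Helper99.SegreFin
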