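import Groth.Agent.Lib.Helper75.ComodRestr
import Groth.Prelude.Def_W4c3ghconstell

/-!
# Isotypic components, subcomodules of Hopf modules and weights (helper99)

Infrastructure for the θ-stability statements on constellations (`W4c3ghconstell`).
Builds on helper75's comodule library (`act`, `cf`, `isSubcomod_iff`, simple subcomodules).
-/

set_option autoImplicit false
universe u v w x

open TensorProduct

namespace Groth.Agent.Lib.Helper99.Constell

open Groth.Agent.Lib.Helper75 W4c3ghconstell

section Coalg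

variable {k : Type u} [Field k] {A : Type v} [AddCommGroup A] [Module k A] [Coalgebra k A]
variable {M : Type x} [AddCommGroup M] [Module k M] [HopfRep.Comod k A M]

theorem mem_isoComp_iff (D : Submodule k A) (m : M) :
    m ∈ isoComp (k := k) (A := A) M D ↔ ∀ φ : M →ₗ[k] k, cf (A := A) φ m ∈ D := by
  unfold isoComp
  rw [Submodule.mem_comap, mem_range_lTensor_iff]
  rfl

theorem isSubcoalg_iff_helper75 (D : Submodule k A) :
    W4c3ghconstell.IsSubcoalg k A D ↔ Groth.Agent.Lib.Helper75.IsSubcoalg D := Iff.rfl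

/-- the isotypic component for a subcoalgebra is a subcomodule -/
theorem isSubcomod_isoComp {D : Submodule k A} (hD : W4c3ghconstell.IsSubcoalg k A D) :
    HopfRep.IsSubcomod (k := k) (A := A) (isoComp (k := k) (A := A) M D) := by
  rw [isSubcomod_iff]
  intro f m hm
  rw [mem_isoComp_iff] at hm ⊢
  intro φ
  rw [← hitR_cf]
  exact ((isSubcoalg_iff D).1 hD).1 f _ (hm φ)

theorem isSubcomod_inf {W₁ W₂ : Submodule k M} (h₁ : HopfRep.IsSubcomod (k := k) (A := A) W₁)
    (h₂ : HopfRep.IsSubcomod (k := k) (A := A) W₂) :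
    HopfRep.IsSubcomod (k := k) (A := A) (W₁ ⊓ W₂) := by
  rw [isSubcomod_iff] at h₁ h₂ ⊢
  intro f m hm
  exact ⟨h₁ f m hm.1, h₂ f m hm.2⟩

omit [Coalgebra k A] [HopfRep.Comod k A M] in
/-- monotonicity of the range of `W ⊗ A → M ⊗ A` in `W` -/
theorem range_rTensor_mono {W₁ W₂ : Submodule k M} (h : W₁ ≤ W₂) :
    LinearMap.range (W₁.subtype.rTensor A) ≤ LinearMap.range (W₂.subtype.rTensor A) := by
  intro z hz
  rw [mem_range_rTensor_iff] at hz ⊢
  intro f
  exact h (hz f)

attribute [local instance] comodModule in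
/-- a nonzero subcomodule meets the isotypic component of some simple subcoalgebra -/
theorem exists_simpSub_inf_isoComp_ne_bot (N : Submodule k M)
    (hN : HopfRep.IsSubcomod (k := k) (A := A) N) (hN0 : N ≠ ⊥) :
    ∃ D : SimpSub k A, N ⊓ isoComp (k := k) (A := A) M D.1 ≠ ⊥ := by
  have hN0' : toDualSubmodule N hN ≠ ⊥ := by
    intro h
    apply hN0
    rw [← toDualSubmodule_restrictScalars N hN, h, Submodule.restrictScalars_bot]
  obtain ⟨S, hSN, hSs⟩ := exists_simple_le (toDualSubmodule N hN) hN0'
  let W : Submodule k M := S.restrictScalars k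
  have hW : HopfRep.IsSubcomod (k := k) (A := A) W := isSubcomod_restrictScalars S
  have hS' : toDualSubmodule W hW = S := toDualSubmodule_restrictScalars' S
  have hs : IsSimpleModule (DualAlg k A) (toDualSubmodule W hW) := by rw [hS']; exact hSs
  let _ := restrComod W hW
  have hsc : HopfRep.IsSimpleComod k A W := isSimpleComod_restr W hW hs
  have hsm : IsSimpleModule (DualAlg k A) W := isSimpleComod_iff.1 hsc
  have hnt : Nontrivial W := hsc.1
  let D : Submodule k A := coeffSpace A W
  have hDtop : coeffSpace A (⊤ : Submodule k W) = D := coeffSpace_restr_top W hW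
  have hDsub : Groth.Agent.Lib.Helper75.IsSubcoalg D := isSubcoalg_coeffSpace W hW
  have hD0 : D ≠ ⊥ := by
    rw [← hDtop]
    exact coeffSpace_top_ne_bot
  have hDsimple : IsSimpleSubcoalg k A D := by
    refine ⟨hD0, hDsub, ?_⟩
    intro B hBD hB
    by_cases hB0 : B = ⊥
    · exact Or.inl hB0
    · right
      rw [← hDtop]
      exact eq_coeffSpace_of_isSubcoalg_le (V := W) hB hB0 (by rw [hDtop]; exact hBD)
  refine ⟨⟨D, hDsimple⟩, ?_⟩
  have hWD : W ≤ isoComp (k := k) (A := A) M D := by
    intro m hm
    exact coact_mem_range_coeffSpace W hm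
  have hWN : W ≤ N := fun m hm => hSN hm
  have hW0 : W ≠ ⊥ := by
    intro h
    obtain ⟨⟨a, ha⟩, ⟨b, hb⟩, hab⟩ := hnt
    apply hab
    rw [h, Submodule.mem_bot] at ha hb
    exact Subtype.ext (ha.trans hb.symm)
  intro h
  apply hW0
  rw [eq_bot_iff, ← h]
  exact le_inf hWN hWD

end Coalg


section HopfMod

variable {k : Type u} [Field k] {A : Type v} [CommRing A] [Bialgebra k A]
variable {R : Type w} [CommRing R] [Algebra k R]
variable {M : Type x} [AddCommGroup M] [Module k M] [Module R M] [IsScalarTower k R M]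

theorem hmSMul_hmSMul (t t' : R ⊗[k] A) (z : M ⊗[k] A) :
    TameAct.hmSMul k A R M t (TameAct.hmSMul k A R M t' z) = TameAct.hmSMul k A R M (t * t') z := by
  induction z using TensorProduct.induction_on with
  | zero => simp
  | add z₁ z₂ h₁ h₂ => simp only [map_add, h₁, h₂]
  | tmul m a =>
    induction t using TensorProduct.induction_on with
    | zero => simp
    | add t₁ t₂ h₁ h₂ => simp only [map_add, LinearMap.add_apply, add_mul, h₁, h₂]
    | tmul r b =>
      induction t' using TensorProduct.induction_on with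
      | zero => simp
      | add t₁ t₂ h₁ h₂ => simp only [map_add, LinearMap.add_apply, mul_add, h₁, h₂]
      | tmul r' b' =>
        simp [TameAct.hmSMul_tmul, Algebra.TensorProduct.tmul_mul_tmul, mul_smul, mul_assoc]

theorem hmSMul_one (z : M ⊗[k] A) : TameAct.hmSMul k A R M 1 z = z := by
  rw [Algebra.TensorProduct.one_def]
  induction z using TensorProduct.induction_on with
  | zero => simp
  | add z₁ z₂ h₁ h₂ => simp only [map_add, h₁, h₂]
  | tmul m a => simp [TameAct.hmSMul_tmul]

/-- contracting `t · (W ⊗ A)` lands in any `R`-submodule containing `W` -/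
theorem contractR_hmSMul_rTensor_mem (g : A →ₗ[k] k) (t : R ⊗[k] A) (W : Submodule k M)
    (N : Submodule R M) (hWN : W ≤ N.restrictScalars k) (y : W ⊗[k] A) :
    contractR M g (TameAct.hmSMul k A R M t (W.subtype.rTensor A y)) ∈ N := by
  induction y using TensorProduct.induction_on with
  | zero => simp
  | add y₁ y₂ h₁ h₂ =>
    rw [map_add, map_add, map_add]
    exact N.add_mem h₁ h₂
  | tmul m a =>
    induction t using TensorProduct.induction_on with
    | zero => simp
    | add t₁ t₂ h₁ h₂ =>
      rw [map_add, LinearMap.add_apply, map_add]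
      exact N.add_mem h₁ h₂
    | tmul r b =>
      rw [LinearMap.rTensor_tmul, TameAct.hmSMul_tmul, contractR_tmul]
      have hm : (m : M) ∈ N := hWN m.2
      have : g (b * a) • r • (m : M) = (g (b * a) • r) • (m : M) := by
        rw [smul_assoc]
      rw [Submodule.subtype_apply, this]
      exact N.smul_mem _ hm

variable [HopfRep.Comod k A R] [HopfRep.Comod k A M] [TameAct.IsHopfMod k A R M]

/-- The `R`-span of a set whose coaction lands in `(span) ⊗ A` is a subcomodule. -/
theorem isSubcomod_span (s : Set M)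
    (hs : ∀ m ∈ s, coactMap k A M m ∈
      LinearMap.range (((Submodule.span R s).restrictScalars k).subtype.rTensor A)) :
    HopfRep.IsSubcomod (k := k) (A := A) ((Submodule.span R s).restrictScalars k) := by
  rw [isSubcomod_iff]
  intro g m hm
  rw [Submodule.restrictScalars_mem] at hm ⊢
  suffices h : ∀ t : R ⊗[k] A,
      contractR M g (TameAct.hmSMul k A R M t (coactMap k A M m)) ∈ Submodule.span R s by
    have := h 1
    rwa [hmSMul_one] at this
  induction hm using Submodule.span_induction with
  | mem m hm =>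
    intro t
    obtain ⟨y, hy⟩ := hs m hm
    rw [← hy]
    exact contractR_hmSMul_rTensor_mem g t _ _ le_rfl y
  | zero => intro t; rw [map_zero, map_zero, map_zero]; exact Submodule.zero_mem _
  | add m₁ m₂ _ _ h₁ h₂ =>
    intro t
    rw [map_add, map_add, map_add]
    exact Submodule.add_mem _ (h₁ t) (h₂ t)
  | smul a m _ hm =>
    intro t
    have : coactMap k A M (a • m) =
        TameAct.hmSMul k A R M (coactMap k A R a) (coactMap k A M m) :=
      TameAct.IsHopfMod.coact_smul (k := k) (A := A) a m
    rw [this, hmSMul_hmSMul]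
    exact hm _

/-- `genIn S N` is a subcomodule when `N` is. -/
theorem isSubcomod_genIn (S : Set (SimpSub k A)) (N : Submodule R M)
    (hN : HopfRep.IsSubcomod (k := k) (A := A) (N.restrictScalars k)) :
    HopfRep.IsSubcomod (k := k) (A := A) ((genIn k A R M S N).restrictScalars k) := by
  unfold genIn
  apply isSubcomod_span
  intro m hm
  simp only [Set.mem_iUnion] at hm
  obtain ⟨D, hD, hmD⟩ := hm
  have hsub : HopfRep.IsSubcomod (k := k) (A := A)
      (N.restrictScalars k ⊓ isoComp (k := k) (A := A) M D.1) :=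
    isSubcomod_inf hN (isSubcomod_isoComp D.2.2.1)
  have h1 := hsub m hmD
  refine range_rTensor_mono ?_ h1
  intro m' hm'
  rw [Submodule.restrictScalars_mem]
  apply Submodule.subset_span
  simp only [Set.mem_iUnion]
  exact ⟨D, hD, hm'⟩

omit [HopfRep.Comod k A R] [TameAct.IsHopfMod k A R M] in
theorem genIn_le (S : Set (SimpSub k A)) (N : Submodule R M) : genIn k A R M S N ≤ N := by
  unfold genIn
  apply Submodule.span_le.2
  intro m hm
  simp only [Set.mem_iUnion] at hm
  obtain ⟨D, _, hmD⟩ := hm
  exact hmD.1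

omit [HopfRep.Comod k A R] [TameAct.IsHopfMod k A R M] in
theorem inf_isoComp_le_genIn {S : Set (SimpSub k A)} (N : Submodule R M) {D : SimpSub k A}
    (hD : D ∈ S) :
    N.restrictScalars k ⊓ isoComp (k := k) (A := A) M D.1 ≤ (genIn k A R M S N).restrictScalars k := by
  intro m hm
  rw [Submodule.restrictScalars_mem]
  apply Submodule.subset_span
  simp only [Set.mem_iUnion]
  exact ⟨D, hD, hm⟩

omit [HopfRep.Comod k A R] [TameAct.IsHopfMod k A R M] in
theorem genIn_genIn (S : Set (SimpSub k A)) (N : Submodule R M) :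
    genIn k A R M S (genIn k A R M S N) = genIn k A R M S N := by
  apply le_antisymm (genIn_le S _)
  conv_lhs => unfold genIn
  apply Submodule.span_le.2
  intro m hm
  simp only [Set.mem_iUnion] at hm
  obtain ⟨D, hD, hmD⟩ := hm
  apply Submodule.subset_span
  simp only [Set.mem_iUnion]
  exact ⟨D, hD, ⟨inf_isoComp_le_genIn N hD hmD, hmD.2⟩⟩

end HopfMod


section Sums

variable {k : Type u} [Field k] {A : Type v} [AddCommGroup A] [Module k A] [Coalgebra k A]
variable {M : Type x} [AddCommGroup M] [Module k M] [HopfRep.Comod k A M]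

theorem hilbAt_mono {N N' : Submodule k M} (hNN' : N ≤ N') (D : SimpSub k A)
    [Module.Finite k ↥(isoComp (k := k) (A := A) M D.1)] :
    hilbAt M N D ≤ hilbAt M N' D := by
  unfold hilbAt
  have hfin : Module.Finite k ↥(N' ⊓ isoComp (k := k) (A := A) M D.1) :=
    Module.Finite.of_injective (Submodule.inclusion inf_le_right) (Submodule.inclusion_injective _)
  exact Submodule.finrank_mono (inf_le_inf_right _ hNN')

theorem hilbAt_top (D : SimpSub k A) :
    hilbAt M (⊤ : Submodule k M) D = Module.finrank k ↥(isoComp (k := k) (A := A) M D.1) := by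
  unfold hilbAt
  rw [top_inf_eq]

theorem hilbAt_bot (D : SimpSub k A) : hilbAt M (⊥ : Submodule k M) D = 0 := by
  unfold hilbAt
  rw [bot_inf_eq]
  exact finrank_bot k M

theorem hilbAt_le_top (N : Submodule k M) (D : SimpSub k A)
    [Module.Finite k ↥(isoComp (k := k) (A := A) M D.1)] :
    hilbAt M N D ≤ Module.finrank k ↥(isoComp (k := k) (A := A) M D.1) := by
  rw [← hilbAt_top]
  exact hilbAt_mono le_top D

theorem hilbAt_eq_of_le {N : Submodule k M} (D : SimpSub k A)
    (h : isoComp (k := k) (A := A) M D.1 ≤ N) :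
    hilbAt M N D = Module.finrank k ↥(isoComp (k := k) (A := A) M D.1) := by
  unfold hilbAt
  rw [inf_eq_right.2 h]

theorem hilbAt_eq_zero_iff (N : Submodule k M) (D : SimpSub k A)
    [Module.Finite k ↥(isoComp (k := k) (A := A) M D.1)] :
    hilbAt M N D = 0 ↔ N ⊓ isoComp (k := k) (A := A) M D.1 = ⊥ := by
  unfold hilbAt
  have hfin : Module.Finite k ↥(N ⊓ isoComp (k := k) (A := A) M D.1) :=
    Module.Finite.of_injective (Submodule.inclusion inf_le_right) (Submodule.inclusion_injective _)
  exact Submodule.finrank_eq_zero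

/-- if the `D`-part of `N` has full dimension then `N` contains the isotypic component -/
theorem isoComp_le_of_hilbAt_eq (N : Submodule k M) (D : SimpSub k A)
    [Module.Finite k ↥(isoComp (k := k) (A := A) M D.1)]
    (h : hilbAt M N D = Module.finrank k ↥(isoComp (k := k) (A := A) M D.1)) :
    isoComp (k := k) (A := A) M D.1 ≤ N := by
  unfold hilbAt at h
  have := Submodule.eq_of_le_of_finrank_eq (inf_le_right : N ⊓ isoComp (k := k) (A := A) M D.1 ≤ _) h
  rw [inf_eq_right] at this
  exact this

variable (hfinC : ∀ D : SimpSub k A, Module.Finite k ↥(isoComp (k := k) (A := A) M D.1))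
variable {h : SimpSub k A → ℕ}
variable (hh : ∀ D : SimpSub k A, Module.finrank k ↥(isoComp (k := k) (A := A) M D.1) = h D)
variable {θ : SimpSub k A → ℚ}

include hfinC hh in
theorem hilbAt_le_h (N : Submodule k M) (D : SimpSub k A) : hilbAt M N D ≤ h D := by
  have := hfinC D
  rw [← hh D]
  exact hilbAt_le_top N D

include hfinC hh in
theorem summable_theta_terms (hsum : Summable (fun D => (θ D : ℝ) * (h D : ℝ))) (N : Submodule k M) :
    Summable (fun D => (θ D : ℝ) * (hilbAt M N D : ℝ)) := by
  refine Summable.of_norm_bounded (g := fun D => |(θ D : ℝ) * (h D : ℝ)|) hsum.abs ?_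
  intro D
  rw [Real.norm_eq_abs, abs_mul, abs_mul]
  apply mul_le_mul_of_nonneg_left _ (abs_nonneg _)
  rw [abs_of_nonneg (Nat.cast_nonneg _), abs_of_nonneg (Nat.cast_nonneg _)]
  exact_mod_cast hilbAt_le_h hfinC hh N D

include hh in
theorem theta_top (hsum : HasSum (fun D => (θ D : ℝ) * (h D : ℝ)) 0) :
    theta M θ (⊤ : Submodule k M) = 0 := by
  unfold theta
  have : (fun D : SimpSub k A => (θ D : ℝ) * (hilbAt M (⊤ : Submodule k M) D : ℝ)) =
      fun D => (θ D : ℝ) * (h D : ℝ) := by
    funext D
    rw [hilbAt_top, hh D]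
  rw [this]
  exact hsum.tsum_eq

theorem theta_bot : theta M θ (⊥ : Submodule k M) = 0 := by
  unfold theta
  have : (fun D : SimpSub k A => (θ D : ℝ) * (hilbAt M (⊥ : Submodule k M) D : ℝ)) = fun _ => 0 := by
    funext D
    rw [hilbAt_bot]
    simp
  rw [this]
  exact tsum_zero

include hfinC hh in
/-- termwise comparison of weights -/
theorem theta_le_theta (hsum : Summable (fun D => (θ D : ℝ) * (h D : ℝ))) {N N' : Submodule k M}
    (hle : ∀ D, (θ D : ℝ) * (hilbAt M N D : ℝ) ≤ (θ D : ℝ) * (hilbAt M N' D : ℝ)) :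
    theta M θ N ≤ theta M θ N' := by
  unfold theta
  exact (summable_theta_terms hfinC hh hsum N).tsum_le_tsum hle (summable_theta_terms hfinC hh hsum N')

include hfinC hh in
/-- equality of weights with termwise comparison forces termwise equality -/
theorem terms_eq_of_theta_eq (hsum : Summable (fun D => (θ D : ℝ) * (h D : ℝ))) {N N' : Submodule k M}
    (hle : ∀ D, (θ D : ℝ) * (hilbAt M N D : ℝ) ≤ (θ D : ℝ) * (hilbAt M N' D : ℝ))
    (heq : theta M θ N' ≤ theta M θ N) (D : SimpSub k A) :
    (θ D : ℝ) * (hilbAt M N D : ℝ) = (θ D : ℝ) * (hilbAt M N' D : ℝ) := by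
  by_contra hne
  have hlt : (θ D : ℝ) * (hilbAt M N D : ℝ) < (θ D : ℝ) * (hilbAt M N' D : ℝ) :=
    lt_of_le_of_ne (hle D) hne
  have := (summable_theta_terms hfinC hh hsum N).tsum_lt_tsum hle hlt
    (summable_theta_terms hfinC hh hsum N')
  unfold theta at heq
  exact absurd this (not_lt.2 heq)

include hfinC hh in
/-- a weight with nonnegative terms and one positive term is positive -/
theorem theta_pos (hsum : Summable (fun D => (θ D : ℝ) * (h D : ℝ))) {N : Submodule k M}
    (hnn : ∀ D, 0 ≤ (θ D : ℝ) * (hilbAt M N D : ℝ)) (D : SimpSub k A)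
    (hD : 0 < (θ D : ℝ) * (hilbAt M N D : ℝ)) : 0 < theta M θ N := by
  unfold theta
  exact (summable_theta_terms hfinC hh hsum N).tsum_pos hnn D hD

theorem theta_nonneg {N : Submodule k M}
    (hnn : ∀ D, 0 ≤ (θ D : ℝ) * (hilbAt M N D : ℝ)) : 0 ≤ theta M θ N := by
  unfold theta
  exact tsum_nonneg hnn

end Sums


section GenInSums

variable {k : Type u} [Field k] {A : Type v} [AddCommGroup A] [Module k A] [Coalgebra k A]
variable {R : Type w} [CommRing R] [Algebra k R]
variable {M : Type x} [AddCommGroup M] [Module k M] [Module R M] [IsScalarTower k R M]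
  [HopfRep.Comod k A M]

theorem genIn_le' (S : Set (SimpSub k A)) (N : Submodule R M) : genIn k A R M S N ≤ N := by
  unfold genIn
  apply Submodule.span_le.2
  intro m hm
  simp only [Set.mem_iUnion] at hm
  obtain ⟨D, _, hmD⟩ := hm
  exact hmD.1

theorem inf_isoComp_le_genIn' {S : Set (SimpSub k A)} (N : Submodule R M) {D : SimpSub k A}
    (hD : D ∈ S) :
    N.restrictScalars k ⊓ isoComp (k := k) (A := A) M D.1 ≤ (genIn k A R M S N).restrictScalars k := by
  intro m hm
  rw [Submodule.restrictScalars_mem]
  apply Submodule.subset_span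
  simp only [Set.mem_iUnion]
  exact ⟨D, hD, hm⟩

/-- termwise comparison of the weight of `genIn {θ < 0} N` with that of `N` -/
theorem terms_genIn_le (θ : SimpSub k A → ℚ) (N : Submodule R M) (D : SimpSub k A)
    [Module.Finite k ↥(isoComp (k := k) (A := A) M D.1)] :
    (θ D : ℝ) * (hilbAt M ((genIn k A R M {D | θ D < 0} N).restrictScalars k) D : ℝ) ≤
      (θ D : ℝ) * (hilbAt M (N.restrictScalars k) D : ℝ) := by
  have hle : (genIn k A R M {D | θ D < 0} N).restrictScalars k ≤ N.restrictScalars k :=
    fun m hm => genIn_le' _ N hm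
  by_cases hD : θ D < 0
  · have : (genIn k A R M {D | θ D < 0} N).restrictScalars k ⊓ isoComp (k := k) (A := A) M D.1 =
        N.restrictScalars k ⊓ isoComp (k := k) (A := A) M D.1 := by
      apply le_antisymm (inf_le_inf_right _ hle)
      exact le_inf (inf_isoComp_le_genIn' N hD) inf_le_right
    unfold hilbAt
    rw [this]
  · have h0 : (0 : ℝ) ≤ (θ D : ℝ) := by exact_mod_cast not_lt.1 hD
    apply mul_le_mul_of_nonneg_left _ h0
    exact_mod_cast hilbAt_mono hle D

/-- if `genIn {θ < 0} N = ⊥` then all terms of the weight of `N` are nonnegative -/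
theorem terms_nonneg_of_genIn_eq_bot (θ : SimpSub k A → ℚ) (N : Submodule R M)
    (hbot : genIn k A R M {D | θ D < 0} N = ⊥) (D : SimpSub k A) :
    0 ≤ (θ D : ℝ) * (hilbAt M (N.restrictScalars k) D : ℝ) := by
  by_cases hD : θ D < 0
  · have h1 := inf_isoComp_le_genIn' (k := k) (A := A) (R := R) N (S := {D | θ D < 0}) hD
    rw [hbot, Submodule.restrictScalars_bot, le_bot_iff] at h1
    unfold hilbAt
    rw [h1, finrank_bot]
    simp
  · have h0 : (0 : ℝ) ≤ (θ D : ℝ) := by exact_mod_cast not_lt.1 hD
    exact mul_nonneg h0 (Nat.cast_nonneg _)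

end GenInSums

end Groth.Agent.Lib.Helper99.Constell
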