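import Mathlib.CategoryTheory.Idempotents.Basic
import Mathlib.CategoryTheory.Limits.Shapes.Countable
import Mathlib.CategoryTheory.Limits.Shapes.Opposites.Kernels
import Mathlib.CategoryTheory.Limits.Shapes.Opposites.Products
import Mathlib.CategoryTheory.Preadditive.Opposite

/-!
# Countable products + kernels of split epis ⇒ idempotent complete (helper99)

Stacks project, Tag 05QV.
-/

set_option autoImplicit false
universe v u

open CategoryTheory CategoryTheory.Limits

namespace Groth.Agent.Lib.Helper99.CountableKaroubi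

variable {D : Type u} [Category.{v} D] [Preadditive D]

section

variable [HasCountableProducts D] {X : D} (e e' : X ⟶ X)

/-- The countable power of `X`. -/
noncomputable abbrev P (X : D) : D := ∏ᶜ (fun _ : ℕ => X)

/-- The map `Φ(a₀, a₁, …) = (e a₀ + e' a₁, e a₁ + e' a₂, …)`. -/
noncomputable def Phi : P X ⟶ P X :=
  Pi.lift (fun n => Pi.π (fun _ : ℕ => X) n ≫ e + Pi.π (fun _ : ℕ => X) (n + 1) ≫ e')

/-- Components of `Ψ`. -/
noncomputable def psiComp : ℕ → (P X ⟶ X)
  | 0 => Pi.π (fun _ : ℕ => X) 0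
  | (n + 1) => Pi.π (fun _ : ℕ => X) n ≫ e' + Pi.π (fun _ : ℕ => X) (n + 1) ≫ e

/-- The map `Ψ(a₀, a₁, …) = (a₀, e' a₀ + e a₁, e' a₁ + e a₂, …)`. -/
noncomputable def Psi : P X ⟶ P X := Pi.lift (psiComp e e')

variable {e e'}

theorem Phi_π (n : ℕ) : Phi e e' ≫ Pi.π (fun _ : ℕ => X) n =
    Pi.π (fun _ : ℕ => X) n ≫ e + Pi.π (fun _ : ℕ => X) (n + 1) ≫ e' := by
  simp [Phi]

theorem Psi_π (n : ℕ) : Psi e e' ≫ Pi.π (fun _ : ℕ => X) n = psiComp e e' n := by
  simp [Psi]

theorem Psi_Phi (he : e ≫ e = e) (he' : e' ≫ e' = e') (hee' : e ≫ e' = 0) (he'e : e' ≫ e = 0)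
    (hsum : e + e' = 𝟙 X) : Psi e e' ≫ Phi e e' = 𝟙 (P X) := by
  apply Pi.hom_ext
  intro n
  rw [Category.assoc, Phi_π, Preadditive.comp_add, ← Category.assoc, ← Category.assoc, Psi_π,
    Psi_π, Category.id_comp]
  cases n with
  | zero =>
    simp only [psiComp, Preadditive.add_comp, Category.assoc, he', hee', comp_zero, add_zero]
    rw [← Preadditive.comp_add, hsum, Category.comp_id]
  | succ n =>
    simp only [psiComp, Preadditive.add_comp, Category.assoc, he, he', hee', he'e, comp_zero,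
      add_zero, zero_add]
    rw [← Preadditive.comp_add, hsum, Category.comp_id]

/-- If `Φ` has a kernel, then `e` has a kernel. -/
theorem hasKernel_of_hasKernel_Phi (he : e ≫ e = e) (he' : e' ≫ e' = e') (hee' : e ≫ e' = 0)
    (he'e : e' ≫ e = 0) (hsum : e + e' = 𝟙 X) [HasKernel (Phi e e')] : HasKernel e := by
  set k := kernel.ι (Phi e e') with hk
  have hkΦ : ∀ n : ℕ, (k ≫ Pi.π (fun _ : ℕ => X) n) ≫ e +
      (k ≫ Pi.π (fun _ : ℕ => X) (n + 1)) ≫ e' = 0 := by
    intro n
    have := kernel.condition (Phi e e')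
    have h2 := congrArg (fun t => t ≫ Pi.π (fun _ : ℕ => X) n) this
    simp only [Category.assoc, Phi_π, zero_comp, Preadditive.comp_add] at h2
    simpa only [Category.assoc] using h2
  have h1 : ∀ n : ℕ, (k ≫ Pi.π (fun _ : ℕ => X) n) ≫ e = 0 := by
    intro n
    have := congrArg (fun t => t ≫ e) (hkΦ n)
    simpa only [Preadditive.add_comp, Category.assoc, he, he'e, comp_zero, add_zero,
      zero_comp] using this
  have h2 : ∀ n : ℕ, (k ≫ Pi.π (fun _ : ℕ => X) (n + 1)) ≫ e' = 0 := by
    intro n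
    have := congrArg (fun t => t ≫ e') (hkΦ n)
    simpa only [Preadditive.add_comp, Category.assoc, he', hee', comp_zero, zero_add,
      zero_comp] using this
  have h3 : ∀ n : ℕ, k ≫ Pi.π (fun _ : ℕ => X) (n + 1) = 0 := by
    intro n
    have : (k ≫ Pi.π (fun _ : ℕ => X) (n + 1)) ≫ (e + e') = 0 := by
      rw [Preadditive.comp_add, h1, h2, add_zero]
    rwa [hsum, Category.comp_id] at this
  -- the candidate lift
  let comp : ∀ {W : D} (g : W ⟶ X), ℕ → (W ⟶ X) := fun g n => if n = 0 then g else 0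
  have hlift : ∀ {W : D} (g : W ⟶ X), g ≫ e = 0 →
      Pi.lift (comp g) ≫ Phi e e' = 0 := by
    intro W g hg
    apply Pi.hom_ext
    intro n
    rw [Category.assoc, Phi_π, Preadditive.comp_add, ← Category.assoc, ← Category.assoc,
      Pi.lift_π, Pi.lift_π, zero_comp]
    cases n with
    | zero => simp [comp, hg]
    | succ n => simp [comp]
  refine ⟨⟨⟨KernelFork.ofι (k ≫ Pi.π (fun _ : ℕ => X) 0) (h1 0), ?_⟩⟩⟩
  refine KernelFork.IsLimit.ofι _ _
    (fun {W} g hg => kernel.lift (Phi e e') (Pi.lift (comp g)) (hlift g hg)) ?_ ?_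
  · intro W g hg
    rw [← Category.assoc, kernel.lift_ι, Pi.lift_π]
    simp [comp]
  · intro W g hg m hm
    rw [← cancel_mono (kernel.ι (Phi e e')), kernel.lift_ι]
    apply Pi.hom_ext
    intro n
    rw [Pi.lift_π, Category.assoc]
    cases n with
    | zero => simpa [comp] using hm
    | succ n =>
      rw [h3 n, comp_zero]
      simp [comp]

end

theorem isIdempotentComplete_of_countableProducts [HasCountableProducts D]
    (hk : ∀ ⦃X Y : D⦄ (f : X ⟶ Y), IsSplitEpi f → HasKernel f) : IsIdempotentComplete D := by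
  rw [Idempotents.isIdempotentComplete_iff_idempotents_have_kernels]
  intro X e he
  have he' : (𝟙 X - e) ≫ (𝟙 X - e) = 𝟙 X - e := by
    simp only [Preadditive.sub_comp, Preadditive.comp_sub, Category.id_comp, Category.comp_id, he,
      sub_self, sub_zero]
  have hee' : e ≫ (𝟙 X - e) = 0 := by
    simp only [Preadditive.comp_sub, Category.comp_id, he, sub_self]
  have he'e : (𝟙 X - e) ≫ e = 0 := by
    simp only [Preadditive.sub_comp, Category.id_comp, he, sub_self]
  have hsum : e + (𝟙 X - e) = 𝟙 X := by abel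
  have : HasKernel (Phi e (𝟙 X - e)) :=
    hk _ (IsSplitEpi.mk' ⟨Psi e (𝟙 X - e), Psi_Phi he he' hee' he'e hsum⟩)
  exact hasKernel_of_hasKernel_Phi he he' hee' he'e hsum

theorem isIdempotentComplete_of_countableCoproducts [HasCountableCoproducts D]
    (hk : ∀ ⦃X Y : D⦄ (f : X ⟶ Y), IsSplitMono f → HasCokernel f) : IsIdempotentComplete D := by
  rw [← Idempotents.isIdempotentComplete_iff_opposite]
  have : HasCountableProducts Dᵒᵖ := ⟨fun J _ => inferInstance⟩
  apply isIdempotentComplete_of_countableProducts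
  intro X Y f hf
  have : IsSplitMono f.unop := by
    obtain ⟨⟨s⟩⟩ := hf
    exact IsSplitMono.mk' ⟨s.section_.unop, by rw [← unop_comp, s.id, unop_id]⟩
  have : HasCokernel f.unop := hk _ inferInstance
  exact ⟨⟨⟨_, CokernelCofork.IsColimit.ofπOp (cokernel.π f.unop) (cokernel.condition _)
    (cokernelIsCokernel f.unop)⟩⟩⟩

end Groth.Agent.Lib.Helper99.CountableKaroubi
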