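import Groth.Agent.Lib.Helper99.FilAsm
import Mathlib.CategoryTheory.Limits.Constructions.EventuallyConstant
import Mathlib.Algebra.Homology.HomologicalComplexLimits
import Mathlib.CategoryTheory.Functor.OfSequence
set_option autoImplicit false
universe v u
open CategoryTheory CategoryTheory.Limits
namespace Groth.Agent.Lib.Helper99.DimRes
variable {A : Type u} [Category.{v} A] [Abelian A]

theorem cokernel_lift {X Y : A} (φ : X ⟶ Y) {T : A} (x : T ⟶ Y) (hx : x ≫ cokernel.π φ = 0) :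
    ∃ (T' : A) (π : T' ⟶ T) (_ : Epi π) (y : T' ⟶ X), π ≫ x = y ≫ φ := by
  have hex : (ShortComplex.mk φ (cokernel.π φ) (cokernel.condition φ)).Exact :=
    ShortComplex.exact_of_g_is_cokernel _ (cokernelIsCokernel φ)
  rw [ShortComplex.exact_iff_exact_up_to_refinements] at hex
  exact hex x hx

section OneStep
variable (K : CochainComplex A ℤ) (M : ℤ → A) (ι : ∀ n, K.X n ⟶ M n)

/-- transport along equality of indices (zero if the indices differ) -/
noncomputable def T (m n : ℤ) : M m ⟶ M n := if h : m = n then eqToHom (by rw [h]) else 0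

theorem T_self (n : ℤ) : T M n n = 𝟙 _ := by
  unfold T; rw [dif_pos rfl]; rfl

theorem T_ne {m n : ℤ} (h : m ≠ n) : T M m n = 0 := by
  unfold T; rw [dif_neg h]

noncomputable def φ (m n : ℤ) : K.X m ⟶ M m ⊞ M n := biprod.lift (ι m) (-(K.d m n ≫ ι n))

noncomputable def Xobj (m n : ℤ) : A := cokernel (φ K M ι m n)

noncomputable def πX (m n : ℤ) : M m ⊞ M n ⟶ Xobj K M ι m n := cokernel.π (φ K M ι m n)

instance (m n : ℤ) : Epi (πX K M ι m n) :=
  inferInstanceAs (Epi (cokernel.π (φ K M ι m n)))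

theorem φ_πX (m n : ℤ) : φ K M ι m n ≫ πX K M ι m n = 0 := cokernel.condition _

/-- key identity in the cokernel -/
theorem star (m n : ℤ) :
    ι m ≫ biprod.inl ≫ πX K M ι m n = K.d m n ≫ ι n ≫ biprod.inr ≫ πX K M ι m n := by
  have h := φ_πX K M ι m n
  have h1 : φ K M ι m n = ι m ≫ biprod.inl - (K.d m n ≫ ι n) ≫ biprod.inr := by
    unfold φ
    apply biprod.hom_ext <;> simp
  rw [h1, Preadditive.sub_comp, sub_eq_zero] at h
  simpa using h

theorem dd_aux (i j : ℤ) : φ K M ι (i - 1) i ≫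
    biprod.snd ≫ T M i (j - 1) ≫ biprod.inl ≫ πX K M ι (j - 1) j = 0 := by
  by_cases h : i = j - 1
  · subst h
    rw [T_self, Category.id_comp]
    unfold φ
    rw [biprod.lift_snd_assoc, Preadditive.neg_comp, Category.assoc, star, ← Category.assoc,
      HomologicalComplex.d_comp_d, zero_comp, neg_zero]
  · rw [T_ne M h]; simp

noncomputable def dd (i j : ℤ) : Xobj K M ι (i - 1) i ⟶ Xobj K M ι (j - 1) j :=
  cokernel.desc (φ K M ι (i - 1) i)
    (biprod.snd ≫ T M i (j - 1) ≫ biprod.inl ≫ πX K M ι (j - 1) j) (dd_aux K M ι i j)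

@[reassoc]
theorem π_dd (i j : ℤ) : πX K M ι (i - 1) i ≫ dd K M ι i j =
    biprod.snd ≫ T M i (j - 1) ≫ biprod.inl ≫ πX K M ι (j - 1) j := cokernel.π_desc _ _ _

@[reassoc]
theorem π_dd' (j : ℤ) : πX K M ι (j - 1 - 1) (j - 1) ≫ dd K M ι (j - 1) j =
    biprod.snd ≫ biprod.inl ≫ πX K M ι (j - 1) j := by
  rw [π_dd, T_self, Category.id_comp]

noncomputable def stepCx : CochainComplex A ℤ where
  X n := Xobj K M ι (n - 1) n
  d i j := dd K M ι i j
  shape i j h := by
    have h' : i ≠ j - 1 := by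
      intro e; apply h; simp only [ComplexShape.up_Rel]; omega
    rw [← cancel_epi (πX K M ι (i - 1) i), π_dd, T_ne M h']
    simp
  d_comp_d' i j k hij hjk := by
    simp only [ComplexShape.up_Rel] at hij hjk
    obtain rfl : j = k - 1 := by omega
    obtain rfl : i = k - 1 - 1 := by omega
    rw [← cancel_epi (πX K M ι (k - 1 - 1 - 1) (k - 1 - 1)), π_dd'_assoc, π_dd']
    simp

/-- the comparison map -/
noncomputable def stepMapf (n : ℤ) : K.X n ⟶ Xobj K M ι (n - 1) n :=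
  ι n ≫ biprod.inr ≫ πX K M ι (n - 1) n

noncomputable def stepMap : K ⟶ stepCx K M ι where
  f n := stepMapf K M ι n
  comm' i j hij := by
    simp only [ComplexShape.up_Rel] at hij
    obtain rfl : i = j - 1 := by omega
    change stepMapf K M ι (j - 1) ≫ dd K M ι (j - 1) j = K.d (j - 1) j ≫ stepMapf K M ι j
    unfold stepMapf
    rw [Category.assoc, Category.assoc, π_dd', biprod.inr_snd_assoc, star]


theorem stepMap_f (n : ℤ) : (stepMap K M ι).f n = ι n ≫ biprod.inr ≫ πX K M ι (n - 1) n := rfl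

theorem stepCx_d (i j : ℤ) : (stepCx K M ι).d i j = dd K M ι i j := rfl

open Groth.Agent.Lib.Helper99.FilD in
theorem quasiIso_stepMap [∀ n, Mono (ι n)] : QuasiIso (stepMap K M ι) := by
  rw [quasiIso_iff_mappingCone_exactAt]
  intro n
  obtain ⟨n₁, rfl⟩ : ∃ n₁, n = n₁ - 1 := ⟨n + 1, by omega⟩
  apply mappingCone_exactAt_of_elements' (stepMap K M ι) (n₁ - 1 - 1) (n₁ - 1) n₁ (n₁ + 1)
    (by omega) (by omega) rfl
  intro W k i _ h2
  obtain ⟨i, rfl⟩ : ∃ i' : W ⟶ Xobj K M ι (n₁ - 1 - 1) (n₁ - 1), i' = i := ⟨i, rfl⟩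
  have h2' : k ≫ (ι n₁ ≫ biprod.inr ≫ πX K M ι (n₁ - 1) n₁) + i ≫ dd K M ι (n₁ - 1) n₁ = 0 := h2
  obtain ⟨W₁, π₁, hπ₁, c, hc⟩ := surjective_up_to_refinements_of_epi (πX K M ι (n₁ - 1 - 1) (n₁ - 1)) i
  have hcdec : c = (c ≫ biprod.fst) ≫ biprod.inl + (c ≫ biprod.snd) ≫ biprod.inr := by
    apply biprod.hom_ext <;> simp
  have h3 : ((c ≫ biprod.snd) ≫ biprod.inl + (π₁ ≫ k ≫ ι n₁) ≫ biprod.inr) ≫ πX K M ι (n₁ - 1) n₁ = 0 := by
    have h4 := congrArg (fun t => π₁ ≫ t) h2'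
    simp only [Preadditive.comp_add, comp_zero] at h4
    rw [← Category.assoc π₁ i, hc, Category.assoc c, π_dd'] at h4
    rw [Preadditive.add_comp, add_comm]
    simpa using h4
  obtain ⟨W₂, π₂, hπ₂, y, hy⟩ := cokernel_lift (φ K M ι (n₁ - 1) n₁) _ h3
  have hy1 : π₂ ≫ c ≫ biprod.snd = y ≫ ι (n₁ - 1) := by
    have := congrArg (fun t => t ≫ biprod.fst) hy
    simpa [φ] using this
  have hy2 : (π₂ ≫ π₁ ≫ k) ≫ ι n₁ = (-(y ≫ K.d (n₁ - 1) n₁)) ≫ ι n₁ := by
    have := congrArg (fun t => t ≫ biprod.snd) hy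
    simpa [φ] using this
  have hy3 : π₂ ≫ π₁ ≫ k = -(y ≫ K.d (n₁ - 1) n₁) := (cancel_mono (ι n₁)).1 hy2
  have e1 : (π₂ ≫ π₁) ≫ k = -(y ≫ K.d (n₁ - 1) n₁) := by rw [Category.assoc, hy3]
  have e2 : (π₂ ≫ π₁) ≫ i = y ≫ (ι (n₁ - 1) ≫ biprod.inr ≫ πX K M ι (n₁ - 1 - 1) (n₁ - 1)) +
      (π₂ ≫ (c ≫ biprod.fst) ≫ biprod.inr ≫ πX K M ι (n₁ - 1 - 1 - 1) (n₁ - 1 - 1)) ≫
        dd K M ι (n₁ - 1 - 1) (n₁ - 1) := by
    rw [Category.assoc, hc]
    simp only [Category.assoc]
    rw [π_dd', biprod.inr_snd_assoc]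
    conv_lhs => rw [hcdec]
    simp only [Preadditive.add_comp, Preadditive.comp_add, Category.assoc]
    rw [add_comm]
    congr 1
    rw [← Category.assoc c, ← Category.assoc π₂, hy1, Category.assoc]
  exact ⟨W₂, π₂ ≫ π₁, epi_comp _ _, y,
    π₂ ≫ (c ≫ biprod.fst) ≫ biprod.inr ≫ πX K M ι (n₁ - 1 - 1 - 1) (n₁ - 1 - 1), e1, e2⟩


theorem ses_φ [∀ n, Mono (ι n)] (m n : ℤ) :
    (ShortComplex.mk (φ K M ι m n) (πX K M ι m n) (φ_πX K M ι m n)).ShortExact := by
  have h1 : φ K M ι m n ≫ biprod.fst = ι m := by unfold φ; simp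
  have hmono : Mono (φ K M ι m n) := mono_of_mono_fac h1
  exact ShortComplex.ShortExact.mk'
    (ShortComplex.exact_of_g_is_cokernel _ (cokernelIsCokernel (φ K M ι m n))) hmono
    (inferInstanceAs (Epi (πX K M ι m n)))

theorem isIso_inr_πX (m n : ℤ) [IsIso (ι m)] : IsIso (biprod.inr ≫ πX K M ι m n) := by
  have hmono : Mono (biprod.inr ≫ πX K M ι m n) := by
    apply Preadditive.mono_of_cancel_zero
    intro T x hx
    rw [← Category.assoc] at hx
    obtain ⟨T', π, hπ, y, hy⟩ := cokernel_lift (φ K M ι m n) _ hx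
    have h1 : y ≫ ι m = 0 := by
      have := congrArg (fun t => t ≫ biprod.fst) hy
      simpa [φ] using this.symm
    have h2 : y = 0 := by
      rw [← cancel_mono (ι m), zero_comp, h1]
    rw [h2, zero_comp] at hy
    have h3 : π ≫ x = 0 := by
      have := congrArg (fun t => t ≫ biprod.snd) hy
      simpa using this
    rw [← cancel_epi π, h3, comp_zero]
  have hepi : Epi (biprod.inr ≫ πX K M ι m n) := by
    apply Preadditive.epi_of_cancel_zero
    intro T t ht
    rw [← cancel_epi (πX K M ι m n), comp_zero]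
    have h1 : φ K M ι m n ≫ (πX K M ι m n ≫ t) = 0 := by
      rw [← Category.assoc, φ_πX, zero_comp]
    have h2 : biprod.inl ≫ πX K M ι m n ≫ t = 0 := by
      have h3 : φ K M ι m n = ι m ≫ biprod.inl - (K.d m n ≫ ι n) ≫ biprod.inr := by
        unfold φ
        apply biprod.hom_ext <;> simp
      rw [h3, Preadditive.sub_comp, Category.assoc, Category.assoc] at h1
      rw [Category.assoc] at ht
      rw [ht, comp_zero, sub_zero] at h1
      rw [← cancel_epi (ι m), h1, comp_zero]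
    apply biprod.hom_ext'
    · rw [h2, comp_zero]
    · rw [← Category.assoc, ht, comp_zero]
  exact isIso_of_mono_of_epi _

theorem isIso_stepMap_f (n : ℤ) [IsIso (ι (n - 1))] [IsIso (ι n)] :
    IsIso ((stepMap K M ι).f n) := by
  have := isIso_inr_πX K M ι (n - 1) n
  change IsIso (ι n ≫ (biprod.inr ≫ πX K M ι (n - 1) n))
  infer_instance

end OneStep

theorem isEventuallyConstantFrom_of_succ {D : Type*} [Category D] (G : ℕ ⥤ D) (J : ℕ)
    (h : ∀ j, J ≤ j → IsIso (G.map (homOfLE (Nat.le_succ j)))) : G.IsEventuallyConstantFrom J := by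
  intro j f
  have hle : J ≤ j := leOfHom f
  induction j, hle using Nat.le_induction with
  | base =>
    have : f = 𝟙 _ := Subsingleton.elim _ _
    rw [this, G.map_id]; infer_instance
  | succ j hj ih =>
    have : f = homOfLE hj ≫ homOfLE (Nat.le_succ j) := Subsingleton.elim _ _
    rw [this, G.map_comp]
    have := ih (homOfLE hj)
    have := h j hj
    infer_instance

theorem quasiIsoAt_of_isIso_f {K L : CochainComplex A ℤ} (φ : K ⟶ L) (n : ℤ)
    [IsIso (φ.f (n - 1))] [IsIso (φ.f n)] [IsIso (φ.f (n + 1))] : QuasiIsoAt φ n := by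
  rw [quasiIsoAt_iff' φ (n - 1) n (n + 1) (by simp) (by simp)]
  have h1 : IsIso ((HomologicalComplex.shortComplexFunctor' A (ComplexShape.up ℤ) (n - 1) n (n + 1)).map φ).τ₁ :=
    inferInstanceAs (IsIso (φ.f (n - 1)))
  have h2 : IsIso ((HomologicalComplex.shortComplexFunctor' A (ComplexShape.up ℤ) (n - 1) n (n + 1)).map φ).τ₂ :=
    inferInstanceAs (IsIso (φ.f n))
  have h3 : IsIso ((HomologicalComplex.shortComplexFunctor' A (ComplexShape.up ℤ) (n - 1) n (n + 1)).map φ).τ₃ :=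
    inferInstanceAs (IsIso (φ.f (n + 1)))
  have := ShortComplex.isIso_of_isIso
    ((HomologicalComplex.shortComplexFunctor' A (ComplexShape.up ℤ) (n - 1) n (n + 1)).map φ)
  infer_instance

section Main
variable (d : A → ℕ∞)
    (h1 : ∀ X : A, ∃ (Y : A) (ι : X ⟶ Y), Mono ι ∧ d Y = 0)

include h1 in
theorem exists_emb (X : A) : ∃ (Y : A) (ι : X ⟶ Y), Mono ι ∧ d Y = 0 ∧ (d X = 0 → IsIso ι) := by
  by_cases h : d X = 0
  · exact ⟨X, 𝟙 X, inferInstance, h, fun _ => inferInstance⟩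
  · obtain ⟨Y, ι, h1, h2⟩ := h1 X
    exact ⟨Y, ι, h1, h2, fun h' => absurd h' h⟩

noncomputable def embObj (X : A) : A := (exists_emb d h1 X).choose
noncomputable def embι (X : A) : X ⟶ embObj d h1 X := (exists_emb d h1 X).choose_spec.choose
instance (X : A) : Mono (embι d h1 X) := (exists_emb d h1 X).choose_spec.choose_spec.1
theorem embObj_d (X : A) : d (embObj d h1 X) = 0 := (exists_emb d h1 X).choose_spec.choose_spec.2.1
theorem embι_iso (X : A) (h : d X = 0) : IsIso (embι d h1 X) :=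
  (exists_emb d h1 X).choose_spec.choose_spec.2.2 h

noncomputable def Φ (K : CochainComplex A ℤ) : CochainComplex A ℤ :=
  stepCx K (fun n => embObj d h1 (K.X n)) (fun n => embι d h1 (K.X n))

noncomputable def Φmap (K : CochainComplex A ℤ) : K ⟶ Φ d h1 K :=
  stepMap K (fun n => embObj d h1 (K.X n)) (fun n => embι d h1 (K.X n))

instance quasiIso_Φmap (K : CochainComplex A ℤ) : QuasiIso (Φmap d h1 K) :=
  quasiIso_stepMap K _ _

theorem isIso_Φmap_f (K : CochainComplex A ℤ) (n : ℤ) (h : d (K.X (n - 1)) = 0) (h' : d (K.X n) = 0) :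
    IsIso ((Φmap d h1 K).f n) := by
  have := embι_iso d h1 _ h
  have := embι_iso d h1 _ h'
  exact isIso_stepMap_f K (fun n => embObj d h1 (K.X n)) (fun n => embι d h1 (K.X n)) n

variable (h2 : ∀ X Y : A, d (X ⊞ Y) ≤ max (d X) (d Y))
    (h3 : ∀ S : ShortComplex A, S.ShortExact → d S.X₃ ≤ max (d S.X₁ - 1) (d S.X₂))

include h2 h3 in
theorem d_Φ (K : CochainComplex A ℤ) (n : ℤ) : d ((Φ d h1 K).X n) ≤ d (K.X (n - 1)) - 1 := by
  have hS := ses_φ K (fun n => embObj d h1 (K.X n)) (fun n => embι d h1 (K.X n)) (n - 1) n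
  have := h3 _ hS
  dsimp only at this
  refine this.trans ?_
  apply max_le le_rfl
  refine (h2 _ _).trans ?_
  rw [embObj_d d h1, embObj_d d h1]
  simp

noncomputable def Kseq (K : CochainComplex A ℤ) : ℕ → CochainComplex A ℤ
  | 0 => K
  | j + 1 => Φ d h1 (Kseq K j)

noncomputable def Fseq (K : CochainComplex A ℤ) : ℕ ⥤ CochainComplex A ℤ :=
  Functor.ofSequence (X := Kseq d h1 K) (fun j => Φmap d h1 (Kseq d h1 K j))

theorem Fseq_map_succ (K : CochainComplex A ℤ) (j : ℕ) :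
    (Fseq d h1 K).map (homOfLE (Nat.le_succ j)) = Φmap d h1 (Kseq d h1 K j) :=
  Functor.ofSequence_map_homOfLE_succ _ j

include h2 h3 in
theorem d_Kseq (K : CochainComplex A ℤ) (j : ℕ) :
    ∀ n : ℤ, d ((Kseq d h1 K j).X n) ≤ d (K.X (n - j)) - j := by
  induction j with
  | zero =>
    intro n
    have : n - ((0 : ℕ) : ℤ) = n := by simp
    rw [this]
    simp [Kseq]
  | succ j ih =>
    intro n
    refine (d_Φ d h1 h2 h3 (Kseq d h1 K j) n).trans ?_
    have e : n - 1 - (j : ℤ) = n - ((j + 1 : ℕ) : ℤ) := by push_cast; ring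
    have := ih (n - 1)
    rw [e] at this
    refine (tsub_le_tsub_right this 1).trans ?_
    rw [tsub_tsub]
    push_cast
    exact le_rfl


include h2 h3 in
theorem exists_d_zero (K : CochainComplex A ℤ)
    (hK : ∀ m : ℤ, ∃ N : ℤ, ∀ n : ℤ, n ≤ N → ∃ k : ℕ, d (K.X n) = k ∧ n + k ≤ m) (n : ℤ) :
    ∃ J : ℕ, ∀ j, J ≤ j → d ((Kseq d h1 K j).X n) = 0 := by
  obtain ⟨N, hN⟩ := hK n
  refine ⟨(n - N).toNat, fun j hj => ?_⟩
  have h1' : n - (j : ℤ) ≤ N := by
    have := Int.self_le_toNat (n - N)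
    have : ((n - N).toNat : ℤ) ≤ j := by exact_mod_cast hj
    omega
  obtain ⟨k, hk, hk'⟩ := hN _ h1'
  have hkj : k ≤ j := by omega
  have := d_Kseq d h1 h2 h3 K j n
  rw [hk] at this
  have h0 : ((k : ℕ∞)) - (j : ℕ∞) = 0 := tsub_eq_zero_of_le (by exact_mod_cast hkj)
  rw [h0] at this
  exact le_antisymm this bot_le

variable (hiso : ∀ ⦃X Y : A⦄, Nonempty (X ≅ Y) → d X = d Y)

include h1 h2 h3 hiso in
theorem main (K : CochainComplex A ℤ)
    (hK : ∀ m : ℤ, ∃ N : ℤ, ∀ n : ℤ, n ≤ N → ∃ k : ℕ, d (K.X n) = k ∧ n + k ≤ m) :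
    ∃ (L : CochainComplex A ℤ) (f : K ⟶ L), QuasiIso f ∧ ∀ n, d (L.X n) = 0 := by
  choose J hJ using exists_d_zero d h1 h2 h3 K hK
  let J' : ℤ → ℕ := fun n => max (J (n - 1)) (J n)
  have hEC : ∀ n : ℤ, ((Fseq d h1 K) ⋙ HomologicalComplex.eval A (ComplexShape.up ℤ) n).IsEventuallyConstantFrom (J' n) := by
    intro n
    apply isEventuallyConstantFrom_of_succ
    intro j hj
    change IsIso (((Fseq d h1 K).map (homOfLE (Nat.le_succ j))).f n)
    rw [Fseq_map_succ]
    exact isIso_Φmap_f d h1 _ n (hJ (n - 1) j (le_trans (le_max_left _ _) hj))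
      (hJ n j (le_trans (le_max_right _ _) hj))
  have : ∀ n : ℤ, HasColimit ((Fseq d h1 K) ⋙ HomologicalComplex.eval A (ComplexShape.up ℤ) n) :=
    fun n => (hEC n).hasColimit
  have hιiso : ∀ (n : ℤ) (j : ℕ), J' n ≤ j → IsIso ((colimit.ι (Fseq d h1 K) j).f n) := by
    intro n j hj
    exact (hEC n).isIso_ι_of_isColimit'
      (isColimitOfPreserves (HomologicalComplex.eval A (ComplexShape.up ℤ) n)
        (colimit.isColimit (Fseq d h1 K))) j (homOfLE hj)
  have hqi : ∀ j : ℕ, QuasiIso ((Fseq d h1 K).map (homOfLE (Nat.zero_le j))) := by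
    intro j
    induction j with
    | zero =>
      have : homOfLE (Nat.zero_le 0) = 𝟙 (0 : ℕ) := Subsingleton.elim _ _
      rw [this, (Fseq d h1 K).map_id]
      infer_instance
    | succ j ih =>
      have : homOfLE (Nat.zero_le (j + 1)) = homOfLE (Nat.zero_le j) ≫ homOfLE (Nat.le_succ j) :=
        Subsingleton.elim _ _
      rw [this, (Fseq d h1 K).map_comp]
      have h2' : QuasiIso ((Fseq d h1 K).map (homOfLE (Nat.le_succ j))) := by
        rw [Fseq_map_succ]; exact quasiIso_Φmap d h1 _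
      infer_instance
  have hq : QuasiIso (colimit.ι (Fseq d h1 K) 0) := by
    rw [quasiIso_iff]
    intro n
    let j : ℕ := max (J' (n - 1)) (max (J' n) (J' (n + 1)))
    have e : colimit.ι (Fseq d h1 K) 0 =
        (Fseq d h1 K).map (homOfLE (Nat.zero_le j)) ≫ colimit.ι (Fseq d h1 K) j :=
      (colimit.w (Fseq d h1 K) (homOfLE (Nat.zero_le j))).symm
    rw [e]
    have := hqi j
    have := hιiso (n - 1) j (le_max_left _ _)
    have := hιiso n j (le_trans (le_max_left _ _) (le_max_right _ _))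
    have := hιiso (n + 1) j (le_trans (le_max_right _ _) (le_max_right _ _))
    have := quasiIsoAt_of_isIso_f (colimit.ι (Fseq d h1 K) j) n
    infer_instance
  refine ⟨colimit (Fseq d h1 K), colimit.ι (Fseq d h1 K) 0, hq, ?_⟩
  · intro n
    have := hιiso n (J' n) le_rfl
    have e := hiso ⟨asIso ((colimit.ι (Fseq d h1 K) (J' n)).f n)⟩
    rw [← e]
    exact hJ n (J' n) (le_max_right _ _)

end Main
end Groth.Agent.Lib.Helper99.DimRes
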