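import Groth.Agent.Lib.Helper99.FilLevel
set_option autoImplicit false
set_option linter.style.haveILetI false
set_option linter.unusedSectionVars false
universe v u
open CategoryTheory CategoryTheory.Limits Opposite
namespace Groth.Agent.Lib.Helper99.FilD
open _root_.FilD
variable {A : Type u} [Category.{v} A] [Abelian A]
open ZeroObject
open CochainComplex HomComplex

theorem exact_mk_of_refinements {X Y Z : A} (f : X ⟶ Y) (g : Y ⟶ Z) (w : f ≫ g = 0)
    (h : ∀ ⦃W : A⦄ (c : W ⟶ Y), c ≫ g = 0 →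
      ∃ (W' : A) (π : W' ⟶ W) (_ : Epi π) (x : W' ⟶ X), π ≫ c = x ≫ f) :
    (ShortComplex.mk f g w).Exact := by
  rw [ShortComplex.exact_iff_exact_up_to_refinements]
  intro W c hc
  exact h c hc

/-- exactness of a mapping cone, in terms of generalized elements -/
theorem mappingCone_exactAt_of_elements {F G : CochainComplex A ℤ} (ψ : F ⟶ G) (n : ℤ)
    (h : ∀ ⦃W : A⦄ (k : W ⟶ F.X (n + 1)) (i : W ⟶ G.X n),
      k ≫ F.d (n + 1) (n + 1 + 1) = 0 → k ≫ ψ.f (n + 1) + i ≫ G.d n (n + 1) = 0 →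
      ∃ (W' : A) (π : W' ⟶ W) (_ : Epi π) (k' : W' ⟶ F.X n) (i' : W' ⟶ G.X (n - 1)),
        π ≫ k = -k' ≫ F.d n (n + 1) ∧ π ≫ i = k' ≫ ψ.f n + i' ≫ G.d (n - 1) n) :
    (mappingCone ψ).ExactAt n := by
  rw [HomologicalComplex.exactAt_iff' _ (n - 1) n (n + 1) (by simp) (by simp)]
  apply exact_mk_of_refinements
  intro W c hc'
  have hk : (c ≫ (mappingCone.fst ψ).1.v n (n + 1) rfl) ≫ F.d (n + 1) (n + 1 + 1) = 0 := by
    have h1 := congrArg (fun t => t ≫ (mappingCone.fst ψ).1.v (n + 1) (n + 1 + 1) rfl) hc'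
    simp only [Category.assoc, zero_comp, mappingCone.d_fst_v ψ n (n + 1) (n + 1 + 1) rfl rfl,
      Preadditive.comp_neg, Preadditive.neg_comp, neg_eq_zero] at h1
    simpa using h1
  have hi : (c ≫ (mappingCone.fst ψ).1.v n (n + 1) rfl) ≫ ψ.f (n + 1) +
      (c ≫ (mappingCone.snd ψ).v n n (add_zero n)) ≫ G.d n (n + 1) = 0 := by
    have h1 := congrArg (fun t => t ≫ (mappingCone.snd ψ).v (n + 1) (n + 1) (add_zero _)) hc'
    simp only [Category.assoc, zero_comp, mappingCone.d_snd_v ψ n (n + 1) rfl,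
      Preadditive.comp_add] at h1
    simpa using h1
  obtain ⟨W', π, hπ, k', i', h1, h2⟩ := h _ _ hk hi
  refine ⟨W', π, hπ, k' ≫ (mappingCone.inl ψ).v n (n - 1) (by omega) +
    i' ≫ (mappingCone.inr ψ).f (n - 1), ?_⟩
  apply mappingCone.ext_to ψ n (n + 1) rfl
  · rw [Category.assoc, Category.assoc, mappingCone.d_fst_v ψ (n - 1) n (n + 1) (by omega) rfl]
    rw [h1]
    simp
  · rw [Category.assoc, Category.assoc, mappingCone.d_snd_v ψ (n - 1) n (by omega)]
    rw [h2]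
    simp

theorem mappingCone_exactAt_of_elements' {F G : CochainComplex A ℤ} (ψ : F ⟶ G) (m n n₁ n₂ : ℤ)
    (hm : m + 1 = n) (hn : n + 1 = n₁) (hn₁ : n₁ + 1 = n₂)
    (h : ∀ ⦃W : A⦄ (k : W ⟶ F.X n₁) (i : W ⟶ G.X n),
      k ≫ F.d n₁ n₂ = 0 → k ≫ ψ.f n₁ + i ≫ G.d n n₁ = 0 →
      ∃ (W' : A) (π : W' ⟶ W) (_ : Epi π) (k' : W' ⟶ F.X n) (i' : W' ⟶ G.X m),
        π ≫ k = -k' ≫ F.d n n₁ ∧ π ≫ i = k' ≫ ψ.f n + i' ≫ G.d m n) :
    (mappingCone ψ).ExactAt n := by
  obtain rfl : m = n - 1 := by omega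
  subst hn hn₁
  exact mappingCone_exactAt_of_elements ψ n h

/-- a chosen zero object of `Fil^f(A)` -/
noncomputable def zeroF : FilF A := constBelow 0 0

theorem isZero_zeroF_obj (p : ℤ) : IsZero ((zeroF (A := A)).obj.obj (op p)) := by
  by_cases h : p ≤ 0
  · have : (constBelowFun (0 : A) 0).obj (op p) = 0 := constBelowFun_obj_of_le 0 0 p h
    change IsZero ((constBelowFun (0 : A) 0).obj (op p))
    rw [this]
    exact isZero_zero A
  · exact constBelowFun_isZero_of_lt 0 0 p (by omega)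

theorem isZero_zeroF : IsZero (zeroF (A := A)) := by
  apply isZero_of_isZero_obj
  rw [Functor.isZero_iff]
  intro x
  exact isZero_zeroF_obj x.unop

section Assemble

variable (Ix : ℕ → FilF A) (dxx : ∀ k : ℕ, Ix k ⟶ Ix (k + 1))

/-- the `ℤ`-indexed family extending an `ℕ`-indexed family by zero -/
noncomputable def famJ : ℤ → FilF A
  | Int.ofNat k => Ix k
  | Int.negSucc _ => zeroF

/-- the differentials of the `ℤ`-indexed family -/
noncomputable def famD : ∀ n : ℤ, famJ Ix n ⟶ famJ Ix (n + 1)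
  | Int.ofNat k => dxx k
  | Int.negSucc _ => 0

theorem famD_sq (sq : ∀ k, dxx k ≫ dxx (k + 1) = 0) (n : ℤ) :
    famD Ix dxx n ≫ famD Ix dxx (n + 1) = 0 := by
  cases n with
  | ofNat k => exact sq k
  | negSucc k => exact zero_comp

end Assemble

section Assemble2

variable (K : CochainComplex (FilF A) ℤ) (Ix : ℕ → FilF A) (dxx : ∀ k : ℕ, Ix k ⟶ Ix (k + 1))
  (sq : ∀ k, dxx k ≫ dxx (k + 1) = 0) (αx : ∀ k : ℕ, K.X k ⟶ Ix k)

/-- the assembled complex -/
noncomputable def asmCx : CochainComplex (FilF A) ℤ :=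
  CochainComplex.of (famJ Ix) (famD Ix dxx) (famD_sq Ix dxx sq)

/-- the components of the assembled morphism -/
noncomputable def famα : ∀ n : ℤ, K.X n ⟶ famJ Ix n
  | Int.ofNat k => αx k
  | Int.negSucc _ => 0

theorem isZero_X_negSucc [K.IsStrictlyGE 0] (k : ℕ) : IsZero (K.X (Int.negSucc k)) :=
  K.isZero_of_isStrictlyGE 0 _ (Int.negSucc_lt_zero k)

/-- the assembled morphism -/
noncomputable def asmHom [K.IsStrictlyGE 0]
    (hα : ∀ k : ℕ, αx k ≫ dxx k = K.d k (k + 1 : ℕ) ≫ αx (k + 1)) : K ⟶ asmCx Ix dxx sq where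
  f n := famα K Ix αx n
  comm' i j hij := by
    obtain rfl : i + 1 = j := hij
    have hd : (asmCx Ix dxx sq).d i (i + 1) = famD Ix dxx i := CochainComplex.of_d _ _ _
    rw [hd]
    cases i with
    | ofNat k => exact hα k
    | negSucc k => exact (isZero_X_negSucc K k).eq_of_src _ _

instance asmCx_isStrictlyGE : (asmCx Ix dxx sq).IsStrictlyGE 0 := by
  rw [CochainComplex.isStrictlyGE_iff]
  intro i hi
  cases i with
  | ofNat k => exact absurd hi (by simp)
  | negSucc k => exact isZero_zeroF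

theorem asmCx_filteredInjective (hI : ∀ k, IsFilteredInjective (Ix k)) (n : ℤ) :
    IsFilteredInjective ((asmCx Ix dxx sq).X n) := by
  cases n with
  | ofNat k => exact hI k
  | negSucc k => exact isFilteredInjective_constBelow 0 0

end Assemble2

section Assemble3

variable (K : CochainComplex (FilF A) ℤ) (Ix : ℕ → FilF A) (dxx : ∀ k : ℕ, Ix k ⟶ Ix (k + 1))
  (sq : ∀ k, dxx k ≫ dxx (k + 1) = 0) (αx : ∀ k : ℕ, K.X k ⟶ Ix k)

theorem asmCx_d (k : ℕ) : (asmCx Ix dxx sq).d (k : ℤ) ((k + 1 : ℕ) : ℤ) = dxx k :=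
  CochainComplex.of_d (famJ Ix) (famD Ix dxx) (Int.ofNat k)

theorem asmHom_filteredQuasiIso [K.IsStrictlyGE 0]
    (hα : ∀ k : ℕ, αx k ≫ dxx k = K.d k (k + 1 : ℕ) ≫ αx (k + 1))
    (hmono : ∀ p : ℤ, Mono ((αx 0).hom.app (op p)))
    (h0 : ∀ (p : ℤ) ⦃W : A⦄ (x : W ⟶ (K.X ((1 : ℕ) : ℤ)).obj.obj (op p))
      (i : W ⟶ (Ix 0).obj.obj (op p)),
      x ≫ (αx 1).hom.app (op p) + i ≫ (dxx 0).hom.app (op p) = 0 →
      ∃ (W' : A) (π : W' ⟶ W) (_ : Epi π) (x' : W' ⟶ (K.X ((0 : ℕ) : ℤ)).obj.obj (op p)),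
        π ≫ x = -x' ≫ (K.d ((0 : ℕ) : ℤ) ((1 : ℕ) : ℤ)).hom.app (op p) ∧
        π ≫ i = x' ≫ (αx 0).hom.app (op p))
    (hs : ∀ (k : ℕ) (p : ℤ) ⦃W : A⦄ (x : W ⟶ (K.X ((k + 2 : ℕ) : ℤ)).obj.obj (op p))
      (i : W ⟶ (Ix (k + 1)).obj.obj (op p)),
      x ≫ (αx (k + 2)).hom.app (op p) + i ≫ (dxx (k + 1)).hom.app (op p) = 0 →
      ∃ (W' : A) (π : W' ⟶ W) (_ : Epi π) (x' : W' ⟶ (K.X ((k + 1 : ℕ) : ℤ)).obj.obj (op p))
        (i' : W' ⟶ (Ix k).obj.obj (op p)),
        π ≫ x = -x' ≫ (K.d ((k + 1 : ℕ) : ℤ) ((k + 2 : ℕ) : ℤ)).hom.app (op p) ∧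
        π ≫ i = x' ≫ (αx (k + 1)).hom.app (op p) + i' ≫ (dxx k).hom.app (op p)) :
    IsFilteredQuasiIso (asmHom K Ix dxx sq αx hα) := by
  apply isFilteredQuasiIso_of_levelwise
  intro p
  rw [quasiIso_iff_mappingCone_exactAt]
  intro n
  cases n with
  | ofNat k =>
    cases k with
    | zero =>
      apply mappingCone_exactAt_of_elements' _ (Int.negSucc 0) (Int.ofNat 0) (Int.ofNat 1)
        (Int.ofNat 2) rfl rfl rfl
      intro W x i _ hxi
      have hd := asmCx_d Ix dxx sq 0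
      have hxi' : x ≫ (αx 1).hom.app (op p) + i ≫ (dxx 0).hom.app (op p) = 0 := by
        rw [← hd]
        exact hxi
      obtain ⟨W', π, hπ, x', h1, h2⟩ := h0 p x i hxi'
      refine ⟨W', π, hπ, x', 0, h1, ?_⟩
      rw [zero_comp, add_zero]
      exact h2
    | succ k =>
      apply mappingCone_exactAt_of_elements' _ (Int.ofNat k) (Int.ofNat (k + 1)) (Int.ofNat (k + 2))
        (Int.ofNat (k + 3)) rfl rfl rfl
      intro W x i _ hxi
      have hd := asmCx_d Ix dxx sq (k + 1)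
      have hd' := asmCx_d Ix dxx sq k
      have hxi' : x ≫ (αx (k + 2)).hom.app (op p) + i ≫ (dxx (k + 1)).hom.app (op p) = 0 := by
        rw [← hd]
        exact hxi
      obtain ⟨W', π, hπ, x', i', h1, h2⟩ := hs k p x i hxi'
      have hd'' : ((evCx p).obj (asmCx Ix dxx sq)).d (Int.ofNat k) (Int.ofNat (k + 1)) =
          (dxx k).hom.app (op p) := congrArg (fun t => t.hom.app (op p)) hd'
      refine ⟨W', π, hπ, x', i', h1, ?_⟩
      exact h2.trans (congrArg₂ (· + ·) rfl (congrArg (i' ≫ ·) hd''.symm))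
  | negSucc k =>
    cases k with
    | zero =>
      apply mappingCone_exactAt_of_elements' _ (Int.negSucc 1) (Int.negSucc 0) (Int.ofNat 0)
        (Int.ofNat 1) rfl rfl rfl
      intro W x i _ hxi
      have hi : i = 0 := (isZero_zeroF_obj p).eq_of_tgt _ _
      have hx' : x ≫ (αx 0).hom.app (op p) = 0 := by
        rw [hi, zero_comp, add_zero] at hxi
        exact hxi
      have hx : x = 0 := by
        have := hmono p
        exact (cancel_mono ((αx 0).hom.app (op p))).1 (hx'.trans zero_comp.symm)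
      refine ⟨W, 𝟙 W, inferInstance, 0, 0, ?_, ?_⟩
      · rw [hx, comp_zero, zero_comp, neg_zero]
      · rw [hi, comp_zero, zero_comp, zero_comp, add_zero]
    | succ k =>
      apply mappingCone_exactAt_of_elements' _ (Int.negSucc (k + 2)) (Int.negSucc (k + 1))
        (Int.negSucc k) (Int.negSucc k + 1) rfl rfl rfl
      intro W x i _ _
      have hi : i = 0 := (isZero_zeroF_obj p).eq_of_tgt _ _
      have hx : x = 0 :=
        (((evF p).map_isZero (isZero_X_negSucc K k))).eq_of_tgt _ _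
      refine ⟨W, 𝟙 W, inferInstance, 0, 0, ?_, ?_⟩
      · rw [hx, comp_zero, zero_comp, neg_zero]
      · rw [hi, comp_zero, zero_comp, zero_comp, add_zero]

end Assemble3

end Groth.Agent.Lib.Helper99.FilD
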