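import Groth.Prelude.Def_FilD
import Mathlib

/-!
# Finite filtered objects `Fil^f(A)` (helper99)

Basic API for `FilD.FilF A`: levels, steps, natural transformations from level maps,
injectivity of the levels of a filtered injective object, extension along strict monomorphisms.
-/

set_option autoImplicit false
universe v u

open CategoryTheory CategoryTheory.Limits Opposite

namespace Groth.Agent.Lib.Helper99.FilD

open _root_.FilD

variable {A : Type u} [Category.{v} A]

/-- any arrow of `ℤᵒᵖ` is determined by its endpoints -/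
theorem hom_eq {x y : ℤᵒᵖ} (f g : x ⟶ y) : f = g := Subsingleton.elim _ _

/-- naturality for all arrows follows from naturality for the steps -/
theorem naturality_of_steps {F G : ℤᵒᵖ ⥤ A} (g : ∀ p : ℤ, F.obj (op p) ⟶ G.obj (op p))
    (hg : ∀ p : ℤ, F.map (stepHom p) ≫ g p = g (p + 1) ≫ G.map (stepHom p))
    (k : ℕ) : ∀ (p : ℤ) (f : op (p + k) ⟶ op p), F.map f ≫ g p = g (p + k) ≫ G.map f := by
  induction k with
  | zero =>
    intro p f
    have hp : p + ((0 : ℕ) : ℤ) = p := by simp
    have : ∀ (q : ℤ) (hq : q = p) (f : op q ⟶ op p), F.map f ≫ g p = g q ≫ G.map f := by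
      intro q hq f
      subst hq
      rw [hom_eq f (𝟙 _), F.map_id, G.map_id, Category.id_comp, Category.comp_id]
    exact this _ hp f
  | succ k ih =>
    intro p f
    have hp : p + ((k + 1 : ℕ) : ℤ) = (p + k) + 1 := by push_cast; ring
    have : ∀ (q : ℤ) (hq : q = (p + k) + 1) (f : op q ⟶ op p),
        F.map f ≫ g p = g q ≫ G.map f := by
      intro q hq f
      subst hq
      have hle : p ≤ p + k := by omega
      rw [hom_eq f (stepHom (p + k) ≫ (homOfLE hle).op), F.map_comp, G.map_comp,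
        Category.assoc, ih p, ← Category.assoc, hg, Category.assoc]
    exact this _ hp f

/-- a natural transformation between `ℤᵒᵖ`-diagrams from level maps commuting with the steps -/
def natTransOfSteps {F G : ℤᵒᵖ ⥤ A} (g : ∀ p : ℤ, F.obj (op p) ⟶ G.obj (op p))
    (hg : ∀ p : ℤ, F.map (stepHom p) ≫ g p = g (p + 1) ≫ G.map (stepHom p)) : F ⟶ G where
  app x := g x.unop
  naturality x y f := by
    have hle : y.unop ≤ x.unop := leOfHom f.unop
    obtain ⟨k, hk⟩ := Int.le.dest hle
    have key := naturality_of_steps g hg k y.unop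
    have : ∀ (q : ℤ) (hq : y.unop + k = q) (f : op q ⟶ op y.unop),
        F.map f ≫ g y.unop = g q ≫ G.map f := by
      intro q hq f
      subst hq
      exact key f
    exact this x.unop hk f

@[simp] theorem natTransOfSteps_app {F G : ℤᵒᵖ ⥤ A} (g : ∀ p : ℤ, F.obj (op p) ⟶ G.obj (op p))
    (hg : ∀ p : ℤ, F.map (stepHom p) ≫ g p = g (p + 1) ≫ G.map (stepHom p)) (p : ℤ) :
    (natTransOfSteps g hg).app (op p) = g p := rfl


variable [Abelian A]

/-- an extension of an injective object by an injective object is injective -/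
theorem injective_of_mono_cokernel {X Y : A} (f : X ⟶ Y) [Mono f] (hX : Injective X)
    (hC : Injective (cokernel f)) : Injective Y := by
  let S := ShortComplex.cokernelSequence f
  have hS : S.Exact := ShortComplex.cokernelSequence_exact f
  let r : Y ⟶ X := Injective.factorThru (𝟙 X) f
  have hr : f ≫ r = 𝟙 X := Injective.comp_factorThru (𝟙 X) f
  have hepi : Epi S.g := by dsimp [S]; infer_instance
  let spl := ShortComplex.Splitting.ofExactOfRetraction S hS r hr hepi
  have e : Y ≅ X ⊞ cokernel f := spl.isoBinaryBiproduct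
  exact Injective.of_iso e.symm inferInstance

/-- the levels of a filtered injective object are injective -/
theorem injective_level (I : FilF A) (hI : IsFilteredInjective I) (p : ℤ) :
    Injective (I.obj.obj (op p)) := by
  obtain ⟨b, hb⟩ := I.property.2.1
  have key : ∀ (n : ℕ) (p : ℤ), b ≤ p + n → Injective (I.obj.obj (op p)) := by
    intro n
    induction n with
    | zero =>
      intro p hp
      exact (hb p (by simpa using hp)).injective
    | succ n ih =>
      intro p hp
      have h1 : Injective (I.obj.obj (op (p + 1))) := ih (p + 1) (by push_cast at hp; omega)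
      have hmono : Mono (I.obj.map (stepHom p)) := I.property.1 _
      exact injective_of_mono_cokernel (I.obj.map (stepHom p)) h1 (hI p)
  by_cases hp : b ≤ p
  · exact key 0 p (by simpa using hp)
  · push Not at hp
    obtain ⟨n, hn⟩ := Int.le.dest hp.le
    exact key n p (by omega)

/-- the kernel of a natural transformation is a kernel levelwise -/
noncomputable def kernelAppIsLimit {F G : ℤᵒᵖ ⥤ A} (φ : F ⟶ G) (x : ℤᵒᵖ) :
    IsLimit (KernelFork.ofι ((kernel.ι φ).app x)
      (show (kernel.ι φ).app x ≫ φ.app x = 0 by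
        rw [← NatTrans.comp_app, kernel.condition, zero_app])) :=
  KernelFork.mapIsLimit _ (kernelIsKernel φ) ((evaluation ℤᵒᵖ A).obj x)

theorem kernel_app_condition {F G : ℤᵒᵖ ⥤ A} (φ : F ⟶ G) (x : ℤᵒᵖ) :
    (kernel.ι φ).app x ≫ φ.app x = 0 := by
  rw [← NatTrans.comp_app, kernel.condition, zero_app]

/-- the levelwise kernel of a morphism of finite filtered objects is a finite filtered object -/
theorem isFinFil_kernel {X Y : FilF A} (φ : X ⟶ Y) : IsFinFil A (kernel φ.hom) := by
  refine ⟨?_, ?_, ?_⟩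
  · intro p q f
    have h1 : (kernel φ.hom).map f ≫ (kernel.ι φ.hom).app q =
        (kernel.ι φ.hom).app p ≫ X.obj.map f := (kernel.ι φ.hom).naturality f
    have : Mono (X.obj.map f) := X.property.1 f
    have : Mono ((kernel.ι φ.hom).app p ≫ X.obj.map f) := mono_comp _ _
    exact mono_of_mono_fac h1
  · obtain ⟨b, hb⟩ := X.property.2.1
    refine ⟨b, fun p hp => ?_⟩
    exact IsZero.of_mono ((kernel.ι φ.hom).app (op p)) (hb p hp)
  · obtain ⟨a₁, ha₁⟩ := X.property.2.2
    obtain ⟨a₂, ha₂⟩ := Y.property.2.2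
    refine ⟨min a₁ a₂, fun p q f hp => ?_⟩
    have hX : IsIso (X.obj.map f) := ha₁ f (le_trans hp (min_le_left _ _))
    have hY : IsIso (Y.obj.map f) := ha₂ f (le_trans hp (min_le_right _ _))
    -- inverse by the universal property of the kernel at `p`
    have hz : ((kernel.ι φ.hom).app q ≫ inv (X.obj.map f)) ≫ φ.hom.app p = 0 := by
      have hn : φ.hom.app p ≫ Y.obj.map f = X.obj.map f ≫ φ.hom.app q := (φ.hom.naturality f).symm
      have : inv (X.obj.map f) ≫ φ.hom.app p = φ.hom.app q ≫ inv (Y.obj.map f) := by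
        rw [IsIso.inv_comp_eq, ← Category.assoc, ← hn, Category.assoc, IsIso.hom_inv_id, Category.comp_id]
      rw [Category.assoc, this, ← Category.assoc, kernel_app_condition, zero_comp]
    let g : (kernel φ.hom).obj q ⟶ (kernel φ.hom).obj p :=
      (kernelAppIsLimit φ.hom p).lift (KernelFork.ofι _ hz)
    have hg : g ≫ (kernel.ι φ.hom).app p = (kernel.ι φ.hom).app q ≫ inv (X.obj.map f) :=
      (kernelAppIsLimit φ.hom p).fac (KernelFork.ofι _ hz) WalkingParallelPair.zero
    have hnat : (kernel φ.hom).map f ≫ (kernel.ι φ.hom).app q =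
        (kernel.ι φ.hom).app p ≫ X.obj.map f := (kernel.ι φ.hom).naturality f
    refine ⟨g, ?_, ?_⟩
    · rw [← cancel_mono ((kernel.ι φ.hom).app p), Category.assoc, hg, ← Category.assoc, hnat,
        Category.assoc, IsIso.hom_inv_id, Category.comp_id, Category.id_comp]
    · rw [← cancel_mono ((kernel.ι φ.hom).app q), Category.assoc, hnat, ← Category.assoc, hg,
        Category.assoc, IsIso.inv_hom_id, Category.comp_id, Category.id_comp]

/-- the levelwise kernel, as a finite filtered object -/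
noncomputable def kerObj {X Y : FilF A} (φ : X ⟶ Y) : FilF A := ⟨kernel φ.hom, isFinFil_kernel φ⟩

/-- the inclusion of the levelwise kernel -/
noncomputable def kerι {X Y : FilF A} (φ : X ⟶ Y) : kerObj φ ⟶ X := ObjectProperty.homMk (kernel.ι φ.hom)

theorem kerι_comp {X Y : FilF A} (φ : X ⟶ Y) : kerι φ ≫ φ = 0 := by
  apply ObjectProperty.hom_ext
  exact kernel.condition φ.hom

/-- a monomorphism of `Fil^f(A)` is a levelwise monomorphism -/
theorem mono_hom_of_mono {X Y : FilF A} (φ : X ⟶ Y) [Mono φ] : Mono φ.hom := by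
  have h : kerι φ = 0 := by
    rw [← cancel_mono φ, kerι_comp, zero_comp]
  have h' : kernel.ι φ.hom = 0 := congrArg (fun f => f.hom) h
  exact Preadditive.mono_of_kernel_zero h'

theorem mono_app_of_mono {X Y : FilF A} (φ : X ⟶ Y) [Mono φ] (x : ℤᵒᵖ) : Mono (φ.hom.app x) := by
  have := mono_hom_of_mono φ
  infer_instance

theorem comp_biprod_desc {W S T Z : A} (k : W ⟶ S ⊞ T) (i : S ⟶ Z) (j : T ⟶ Z) :
    k ≫ biprod.desc i j = (k ≫ biprod.fst) ≫ i + (k ≫ biprod.snd) ≫ j := by
  rw [biprod.desc_eq, Preadditive.comp_add, Category.assoc, Category.assoc]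

/-- extension to an injective object of a pair of compatible maps on two "subobjects" -/
theorem exists_extension_step {Z S T J : A} (i : S ⟶ Z) (j : T ⟶ Z) (hJ : Injective J)
    (s : S ⟶ J) (t : T ⟶ J)
    (hst : ∀ {W : A} (a : W ⟶ S) (b : W ⟶ T), a ≫ i = b ≫ j → a ≫ s = b ≫ t) :
    ∃ g : Z ⟶ J, i ≫ g = s ∧ j ≫ g = t := by
  let π : S ⊞ T ⟶ Z := biprod.desc i j
  let σ : S ⊞ T ⟶ J := biprod.desc s t
  have hk : kernel.ι π ≫ σ = 0 := by
    have h1 : kernel.ι π ≫ π = 0 := kernel.condition π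
    rw [comp_biprod_desc] at h1
    have h2 : (kernel.ι π ≫ biprod.fst) ≫ i = (-(kernel.ι π ≫ biprod.snd)) ≫ j := by
      rw [Preadditive.neg_comp, eq_neg_iff_add_eq_zero]
      exact h1
    have h3 := hst _ _ h2
    rw [comp_biprod_desc, h3, Preadditive.neg_comp, neg_add_cancel]
  -- factor σ through the coimage of π
  let σbar : Abelian.coimage π ⟶ J := cokernel.desc (kernel.ι π) σ hk
  have hσbar : Abelian.coimage.π π ≫ σbar = σ := cokernel.π_desc _ _ _
  let g : Z ⟶ J := Injective.factorThru σbar (Abelian.factorThruCoimage π)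
  have hg : Abelian.factorThruCoimage π ≫ g = σbar := Injective.comp_factorThru _ _
  have hπg : π ≫ g = σ := by
    rw [← Abelian.coimage.fac π, Category.assoc, hg, hσbar]
  refine ⟨g, ?_, ?_⟩
  · have := congrArg (fun m => biprod.inl ≫ m) hπg
    simpa [π, σ] using this
  · have := congrArg (fun m => biprod.inr ≫ m) hπg
    simpa [π, σ] using this

/-- strictness of a monomorphism: the squares `X(q) → X(p)`, `Y(q) → Y(p)` are cartesian -/
theorem strict_lift {X Y : FilF A} (u : X ⟶ Y) [Mono u] (hu : IsStrict u) (p q : ℤ) (h : p ≤ q)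
    {W : A} (a : W ⟶ X.obj.obj (op p)) (b : W ⟶ Y.obj.obj (op q))
    (hab : a ≫ u.hom.app (op p) = b ≫ Y.obj.map (homOfLE h).op) :
    ∃ c : W ⟶ X.obj.obj (op q), c ≫ X.obj.map (homOfLE h).op = a ∧ c ≫ u.hom.app (op q) = b := by
  have hs := hu p q h
  have hmp : Mono (u.hom.app (op p)) := mono_app_of_mono u _
  have hmq : Mono (u.hom.app (op q)) := mono_app_of_mono u _
  have hmY : Mono (Y.obj.map (homOfLE h).op) := Y.property.1 _
  have hmc : Mono (u.hom.app (op q) ≫ Y.obj.map (homOfLE h).op) := mono_comp _ _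
  rw [imageSubobject_mono, imageSubobject_mono] at hs
  have hf : (Subobject.mk (u.hom.app (op q) ≫ Y.obj.map (homOfLE h).op)).Factors
      (a ≫ u.hom.app (op p)) := by
    rw [hs]
    apply (Subobject.inf_factors _).2
    constructor
    · exact (Subobject.mk_factors_iff _ _).2 ⟨a, rfl⟩
    · exact (Subobject.mk_factors_iff _ _).2 ⟨b, hab.symm⟩
  obtain ⟨c, hc'⟩ : ∃ c : W ⟶ X.obj.obj (op q),
      c ≫ u.hom.app (op q) ≫ Y.obj.map (homOfLE h).op = a ≫ u.hom.app (op p) :=
    (Subobject.mk_factors_iff _ _).1 hf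
  refine ⟨c, ?_, ?_⟩
  · have hn : X.obj.map (homOfLE h).op ≫ u.hom.app (op p) =
        u.hom.app (op q) ≫ Y.obj.map (homOfLE h).op := u.hom.naturality _
    rw [← cancel_mono (u.hom.app (op p)), Category.assoc, hn]
    exact hc'
  · rw [← cancel_mono (Y.obj.map (homOfLE h).op), Category.assoc, hc', hab]

/-- one step of the extension: from level `q = p + 1` to level `p` -/
theorem exists_extension_level {X Y I : FilF A} (u : X ⟶ Y) [Mono u] (hu : IsStrict u)
    (hI : IsFilteredInjective I) (f : X ⟶ I) (p q : ℤ) (h : p ≤ q)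
    (gq : Y.obj.obj (op q) ⟶ I.obj.obj (op q))
    (hgq : u.hom.app (op q) ≫ gq = f.hom.app (op q)) :
    ∃ gp : Y.obj.obj (op p) ⟶ I.obj.obj (op p), u.hom.app (op p) ≫ gp = f.hom.app (op p) ∧
      Y.obj.map (homOfLE h).op ≫ gp = gq ≫ I.obj.map (homOfLE h).op := by
  apply exists_extension_step (u.hom.app (op p)) (Y.obj.map (homOfLE h).op)
    (injective_level I hI p) (f.hom.app (op p)) (gq ≫ I.obj.map (homOfLE h).op)
  intro W a b hab
  obtain ⟨c, hc1, hc2⟩ := strict_lift u hu p q h a b hab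
  have hn : X.obj.map (homOfLE h).op ≫ f.hom.app (op p) =
      f.hom.app (op q) ≫ I.obj.map (homOfLE h).op := f.hom.naturality _
  rw [← hc1, ← hc2, Category.assoc, hn, Category.assoc, ← Category.assoc (u.hom.app (op q)), hgq]

/-- extension of morphisms into a filtered injective object along a strict monomorphism -/
theorem exists_extension {X Y I : FilF A} (u : X ⟶ Y) [Mono u] (hu : IsStrict u)
    (hI : IsFilteredInjective I) (f : X ⟶ I) : ∃ g : Y ⟶ I, u ≫ g = f := by
  classical
  obtain ⟨b, hb⟩ := I.property.2.1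
  let C : ℤ → Type v := fun p =>
    {g : Y.obj.obj (op p) ⟶ I.obj.obj (op p) // u.hom.app (op p) ≫ g = f.hom.app (op p)}
  let H0 : C b := ⟨0, (hb b le_rfl).eq_of_tgt _ _⟩
  let Hs : ∀ k, b ≤ k → C k → C (k + 1) := fun k hk _ => ⟨0, (hb (k + 1) (by omega)).eq_of_tgt _ _⟩
  let Hp : ∀ k, k ≤ b → C k → C (k - 1) := fun k _ c =>
    ⟨Classical.choose (exists_extension_level u hu hI f (k - 1) k (by omega) c.1 c.2),
      (Classical.choose_spec (exists_extension_level u hu hI f (k - 1) k (by omega) c.1 c.2)).1⟩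
  let G : ∀ p, C p := fun p => Int.inductionOn' p b H0 Hs Hp
  have hG : ∀ p : ℤ, Y.obj.map (stepHom p) ≫ (G p).1 = (G (p + 1)).1 ≫ I.obj.map (stepHom p) := by
    intro p
    by_cases hp : b ≤ p
    · exact (hb p hp).eq_of_tgt _ _
    · push Not at hp
      have hk : p + 1 ≤ b := hp
      have e : G (p + 1 - 1) = Hp (p + 1) hk (G (p + 1)) := Int.inductionOn'_sub_one hk
      have spec := (Classical.choose_spec (exists_extension_level u hu hI f (p + 1 - 1) (p + 1)
        (by omega) (G (p + 1)).1 (G (p + 1)).2)).2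
      have key : ∀ (p' : ℤ) (hp' : p' = p) (h : p' ≤ p + 1),
          Y.obj.map (homOfLE h).op ≫ (G p').1 = (G (p + 1)).1 ≫ I.obj.map (homOfLE h).op →
          Y.obj.map (stepHom p) ≫ (G p).1 = (G (p + 1)).1 ≫ I.obj.map (stepHom p) := by
        intro p' hp'
        subst hp'
        intro h hh
        exact hh
      apply key (p + 1 - 1) (by ring) (by omega)
      rw [e]
      exact spec
  refine ⟨ObjectProperty.homMk (natTransOfSteps (fun p => (G p).1) hG), ?_⟩
  apply ObjectProperty.hom_ext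
  ext x
  exact (G x.unop).2

/-- membership in an image, up to refinements -/
theorem imageSubobject_factors_iff {X Y W : A} (f : X ⟶ Y) (t : W ⟶ Y) :
    (imageSubobject f).Factors t ↔
      ∃ (W' : A) (π : W' ⟶ W) (_ : Epi π) (x : W' ⟶ X), π ≫ t = x ≫ f := by
  have h : imageSubobject f = kernelSubobject (cokernel.π f) :=
    (ShortComplex.exact_iff_image_eq_kernel (ShortComplex.cokernelSequence f)).1
      (ShortComplex.cokernelSequence_exact f)
  rw [h, kernelSubobject_factors_iff]
  exact CokernelCofork.IsColimit.comp_π_eq_zero_iff_up_to_refinements (cokernelIsCokernel f) t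

omit [Abelian A] in
theorem subobject_le_of_forall_factors {Y : A} {S T : Subobject Y}
    (h : ∀ {W : A} (t : W ⟶ Y), S.Factors t → T.Factors t) : S ≤ T :=
  Subobject.le_of_factors (h _ S.factors_self)

/-- the projection `F(p) → gr^p F` -/
noncomputable abbrev grπ (F : ℤᵒᵖ ⥤ A) (p : ℤ) : F.obj (op p) ⟶ (gr A p).obj F :=
  cokernel.π (F.map (stepHom p))

instance (F : ℤᵒᵖ ⥤ A) (p : ℤ) : Epi (grπ F p) := by
  dsimp only [grπ]
  change Epi (cokernel.π (F.map (stepHom p)))
  infer_instance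

theorem grπ_map {F G : ℤᵒᵖ ⥤ A} (φ : F ⟶ G) (p : ℤ) :
    grπ F p ≫ (gr A p).map φ = φ.app (op p) ≫ grπ G p := by
  simp [gr, grπ]

theorem step_grπ (F : ℤᵒᵖ ⥤ A) (p : ℤ) : F.map (stepHom p) ≫ grπ F p = 0 :=
  cokernel.condition _

/-- a map killed by the projection to `gr^p` factors through the next step -/
theorem exists_lift_step (F : ℤᵒᵖ ⥤ A) (p : ℤ) [Mono (F.map (stepHom p))] {W : A}
    (t : W ⟶ F.obj (op p)) (ht : t ≫ grπ F p = 0) :
    ∃ t' : W ⟶ F.obj (op (p + 1)), t' ≫ F.map (stepHom p) = t :=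
  ⟨Abelian.monoLift (F.map (stepHom p)) t ht, Abelian.monoLift_comp _ _ _⟩

theorem app_comp_zero {F G H : ℤᵒᵖ ⥤ A} (f : F ⟶ G) (g : G ⟶ H) (w : f ≫ g = 0) (x : ℤᵒᵖ) :
    f.app x ≫ g.app x = 0 := by
  rw [← NatTrans.comp_app, w, zero_app]

theorem gr_comp_zero {F G H : ℤᵒᵖ ⥤ A} (f : F ⟶ G) (g : G ⟶ H) (w : f ≫ g = 0) (p : ℤ) :
    (gr A p).map f ≫ (gr A p).map g = 0 := by
  rw [← Functor.map_comp, w, Functor.map_zero]

/-- descending step for levelwise exactness -/
theorem exact_level_step {F G H : ℤᵒᵖ ⥤ A} (f : F ⟶ G) (g : G ⟶ H) (w : f ≫ g = 0) (p : ℤ)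
    [Mono (G.map (stepHom p))] [Mono (H.map (stepHom p))]
    (h1 : (ShortComplex.mk _ _ (app_comp_zero f g w (op (p + 1)))).Exact)
    (hgr : (ShortComplex.mk _ _ (gr_comp_zero f g w p)).Exact) :
    (ShortComplex.mk _ _ (app_comp_zero f g w (op p))).Exact := by
  rw [ShortComplex.exact_iff_exact_up_to_refinements]
  intro W y hy
  dsimp at y hy ⊢
  -- image of y in gr^p G
  have h2 : (y ≫ grπ G p) ≫ (gr A p).map g = 0 := by
    rw [Category.assoc, grπ_map, ← Category.assoc, hy, zero_comp]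
  obtain ⟨W₁, π₁, hπ₁, xbar, hxbar⟩ := hgr.exact_up_to_refinements (y ≫ grπ G p) h2
  dsimp at xbar hxbar
  obtain ⟨W₂, π₂, hπ₂, x₂, hx₂⟩ := surjective_up_to_refinements_of_epi (grπ F p) xbar
  -- the difference lies in G(p+1)
  have h3 : (π₂ ≫ π₁ ≫ y - x₂ ≫ f.app (op p)) ≫ grπ G p = 0 := by
    rw [Preadditive.sub_comp, Category.assoc, Category.assoc, Category.assoc, ← grπ_map,
      ← Category.assoc x₂, ← hx₂, Category.assoc, ← hxbar, sub_self]
  obtain ⟨y', hy'⟩ := exists_lift_step G p _ h3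
  have h4 : y' ≫ g.app (op (p + 1)) = 0 := by
    rw [← cancel_mono (H.map (stepHom p)), Category.assoc, ← g.naturality, ← Category.assoc, hy',
      Preadditive.sub_comp, Category.assoc, Category.assoc, hy, Category.assoc,
      app_comp_zero f g w, zero_comp]
    simp
  obtain ⟨W₃, π₃, hπ₃, x', hx'⟩ := h1.exact_up_to_refinements y' h4
  dsimp at x' hx'
  refine ⟨W₃, π₃ ≫ π₂ ≫ π₁, inferInstance, π₃ ≫ x₂ + x' ≫ F.map (stepHom p), ?_⟩
  rw [Preadditive.add_comp, Category.assoc x', f.naturality, ← Category.assoc x', ← hx',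
    Category.assoc π₃ y', hy', Preadditive.comp_sub, Category.assoc, Category.assoc, Category.assoc]
  abel


/-- levelwise exactness from exactness of the graded pieces -/
theorem exact_level_of_gr_exact {F G H : ℤᵒᵖ ⥤ A} (f : F ⟶ G) (g : G ⟶ H) (w : f ≫ g = 0)
    (hG : ∀ p, Mono (G.map (stepHom p))) (hH : ∀ p, Mono (H.map (stepHom p)))
    (b : ℤ) (hb : ∀ p, b ≤ p → IsZero (G.obj (op p)))
    (hgr : ∀ p, (ShortComplex.mk _ _ (gr_comp_zero f g w p)).Exact) (p : ℤ) :
    (ShortComplex.mk _ _ (app_comp_zero f g w (op p))).Exact := by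
  have key : ∀ (n : ℕ) (p : ℤ), b ≤ p + n →
      (ShortComplex.mk _ _ (app_comp_zero f g w (op p))).Exact := by
    intro n
    induction n with
    | zero =>
      intro p hp
      exact ShortComplex.exact_of_isZero_X₂ _ (hb p (by simpa using hp))
    | succ n ih =>
      intro p hp
      have := hG p
      have := hH p
      exact exact_level_step f g w p (ih (p + 1) (by push_cast at hp; omega)) (hgr p)
  by_cases hp : b ≤ p
  · exact key 0 p (by simpa using hp)
  · push Not at hp
    obtain ⟨n, hn⟩ := Int.le.dest hp.le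
    exact key n p (by omega)

/-- levelwise exactness of a short complex of finite filtered objects with exact graded pieces -/
theorem exact_level_of_gr_exact' (S : ShortComplex (FilF A))
    (hS : ∀ p : ℤ, (S.map (grF A p)).Exact) (p : ℤ) :
    (S.map ((IsFinFil A).ι ⋙ (evaluation ℤᵒᵖ A).obj (op p))).Exact := by
  have w : S.f.hom ≫ S.g.hom = 0 := by
    have := S.zero
    exact congrArg (fun φ => φ.hom) this
  obtain ⟨b, hb⟩ := S.X₂.property.2.1
  exact exact_level_of_gr_exact S.f.hom S.g.hom w (fun p => S.X₂.property.1 _)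
    (fun p => S.X₃.property.1 _) b hb (fun p => hS p) p

/-- strictness, in terms of generalized elements up to refinements -/
def StrictEl {F G : FilF A} (φ : F ⟶ G) : Prop :=
  ∀ (p q : ℤ) (hpq : p ≤ q) ⦃W : A⦄ (y : W ⟶ F.obj.obj (op p)) (z : W ⟶ G.obj.obj (op q)),
    y ≫ φ.hom.app (op p) = z ≫ G.obj.map (homOfLE hpq).op →
    ∃ (W' : A) (π : W' ⟶ W) (_ : Epi π) (y' : W' ⟶ F.obj.obj (op q)),
      π ≫ z = y' ≫ φ.hom.app (op q)

theorem isStrict_of_strictEl {F G : FilF A} (φ : F ⟶ G) (h : StrictEl φ) : IsStrict φ := by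
  intro p q hpq
  have hm : Mono (G.obj.map (homOfLE hpq).op) := G.property.1 _
  apply le_antisymm
  · apply le_inf
    · have hn : F.obj.map (homOfLE hpq).op ≫ φ.hom.app (op p) =
          φ.hom.app (op q) ≫ G.obj.map (homOfLE hpq).op := φ.hom.naturality _
      have h3 : imageSubobject (F.obj.map (homOfLE hpq).op ≫ φ.hom.app (op p)) ≤
          imageSubobject (φ.hom.app (op p)) := imageSubobject_comp_le _ _
      have h4 : imageSubobject (φ.hom.app (op q) ≫ G.obj.map (homOfLE hpq).op) =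
          imageSubobject (F.obj.map (homOfLE hpq).op ≫ φ.hom.app (op p)) := by
        congr 1
        exact hn.symm
      rw [h4]
      exact h3
    · have := imageSubobject_comp_le (φ.hom.app (op q)) (G.obj.map (homOfLE hpq).op)
      rwa [imageSubobject_mono (G.obj.map (homOfLE hpq).op)] at this
  · apply subobject_le_of_forall_factors
    intro W t ht
    rw [Subobject.inf_factors] at ht
    obtain ⟨h1, h2⟩ := ht
    obtain ⟨W', π, hπ, y, hy⟩ := (imageSubobject_factors_iff _ _).1 h1
    obtain ⟨z, hz⟩ : ∃ z : W ⟶ G.obj.obj (op q), z ≫ G.obj.map (homOfLE hpq).op = t :=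
      (Subobject.mk_factors_iff _ _).1 h2
    obtain ⟨W'', π', hπ', y', hy'⟩ := h p q hpq y (π ≫ z) (by rw [← hy, Category.assoc, hz])
    rw [imageSubobject_factors_iff]
    refine ⟨W'', π' ≫ π, inferInstance, y', ?_⟩
    rw [← Category.assoc y', ← hy', Category.assoc, Category.assoc, Category.assoc, hz]

theorem strictEl_of_isStrict {F G : FilF A} (φ : F ⟶ G) (h : IsStrict φ) : StrictEl φ := by
  intro p q hpq W y z hyz
  have hm : Mono (G.obj.map (homOfLE hpq).op) := G.property.1 _
  have hs := h p q hpq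
  have hf : (imageSubobject (φ.hom.app (op q) ≫ G.obj.map (homOfLE hpq).op)).Factors
      (y ≫ φ.hom.app (op p)) := by
    rw [hs, Subobject.inf_factors]
    constructor
    · rw [imageSubobject_factors_iff]
      exact ⟨W, 𝟙 W, inferInstance, y, Category.id_comp _⟩
    · rw [hyz]
      exact (Subobject.mk_factors_iff _ _).2 ⟨z, rfl⟩
  obtain ⟨W', π, hπ, y', hy'⟩ := (imageSubobject_factors_iff _ _).1 hf
  refine ⟨W', π, hπ, y', ?_⟩
  rw [← cancel_mono (G.obj.map (homOfLE hpq).op), Category.assoc, ← hyz, hy', Category.assoc]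

theorem isStrict_iff_strictEl {F G : FilF A} (φ : F ⟶ G) : IsStrict φ ↔ StrictEl φ :=
  ⟨strictEl_of_isStrict φ, isStrict_of_strictEl φ⟩

theorem hom_comp_zero (S : ShortComplex (FilF A)) : S.f.hom ≫ S.g.hom = 0 :=
  congrArg (fun φ => φ.hom) S.zero

/-- the first map of a short complex with exact graded pieces is strict -/
theorem strictEl_f_of_gr_exact (S : ShortComplex (FilF A))
    (hS : ∀ p : ℤ, (S.map (grF A p)).Exact) : StrictEl S.f := by
  intro p q hpq W y z hyz
  have hex := exact_level_of_gr_exact' S hS q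
  have hm : Mono (S.X₃.obj.map (homOfLE hpq).op) := S.X₃.property.1 _
  have hz : z ≫ S.g.hom.app (op q) = 0 := by
    rw [← cancel_mono (S.X₃.obj.map (homOfLE hpq).op), Category.assoc, ← S.g.hom.naturality,
      ← Category.assoc, ← hyz, Category.assoc, app_comp_zero _ _ (hom_comp_zero S), comp_zero,
      zero_comp]
  obtain ⟨W', π, hπ, x', hx'⟩ := hex.exact_up_to_refinements z hz
  exact ⟨W', π, hπ, x', hx'⟩

/-- the second map of a short complex with exact graded pieces is strict -/
theorem strictEl_g_of_gr_exact (S : ShortComplex (FilF A))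
    (hS : ∀ p : ℤ, (S.map (grF A p)).Exact) : StrictEl S.g := by
  have key : ∀ (k : ℕ) (p q : ℤ) (hpq : p ≤ q), q = p + k →
      ∀ ⦃W : A⦄ (y : W ⟶ S.X₂.obj.obj (op p)) (z : W ⟶ S.X₃.obj.obj (op q)),
      y ≫ S.g.hom.app (op p) = z ≫ S.X₃.obj.map (homOfLE hpq).op →
      ∃ (W' : A) (π : W' ⟶ W) (_ : Epi π) (y' : W' ⟶ S.X₂.obj.obj (op q)),
        π ≫ z = y' ≫ S.g.hom.app (op q) := by
    intro k
    induction k with
    | zero =>
      intro p q hpq hq W y z hyz
      have hq' : q = p := by simpa using hq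
      subst hq'
      refine ⟨W, 𝟙 W, inferInstance, y, ?_⟩
      rw [Category.id_comp, hyz, hom_eq (homOfLE hpq).op (𝟙 _), CategoryTheory.Functor.map_id, Category.comp_id]
    | succ k ih =>
      intro p q hpq hq W y z hyz
      have h1 : p + 1 ≤ q := by push_cast at hq; omega
      have hmY : Mono (S.X₂.obj.map (stepHom p)) := S.X₂.property.1 _
      have hmZ : Mono (S.X₃.obj.map (stepHom p)) := S.X₃.property.1 _
      have htr : S.X₃.obj.map (homOfLE hpq).op =
          S.X₃.obj.map (homOfLE h1).op ≫ S.X₃.obj.map (stepHom p) := by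
        rw [← Functor.map_comp]
        congr 1
      -- the image of y in gr^p Y is killed by gr g
      have h2 : (y ≫ grπ S.X₂.obj p) ≫ (gr A p).map S.g.hom = 0 := by
        rw [Category.assoc, grπ_map, ← Category.assoc, hyz, htr, Category.assoc, Category.assoc,
          step_grπ, comp_zero, comp_zero]
      obtain ⟨W₁, π₁, hπ₁, xbar, hxbar'⟩ : ∃ (W₁ : A) (π₁ : W₁ ⟶ W) (_ : Epi π₁)
          (xbar : W₁ ⟶ (gr A p).obj S.X₁.obj),
          π₁ ≫ y ≫ grπ S.X₂.obj p = xbar ≫ (gr A p).map S.f.hom :=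
        (hS p).exact_up_to_refinements (y ≫ grπ S.X₂.obj p) h2
      obtain ⟨W₂, π₂, hπ₂, x₂, hx₂⟩ :=
        surjective_up_to_refinements_of_epi (grπ S.X₁.obj p) xbar
      have h3 : (π₂ ≫ π₁ ≫ y - x₂ ≫ S.f.hom.app (op p)) ≫ grπ S.X₂.obj p = 0 := by
        rw [Preadditive.sub_comp, Category.assoc, Category.assoc, Category.assoc, ← grπ_map,
          ← Category.assoc x₂, ← hx₂, Category.assoc, ← hxbar', sub_self]
      obtain ⟨y', hy'⟩ := exists_lift_step S.X₂.obj p _ h3
      have h4 : y' ≫ S.g.hom.app (op (p + 1)) = (π₂ ≫ π₁ ≫ z) ≫ S.X₃.obj.map (homOfLE h1).op := by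
        rw [← cancel_mono (S.X₃.obj.map (stepHom p)), Category.assoc, ← S.g.hom.naturality,
          ← Category.assoc, hy', Preadditive.sub_comp, Category.assoc, Category.assoc,
          Category.assoc, app_comp_zero _ _ (hom_comp_zero S), comp_zero, sub_zero, hyz, htr]
        simp only [Category.assoc]
      obtain ⟨W₃, π₃, hπ₃, y'', hy''⟩ := ih (p + 1) q h1 (by push_cast at hq; omega) y'
        (π₂ ≫ π₁ ≫ z) h4
      refine ⟨W₃, π₃ ≫ π₂ ≫ π₁, inferInstance, y'', ?_⟩
      rw [← hy'']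
      simp only [Category.assoc]
  intro p q hpq W y z hyz
  obtain ⟨k, hk⟩ := Int.le.dest hpq
  exact key k p q hpq hk.symm y z hyz

/-- the short complex `Ker φ → X → Y` of finite filtered objects -/
noncomputable def kerSC {X Y : FilF A} (φ : X ⟶ Y) : ShortComplex (FilF A) :=
  ShortComplex.mk (kerι φ) φ (kerι_comp φ)

theorem gr_kernel_exact_of_isStrict {X Y : FilF A} (φ : X ⟶ Y) (hφ : IsStrict φ) (p : ℤ) :
    ((ShortComplex.mk (kernel.ι φ.hom) φ.hom (kernel.condition φ.hom)).map (gr A p)).Exact := by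
  have hel := strictEl_of_isStrict φ hφ
  rw [ShortComplex.exact_iff_exact_up_to_refinements]
  intro W xbar hxbar
  change W ⟶ (gr A p).obj X.obj at xbar
  have hxbar' : xbar ≫ (gr A p).map φ.hom = 0 := hxbar
  have hmY : Mono (Y.obj.map (stepHom p)) := Y.property.1 _
  obtain ⟨W₁, π₁, hπ₁, x, hx⟩ := surjective_up_to_refinements_of_epi (grπ X.obj p) xbar
  have h1 : (x ≫ φ.hom.app (op p)) ≫ grπ Y.obj p = 0 := by
    rw [Category.assoc, ← grπ_map, ← Category.assoc, ← hx, Category.assoc, hxbar', comp_zero]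
  obtain ⟨z, hz⟩ := exists_lift_step Y.obj p _ h1
  obtain ⟨W₂, π₂, hπ₂, x', hx'⟩ := hel p (p + 1) (by omega) x z hz.symm
  have h2 : (π₂ ≫ x - x' ≫ X.obj.map (stepHom p)) ≫ φ.hom.app (op p) = 0 := by
    rw [Preadditive.sub_comp, Category.assoc, ← hz, Category.assoc, φ.hom.naturality,
      ← Category.assoc x', ← hx', Category.assoc, sub_self]
  let k : W₂ ⟶ (kernel φ.hom).obj (op p) :=
    (kernelAppIsLimit φ.hom (op p)).lift (KernelFork.ofι _ h2)
  have hk : k ≫ (kernel.ι φ.hom).app (op p) = π₂ ≫ x - x' ≫ X.obj.map (stepHom p) :=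
    (kernelAppIsLimit φ.hom (op p)).fac (KernelFork.ofι _ h2) WalkingParallelPair.zero
  refine ⟨W₂, π₂ ≫ π₁, inferInstance, k ≫ grπ (kernel φ.hom) p, ?_⟩
  change (π₂ ≫ π₁) ≫ xbar = (k ≫ grπ (kernel φ.hom) p) ≫ (gr A p).map (kernel.ι φ.hom)
  rw [Category.assoc k, grπ_map, ← Category.assoc k, hk, Preadditive.sub_comp, Category.assoc,
    Category.assoc x', step_grπ, comp_zero, sub_zero, Category.assoc, hx]

theorem isStrict_iff_gr_kernel_exact {X Y : FilF A} (φ : X ⟶ Y) :
    IsStrict φ ↔ ∀ p : ℤ,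
      ((ShortComplex.mk (kernel.ι φ.hom) φ.hom (kernel.condition φ.hom)).map (gr A p)).Exact := by
  constructor
  · intro h p
    exact gr_kernel_exact_of_isStrict φ h p
  · intro h
    exact isStrict_of_strictEl _ (strictEl_g_of_gr_exact (kerSC φ) h)

/-- one step of the general extension: from level `q = p + 1` to level `p` -/
theorem exists_extension_level' {Y Z I : FilF A} (u : Y ⟶ Z) (hu : StrictEl u)
    (hI : IsFilteredInjective I) (ψ : Y ⟶ I)
    (hker : ∀ (p : ℤ) ⦃W : A⦄ (y : W ⟶ Y.obj.obj (op p)), y ≫ u.hom.app (op p) = 0 →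
      y ≫ ψ.hom.app (op p) = 0)
    (p q : ℤ) (h : p ≤ q)
    (gq : Z.obj.obj (op q) ⟶ I.obj.obj (op q))
    (hgq : u.hom.app (op q) ≫ gq = ψ.hom.app (op q)) :
    ∃ gp : Z.obj.obj (op p) ⟶ I.obj.obj (op p), u.hom.app (op p) ≫ gp = ψ.hom.app (op p) ∧
      Z.obj.map (homOfLE h).op ≫ gp = gq ≫ I.obj.map (homOfLE h).op := by
  apply exists_extension_step (u.hom.app (op p)) (Z.obj.map (homOfLE h).op)
    (injective_level I hI p) (ψ.hom.app (op p)) (gq ≫ I.obj.map (homOfLE h).op)
  intro W a b hab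
  obtain ⟨W', π, hπ, y', hy'⟩ := hu p q h a b hab
  have hnu : Y.obj.map (homOfLE h).op ≫ u.hom.app (op p) =
      u.hom.app (op q) ≫ Z.obj.map (homOfLE h).op := u.hom.naturality _
  have hnψ : Y.obj.map (homOfLE h).op ≫ ψ.hom.app (op p) =
      ψ.hom.app (op q) ≫ I.obj.map (homOfLE h).op := ψ.hom.naturality _
  have h0 : (π ≫ a - y' ≫ Y.obj.map (homOfLE h).op) ≫ u.hom.app (op p) = 0 := by
    rw [Preadditive.sub_comp, Category.assoc, Category.assoc, hab, hnu, ← Category.assoc y',
      ← hy', Category.assoc, sub_self]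
  have h1 := hker p _ h0
  rw [Preadditive.sub_comp, sub_eq_zero, Category.assoc, Category.assoc, hnψ, ← hgq,
    ← Category.assoc y', ← Category.assoc y', ← hy'] at h1
  rw [← cancel_epi π, h1]
  simp only [Category.assoc]

/-- extension of a morphism into a filtered injective object along a strict morphism whose
levelwise kernels it kills -/
theorem exists_extension' {Y Z I : FilF A} (u : Y ⟶ Z) (hu : StrictEl u)
    (hI : IsFilteredInjective I) (ψ : Y ⟶ I)
    (hker : ∀ (p : ℤ) ⦃W : A⦄ (y : W ⟶ Y.obj.obj (op p)), y ≫ u.hom.app (op p) = 0 →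
      y ≫ ψ.hom.app (op p) = 0) : ∃ g : Z ⟶ I, u ≫ g = ψ := by
  classical
  obtain ⟨b, hb⟩ := I.property.2.1
  let C : ℤ → Type v := fun p =>
    {g : Z.obj.obj (op p) ⟶ I.obj.obj (op p) // u.hom.app (op p) ≫ g = ψ.hom.app (op p)}
  let H0 : C b := ⟨0, (hb b le_rfl).eq_of_tgt _ _⟩
  let Hs : ∀ k, b ≤ k → C k → C (k + 1) := fun k hk _ => ⟨0, (hb (k + 1) (by omega)).eq_of_tgt _ _⟩
  let Hp : ∀ k, k ≤ b → C k → C (k - 1) := fun k _ c =>
    ⟨Classical.choose (exists_extension_level' u hu hI ψ hker (k - 1) k (by omega) c.1 c.2),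
      (Classical.choose_spec (exists_extension_level' u hu hI ψ hker (k - 1) k (by omega) c.1 c.2)).1⟩
  let G : ∀ p, C p := fun p => Int.inductionOn' p b H0 Hs Hp
  have hG : ∀ p : ℤ, Z.obj.map (stepHom p) ≫ (G p).1 = (G (p + 1)).1 ≫ I.obj.map (stepHom p) := by
    intro p
    by_cases hp : b ≤ p
    · exact (hb p hp).eq_of_tgt _ _
    · push Not at hp
      have hk : p + 1 ≤ b := hp
      have e : G (p + 1 - 1) = Hp (p + 1) hk (G (p + 1)) := Int.inductionOn'_sub_one hk
      have spec := (Classical.choose_spec (exists_extension_level' u hu hI ψ hker (p + 1 - 1) (p + 1)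
        (by omega) (G (p + 1)).1 (G (p + 1)).2)).2
      have key : ∀ (p' : ℤ) (hp' : p' = p) (h : p' ≤ p + 1),
          Z.obj.map (homOfLE h).op ≫ (G p').1 = (G (p + 1)).1 ≫ I.obj.map (homOfLE h).op →
          Z.obj.map (stepHom p) ≫ (G p).1 = (G (p + 1)).1 ≫ I.obj.map (stepHom p) := by
        intro p' hp'
        subst hp'
        intro h hh
        exact hh
      apply key (p + 1 - 1) (by ring) (by omega)
      rw [e]
      exact spec
  refine ⟨ObjectProperty.homMk (natTransOfSteps (fun p => (G p).1) hG), ?_⟩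
  apply ObjectProperty.hom_ext
  ext x
  exact (G x.unop).2

/-- extension step for homotopies: a map killing the incoming differential extends along the
outgoing differential, for a short complex with exact graded pieces -/
theorem exists_homotopy_step (S : ShortComplex (FilF A)) (hS : ∀ p : ℤ, (S.map (grF A p)).Exact)
    {J : FilF A} (hJ : IsFilteredInjective J) (ψ : S.X₂ ⟶ J) (hψ : S.f ≫ ψ = 0) :
    ∃ h' : S.X₃ ⟶ J, S.g ≫ h' = ψ := by
  apply exists_extension' S.g (strictEl_g_of_gr_exact S hS) hJ ψ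
  intro p W y hy
  obtain ⟨W', π, hπ, x, hx'⟩ : ∃ (W' : A) (π : W' ⟶ W) (_ : Epi π)
      (x : W' ⟶ S.X₁.obj.obj (op p)), π ≫ y = x ≫ S.f.hom.app (op p) :=
    (exact_level_of_gr_exact' S hS p).exact_up_to_refinements y hy
  have h0 : S.f.hom.app (op p) ≫ ψ.hom.app (op p) = 0 := by
    have := congrArg (fun φ => φ.hom.app (op p)) hψ
    exact this
  rw [← cancel_epi π, ← Category.assoc, hx', Category.assoc, h0, comp_zero, comp_zero]

/-- the short complex `K^i → K^j → K^k` of a complex -/
theorem gr_exact_of_filteredAcyclic (K : CochainComplex (FilF A) ℤ) (hK : IsFilteredAcyclic K)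
    (i j k : ℤ) (hij : i + 1 = j) (hjk : j + 1 = k) (p : ℤ) :
    ((K.sc' i j k).map (grF A p)).Exact := by
  have h := hK p j
  rw [HomologicalComplex.exactAt_iff' _ i j k (by simp [← hij]) (by simp [← hjk])] at h
  exact h

theorem nullhomotopic_of_filteredAcyclic (K I : CochainComplex (FilF A) ℤ)
    (hK : IsFilteredAcyclic K) (a : ℤ) [I.IsStrictlyGE a]
    (hI : ∀ n, IsFilteredInjective (I.X n)) (φ : K ⟶ I) : Nonempty (Homotopy φ 0) := by
  classical
  let C : ℤ → Type _ := fun m =>
    {h : K.X (m + 1) ⟶ I.X m // K.d m (m + 1) ≫ (φ.f (m + 1) - h ≫ I.d m (m + 1)) = 0}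
  have hzero : ∀ m, m < a → IsZero (I.X m) := fun m hm => I.isZero_of_isStrictlyGE a m hm
  have step : ∀ (k : ℤ) (c : C k), ∃ h' : K.X (k + 1 + 1) ⟶ I.X (k + 1),
      K.d (k + 1) (k + 1 + 1) ≫ h' = φ.f (k + 1) - c.1 ≫ I.d k (k + 1) := by
    intro k c
    exact exists_homotopy_step (K.sc' k (k + 1) (k + 1 + 1))
      (gr_exact_of_filteredAcyclic K hK k (k + 1) (k + 1 + 1) rfl rfl) (hI (k + 1)) _ c.2
  have inv_of_rel : ∀ (k : ℤ) (c : C k) (h' : K.X (k + 1 + 1) ⟶ I.X (k + 1)),
      K.d (k + 1) (k + 1 + 1) ≫ h' = φ.f (k + 1) - c.1 ≫ I.d k (k + 1) →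
      K.d (k + 1) (k + 1 + 1) ≫ (φ.f (k + 1 + 1) - h' ≫ I.d (k + 1) (k + 1 + 1)) = 0 := by
    intro k c h' hrel
    rw [Preadditive.comp_sub, ← Category.assoc, hrel, Preadditive.sub_comp, Category.assoc,
      I.d_comp_d, comp_zero, sub_zero, φ.comm, sub_self]
  have inv_zero : ∀ m : ℤ, m < a →
      K.d m (m + 1) ≫ (φ.f (m + 1) - (0 : K.X (m + 1) ⟶ I.X m) ≫ I.d m (m + 1)) = 0 := by
    intro m hm
    rw [zero_comp, sub_zero, ← φ.comm, (hzero m hm).eq_of_tgt (φ.f m) 0, zero_comp]
  let H0 : C (a - 1) := ⟨0, inv_zero (a - 1) (by omega)⟩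
  let Hs : ∀ k, a - 1 ≤ k → C k → C (k + 1) := fun k _ c =>
    ⟨Classical.choose (step k c), inv_of_rel k c _ (Classical.choose_spec (step k c))⟩
  let Hp : ∀ k, k ≤ a - 1 → C k → C (k - 1) := fun k hk _ => ⟨0, inv_zero (k - 1) (by omega)⟩
  let G : ∀ m, C m := fun m => Int.inductionOn' m (a - 1) H0 Hs Hp
  have hrel : ∀ k : ℤ, K.d (k + 1) (k + 1 + 1) ≫ (G (k + 1)).1 =
      φ.f (k + 1) - (G k).1 ≫ I.d k (k + 1) := by
    intro k
    by_cases hk : a - 1 ≤ k
    · have e : G (k + 1) = Hs k hk (G k) := Int.inductionOn'_add_one hk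
      rw [e]
      exact Classical.choose_spec (step k (G k))
    · exact (hzero (k + 1) (by omega)).eq_of_tgt _ _
  have hcomm : ∀ (k i : ℤ) (hk : k + 1 = i),
      φ.f i = K.d i (i + 1) ≫ (G i).1 +
        (eqToHom (by rw [hk]) ≫ (G k).1) ≫ I.d k i := by
    intro k i hk
    subst hk
    rw [eqToHom_refl, Category.id_comp, hrel k]
    abel
  refine ⟨{ hom := fun i j => if h : j + 1 = i then eqToHom (by rw [h]) ≫ (G j).1 else 0
            zero := ?_
            comm := ?_ }⟩
  · intro i j hij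
    have : ¬ (j + 1 = i) := hij
    rw [dif_neg this]
  · intro i
    rw [dNext_eq _ (show (ComplexShape.up ℤ).Rel i (i + 1) from rfl),
      prevD_eq _ (show (ComplexShape.up ℤ).Rel (i - 1) i from by simp)]
    rw [dif_pos rfl, dif_pos (by ring : i - 1 + 1 = i)]
    rw [eqToHom_refl, Category.id_comp, HomologicalComplex.zero_f, add_zero]
    exact hcomm (i - 1) i (by ring)

theorem biprod_total_app (F G : ℤᵒᵖ ⥤ A) (x : ℤᵒᵖ) :
    (biprod.fst : F ⊞ G ⟶ F).app x ≫ (biprod.inl : F ⟶ F ⊞ G).app x +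
      (biprod.snd : F ⊞ G ⟶ G).app x ≫ (biprod.inr : G ⟶ F ⊞ G).app x = 𝟙 ((F ⊞ G).obj x) := by
  have h := congrArg (fun t => NatTrans.app t x) (biprod.total (X := F) (Y := G))
  exact h

theorem isFinFil_biprod (X Y : FilF A) : IsFinFil A (X.obj ⊞ Y.obj) := by
  refine ⟨?_, ?_, ?_⟩
  · intro p q f
    have hX : Mono (X.obj.map f) := X.property.1 f
    have hY : Mono (Y.obj.map f) := Y.property.1 f
    apply Preadditive.mono_of_cancel_zero
    intro W w hw
    have h1 : w ≫ (biprod.fst : X.obj ⊞ Y.obj ⟶ X.obj).app p = 0 := by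
      rw [← cancel_mono (X.obj.map f), Category.assoc, ← NatTrans.naturality, ← Category.assoc, hw,
        zero_comp, zero_comp]
    have h2 : w ≫ (biprod.snd : X.obj ⊞ Y.obj ⟶ Y.obj).app p = 0 := by
      rw [← cancel_mono (Y.obj.map f), Category.assoc, ← NatTrans.naturality, ← Category.assoc, hw,
        zero_comp, zero_comp]
    rw [← Category.comp_id w, ← biprod_total_app, Preadditive.comp_add, ← Category.assoc, h1,
      ← Category.assoc, h2, zero_comp, zero_comp, add_zero]
  · obtain ⟨b₁, hb₁⟩ := X.property.2.1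
    obtain ⟨b₂, hb₂⟩ := Y.property.2.1
    refine ⟨max b₁ b₂, fun p hp => ?_⟩
    rw [IsZero.iff_id_eq_zero, ← biprod_total_app,
      (hb₁ p (le_trans (le_max_left _ _) hp)).eq_of_tgt ((biprod.fst : X.obj ⊞ Y.obj ⟶ X.obj).app (op p)) 0,
      (hb₂ p (le_trans (le_max_right _ _) hp)).eq_of_tgt ((biprod.snd : X.obj ⊞ Y.obj ⟶ Y.obj).app (op p)) 0,
      zero_comp, zero_comp, add_zero]
  · obtain ⟨a₁, ha₁⟩ := X.property.2.2
    obtain ⟨a₂, ha₂⟩ := Y.property.2.2
    refine ⟨min a₁ a₂, fun p q f hp => ?_⟩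
    have hX : IsIso (X.obj.map f) := ha₁ f (le_trans hp (min_le_left _ _))
    have hY : IsIso (Y.obj.map f) := ha₂ f (le_trans hp (min_le_right _ _))
    refine ⟨(biprod.fst : X.obj ⊞ Y.obj ⟶ X.obj).app q ≫ inv (X.obj.map f) ≫
        (biprod.inl : X.obj ⟶ X.obj ⊞ Y.obj).app p +
      (biprod.snd : X.obj ⊞ Y.obj ⟶ Y.obj).app q ≫ inv (Y.obj.map f) ≫
        (biprod.inr : Y.obj ⟶ X.obj ⊞ Y.obj).app p, ?_, ?_⟩
    · rw [Preadditive.comp_add, ← Category.assoc, NatTrans.naturality, Category.assoc,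
        IsIso.hom_inv_id_assoc, ← Category.assoc ((X.obj ⊞ Y.obj).map f), NatTrans.naturality,
        Category.assoc, IsIso.hom_inv_id_assoc, biprod_total_app]
    · rw [Preadditive.add_comp, Category.assoc, Category.assoc, ← NatTrans.naturality,
        IsIso.inv_hom_id_assoc, Category.assoc, Category.assoc, ← NatTrans.naturality,
        IsIso.inv_hom_id_assoc, biprod_total_app]

instance : HasBinaryBiproducts (FilF A) where
  has_binary_biproduct X Y := by
    let Z : FilF A := ⟨X.obj ⊞ Y.obj, isFinFil_biprod X Y⟩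
    let b : BinaryBicone X Y :=
      { pt := Z
        fst := ObjectProperty.homMk biprod.fst
        snd := ObjectProperty.homMk biprod.snd
        inl := ObjectProperty.homMk biprod.inl
        inr := ObjectProperty.homMk biprod.inr
        inl_fst := by apply ObjectProperty.hom_ext; exact biprod.inl_fst
        inl_snd := by apply ObjectProperty.hom_ext; exact biprod.inl_snd
        inr_fst := by apply ObjectProperty.hom_ext; exact biprod.inr_fst
        inr_snd := by apply ObjectProperty.hom_ext; exact biprod.inr_snd }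
    apply hasBinaryBiproduct_of_total b
    apply ObjectProperty.hom_ext
    exact biprod.total

theorem quasiIso_iff_mappingCone_exactAt {X Y : CochainComplex A ℤ} (ψ : X ⟶ Y) :
    QuasiIso ψ ↔ ∀ n : ℤ, (CochainComplex.mappingCone ψ).ExactAt n := by
  rw [← HomologicalComplex.mem_quasiIso_iff, ← HomotopyCategory.quotient_map_mem_quasiIso_iff,
    HomotopyCategory.quasiIso_eq_trW_subcategoryAcyclic,
    ← HomotopyCategory.quotient_obj_mem_subcategoryAcyclic_iff_exactAt]
  exact (HomotopyCategory.subcategoryAcyclic A).trW_iff_of_distinguished _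
    (HomotopyCategory.mappingCone_triangleh_distinguished ψ)

theorem exactAt_of_iso {K L : CochainComplex A ℤ} (e : K ≅ L) (n : ℤ) (h : K.ExactAt n) :
    L.ExactAt n := by
  rw [HomologicalComplex.exactAt_iff_isZero_homology] at h ⊢
  exact IsZero.of_iso h ((HomologicalComplex.homologyFunctor A _ n).mapIso e.symm)

/-- the mapping cone of a filtered quasi-isomorphism is filtered acyclic -/
theorem isFilteredAcyclic_mappingCone {K L : CochainComplex (FilF A) ℤ} (α : K ⟶ L)
    (hα : IsFilteredQuasiIso α) : IsFilteredAcyclic (CochainComplex.mappingCone α) := by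
  intro p n
  have h1 := (quasiIso_iff_mappingCone_exactAt ((grCx p).map α)).1 (hα p) n
  exact exactAt_of_iso (CochainComplex.mappingCone.mapHomologicalComplexIso α (grF A p)).symm n h1

open Pretriangulated

theorem hom_eq_zero_of_filteredAcyclic (C I : CochainComplex (FilF A) ℤ)
    (hC : IsFilteredAcyclic C) (a : ℤ) [I.IsStrictlyGE a]
    (hI : ∀ n, IsFilteredInjective (I.X n))
    (f : (HomotopyCategory.quotient (FilF A) (ComplexShape.up ℤ)).obj C ⟶
      (HomotopyCategory.quotient (FilF A) (ComplexShape.up ℤ)).obj I) : f = 0 := by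
  obtain ⟨g, rfl⟩ := (HomotopyCategory.quotient (FilF A) (ComplexShape.up ℤ)).map_surjective f
  obtain ⟨h⟩ := nullhomotopic_of_filteredAcyclic C I hC a hI g
  rw [HomotopyCategory.eq_of_homotopy _ _ h, Functor.map_zero]

theorem precomp_bijective (I : CochainComplex (FilF A) ℤ)
    (a : ℤ) [I.IsStrictlyGE a] (hI : ∀ n, IsFilteredInjective (I.X n))
    {K L : CochainComplex (FilF A) ℤ} (α : K ⟶ L) (hα : IsFilteredQuasiIso α) :
    Function.Bijective (fun β : (HomotopyCategory.quotient (FilF A) (ComplexShape.up ℤ)).obj L ⟶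
        (HomotopyCategory.quotient (FilF A) (ComplexShape.up ℤ)).obj I =>
      (HomotopyCategory.quotient (FilF A) (ComplexShape.up ℤ)).map α ≫ β) := by
  have hC := isFilteredAcyclic_mappingCone α hα
  have hT := HomotopyCategory.mappingCone_triangleh_distinguished α
  constructor
  · intro β₁ β₂ h
    dsimp only at h
    have h0 : (HomotopyCategory.quotient (FilF A) (ComplexShape.up ℤ)).map α ≫ (β₁ - β₂) = 0 := by
      rw [Preadditive.comp_sub, sub_eq_zero]
      exact h
    obtain ⟨c, hc⟩ := Triangle.yoneda_exact₂ (CochainComplex.mappingCone.triangleh α) hT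
      (β₁ - β₂) h0
    have hc0 : c = 0 := hom_eq_zero_of_filteredAcyclic _ I hC a hI c
    have hc' : β₁ - β₂ = 0 := hc.trans (by rw [hc0]; exact comp_zero)
    exact sub_eq_zero.1 hc'
  · intro γ
    have hI1 : (I⟦(1 : ℤ)⟧).IsStrictlyGE (a - 1) := I.isStrictlyGE_shift a 1 (a - 1) (by ring)
    have hI' : ∀ n, IsFilteredInjective ((I⟦(1 : ℤ)⟧).X n) := fun n => hI (n + 1)
    have hT' := rot_of_distTriang _ hT
    have hv : (CochainComplex.mappingCone.triangleh α).mor₃ ≫ γ⟦(1 : ℤ)⟧' = 0 := by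
      have h1 : ((CochainComplex.mappingCone.triangleh α).mor₃ ≫ γ⟦(1 : ℤ)⟧') ≫
          (((HomotopyCategory.quotient (FilF A) (ComplexShape.up ℤ)).commShiftIso (1 : ℤ)).app I).inv = 0 :=
        hom_eq_zero_of_filteredAcyclic _ (I⟦(1 : ℤ)⟧) hC (a - 1) hI' _
      rw [← cancel_mono (((HomotopyCategory.quotient (FilF A)
        (ComplexShape.up ℤ)).commShiftIso (1 : ℤ)).app I).inv, h1, zero_comp]
    obtain ⟨g, hg⟩ := Triangle.yoneda_exact₃ (CochainComplex.mappingCone.triangleh α).rotate hT'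
      (γ⟦(1 : ℤ)⟧') hv
    obtain ⟨c, hcg⟩ : ∃ c : (HomotopyCategory.quotient (FilF A) (ComplexShape.up ℤ)).obj L ⟶
        (HomotopyCategory.quotient (FilF A) (ComplexShape.up ℤ)).obj I, c⟦(1 : ℤ)⟧' = g :=
      (shiftFunctor (HomotopyCategory (FilF A) (ComplexShape.up ℤ)) (1 : ℤ)).map_surjective g
    have hg' : γ⟦(1 : ℤ)⟧' =
        (-((HomotopyCategory.quotient (FilF A) (ComplexShape.up ℤ)).map α)⟦(1 : ℤ)⟧') ≫ c⟦(1 : ℤ)⟧' := by
      rw [hcg]
      exact hg
    refine ⟨-c, ?_⟩
    apply (shiftFunctor (HomotopyCategory (FilF A) (ComplexShape.up ℤ)) (1 : ℤ)).map_injective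
    dsimp only
    rw [hg', Functor.map_comp, Functor.map_neg, Preadditive.neg_comp, Preadditive.comp_neg]

/-- chain maps from a complex concentrated in degree `0` to a complex vanishing in negative
degrees are equal as soon as they are homotopic -/
theorem eq_of_homotopy_single {X : FilF A} {J : CochainComplex (FilF A) ℤ} [J.IsStrictlyGE 0]
    (f g : (CochainComplex.singleFunctor (FilF A) 0).obj X ⟶ J) (h : Homotopy f g) : f = g := by
  ext n
  have hc := h.comm n
  have h1 : dNext n h.hom = 0 := by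
    rw [dNext_eq _ (show (ComplexShape.up ℤ).Rel n (n + 1) from rfl)]
    by_cases hn : n = 0
    · subst hn
      have : IsZero (((CochainComplex.singleFunctor (FilF A) 0).obj X).X (0 + 1)) := by
        apply HomologicalComplex.isZero_single_obj_X
        omega
      rw [this.eq_of_src (h.hom (0 + 1) 0) 0, comp_zero]
    · have : IsZero (((CochainComplex.singleFunctor (FilF A) 0).obj X).X n) := by
        apply HomologicalComplex.isZero_single_obj_X
        exact hn
      rw [this.eq_of_src (((CochainComplex.singleFunctor (FilF A) 0).obj X).d n (n + 1)) 0, zero_comp]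
  have h2 : prevD n h.hom = 0 := by
    rw [prevD_eq _ (show (ComplexShape.up ℤ).Rel (n - 1) n from by simp)]
    by_cases hn : n = 0
    · subst hn
      have : IsZero (J.X (0 - 1)) := J.isZero_of_isStrictlyGE 0 _ (by omega)
      rw [this.eq_of_tgt (h.hom 0 (0 - 1)) 0, zero_comp]
    · have : IsZero (((CochainComplex.singleFunctor (FilF A) 0).obj X).X n) := by
        apply HomologicalComplex.isZero_single_obj_X
        exact hn
      rw [this.eq_of_src (h.hom n (n - 1)) 0, zero_comp]
  rw [hc, h1, h2, zero_add, zero_add]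

theorem exists_map_of_resolutions {X Y : FilF A} (f : X ⟶ Y)
    (I : CochainComplex (FilF A) ℤ)
    (a : (CochainComplex.singleFunctor (FilF A) 0).obj X ⟶ I) (ha : IsFilteredQuasiIso a)
    (J : CochainComplex (FilF A) ℤ) [J.IsStrictlyGE 0] (hJ : ∀ n, IsFilteredInjective (J.X n))
    (b : (CochainComplex.singleFunctor (FilF A) 0).obj Y ⟶ J) :
    ∃ φ : I ⟶ J, a ≫ φ = (CochainComplex.singleFunctor (FilF A) 0).map f ≫ b := by
  obtain ⟨β, hβ⟩ := (precomp_bijective J 0 hJ a ha).2
    ((HomotopyCategory.quotient (FilF A) (ComplexShape.up ℤ)).map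
      ((CochainComplex.singleFunctor (FilF A) 0).map f ≫ b))
  obtain ⟨φ, rfl⟩ := (HomotopyCategory.quotient (FilF A) (ComplexShape.up ℤ)).map_surjective β
  dsimp only at hβ
  rw [← Functor.map_comp] at hβ
  refine ⟨φ, ?_⟩
  exact eq_of_homotopy_single _ _ (HomotopyCategory.homotopyOfEq _ _ hβ)

end Groth.Agent.Lib.Helper99.FilD
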