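import Groth.Agent.Lib.Helper99.FilRes
set_option autoImplicit false
set_option linter.style.haveILetI false
set_option linter.unusedSectionVars false
universe v u
open CategoryTheory CategoryTheory.Limits Opposite
namespace Groth.Agent.Lib.Helper99.FilD
open _root_.FilD
variable {A : Type u} [Category.{v} A] [Abelian A]
open ZeroObject

section Resolution

variable {Z : FilF A} (J : CochainComplex (FilF A) ℤ) [J.IsStrictlyGE 0]
  (c : (CochainComplex.singleFunctor (FilF A) 0).obj Z ⟶ J) (hc : IsFilteredQuasiIso c)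

include hc in
/-- a resolution is exact in nonzero degrees on graded pieces -/
theorem res_gr_exact (i j k : ℤ) (hij : i + 1 = j) (hjk : j + 1 = k) (hj : j ≠ 0) (p : ℤ) :
    ((J.sc' i j k).map (grF A p)).Exact := by
  haveI : QuasiIso ((grCx p).map c) := hc p
  have h1 : ((grCx p).obj ((CochainComplex.singleFunctor (FilF A) 0).obj Z)).ExactAt j := by
    apply ShortComplex.exact_of_isZero_X₂
    apply (grF A p).map_isZero
    exact HomologicalComplex.isZero_single_obj_X _ _ _ _ hj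
  have h2 : ((grCx p).obj J).ExactAt j :=
    (exactAt_iff_of_quasiIsoAt ((grCx p).map c) j).1 h1
  rw [HomologicalComplex.exactAt_iff' _ i j k (by simp [← hij]) (by simp [← hjk])] at h2
  exact h2

theorem single_d_eq_zero (i j : ℤ) :
    ((CochainComplex.singleFunctor (FilF A) 0).obj Z).d i j = 0 :=
  HomologicalComplex.single_obj_d _ _ _ _ _

theorem res_f_d : c.f 0 ≫ J.d 0 1 = 0 := by
  rw [c.comm 0 1, single_d_eq_zero, zero_comp]

include hc in
/-- the augmented resolution is exact in degree zero on graded pieces -/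
theorem res_gr_exact_zero (p : ℤ) :
    ((ShortComplex.mk (c.f 0) (J.d 0 1) (res_f_d J c)).map (grF A p)).Exact ∧
      Mono ((grF A p).map (c.f 0)) := by
  haveI : QuasiIso ((grCx p).map c) := hc p
  have h1 : QuasiIsoAt ((grCx p).map c) 0 := inferInstance
  rw [quasiIsoAt_iff' _ (-1) 0 1 (by simp) (by simp)] at h1
  have hz : IsZero (J.X (-1)) := J.isZero_of_isStrictlyGE 0 (-1) (by omega)
  rw [ShortComplex.quasiIso_iff_of_zeros] at h1
  · exact h1
  · change (grF A p).map (((CochainComplex.singleFunctor (FilF A) 0).obj Z).d (-1) 0) = 0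
    rw [single_d_eq_zero, Functor.map_zero]
  · change (grF A p).map (((CochainComplex.singleFunctor (FilF A) 0).obj Z).d 0 1) = 0
    rw [single_d_eq_zero, Functor.map_zero]
  · change (grF A p).map (J.d (-1) 0) = 0
    rw [hz.eq_of_src (J.d (-1) 0) 0, Functor.map_zero]

end Resolution

theorem epi_of_epi_app {X Y : FilF A} (φ : X ⟶ Y) (h : ∀ p : ℤ, Epi (φ.hom.app (op p))) :
    Epi φ := by
  constructor
  intro Z g₁ g₂ hg
  apply ObjectProperty.hom_ext
  ext x
  have h1 : φ.hom.app x ≫ g₁.hom.app x = φ.hom.app x ≫ g₂.hom.app x :=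
    congrArg (fun t : X ⟶ Z => t.hom.app x) hg
  haveI := h x.unop
  exact (cancel_epi (φ.hom.app x)).1 h1

section SES

variable (S : ShortComplex (FilF A)) (hS : ∀ p : ℤ, (S.map (evF p)).ShortExact)

include hS

theorem ses_f_mono_app (p : ℤ) : Mono (S.f.hom.app (op p)) := (hS p).mono_f

theorem ses_g_epi_app (p : ℤ) : Epi (S.g.hom.app (op p)) := (hS p).epi_g

theorem ses_lift (p : ℤ) {W : A} (y : W ⟶ S.X₂.obj.obj (op p)) (hy : y ≫ S.g.hom.app (op p) = 0) :
    ∃ (W' : A) (π : W' ⟶ W) (_ : Epi π) (x : W' ⟶ S.X₁.obj.obj (op p)),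
      π ≫ y = x ≫ S.f.hom.app (op p) :=
  (hS p).exact.exact_up_to_refinements y hy

theorem ses_f_strictEl : StrictEl S.f := by
  intro p q hpq W y z hyz
  have hm : Mono (S.X₃.obj.map (homOfLE hpq).op) := S.X₃.property.1 _
  have hz : z ≫ S.g.hom.app (op q) = 0 := by
    rw [← cancel_mono (S.X₃.obj.map (homOfLE hpq).op), Category.assoc, ← S.g.hom.naturality,
      ← Category.assoc, ← hyz, Category.assoc, app_comp_zero _ _ (hom_comp_zero S), comp_zero,
      zero_comp]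
  obtain ⟨W', π, hπ, x, hx⟩ := ses_lift S hS q z hz
  exact ⟨W', π, hπ, x, hx⟩

theorem ses_f_mono : Mono S.f := mono_of_mono_app _ (ses_f_mono_app S hS)

theorem ses_g_epi : Epi S.g := epi_of_epi_app _ (ses_g_epi_app S hS)

end SES

section Theta

variable (I J : CochainComplex (FilF A) ℤ)

/-- a stage of the construction of the connecting maps `θ^n : J^n ⟶ I^{n+1}` -/
structure ThStage (n : ℤ) where
  θ : J.X n ⟶ I.X (n + 1)
  inv : ∀ m : ℤ, J.d m n ≫ θ ≫ I.d (n + 1) (n + 1 + 1) = 0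

variable {I J}

theorem ThStage.exists_next {n : ℤ} (s : ThStage I J n)
    (hex : ∀ p : ℤ, ((J.sc' (n - 1) n (n + 1)).map (grF A p)).Exact)
    (hI : IsFilteredInjective (I.X (n + 1 + 1))) :
    ∃ θ' : J.X (n + 1) ⟶ I.X (n + 1 + 1),
      J.d n (n + 1) ≫ θ' = -(s.θ ≫ I.d (n + 1) (n + 1 + 1)) := by
  apply exists_homotopy_step (J.sc' (n - 1) n (n + 1)) hex hI (-(s.θ ≫ I.d (n + 1) (n + 1 + 1)))
  change J.d (n - 1) n ≫ (-(s.θ ≫ I.d (n + 1) (n + 1 + 1))) = 0
  rw [Preadditive.comp_neg, s.inv, neg_zero]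

/-- the next stage -/
noncomputable def ThStage.next {n : ℤ} (s : ThStage I J n)
    (hex : ∀ p : ℤ, ((J.sc' (n - 1) n (n + 1)).map (grF A p)).Exact)
    (hI : IsFilteredInjective (I.X (n + 1 + 1))) : ThStage I J (n + 1) where
  θ := (s.exists_next hex hI).choose
  inv := by
    intro m
    by_cases hm : m + 1 = n + 1
    · obtain rfl : m = n := by omega
      rw [← Category.assoc, (s.exists_next hex hI).choose_spec, Preadditive.neg_comp,
        Category.assoc, I.d_comp_d, comp_zero, neg_zero]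
    · rw [J.shape m (n + 1) hm, zero_comp]

theorem ThStage.next_spec {n : ℤ} (s : ThStage I J n)
    (hex : ∀ p : ℤ, ((J.sc' (n - 1) n (n + 1)).map (grF A p)).Exact)
    (hI : IsFilteredInjective (I.X (n + 1 + 1))) :
    s.θ ≫ I.d (n + 1) (n + 1 + 1) + J.d n (n + 1) ≫ (s.next hex hI).θ = 0 := by
  have := (s.exists_next hex hI).choose_spec
  change J.d n (n + 1) ≫ (s.next hex hI).θ = _ at this
  rw [this, add_neg_cancel]

end Theta

section Family

variable {I J : CochainComplex (FilF A) ℤ}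
  (hex : ∀ (n : ℤ), n ≠ 0 → ∀ p : ℤ, ((J.sc' (n - 1) n (n + 1)).map (grF A p)).Exact)
  (hI : ∀ n, IsFilteredInjective (I.X n))
  (θ0 : J.X (Int.ofNat 0) ⟶ I.X (Int.ofNat 0 + 1)) (base : ThStage I J (Int.ofNat 0 + 1))

/-- the stages in positive degrees -/
noncomputable def thN : ∀ j : ℕ, ThStage I J (Int.ofNat (j + 1))
  | 0 => base
  | j + 1 => (thN j).next (hex (Int.ofNat (j + 1)) (by intro h; cases h)) (hI _)

/-- the family of connecting maps -/
noncomputable def thetaFam : ∀ n : ℤ, J.X n ⟶ I.X (n + 1)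
  | Int.ofNat 0 => θ0
  | Int.ofNat (j + 1) => (thN hex hI base j).θ
  | Int.negSucc _ => 0

theorem thetaFam_rel [J.IsStrictlyGE 0]
    (h0 : θ0 ≫ I.d (Int.ofNat 0 + 1) (Int.ofNat 0 + 1 + 1) +
      J.d (Int.ofNat 0) (Int.ofNat 0 + 1) ≫ base.θ = 0) (n : ℤ) :
    thetaFam hex hI θ0 base n ≫ I.d (n + 1) (n + 1 + 1) +
      J.d n (n + 1) ≫ thetaFam hex hI θ0 base (n + 1) = 0 := by
  cases n with
  | ofNat k =>
    cases k with
    | zero => exact h0
    | succ j => exact (thN hex hI base j).next_spec _ _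
  | negSucc k =>
    have hz : IsZero (J.X (Int.negSucc k)) := isZero_X_negSucc J k
    exact hz.eq_of_src _ _

end Family

section HorseshoeCx

variable (I J : CochainComplex (FilF A) ℤ) (θ : ∀ n : ℤ, J.X n ⟶ I.X (n + 1))

/-- the differential of the horseshoe complex -/
noncomputable def hsD (n : ℤ) : I.X n ⊞ J.X n ⟶ I.X (n + 1) ⊞ J.X (n + 1) :=
  biprod.desc (I.d n (n + 1) ≫ biprod.inl) (θ n ≫ biprod.inl + J.d n (n + 1) ≫ biprod.inr)

variable (hθ : ∀ n : ℤ, θ n ≫ I.d (n + 1) (n + 1 + 1) + J.d n (n + 1) ≫ θ (n + 1) = 0)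

include hθ in
theorem hsD_sq (n : ℤ) : hsD I J θ n ≫ hsD I J θ (n + 1) = 0 := by
  apply biprod.hom_ext'
  · simp [hsD]
  · rw [hsD, hsD, biprod.inr_desc_assoc, Preadditive.add_comp, Category.assoc, Category.assoc,
      biprod.inl_desc, biprod.inr_desc, Preadditive.comp_add, ← Category.assoc, ← Category.assoc,
      ← Category.assoc (J.d n (n + 1)), ← add_assoc, ← Preadditive.add_comp, hθ n, zero_comp,
      zero_add, J.d_comp_d, zero_comp, comp_zero]

/-- the horseshoe complex -/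
noncomputable abbrev hsCx : CochainComplex (FilF A) ℤ :=
  CochainComplex.of (fun n => I.X n ⊞ J.X n) (hsD I J θ) (hsD_sq I J θ hθ)

theorem hsCx_d (n : ℤ) : (hsCx I J θ hθ).d n (n + 1) = hsD I J θ n :=
  CochainComplex.of_d (fun n => I.X n ⊞ J.X n) (hsD I J θ) n

/-- the inclusion of `I` -/
noncomputable def hsα : I ⟶ hsCx I J θ hθ where
  f n := biprod.inl
  comm' i j hij := by
    obtain rfl : i + 1 = j := hij
    rw [hsCx_d, hsD, biprod.inl_desc]

/-- the projection to `J` -/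
noncomputable def hsβ : hsCx I J θ hθ ⟶ J where
  f n := biprod.snd
  comm' i j hij := by
    obtain rfl : i + 1 = j := hij
    rw [hsCx_d, hsD]
    apply biprod.hom_ext' <;> simp

end HorseshoeCx

section ResMono

variable {Z : FilF A} (J : CochainComplex (FilF A) ℤ) [J.IsStrictlyGE 0]
  (c : (CochainComplex.singleFunctor (FilF A) 0).obj Z ⟶ J) (hc : IsFilteredQuasiIso c)

include hc in
theorem res_f_mono_app (p : ℤ) : Mono ((c.f 0).hom.app (op p)) := by
  let S' : ShortComplex (FilF A) :=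
    ShortComplex.mk (0 : zeroF ⟶ ((CochainComplex.singleFunctor (FilF A) 0).obj Z).X 0) (c.f 0)
      zero_comp
  have h1 : ∀ q : ℤ, (S'.map (grF A q)).Exact := by
    intro q
    have := (res_gr_exact_zero J c hc q).2
    rw [ShortComplex.exact_iff_mono _ (show (S'.map (grF A q)).f = 0 from
      (grF A q).map_zero _ _)]
    exact this
  have h2 := exact_level_of_gr_exact' S' h1 p
  have h3 : (S'.map ((IsFinFil A).ι ⋙ (evaluation ℤᵒᵖ A).obj (op p))).f = 0 := by
    change (evF p).map (0 : zeroF ⟶ ((CochainComplex.singleFunctor (FilF A) 0).obj Z).X 0) = 0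
    exact Functor.map_zero _ _ _
  rw [ShortComplex.exact_iff_mono _ h3] at h2
  exact h2

include hc in
theorem res_f_strictEl : StrictEl (c.f 0) :=
  strictEl_f_of_gr_exact (ShortComplex.mk (c.f 0) (J.d 0 1) (res_f_d J c))
    (fun p => (res_gr_exact_zero J c hc p).1)

end ResMono

/-- the filtered horseshoe lemma -/
theorem horseshoe (S : ShortComplex (FilF A))
    (hS : ∀ p : ℤ, (S.map ((IsFinFil A).ι ⋙ (evaluation ℤᵒᵖ A).obj (op p))).ShortExact)
    (I : CochainComplex (FilF A) ℤ) [I.IsStrictlyGE 0] (hI : ∀ n, IsFilteredInjective (I.X n))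
    (a : (CochainComplex.singleFunctor (FilF A) 0).obj S.X₁ ⟶ I)
    (J : CochainComplex (FilF A) ℤ) [J.IsStrictlyGE 0]
    (c : (CochainComplex.singleFunctor (FilF A) 0).obj S.X₃ ⟶ J) (hc : IsFilteredQuasiIso c) :
    ∃ (M : CochainComplex (FilF A) ℤ) (α : I ⟶ M) (β : M ⟶ J)
      (b : (CochainComplex.singleFunctor (FilF A) 0).obj S.X₂ ⟶ M),
      (∀ n, ∃ (r : M.X n ⟶ I.X n) (s : J.X n ⟶ M.X n), α.f n ≫ r = 𝟙 _ ∧ s ≫ β.f n = 𝟙 _ ∧
        α.f n ≫ β.f n = 0 ∧ r ≫ α.f n + β.f n ≫ s = 𝟙 _) ∧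
      a ≫ α = (CochainComplex.singleFunctor (FilF A) 0).map S.f ≫ b ∧
      b ≫ β = (CochainComplex.singleFunctor (FilF A) 0).map S.g ≫ c := by
  have hS' : ∀ p : ℤ, (S.map (evF p)).ShortExact := hS
  let σ₁ : ((CochainComplex.singleFunctor (FilF A) 0).obj S.X₁).X 0 ≅ S.X₁ :=
    HomologicalComplex.singleObjXSelf (ComplexShape.up ℤ) 0 S.X₁
  let σ₂ : ((CochainComplex.singleFunctor (FilF A) 0).obj S.X₂).X 0 ≅ S.X₂ :=
    HomologicalComplex.singleObjXSelf (ComplexShape.up ℤ) 0 S.X₂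
  let σ₃ : ((CochainComplex.singleFunctor (FilF A) 0).obj S.X₃).X 0 ≅ S.X₃ :=
    HomologicalComplex.singleObjXSelf (ComplexShape.up ℤ) 0 S.X₃
  -- the extension `b₁` of `a⁰`
  let a0 : S.X₁ ⟶ I.X (Int.ofNat 0) := σ₁.inv ≫ a.f 0
  have ha0 : a0 ≫ I.d (Int.ofNat 0) (Int.ofNat 0 + 1) = 0 := by
    have := res_f_d I a
    change (σ₁.inv ≫ a.f 0) ≫ I.d 0 1 = 0
    rw [Category.assoc, this, comp_zero]
  haveI := ses_f_mono S hS'
  obtain ⟨b₁, hb₁⟩ := exists_extension S.f (isStrict_of_strictEl _ (ses_f_strictEl S hS'))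
    (hI (Int.ofNat 0)) a0
  -- the map `u = g ≫ c⁰`
  have hcs : StrictEl (c.f 0) := res_f_strictEl J c hc
  have hcm : ∀ p, Mono ((c.f 0).hom.app (op p)) := res_f_mono_app J c hc
  let g' : S.X₂ ⟶ ((CochainComplex.singleFunctor (FilF A) 0).obj S.X₃).X 0 := S.g ≫ σ₃.inv
  have hg' : ∀ p : ℤ, Epi (g'.hom.app (op p)) := by
    intro p
    have h1 : Epi (S.g.hom.app (op p)) := ses_g_epi_app S hS' p
    have h2 : IsIso ((evF p).map σ₃.inv) := inferInstance
    have h3 : IsIso (σ₃.inv.hom.app (op p)) := h2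
    change Epi (S.g.hom.app (op p) ≫ σ₃.inv.hom.app (op p))
    infer_instance
  let u : S.X₂ ⟶ J.X (Int.ofNat 0) := g' ≫ c.f 0
  have hu : StrictEl u := strictEl_comp_of_epi g' (c.f 0) hg' hcs
  let ψ : S.X₂ ⟶ I.X (Int.ofNat 0 + 1) := -(b₁ ≫ I.d (Int.ofNat 0) (Int.ofNat 0 + 1))
  have hker : ∀ (p : ℤ) ⦃W : A⦄ (y : W ⟶ S.X₂.obj.obj (op p)), y ≫ u.hom.app (op p) = 0 →
      y ≫ ψ.hom.app (op p) = 0 := by
    intro p W y hy
    have h1 : (y ≫ g'.hom.app (op p)) ≫ (c.f 0).hom.app (op p) = 0 := by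
      rw [Category.assoc]
      exact hy
    have := hcm p
    have h2 : y ≫ g'.hom.app (op p) = 0 := by
      rw [← cancel_mono ((c.f 0).hom.app (op p)), h1, zero_comp]
    have h3 : IsIso ((evF p).map σ₃.inv) := inferInstance
    have h4 : IsIso (σ₃.inv.hom.app (op p)) := h3
    have h5 : (y ≫ S.g.hom.app (op p)) ≫ σ₃.inv.hom.app (op p) = 0 := by
      rw [Category.assoc]
      exact h2
    have h6 : y ≫ S.g.hom.app (op p) = 0 := by
      rw [← cancel_mono (σ₃.inv.hom.app (op p)), h5, zero_comp]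
    obtain ⟨W', π, hπ, x, hx⟩ := ses_lift S hS' p y h6
    have hfb : S.f.hom.app (op p) ≫ b₁.hom.app (op p) = a0.hom.app (op p) :=
      congrArg (fun t => t.hom.app (op p)) hb₁
    have had : a0.hom.app (op p) ≫ (I.d (Int.ofNat 0) (Int.ofNat 0 + 1)).hom.app (op p) = 0 :=
      congrArg (fun t => t.hom.app (op p)) ha0
    have hψ : ψ.hom.app (op p) =
        -(b₁.hom.app (op p) ≫ (I.d (Int.ofNat 0) (Int.ofNat 0 + 1)).hom.app (op p)) := rfl
    rw [← cancel_epi π, ← Category.assoc, hx, hψ, Preadditive.comp_neg, Category.assoc,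
      ← Category.assoc (S.f.hom.app (op p)), hfb, had, comp_zero, neg_zero, comp_zero]
  obtain ⟨θ0, hθ0⟩ := exists_extension' u hu (hI (Int.ofNat 0 + 1)) ψ hker
  -- the first connecting map
  haveI : Epi g' := epi_of_epi_app g' hg'
  have hψ1 : c.f 0 ≫ (-(θ0 ≫ I.d (Int.ofNat 0 + 1) (Int.ofNat 0 + 1 + 1))) = 0 := by
    rw [← cancel_epi g', comp_zero, Preadditive.comp_neg, Preadditive.comp_neg, ← Category.assoc,
      ← Category.assoc]
    change -((u ≫ θ0) ≫ _) = 0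
    rw [hθ0, Preadditive.neg_comp, Category.assoc, I.d_comp_d, comp_zero, neg_zero, neg_zero]
  obtain ⟨θ1, hθ1⟩ := exists_homotopy_step
    (ShortComplex.mk (c.f 0) (J.d 0 1) (res_f_d J c))
    (fun p => (res_gr_exact_zero J c hc p).1) (hI (Int.ofNat 0 + 1 + 1))
    (-(θ0 ≫ I.d (Int.ofNat 0 + 1) (Int.ofNat 0 + 1 + 1))) hψ1
  have hθ1' : J.d (Int.ofNat 0) (Int.ofNat 0 + 1) ≫ θ1 =
      -(θ0 ≫ I.d (Int.ofNat 0 + 1) (Int.ofNat 0 + 1 + 1)) := hθ1
  let base : ThStage I J (Int.ofNat 0 + 1) :=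
    { θ := θ1
      inv := by
        intro m
        by_cases hm : m + 1 = Int.ofNat 0 + 1
        · obtain rfl : m = Int.ofNat 0 := by omega
          rw [← Category.assoc, hθ1', Preadditive.neg_comp, Category.assoc, I.d_comp_d, comp_zero,
            neg_zero]
        · rw [J.shape m (Int.ofNat 0 + 1) hm, zero_comp] }
  have hex : ∀ (n : ℤ), n ≠ 0 → ∀ p : ℤ, ((J.sc' (n - 1) n (n + 1)).map (grF A p)).Exact :=
    fun n hn p => res_gr_exact J c hc (n - 1) n (n + 1) (by ring) rfl hn p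
  let θ := thetaFam hex hI θ0 base
  have hθ : ∀ n : ℤ, θ n ≫ I.d (n + 1) (n + 1 + 1) + J.d n (n + 1) ≫ θ (n + 1) = 0 :=
    thetaFam_rel hex hI θ0 base (by rw [hθ1', add_neg_cancel])
  -- the morphism from `X₂[0]`
  let c0 : S.X₃ ⟶ J.X (Int.ofNat 0) := σ₃.inv ≫ c.f 0
  let b0 : S.X₂ ⟶ (hsCx I J θ hθ).X 0 := biprod.lift b₁ u
  have hb0 : ∀ k : ℤ, (ComplexShape.up ℤ).Rel 0 k → b0 ≫ (hsCx I J θ hθ).d 0 k = 0 := by
    intro k hk
    obtain rfl : (0 : ℤ) + 1 = k := hk
    have hd : (hsCx I J θ hθ).d 0 (0 + 1) = hsD I J θ 0 := hsCx_d I J θ hθ 0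
    rw [hd]
    have hu0 : u ≫ J.d (Int.ofNat 0) (Int.ofNat 0 + 1) = 0 := by
      change (g' ≫ c.f 0) ≫ J.d 0 1 = 0
      rw [Category.assoc, res_f_d J c, comp_zero]
    have hθ0' : u ≫ θ (Int.ofNat 0) = -(b₁ ≫ I.d (Int.ofNat 0) (Int.ofNat 0 + 1)) := hθ0
    change biprod.lift b₁ u ≫ biprod.desc (I.d (Int.ofNat 0) (Int.ofNat 0 + 1) ≫ biprod.inl)
      (θ (Int.ofNat 0) ≫ biprod.inl + J.d (Int.ofNat 0) (Int.ofNat 0 + 1) ≫ biprod.inr) = 0
    rw [biprod.lift_desc, Preadditive.comp_add, ← Category.assoc, ← Category.assoc,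
      ← Category.assoc, hθ0', hu0, zero_comp, add_zero, Preadditive.neg_comp, add_neg_cancel]
  let b : (CochainComplex.singleFunctor (FilF A) 0).obj S.X₂ ⟶ hsCx I J θ hθ :=
    HomologicalComplex.mkHomFromSingle b0 hb0
  have hbf : b.f 0 = σ₂.hom ≫ b0 := HomologicalComplex.mkHomFromSingle_f b0 hb0
  refine ⟨hsCx I J θ hθ, hsα I J θ hθ, hsβ I J θ hθ, b, ?_, ?_, ?_⟩
  · intro n
    exact ⟨biprod.fst, biprod.inr, biprod.inl_fst, biprod.inr_snd, biprod.inl_snd, biprod.total⟩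
  · apply HomologicalComplex.from_single_hom_ext
    have h1 : ((CochainComplex.singleFunctor (FilF A) 0).map S.f).f 0 =
        σ₁.hom ≫ S.f ≫ σ₂.inv := HomologicalComplex.single_map_f_self _ _ _
    rw [HomologicalComplex.comp_f, HomologicalComplex.comp_f, h1, hbf]
    change a.f 0 ≫ biprod.inl = (σ₁.hom ≫ S.f ≫ σ₂.inv) ≫ σ₂.hom ≫ biprod.lift b₁ u
    have h2 : S.f ≫ u = 0 := by
      change S.f ≫ (S.g ≫ σ₃.inv) ≫ c.f 0 = 0
      rw [← Category.assoc, ← Category.assoc, S.zero, zero_comp, zero_comp]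
    rw [Category.assoc, Category.assoc, Iso.inv_hom_id_assoc]
    apply biprod.hom_ext
    · rw [Category.assoc, Category.assoc, Category.assoc, biprod.inl_fst, biprod.lift_fst, hb₁,
        Category.comp_id]
      change a.f 0 = σ₁.hom ≫ σ₁.inv ≫ a.f 0
      rw [Iso.hom_inv_id_assoc]
    · rw [Category.assoc, Category.assoc, Category.assoc, biprod.inl_snd]
      have h3 : biprod.lift b₁ u ≫ (biprod.snd : I.X (Int.ofNat 0) ⊞ J.X (Int.ofNat 0) ⟶ _) = u :=
        biprod.lift_snd _ _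
      have h4 : S.f ≫ biprod.lift b₁ u ≫
          (biprod.snd : I.X (Int.ofNat 0) ⊞ J.X (Int.ofNat 0) ⟶ _) = 0 := by
        rw [h3, h2]
      exact (comp_zero).trans ((congrArg (fun t => σ₁.hom ≫ t) h4).trans comp_zero).symm
  · apply HomologicalComplex.from_single_hom_ext
    have h1 : ((CochainComplex.singleFunctor (FilF A) 0).map S.g).f 0 =
        σ₂.hom ≫ S.g ≫ σ₃.inv := HomologicalComplex.single_map_f_self _ _ _
    rw [HomologicalComplex.comp_f, HomologicalComplex.comp_f, h1, hbf]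
    change (σ₂.hom ≫ biprod.lift b₁ u) ≫ biprod.snd = (σ₂.hom ≫ S.g ≫ σ₃.inv) ≫ c.f 0
    rw [Category.assoc, biprod.lift_snd, Category.assoc, Category.assoc]
    simp only [u, g', Category.assoc]

end Groth.Agent.Lib.Helper99.FilD
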