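import Groth.Agent.Lib.Helper99.FilD
set_option autoImplicit false
set_option linter.style.haveILetI false
set_option linter.unusedSectionVars false
universe v u
open CategoryTheory CategoryTheory.Limits Opposite
namespace Groth.Agent.Lib.Helper99.FilD
open _root_.FilD
variable {A : Type u} [Category.{v} A] [Abelian A]

open ZeroObject

/-- `J` placed in filtration degrees `≤ p` (and `0` above) -/
noncomputable def constBelowFun (J : A) (p : ℤ) : ℤᵒᵖ ⥤ A where
  obj x := if x.unop ≤ p then J else 0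
  map {x y} f := if h : x.unop ≤ p then
      eqToHom (by rw [if_pos h, if_pos (le_trans (leOfHom f.unop) h)]) else 0
  map_id x := by
    by_cases h : x.unop ≤ p
    · rw [dif_pos h, eqToHom_refl]
    · rw [dif_neg h]
      have : IsZero (if x.unop ≤ p then J else 0) := by rw [if_neg h]; exact isZero_zero A
      exact this.eq_of_src _ _
  map_comp {x y z} f g := by
    by_cases h : x.unop ≤ p
    · have h' : y.unop ≤ p := le_trans (leOfHom f.unop) h
      rw [dif_pos h, dif_pos h, dif_pos h', eqToHom_trans]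
    · rw [dif_neg h, dif_neg h, zero_comp]

theorem constBelowFun_obj_of_le (J : A) (p q : ℤ) (h : q ≤ p) :
    (constBelowFun J p).obj (op q) = J := if_pos h

theorem constBelowFun_isZero_of_lt (J : A) (p q : ℤ) (h : p < q) :
    IsZero ((constBelowFun J p).obj (op q)) := by
  have : (constBelowFun J p).obj (op q) = 0 := if_neg (not_le.2 h)
  rw [this]
  exact isZero_zero A

theorem constBelowFun_map_of_le (J : A) (p : ℤ) {x y : ℤᵒᵖ} (f : x ⟶ y) (h : x.unop ≤ p) :
    (constBelowFun J p).map f =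
      eqToHom (by
        change (if x.unop ≤ p then J else 0) = (if y.unop ≤ p then J else 0)
        rw [if_pos h, if_pos (le_trans (leOfHom f.unop) h)]) := dif_pos h

theorem isFinFil_constBelowFun (J : A) (p : ℤ) : IsFinFil A (constBelowFun J p) := by
  refine ⟨?_, ⟨p + 1, fun q hq => constBelowFun_isZero_of_lt J p q (by omega)⟩, ⟨p, ?_⟩⟩
  · intro x y f
    by_cases h : x.unop ≤ p
    · rw [constBelowFun_map_of_le J p f h]
      infer_instance
    · have hz : IsZero ((constBelowFun J p).obj x) :=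
        constBelowFun_isZero_of_lt J p x.unop (not_le.1 h)
      exact ⟨fun g₁ g₂ _ => hz.eq_of_tgt _ _⟩
  · intro x y f h
    rw [constBelowFun_map_of_le J p f h]
    infer_instance

/-- `J` placed in filtration degrees `≤ p`, as a finite filtered object -/
noncomputable def constBelow (J : A) (p : ℤ) : FilF A := ⟨constBelowFun J p, isFinFil_constBelowFun J p⟩


/-! ### cartesian squares -/

/-- the square between levels `p ≤ q` is cartesian (on generalized elements) -/
def CartAt {F G : ℤᵒᵖ ⥤ A} (φ : F ⟶ G) (p q : ℤ) (hpq : p ≤ q) : Prop :=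
  ∀ ⦃W : A⦄ (y : W ⟶ F.obj (op p)) (z : W ⟶ G.obj (op q)),
    y ≫ φ.app (op p) = z ≫ G.map (homOfLE hpq).op →
    ∃ y' : W ⟶ F.obj (op q), y' ≫ F.map (homOfLE hpq).op = y

theorem cartAt_of_steps {F G : ℤᵒᵖ ⥤ A} (φ : F ⟶ G) (hG : ∀ ⦃x y : ℤᵒᵖ⦄ (f : x ⟶ y), Mono (G.map f))
    (h : ∀ p : ℤ, CartAt φ p (p + 1) (by omega)) (k : ℕ) :
    ∀ (p q : ℤ) (hq : q = p + k), CartAt φ p q (by omega) := by
  induction k with
  | zero =>
    intro p q hq
    have hq' : q = p := by simpa using hq
    subst hq'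
    intro W y z _
    refine ⟨y, ?_⟩
    rw [hom_eq (homOfLE _).op (𝟙 _), F.map_id, Category.comp_id]
  | succ k ih =>
    intro p q hq
    have hq' : q = (p + k) + 1 := by rw [hq]; push_cast; ring
    subst hq'
    intro W y z hyz
    have hle : p ≤ p + k := by omega
    have hm : Mono (G.map (homOfLE hle).op) := hG _
    have hG2 : G.map (homOfLE (by omega : p ≤ p + k + 1)).op =
        G.map (homOfLE (by omega : p + k ≤ p + k + 1)).op ≫ G.map (homOfLE hle).op := by
      rw [← G.map_comp]; congr 1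
    have hF2 : F.map (homOfLE (by omega : p ≤ p + k + 1)).op =
        F.map (homOfLE (by omega : p + k ≤ p + k + 1)).op ≫ F.map (homOfLE hle).op := by
      rw [← F.map_comp]; congr 1
    obtain ⟨y₁, hy₁⟩ := ih p (p + k) rfl y (z ≫ G.map (homOfLE (by omega : p + k ≤ p + k + 1)).op)
      (by rw [hyz, hG2, Category.assoc])
    have h2 : y₁ ≫ φ.app (op (p + k)) = z ≫ G.map (homOfLE (by omega : p + k ≤ p + k + 1)).op := by
      rw [← cancel_mono (G.map (homOfLE hle).op), Category.assoc, ← φ.naturality, ← Category.assoc,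
        hy₁, hyz, hG2, Category.assoc]
    obtain ⟨y₂, hy₂⟩ := h (p + k) y₁ z h2
    refine ⟨y₂, ?_⟩
    rw [hF2, ← Category.assoc, hy₂, hy₁]

theorem cartAt_of_steps' {F G : ℤᵒᵖ ⥤ A} (φ : F ⟶ G) (hG : ∀ ⦃x y : ℤᵒᵖ⦄ (f : x ⟶ y), Mono (G.map f))
    (h : ∀ p : ℤ, CartAt φ p (p + 1) (by omega)) (p q : ℤ) (hpq : p ≤ q) : CartAt φ p q hpq := by
  obtain ⟨k, hk⟩ := Int.le.dest hpq
  exact cartAt_of_steps φ hG h k p q hk.symm

/-- a morphism all of whose step squares are cartesian is strict -/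
theorem strictEl_of_cart {X I : FilF A} (u : X ⟶ I)
    (h : ∀ p : ℤ, CartAt u.hom p (p + 1) (by omega)) : StrictEl u := by
  intro p q hpq W y z hyz
  obtain ⟨y', hy'⟩ := cartAt_of_steps' u.hom I.property.1 h p q hpq y z hyz
  have hm : Mono (I.obj.map (homOfLE hpq).op) := I.property.1 _
  refine ⟨W, 𝟙 W, inferInstance, y', ?_⟩
  rw [Category.id_comp, ← cancel_mono (I.obj.map (homOfLE hpq).op), ← hyz, Category.assoc,
    ← u.hom.naturality, ← Category.assoc, hy']

/-- a morphism all of whose step squares are cartesian is a levelwise monomorphism -/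
theorem mono_app_of_cart {X I : FilF A} (u : X ⟶ I)
    (h : ∀ p : ℤ, CartAt u.hom p (p + 1) (by omega)) (p : ℤ) : Mono (u.hom.app (op p)) := by
  obtain ⟨b, hb⟩ := X.property.2.1
  apply Preadditive.mono_of_cancel_zero
  intro W y hy
  have hpq : p ≤ max b p := le_max_right _ _
  obtain ⟨y', hy'⟩ := cartAt_of_steps' u.hom I.property.1 h p (max b p) hpq y 0
    (by rw [hy, zero_comp])
  rw [← hy', (hb (max b p) (le_max_left _ _)).eq_of_tgt y' 0, zero_comp]

theorem mono_of_mono_app {X Y : FilF A} (φ : X ⟶ Y) (h : ∀ p : ℤ, Mono (φ.hom.app (op p))) :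
    Mono φ := by
  constructor
  intro Z g₁ g₂ hg
  apply ObjectProperty.hom_ext
  ext x
  have h1 : g₁.hom.app x ≫ φ.hom.app x = g₂.hom.app x ≫ φ.hom.app x :=
    congrArg (fun t : Z ⟶ Y => t.hom.app x) hg
  haveI := h x.unop
  exact (cancel_mono (φ.hom.app x)).1 h1

theorem strictMono_of_cart {X I : FilF A} (u : X ⟶ I)
    (h : ∀ p : ℤ, CartAt u.hom p (p + 1) (by omega)) : Mono u ∧ IsStrict u :=
  ⟨mono_of_mono_app u (mono_app_of_cart u h), isStrict_of_strictEl u (strictEl_of_cart u h)⟩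


/-- a level at which the filtration is already constant -/
def IsConstBelow (X : FilF A) (a₀ : ℤ) : Prop :=
  ∀ ⦃p q : ℤᵒᵖ⦄ (f : p ⟶ q), p.unop ≤ a₀ → IsIso (X.obj.map f)

/-- the canonical map from a level to the total object `X(a₀)` -/
noncomputable def toTotal (X : FilF A) (a₀ : ℤ) (ha : IsConstBelow X a₀) (q : ℤ) :
    X.obj.obj (op q) ⟶ X.obj.obj (op a₀) :=
  X.obj.map (homOfLE (min_le_left q a₀)).op ≫
    @inv _ _ _ _ (X.obj.map (homOfLE (min_le_right q a₀)).op) (ha _ le_rfl)

theorem toTotal_comp (X : FilF A) (a₀ : ℤ) (ha : IsConstBelow X a₀) (q : ℤ) :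
    toTotal X a₀ ha q ≫ X.obj.map (homOfLE (min_le_right q a₀)).op =
      X.obj.map (homOfLE (min_le_left q a₀)).op := by
  haveI : IsIso (X.obj.map (homOfLE (min_le_right q a₀)).op) := ha _ le_rfl
  rw [toTotal, Category.assoc, IsIso.inv_hom_id, Category.comp_id]

instance (X : FilF A) (a₀ : ℤ) (ha : IsConstBelow X a₀) (q : ℤ) : Mono (toTotal X a₀ ha q) := by
  haveI : IsIso (X.obj.map (homOfLE (min_le_right q a₀)).op) := ha _ le_rfl
  haveI : Mono (X.obj.map (homOfLE (min_le_left q a₀)).op) := X.property.1 _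
  rw [toTotal]
  infer_instance

theorem map_toTotal (X : FilF A) (a₀ : ℤ) (ha : IsConstBelow X a₀) {q' q : ℤ}
    (f : op q' ⟶ op q) : X.obj.map f ≫ toTotal X a₀ ha q = toTotal X a₀ ha q' := by
  have hle : q ≤ q' := leOfHom f.unop
  have hm : min q a₀ ≤ min q' a₀ := min_le_min_right a₀ hle
  haveI : Mono (X.obj.map (homOfLE (min_le_right q a₀)).op) := X.property.1 _
  rw [← cancel_mono (X.obj.map (homOfLE (min_le_right q a₀)).op), Category.assoc, toTotal_comp]
  have h1 : X.obj.map (homOfLE (min_le_right q a₀)).op =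
      X.obj.map (homOfLE (min_le_right q' a₀)).op ≫ X.obj.map (homOfLE hm).op := by
    rw [← X.obj.map_comp]; congr 1
  rw [h1, ← Category.assoc (toTotal X a₀ ha q'), toTotal_comp, ← X.obj.map_comp, ← X.obj.map_comp]
  congr 1

/-- the level maps of the morphism `X ⟶ constBelow J r` induced by `ξ : X(a₀) ⟶ J` -/
noncomputable def toConstBelowApp (X : FilF A) (a₀ : ℤ) (ha : IsConstBelow X a₀) {J : A}
    (ξ : X.obj.obj (op a₀) ⟶ J) (r q : ℤ) : X.obj.obj (op q) ⟶ (constBelowFun J r).obj (op q) :=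
  if h : q ≤ r then toTotal X a₀ ha q ≫ ξ ≫ eqToHom (constBelowFun_obj_of_le J r q h).symm else 0

theorem toConstBelowApp_of_le (X : FilF A) (a₀ : ℤ) (ha : IsConstBelow X a₀) {J : A}
    (ξ : X.obj.obj (op a₀) ⟶ J) (r q : ℤ) (h : q ≤ r) :
    toConstBelowApp X a₀ ha ξ r q =
      toTotal X a₀ ha q ≫ ξ ≫ eqToHom (constBelowFun_obj_of_le J r q h).symm := dif_pos h

theorem toConstBelowApp_step (X : FilF A) (a₀ : ℤ) (ha : IsConstBelow X a₀) {J : A}
    (ξ : X.obj.obj (op a₀) ⟶ J) (r : ℤ) (hξ : toTotal X a₀ ha (r + 1) ≫ ξ = 0) (q : ℤ) :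
    X.obj.map (stepHom q) ≫ toConstBelowApp X a₀ ha ξ r q =
      toConstBelowApp X a₀ ha ξ r (q + 1) ≫ (constBelowFun J r).map (stepHom q) := by
  by_cases h1 : q + 1 ≤ r
  · have h0 : q ≤ r := by omega
    rw [toConstBelowApp_of_le _ _ _ _ _ _ h0, toConstBelowApp_of_le _ _ _ _ _ _ h1,
      constBelowFun_map_of_le J r (stepHom q) h1, ← Category.assoc, map_toTotal, Category.assoc,
      Category.assoc, eqToHom_trans]
  · by_cases h0 : q ≤ r
    · have hq : q = r := by omega
      subst hq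
      rw [toConstBelowApp_of_le _ _ _ _ _ _ h0, ← Category.assoc, map_toTotal, ← Category.assoc, hξ,
        zero_comp]
      have : toConstBelowApp X a₀ ha ξ q (q + 1) = 0 := dif_neg h1
      rw [this, zero_comp]
    · exact (constBelowFun_isZero_of_lt J r q (by omega)).eq_of_tgt _ _

/-- the morphism `X ⟶ constBelow J r` induced by `ξ : X(a₀) ⟶ J` vanishing on `X(r+1)` -/
noncomputable def toConstBelow (X : FilF A) (a₀ : ℤ) (ha : IsConstBelow X a₀) {J : A}
    (ξ : X.obj.obj (op a₀) ⟶ J) (r : ℤ) (hξ : toTotal X a₀ ha (r + 1) ≫ ξ = 0) :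
    X ⟶ constBelow J r :=
  ObjectProperty.homMk (natTransOfSteps (toConstBelowApp X a₀ ha ξ r)
    (toConstBelowApp_step X a₀ ha ξ r hξ))

theorem cartAt_toConstBelow (X : FilF A) (a₀ : ℤ) (ha : IsConstBelow X a₀) {J : A}
    (ξ : X.obj.obj (op a₀) ⟶ J) (r : ℤ) (hξ : toTotal X a₀ ha (r + 1) ≫ ξ = 0)
    (hker : ∀ ⦃W : A⦄ (t : W ⟶ X.obj.obj (op a₀)), t ≫ ξ = 0 →
      ∃ t' : W ⟶ X.obj.obj (op (r + 1)), t' ≫ toTotal X a₀ ha (r + 1) = t) :
    CartAt (toConstBelow X a₀ ha ξ r hξ).hom r (r + 1) (by omega) := by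
  intro W y z hyz
  have hz0 : z = 0 := (constBelowFun_isZero_of_lt J r (r + 1) (by omega)).eq_of_tgt z 0
  have hz : z ≫ (constBelow J r).obj.map (homOfLE (by omega : r ≤ r + 1)).op = 0 := by
    rw [hz0, zero_comp]
  rw [hz] at hyz
  have h1 : y ≫ toConstBelowApp X a₀ ha ξ r r = 0 := hyz
  rw [toConstBelowApp_of_le _ _ _ _ _ _ le_rfl, ← Category.assoc, ← Category.assoc] at h1
  have h2 : (y ≫ toTotal X a₀ ha r) ≫ ξ = 0 := by
    rw [← cancel_mono (eqToHom (constBelowFun_obj_of_le J r r le_rfl).symm), h1, zero_comp]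
  obtain ⟨t', ht'⟩ := hker _ h2
  refine ⟨t', ?_⟩
  rw [← cancel_mono (toTotal X a₀ ha r), Category.assoc, map_toTotal, ht']

theorem isFilteredInjective_constBelow (J : A) [Injective J] (r : ℤ) :
    IsFilteredInjective (constBelow J r) := by
  intro q
  change Injective (cokernel ((constBelowFun J r).map (stepHom q)))
  by_cases h1 : q + 1 ≤ r
  · -- the step is an isomorphism
    haveI : IsIso ((constBelowFun J r).map (stepHom q)) := by
      rw [constBelowFun_map_of_le J r (stepHom q) h1]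
      infer_instance
    exact (isZero_cokernel_of_epi _).injective
  · by_cases h0 : q ≤ r
    · have hq : q = r := by omega
      subst hq
      have hz : (constBelowFun J q).map (stepHom q) = 0 :=
        (constBelowFun_isZero_of_lt J q (q + 1) (by omega)).eq_of_src _ _
      have e : cokernel ((constBelowFun J q).map (stepHom q)) ≅ J :=
        cokernelIsoOfEq hz ≪≫ cokernelZeroIsoTarget ≪≫ eqToIso (constBelowFun_obj_of_le J q q le_rfl)
      exact Injective.of_iso e.symm inferInstance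
    · have hz : IsZero ((constBelowFun J r).obj (op q)) :=
        constBelowFun_isZero_of_lt J r q (by omega)
      exact (IsZero.of_epi (cokernel.π ((constBelowFun J r).map (stepHom q))) hz).injective

/-- the biproduct of two finite filtered objects, explicitly -/
noncomputable def biprodObj (X Y : FilF A) : FilF A := ⟨X.obj ⊞ Y.obj, isFinFil_biprod X Y⟩

theorem isFilteredInjective_biprodObj (X Y : FilF A) (hX : IsFilteredInjective X)
    (hY : IsFilteredInjective Y) : IsFilteredInjective (biprodObj X Y) := by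
  intro q
  haveI : Injective ((gr A q).obj X.obj) := hX q
  haveI : Injective ((gr A q).obj Y.obj) := hY q
  haveI : PreservesBinaryBiproducts (gr A q) :=
    preservesBinaryBiproducts_of_preservesBiproducts (gr A q)
  have e : (gr A q).obj (X.obj ⊞ Y.obj) ≅ (gr A q).obj X.obj ⊞ (gr A q).obj Y.obj :=
    (gr A q).mapBiprod X.obj Y.obj
  exact Injective.of_iso e.symm inferInstance

/-- the pairing of two morphisms into the explicit biproduct -/
noncomputable def biprodLift {X I I' : FilF A} (u : X ⟶ I) (v : X ⟶ I') : X ⟶ biprodObj I I' :=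
  ObjectProperty.homMk (biprod.lift u.hom v.hom)

theorem cartAt_biprodLift_left {X I I' : FilF A} (u : X ⟶ I) (v : X ⟶ I') (p q : ℤ) (hpq : p ≤ q)
    (h : CartAt u.hom p q hpq) : CartAt (biprodLift u v).hom p q hpq := by
  intro W y z' hyz'
  obtain ⟨z, hz⟩ : ∃ z : W ⟶ (I.obj ⊞ I'.obj).obj (op q), z = z' := ⟨z', rfl⟩
  have hyz : y ≫ (biprod.lift u.hom v.hom).app (op p) =
      z ≫ (I.obj ⊞ I'.obj).map (homOfLE hpq).op := by rw [hz]; exact hyz'
  apply h y (z ≫ (biprod.fst : I.obj ⊞ I'.obj ⟶ I.obj).app (op q))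
  have h1 : (biprod.lift u.hom v.hom).app (op p) ≫ (biprod.fst : I.obj ⊞ I'.obj ⟶ I.obj).app (op p) =
      u.hom.app (op p) := by
    rw [← NatTrans.comp_app, biprod.lift_fst]
  have h2 := congrArg (fun t => t ≫ (biprod.fst : I.obj ⊞ I'.obj ⟶ I.obj).app (op p)) hyz
  simp only [Category.assoc] at h2
  rw [Category.assoc, ← NatTrans.naturality]
  exact (by rw [← h1]; exact h2)

theorem cartAt_biprodLift_right {X I I' : FilF A} (u : X ⟶ I) (v : X ⟶ I') (p q : ℤ) (hpq : p ≤ q)
    (h : CartAt v.hom p q hpq) : CartAt (biprodLift u v).hom p q hpq := by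
  intro W y z' hyz'
  obtain ⟨z, hz⟩ : ∃ z : W ⟶ (I.obj ⊞ I'.obj).obj (op q), z = z' := ⟨z', rfl⟩
  have hyz : y ≫ (biprod.lift u.hom v.hom).app (op p) =
      z ≫ (I.obj ⊞ I'.obj).map (homOfLE hpq).op := by rw [hz]; exact hyz'
  apply h y (z ≫ (biprod.snd : I.obj ⊞ I'.obj ⟶ I'.obj).app (op q))
  have h1 : (biprod.lift u.hom v.hom).app (op p) ≫ (biprod.snd : I.obj ⊞ I'.obj ⟶ I'.obj).app (op p) =
      v.hom.app (op p) := by
    rw [← NatTrans.comp_app, biprod.lift_snd]
  have h2 := congrArg (fun t => t ≫ (biprod.snd : I.obj ⊞ I'.obj ⟶ I'.obj).app (op p)) hyz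
  simp only [Category.assoc] at h2
  rw [Category.assoc, ← NatTrans.naturality]
  exact (by rw [← h1]; exact h2)

theorem exists_cart_component [EnoughInjectives A] (X : FilF A) (r : ℤ) :
    ∃ (I' : FilF A) (v : X ⟶ I'), IsFilteredInjective I' ∧ CartAt v.hom r (r + 1) (by omega) := by
  obtain ⟨a, ha⟩ := X.property.2.2
  have ha' : IsConstBelow X a := ha
  let Q := cokernel (toTotal X a ha' (r + 1))
  let J := Injective.under Q
  let ξ : X.obj.obj (op a) ⟶ J := cokernel.π (toTotal X a ha' (r + 1)) ≫ Injective.ι Q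
  have hξ : toTotal X a ha' (r + 1) ≫ ξ = 0 := by
    dsimp only [ξ]
    rw [← Category.assoc, cokernel.condition, zero_comp]
  have hker : ∀ ⦃W : A⦄ (t : W ⟶ X.obj.obj (op a)), t ≫ ξ = 0 →
      ∃ t' : W ⟶ X.obj.obj (op (r + 1)), t' ≫ toTotal X a ha' (r + 1) = t := by
    intro W t ht
    have h1 : t ≫ cokernel.π (toTotal X a ha' (r + 1)) = 0 := by
      rw [← cancel_mono (Injective.ι Q), Category.assoc, zero_comp]
      exact ht
    exact ⟨Abelian.monoLift _ t h1, Abelian.monoLift_comp _ _ _⟩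
  exact ⟨constBelow J r, toConstBelow X a ha' ξ r hξ, isFilteredInjective_constBelow J r,
    cartAt_toConstBelow X a ha' ξ r hξ hker⟩

/-- enough filtered injectives: every finite filtered object admits a strict monomorphism
into a filtered injective object -/
theorem exists_strictMono_into_filteredInjective [EnoughInjectives A] (X : FilF A) :
    ∃ (I : FilF A) (u : X ⟶ I), IsFilteredInjective I ∧ Mono u ∧ IsStrict u := by
  obtain ⟨b, hb⟩ := X.property.2.1
  obtain ⟨a, ha⟩ := X.property.2.2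
  have key : ∀ n : ℕ, ∃ (I : FilF A) (u : X ⟶ I), IsFilteredInjective I ∧
      ∀ (q : ℤ) (_ : q < a + n), CartAt u.hom q (q + 1) (by omega) := by
    intro n
    induction n with
    | zero =>
      refine ⟨constBelow 0 0, 0, isFilteredInjective_constBelow 0 0, ?_⟩
      intro q hq W y z _
      have hle : q ≤ q + 1 := by omega
      haveI : IsIso (X.obj.map (homOfLE hle).op) :=
        ha _ (by simp at hq ⊢; omega)
      exact ⟨y ≫ inv (X.obj.map (homOfLE hle).op), by
        rw [Category.assoc, IsIso.inv_hom_id, Category.comp_id]⟩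
    | succ n ih =>
      obtain ⟨I, u, hI, hu⟩ := ih
      obtain ⟨I', v, hI', hv⟩ := exists_cart_component X (a + n)
      refine ⟨biprodObj I I', biprodLift u v, isFilteredInjective_biprodObj I I' hI hI', ?_⟩
      intro q hq
      by_cases hq' : q < a + n
      · exact cartAt_biprodLift_left u v _ _ _ (hu q hq')
      · have hqr : q = a + n := by push_cast at hq; omega
        subst hqr
        exact cartAt_biprodLift_right u v _ _ _ hv
  obtain ⟨I, u, hI, hu⟩ := key (b - a).toNat
  have hall : ∀ p : ℤ, CartAt u.hom p (p + 1) (by omega) := by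
    intro p
    by_cases hp : p < a + ((b - a).toNat : ℤ)
    · exact hu p hp
    · have hbp : b ≤ p := by
        have := Int.self_le_toNat (b - a)
        omega
      intro W y z _
      exact ⟨0, (hb p hbp).eq_of_tgt _ _⟩
  obtain ⟨h1, h2⟩ := strictMono_of_cart u hall
  exact ⟨I, u, hI, h1, h2⟩

end Groth.Agent.Lib.Helper99.FilD
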