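import Mathlib

set_option autoImplicit false
universe w v u
open CategoryTheory Limits Opposite

namespace Groth.Agent.Lib.Helper99.FilKInj

section Abstract

variable {𝒜 : Type u} [Category.{v} 𝒜] [Abelian 𝒜]

theorem injective_of_retract {X Y : 𝒜} (i : X ⟶ Y) (r : Y ⟶ X) (h : i ≫ r = 𝟙 X)
    [Injective Y] : Injective X where
  factors {U V} g f _ := ⟨Injective.factorThru (g ≫ i) f ≫ r, by
    rw [← Category.assoc, Injective.comp_factorThru, Category.assoc, h, Category.comp_id]⟩

theorem injective_X₁_of_shortExact_of_section (S : ShortComplex 𝒜) (hS : S.ShortExact)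
    (s : S.X₃ ⟶ S.X₂) (hs : s ≫ S.g = 𝟙 _) (h₂ : Injective S.X₂) : Injective S.X₁ := by
  have := hS.mono_f
  let σ := ShortComplex.Splitting.ofExactOfSection S hS.exact s hs hS.mono_f
  exact injective_of_retract S.f σ.r σ.f_r

theorem shortExact_mk_of_mono_cokernel {X Y : 𝒜} (f : X ⟶ Y) [Mono f] :
    (ShortComplex.mk f (cokernel.π f) (cokernel.condition f)).ShortExact :=
  ShortComplex.ShortExact.mk' (ShortComplex.exact_of_g_is_cokernel _ (cokernelIsCokernel f))
    (by dsimp; infer_instance) (by dsimp; infer_instance)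

theorem shortExact_mk_of_epi_kernel {X Y : 𝒜} (g : X ⟶ Y) [Epi g] :
    (ShortComplex.mk (kernel.ι g) g (kernel.condition g)).ShortExact :=
  ShortComplex.ShortExact.mk' (ShortComplex.exact_of_f_is_kernel _ (kernelIsKernel g))
    (by dsimp; infer_instance) (by dsimp; infer_instance)

theorem injective_kernel_of_section {X Y : 𝒜} (g : X ⟶ Y) (s : Y ⟶ X) (hs : s ≫ g = 𝟙 _)
    (hX : Injective X) : Injective (kernel g) := by
  have : Epi g := epi_of_epi_fac hs
  exact injective_X₁_of_shortExact_of_section _ (shortExact_mk_of_epi_kernel g) s hs hX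

section Tower

variable {X Y Y' : 𝒜} (π : X ⟶ Y) (π' : X ⟶ Y') (ρ : Y' ⟶ Y) (hρ : π' ≫ ρ = π)
  (F F' : Subobject X) (w : F.arrow ≫ π = 0) (w' : F'.arrow ≫ π' = 0)
  (hF : (ShortComplex.mk F.arrow π w).ShortExact)
  (hF' : (ShortComplex.mk F'.arrow π' w').ShortExact) (hle : F' ≤ F)

/-- `cokernel F.arrow ≅ Y` when `F` is the kernel of the epi `π`. -/
noncomputable def quotIso : cokernel F.arrow ≅ Y :=
  IsColimit.coconePointUniqueUpToIso (cokernelIsCokernel F.arrow) hF.gIsCokernel

include hF in
theorem π_quotIso_hom : cokernel.π F.arrow ≫ (quotIso π F w hF).hom = π :=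
  IsColimit.comp_coconePointUniqueUpToIso_hom (cokernelIsCokernel F.arrow) hF.gIsCokernel
    WalkingParallelPair.one

/-- the map `F ⟶ kernel ρ` -/
noncomputable def toKer : (F : 𝒜) ⟶ kernel ρ :=
  kernel.lift ρ (F.arrow ≫ π') (by rw [Category.assoc, hρ, w])

include hF hF' in
theorem shortExact_ofLE :
    (ShortComplex.mk (F'.ofLE F hle) (toKer π π' ρ hρ F w) (by
      rw [← cancel_mono (kernel.ι ρ), Category.assoc, toKer, kernel.lift_ι,
        Subobject.ofLE_arrow_assoc, w', zero_comp])).ShortExact := by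
  have hepi' : Epi π' := hF'.epi_g
  refine ShortComplex.ShortExact.mk' ?_ (by dsimp; infer_instance) ?_
  · rw [ShortComplex.exact_iff_exact_up_to_refinements]
    intro W x hx
    dsimp at x hx
    have hx' : (x ≫ F.arrow) ≫ π' = 0 := by
      have := hx =≫ kernel.ι ρ
      simpa [toKer] using this
    refine ⟨W, 𝟙 W, inferInstance, hF'.exact.lift (x ≫ F.arrow) hx', ?_⟩
    dsimp
    rw [← cancel_mono F.arrow, Category.id_comp, Category.assoc, Subobject.ofLE_arrow]
    exact (hF'.exact.lift_f (x ≫ F.arrow) hx').symm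
  · dsimp
    rw [epi_iff_surjective_up_to_refinements]
    intro W y
    obtain ⟨W', c, hc, z, hz⟩ := surjective_up_to_refinements_of_epi π' (y ≫ kernel.ι ρ)
    have hz' : z ≫ π = 0 := by
      rw [← hρ, ← Category.assoc, ← hz, Category.assoc, Category.assoc, kernel.condition,
        comp_zero, comp_zero]
    refine ⟨W', c, hc, hF.exact.lift z hz', ?_⟩
    rw [← cancel_mono (kernel.ι ρ), Category.assoc, Category.assoc, toKer, kernel.lift_ι]
    have : hF.exact.lift z hz' ≫ F.arrow = z := hF.exact.lift_f z hz'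
    rw [reassoc_of% this, hz]

/-- `cokernel (F' ⟶ F) ≅ kernel ρ` -/
noncomputable def cokernelOfLEIso : cokernel (F'.ofLE F hle) ≅ kernel ρ :=
  IsColimit.coconePointUniqueUpToIso (cokernelIsCokernel (F'.ofLE F hle))
    (shortExact_ofLE π π' ρ hρ F F' w w' hF hF' hle).gIsCokernel

end Tower

end Abstract

section Complexes

variable {A : Type u} [Category.{v} A] [Abelian A]

/-- In a degreewise split short exact sequence of complexes, if the middle and right terms are
K-injective, so is the left one. -/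
theorem isKInjective_X₁_of_degreewiseSplit (S : ShortComplex (CochainComplex A ℤ))
    (σ : ∀ n, (S.map (HomologicalComplex.eval A _ n)).Splitting)
    (h₂ : S.X₂.IsKInjective) (h₃ : S.X₃.IsKInjective) : S.X₁.IsKInjective := by
  rw [CochainComplex.isKInjective_iff_rightOrthogonal] at h₂ h₃ ⊢
  have hT : CochainComplex.trianglehOfDegreewiseSplit S σ ∈ distTriang _ :=
    (HomotopyCategory.distinguished_iff_iso_trianglehOfDegreewiseSplit _).2 ⟨S, σ, ⟨Iso.refl _⟩⟩
  exact ObjectProperty.ext_of_isTriangulatedClosed₁ _ _ hT h₂ h₃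

theorem isKInjective_X₁_of_shortExact_of_sections (S : ShortComplex (CochainComplex A ℤ))
    (hS : S.ShortExact) (hs : ∀ n, ∃ s : S.X₃.X n ⟶ S.X₂.X n, s ≫ S.g.f n = 𝟙 _)
    (h₂ : S.X₂.IsKInjective) (h₃ : S.X₃.IsKInjective) : S.X₁.IsKInjective := by
  choose s hs using hs
  have hS' : ∀ n, (S.map (HomologicalComplex.eval A (ComplexShape.up ℤ) n)).ShortExact :=
    fun n => hS.map_of_exact _
  exact isKInjective_X₁_of_degreewiseSplit S
    (fun n => ShortComplex.Splitting.ofExactOfSection _ (hS' n).exact (s n) (hs n) (hS' n).mono_f)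
    h₂ h₃

open HomologicalComplex HomologySequence ComposableArrows in
theorem quasiIso_τ₁ {S₁ S₂ : ShortComplex (CochainComplex A ℤ)} (φ : S₁ ⟶ S₂)
    (hS₁ : S₁.ShortExact) (hS₂ : S₂.ShortExact) (h₂ : QuasiIso φ.τ₂) (h₃ : QuasiIso φ.τ₃) :
    QuasiIso φ.τ₁ := by
  rw [quasiIso_iff]
  intro i
  rw [quasiIsoAt_iff_isIso_homologyMap]
  have hij : (ComplexShape.up ℤ).Rel (i - 1) i := by simp
  exact Abelian.isIso_of_epi_of_isIso_of_isIso_of_mono
    (composableArrows₅_exact hS₁ (i - 1) i hij).δ₀
    (composableArrows₅_exact hS₂ (i - 1) i hij).δ₀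
    (δ₀Functor.map (mapComposableArrows₅ φ hS₁ hS₂ (i - 1) i hij))
    (by change Epi (homologyMap φ.τ₂ (i - 1)); infer_instance)
    (by change IsIso (homologyMap φ.τ₃ (i - 1)); infer_instance)
    (by change IsIso (homologyMap φ.τ₂ i); infer_instance)
    (by change Mono (homologyMap φ.τ₃ i); infer_instance)

end Complexes

section KernelSubobject


variable {𝒜 : Type u} [Category.{v} 𝒜] [Abelian 𝒜]

theorem shortExact_kernelSubobject {X Y : 𝒜} (g : X ⟶ Y) [Epi g] :
    (ShortComplex.mk (kernelSubobject g).arrow g (kernelSubobject_arrow_comp g)).ShortExact := by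
  refine ShortComplex.shortExact_of_iso ?_ (shortExact_mk_of_epi_kernel g)
  exact ShortComplex.isoMk (kernelSubobjectIso g).symm (Iso.refl _) (Iso.refl _)
    (by simp) (by simp)

theorem shortExact_subobjectMk (S : ShortComplex 𝒜) (hS : S.ShortExact) [Mono S.f] :
    (ShortComplex.mk (Subobject.mk S.f).arrow S.g (by
      rw [← Subobject.underlyingIso_hom_comp_eq_mk, Category.assoc, S.zero, comp_zero])).ShortExact := by
  refine ShortComplex.shortExact_of_iso ?_ hS
  exact ShortComplex.isoMk (Subobject.underlyingIso S.f).symm (Iso.refl _) (Iso.refl _)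
    (by simp) (by simp)

end KernelSubobject

end Groth.Agent.Lib.Helper99.FilKInj
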