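import Mathlib
import Groth.Agent.Lib.Helper99.KInjRes
import Groth.Agent.Lib.Helper68.KInj

set_option autoImplicit false
universe w v u
open CategoryTheory Limits Opposite

namespace Groth.Agent.Lib.Helper99.FilKInj

variable {A : Type u} [Category.{v} A] [Abelian A] [IsGrothendieckAbelian.{v} A]

instance : HasCoproducts.{0} A := hasCoproducts_shrink.{0, v}

instance : AB4OfSize.{0} A := AB4OfSize_shrink.{0, v} A

section FunctorCat

variable (C : Type) [Category.{0} C]

instance : AB5OfSize.{v, v} (C ⥤ A) where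
  ofShape J _ _ := by infer_instance

instance : IsGrothendieckAbelian.{v} (Cᵒᵖ ⥤ A) where
  hasSeparator := by infer_instance

end FunctorCat

section Eval

variable {C : Type} [Category.{0} C] (c : C)

instance (t : C) {d d' : A} (f : d ⟶ d') [Mono f] :
    Mono (((evaluationLeftAdjoint A c).map f).app t) := by
  let τ : Discrete.functor (fun (_ : c ⟶ t) => d) ⟶ Discrete.functor (fun (_ : c ⟶ t) => d') :=
    Discrete.natTrans (fun _ => f)
  have hτ : Mono τ := by
    have : ∀ X, Mono (τ.app X) := fun X => by
      dsimp [τ]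
      infer_instance
    apply NatTrans.mono_of_mono_app
  have h : ((evaluationLeftAdjoint A c).map f).app t = colim.map τ := by
    refine Sigma.hom_ext _ _ (fun g => ?_)
    erw [evaluationLeftAdjoint_map_app, Sigma.ι_desc]
  rw [h]
  exact Functor.map_mono colim τ

instance : (evaluationLeftAdjoint A c).PreservesMonomorphisms where
  preserves f _ := NatTrans.mono_of_mono_app _

instance : (evaluationLeftAdjoint A c).Additive :=
  (evaluationAdjunctionRight A c).left_adjoint_additive

instance : PreservesColimitsOfSize.{0, 0} (evaluationLeftAdjoint A c) :=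
  (evaluationAdjunctionRight A c).leftAdjoint_preservesColimits

instance : (evaluationLeftAdjoint A c).PreservesHomology :=
  (evaluationLeftAdjoint A c).preservesHomology_of_preservesMonos_and_cokernels

instance : PreservesFiniteLimits (evaluationLeftAdjoint A c) :=
  (evaluationLeftAdjoint A c).preservesFiniteLimits_of_preservesHomology

instance : PreservesFiniteColimits (evaluationLeftAdjoint A c) :=
  (evaluationLeftAdjoint A c).preservesFiniteColimits_of_preservesHomology

theorem injective_eval (E : C ⥤ A) [Injective E] : Injective (E.obj c) :=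
  Injective.injective_of_adjoint (evaluationAdjunctionRight A c) E

theorem isKInjective_eval (I : CochainComplex (C ⥤ A) ℤ) [I.IsKInjective] :
    CochainComplex.IsKInjective (I.asFunctor.obj c) :=
  Groth.Agent.Lib.Helper68.KInj.isKInjective_map_of_adjunction (evaluationAdjunctionRight A c) I

variable {c}

/-- typed coprojection into the left adjoint of evaluation -/
noncomputable def ιL (c : C) (X : A) {t : C} (g : c ⟶ t) :
    X ⟶ ((evaluationLeftAdjoint A c).obj X).obj t :=
  Sigma.ι (fun _ : c ⟶ t => X) g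

theorem ιL_map (c : C) (X : A) {t t' : C} (g : c ⟶ t) (f : t ⟶ t') :
    ιL c X g ≫ ((evaluationLeftAdjoint A c).obj X).map f = ιL c X (g ≫ f) := by
  dsimp [ιL]
  erw [Sigma.ι_desc]

theorem ιL_id_homEquiv_symm (c : C) (X : A) (E : C ⥤ A) (a : X ⟶ E.obj c) :
    ιL c X (𝟙 c) ≫ (((evaluationAdjunctionRight A c).homEquiv X E).symm a).app c = a := by
  have := ((evaluationAdjunctionRight A c).homEquiv X E).apply_symm_apply a
  rw [Adjunction.homEquiv_unit] at this
  simp only [evaluationAdjunctionRight_unit_app, evaluation_obj_map, Category.assoc] at this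
  exact this

/-- the natural map `L_c X ⟶ L_{c'} X` induced by `φ : c' ⟶ c` -/
noncomputable def precompNat {c' : C} (φ : c' ⟶ c) (X : A) :
    (evaluationLeftAdjoint A c).obj X ⟶ (evaluationLeftAdjoint A c').obj X where
  app t := Sigma.desc (fun g => Sigma.ι (fun _ : c' ⟶ t => X) (φ ≫ g))
  naturality t t' f := by
    refine Sigma.hom_ext _ _ (fun g => ?_)
    erw [Sigma.ι_desc_assoc, Sigma.ι_desc_assoc, Sigma.ι_desc, Sigma.ι_desc]
    first | rfl | (simp only [Category.assoc]; done) | (simp only [Category.assoc]; rfl)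

theorem ιL_precompNat {c' : C} (φ : c' ⟶ c) (X : A) {t : C} (g : c ⟶ t) :
    ιL c X g ≫ (precompNat φ X).app t = ιL c' X (φ ≫ g) := by
  dsimp [ιL, precompNat]
  erw [Sigma.ι_desc]

instance {c' : C} (φ : c' ⟶ c) [Epi φ] (X : A) : Mono (precompNat φ X) := by
  have : ∀ t, Mono ((precompNat φ X).app t) := fun t =>
    MonoCoprod.mono_of_injective' (fun _ : c' ⟶ t => X) (fun g : c ⟶ t => φ ≫ g)
      (fun g g' h => (cancel_epi φ).1 h)
  apply NatTrans.mono_of_mono_app

/-- transition maps of injective objects of a functor category are split epimorphisms -/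
theorem exists_section_of_injective (E : C ⥤ A) [Injective E] {c' : C} (φ : c' ⟶ c) [Epi φ] :
    ∃ s : E.obj c ⟶ E.obj c', s ≫ E.map φ = 𝟙 _ := by
  let X := E.obj c
  let ε : (evaluationLeftAdjoint A c).obj X ⟶ E :=
    ((evaluationAdjunctionRight A c).homEquiv X E).symm (𝟙 X)
  let g : (evaluationLeftAdjoint A c').obj X ⟶ E := Injective.factorThru ε (precompNat φ X)
  have hg : precompNat φ X ≫ g = ε := Injective.comp_factorThru ε (precompNat φ X)
  refine ⟨ιL c' X (𝟙 c') ≫ g.app c', ?_⟩
  calc (ιL c' X (𝟙 c') ≫ g.app c') ≫ E.map φ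
      = ιL c' X (𝟙 c') ≫ (((evaluationLeftAdjoint A c').obj X).map φ ≫ g.app c) := by
        rw [Category.assoc, g.naturality φ]
    _ = ιL c' X (𝟙 c' ≫ φ) ≫ g.app c := by rw [← Category.assoc, ιL_map]
    _ = ιL c' X (φ ≫ 𝟙 c) ≫ g.app c := by rw [Category.id_comp, Category.comp_id]
    _ = (ιL c X (𝟙 c) ≫ (precompNat φ X).app c) ≫ g.app c := by rw [ιL_precompNat]
    _ = ιL c X (𝟙 c) ≫ ε.app c := by rw [Category.assoc, ← NatTrans.comp_app, hg]
    _ = 𝟙 _ := ιL_id_homEquiv_symm c X E (𝟙 X)

end Eval

end Groth.Agent.Lib.Helper99.FilKInj
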