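import Groth.Prelude.Def_SpSeq
import Groth.Agent.Lib.Helper99.FilKInjEval
import Groth.Agent.Lib.Helper99.FilKInjAbs
import Groth.Agent.Lib.Helper99.SubobjImage

set_option autoImplicit false
universe w v u
open CategoryTheory Limits Opposite

namespace Groth.Agent.Lib.Helper99.FilKInj

section Diagram

variable {A : Type u} [Category.{v} A] [Abelian A] (K : SpSeq.FilCx A)

/-- the filtration extended by `F^⊤ = 0` -/
noncomputable def Fext : WithTop ℤ → Subobject K.obj
  | none => ⊥
  | some p => K.fil p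

theorem Fext_top : Fext K ⊤ = ⊥ := rfl

theorem Fext_coe (p : ℤ) : Fext K (p : WithTop ℤ) = K.fil p := rfl

theorem Fext_anti {y y' : WithTop ℤ} (h : y ≤ y') : Fext K y' ≤ Fext K y := by
  induction y' using WithTop.recTopCoe with
  | top => rw [Fext_top]; exact bot_le
  | coe p' =>
    induction y using WithTop.recTopCoe with
    | top => exact absurd h (WithTop.not_top_le_coe p')
    | coe p => exact K.anti (WithTop.coe_le_coe.1 h)

/-- the quotients `K / F^y` -/
noncomputable def Qobj (y : WithTop ℤ) : CochainComplex A ℤ := cokernel (Fext K y).arrow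

/-- the projections `K ⟶ K / F^y` -/
noncomputable def Qπ (y : WithTop ℤ) : K.obj ⟶ Qobj K y := cokernel.π (Fext K y).arrow

instance (y : WithTop ℤ) : Epi (Qπ K y) := inferInstanceAs (Epi (cokernel.π (Fext K y).arrow))

theorem arrow_Qπ (y : WithTop ℤ) : (Fext K y).arrow ≫ Qπ K y = 0 := cokernel.condition _

/-- the transition maps `K / F^y' ⟶ K / F^y` for `y ≤ y'` -/
noncomputable def Qmap {y y' : WithTop ℤ} (h : y ≤ y') : Qobj K y' ⟶ Qobj K y :=
  cokernel.desc _ (Qπ K y) (by
    rw [← Subobject.ofLE_arrow (Fext_anti K h), Category.assoc, arrow_Qπ, comp_zero])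

@[reassoc (attr := simp)]
theorem Qπ_Qmap {y y' : WithTop ℤ} (h : y ≤ y') : Qπ K y' ≫ Qmap K h = Qπ K y :=
  cokernel.π_desc _ _ _

/-- the diagram of quotients -/
noncomputable def Qfun : (WithTop ℤ)ᵒᵖ ⥤ CochainComplex A ℤ where
  obj c := Qobj K c.unop
  map φ := Qmap K (leOfHom φ.unop)
  map_id c := by
    rw [← cancel_epi (Qπ K c.unop), Qπ_Qmap, Category.comp_id]
  map_comp φ ψ := by
    rw [← cancel_epi (Qπ K _), Qπ_Qmap, Qπ_Qmap_assoc, Qπ_Qmap]

instance : IsIso (Qπ K ⊤) := by
  refine ⟨cokernel.desc _ (𝟙 _) (by rw [Fext_top, Subobject.bot_arrow, zero_comp]), ?_, ?_⟩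
  · exact cokernel.π_desc _ _ _
  · rw [← cancel_epi (Qπ K ⊤)]
    exact (cokernel.π_desc_assoc _ _ _ _).trans ((Category.id_comp _).trans (Category.comp_id _).symm)

/-- the complex of functors attached to the diagram of quotients -/
noncomputable def Mcx : CochainComplex ((WithTop ℤ)ᵒᵖ ⥤ A) ℤ where
  X n := Qfun K ⋙ HomologicalComplex.eval A (ComplexShape.up ℤ) n
  d i j :=
    { app := fun c => ((Qfun K).obj c).d i j
      naturality := fun c c' φ => ((Qfun K).map φ).comm i j }
  shape i j h := by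
    ext c
    exact ((Qfun K).obj c).shape i j h
  d_comp_d' i j k _ _ := by
    ext c
    exact ((Qfun K).obj c).d_comp_d i j k

end Diagram

section Resolution

variable {A : Type u} [Category.{v} A] [Abelian A] [IsGrothendieckAbelian.{v} A]
  (K : SpSeq.FilCx A) (I : CochainComplex ((WithTop ℤ)ᵒᵖ ⥤ A) ℤ) (r : Mcx K ⟶ I)

/-- the evaluations of `I` -/
noncomputable def Iy (y : WithTop ℤ) : CochainComplex A ℤ := I.asFunctor.obj (op y)

/-- transition maps of `I` -/
noncomputable def Imap {y y' : WithTop ℤ} (h : y ≤ y') : Iy I y' ⟶ Iy I y :=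
  I.asFunctor.map (homOfLE h).op

theorem Imap_comp {y y' y'' : WithTop ℤ} (h : y ≤ y') (h' : y' ≤ y'') :
    Imap I h' ≫ Imap I h = Imap I (h.trans h') :=
  (I.asFunctor.map_comp (homOfLE h').op (homOfLE h).op).symm

/-- the components of the resolution -/
noncomputable def ry (y : WithTop ℤ) : Qobj K y ⟶ Iy I y where
  f n := (r.f n).app (op y)
  comm' i j _ := congr_app (r.comm i j) (op y)

theorem ry_naturality {y y' : WithTop ℤ} (h : y ≤ y') :
    Qmap K h ≫ ry K I r y = ry K I r y' ≫ Imap I h := by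
  ext n
  exact (r.f n).naturality (homOfLE h).op

theorem quasiIso_ry (hr : QuasiIso r) (y : WithTop ℤ) : QuasiIso (ry K I r y) :=
  (HomologicalComplex.quasiIso_iff_evaluation r).1 hr (op y)

section Props

variable (hInj : ∀ n, Injective (I.X n))

include hInj

theorem exists_section_Imap {y y' : WithTop ℤ} (h : y ≤ y') (n : ℤ) :
    ∃ s : (Iy I y).X n ⟶ (Iy I y').X n, s ≫ (Imap I h).f n = 𝟙 _ := by
  haveI : Epi (homOfLE h).op := ⟨fun _ _ _ => Subsingleton.elim _ _⟩
  haveI := hInj n
  exact exists_section_of_injective (I.X n) (homOfLE h).op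

theorem epi_Imap {y y' : WithTop ℤ} (h : y ≤ y') : Epi (Imap I h) := by
  have : ∀ n, Epi ((Imap I h).f n) := fun n =>
    epi_of_epi_fac (exists_section_Imap I hInj h n).choose_spec
  exact HomologicalComplex.epi_of_epi_f _ this

theorem injective_Iy_X (y : WithTop ℤ) (n : ℤ) : Injective ((Iy I y).X n) := by
  haveI := hInj n
  exact injective_eval (op y) (I.X n)

omit hInj in
theorem isKInjective_Iy [I.IsKInjective] (y : WithTop ℤ) : (Iy I y).IsKInjective :=
  isKInjective_eval (op y) I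

theorem isKInjective_kernel_Imap [I.IsKInjective] {y y' : WithTop ℤ} (h : y ≤ y') :
    CochainComplex.IsKInjective (kernel (Imap I h)) := by
  haveI := epi_Imap I hInj h
  exact isKInjective_X₁_of_shortExact_of_sections _ (shortExact_mk_of_epi_kernel (Imap I h))
    (exists_section_Imap I hInj h) (isKInjective_Iy I y') (isKInjective_Iy I y)

end Props

/-- the filtration on `J = I(⊤)` -/
noncomputable def Jfil (p : ℤ) : Subobject (Iy I ⊤) :=
  kernelSubobject (Imap I (le_top : (p : WithTop ℤ) ≤ ⊤))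

theorem Jfil_anti : Antitone (Jfil I) := by
  intro p p' h
  apply le_kernelSubobject
  rw [← Imap_comp I (WithTop.coe_le_coe.2 h) le_top, ← Category.assoc]
  erw [kernelSubobject_arrow_comp]
  exact zero_comp

/-- the filtered complex `J` -/
noncomputable abbrev Jfc : SpSeq.FilCx A := ⟨Iy I ⊤, Jfil I, Jfil_anti I⟩

section JProps

variable (hInj : ∀ n, Injective (I.X n))

include hInj

theorem sesJ (p : ℤ) :
    (ShortComplex.mk ((Jfc I).fil p).arrow (Imap I (le_top : (p : WithTop ℤ) ≤ ⊤))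
      (kernelSubobject_arrow_comp _)).ShortExact := by
  have hepi := epi_Imap I hInj (le_top : (p : WithTop ℤ) ≤ ⊤)
  exact @shortExact_kernelSubobject _ _ _ _ _ (Imap I (le_top : (p : WithTop ℤ) ≤ ⊤)) hepi

theorem XFil_arrow_comp (p n : ℤ) :
    (((Jfc I).XFil n).fil p).arrow ≫ (Imap I (le_top : (p : WithTop ℤ) ≤ ⊤)).f n = 0 := by
  have h : ((Jfc I).fil p).arrow.f n ≫ (Imap I (le_top : (p : WithTop ℤ) ≤ ⊤)).f n = 0 := by
    rw [← HomologicalComplex.comp_f]
    erw [kernelSubobject_arrow_comp]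
    rfl
  change (Subobject.mk (((Jfc I).fil p).arrow.f n)).arrow ≫ _ = 0
  rw [← Subobject.underlyingIso_hom_comp_eq_mk, Category.assoc, h, comp_zero]

theorem sesJX (p n : ℤ) :
    (ShortComplex.mk (((Jfc I).XFil n).fil p).arrow
      ((Imap I (le_top : (p : WithTop ℤ) ≤ ⊤)).f n) (XFil_arrow_comp I hInj p n)).ShortExact := by
  have hS := (sesJ I hInj p).map_of_exact (HomologicalComplex.eval A (ComplexShape.up ℤ) n)
  haveI := hS.mono_f
  exact shortExact_subobjectMk _ hS

theorem injective_J_X (n : ℤ) : Injective ((Jfc I).obj.X n) := injective_Iy_X I hInj ⊤ n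

theorem injective_J_step (n p : ℤ) : Injective (((Jfc I).XFil n).step p) := by
  obtain ⟨s, hs⟩ := exists_section_Imap I hInj (le_top : (p : WithTop ℤ) ≤ ⊤) n
  exact injective_X₁_of_shortExact_of_section _ (sesJX I hInj p n) s hs
    (injective_Iy_X I hInj ⊤ n)

theorem injective_J_quot (n p : ℤ) : Injective (((Jfc I).XFil n).quot p) := by
  exact Injective.of_iso (quotIso _ _ _ (sesJX I hInj p n)).symm (injective_Iy_X I hInj p n)

theorem Imap_f_comp {y y' y'' : WithTop ℤ} (h : y ≤ y') (h' : y' ≤ y'') (n : ℤ) :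
    (Imap I h').f n ≫ (Imap I h).f n = (Imap I (h.trans h')).f n := by
  rw [← HomologicalComplex.comp_f, Imap_comp]

theorem injective_J_coker (n p p' : ℤ) (h : p ≤ p') :
    Injective (cokernel (((Jfc I).XFil n).stepLE h)) := by
  obtain ⟨s, hs⟩ := exists_section_Imap I hInj (WithTop.coe_le_coe.2 h) n
  have hk := injective_kernel_of_section _ s hs (injective_Iy_X I hInj p' n)
  exact Injective.of_iso (cokernelOfLEIso _ _ ((Imap I (WithTop.coe_le_coe.2 h)).f n)
    (Imap_f_comp I hInj (WithTop.coe_le_coe.2 h) le_top n) _ _ _ _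
    (sesJX I hInj p n) (sesJX I hInj p' n) (((Jfc I).XFil n).anti h)).symm hk

omit hInj in
theorem isKInjective_J_obj [I.IsKInjective] : CochainComplex.IsKInjective (Jfc I).obj :=
  isKInjective_Iy I ⊤

theorem isKInjective_J_step [I.IsKInjective] (p : ℤ) :
    CochainComplex.IsKInjective ((Jfc I).step p) :=
  isKInjective_X₁_of_shortExact_of_sections _ (sesJ I hInj p)
    (exists_section_Imap I hInj (le_top : (p : WithTop ℤ) ≤ ⊤))
    (isKInjective_Iy I ⊤) (isKInjective_Iy I p)

theorem isKInjective_J_quot [I.IsKInjective] (p : ℤ) :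
    CochainComplex.IsKInjective ((Jfc I).quot p) := by
  haveI := isKInjective_Iy I p
  exact CochainComplex.isKInjective_of_iso (quotIso _ _ _ (sesJ I hInj p)).symm

theorem isKInjective_J_coker [I.IsKInjective] (p p' : ℤ) (h : p ≤ p') :
    CochainComplex.IsKInjective (cokernel ((Jfc I).stepLE h)) := by
  haveI := isKInjective_kernel_Imap I hInj (WithTop.coe_le_coe.2 h)
  exact CochainComplex.isKInjective_of_iso
    (cokernelOfLEIso _ _ (Imap I (WithTop.coe_le_coe.2 h))
      (Imap_comp I (WithTop.coe_le_coe.2 h) le_top) _ _ _ _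
      (sesJ I hInj p) (sesJ I hInj p') ((Jfc I).anti h)).symm

end JProps

section Maps

/-- the underlying map of `j` -/
noncomputable def jhom : K.obj ⟶ Iy I ⊤ := Qπ K ⊤ ≫ ry K I r ⊤

theorem jhom_Imap (p : ℤ) :
    jhom K I r ≫ Imap I (le_top : (p : WithTop ℤ) ≤ ⊤) = Qπ K p ≫ ry K I r p := by
  unfold jhom
  rw [Category.assoc, ← ry_naturality, Qπ_Qmap_assoc]

theorem fil_arrow_jhom_Imap (p : ℤ) :
    ((K.fil p).arrow ≫ jhom K I r) ≫ Imap I (le_top : (p : WithTop ℤ) ≤ ⊤) = 0 := by
  rw [Category.assoc, jhom_Imap, ← Category.assoc]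
  have : (K.fil p).arrow ≫ Qπ K p = 0 := arrow_Qπ K (p : WithTop ℤ)
  rw [this, zero_comp]

/-- the induced maps on the steps of the filtrations -/
noncomputable def jp (p : ℤ) : K.step p ⟶ (Jfc I).step p :=
  factorThruKernelSubobject (Imap I (le_top : (p : WithTop ℤ) ≤ ⊤)) ((K.fil p).arrow ≫ jhom K I r)
    (fil_arrow_jhom_Imap K I r p)

theorem jp_arrow (p : ℤ) :
    jp K I r p ≫ ((Jfc I).fil p).arrow = (K.fil p).arrow ≫ jhom K I r :=
  factorThruKernelSubobject_comp_arrow _ _ _

theorem jhom_compat (p : ℤ) :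
    K.fil p ≤ (Subobject.pullback (jhom K I r)).obj ((Jfc I).fil p) := by
  rw [← dirIm_le_iff, dirIm, imageSubobject_le_iff]
  exact (kernelSubobject_factors_iff _ _).2 (fil_arrow_jhom_Imap K I r p)

/-- the morphism of filtered complexes `j : K ⟶ J` -/
noncomputable def jmor : K ⟶ Jfc I := ⟨jhom K I r, jhom_compat K I r⟩

theorem jp_stepLE {p p' : ℤ} (h : p ≤ p') :
    jp K I r p' ≫ (Jfc I).stepLE h = K.stepLE h ≫ jp K I r p := by
  rw [← cancel_mono ((Jfc I).fil p).arrow, Category.assoc, Category.assoc, jp_arrow,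
    Subobject.ofLE_arrow, jp_arrow, Subobject.ofLE_arrow_assoc]

/-- the induced maps on the quotients -/
noncomputable def jq (p : ℤ) : K.quot p ⟶ (Jfc I).quot p :=
  cokernel.map _ _ (jp K I r p) (jhom K I r) (jp_arrow K I r p).symm

theorem π_jq (p : ℤ) :
    cokernel.π (K.fil p).arrow ≫ jq K I r p = jhom K I r ≫ cokernel.π ((Jfc I).fil p).arrow :=
  cokernel.π_desc _ _ _

/-- the induced maps on the graded pieces -/
noncomputable def jg {p p' : ℤ} (h : p ≤ p') :
    cokernel (K.stepLE h) ⟶ cokernel ((Jfc I).stepLE h) :=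
  cokernel.map _ _ (jp K I r p') (jp K I r p) (jp_stepLE K I r h).symm

theorem π_jg {p p' : ℤ} (h : p ≤ p') :
    cokernel.π (K.stepLE h) ≫ jg K I r h = jp K I r p ≫ cokernel.π ((Jfc I).stepLE h) :=
  cokernel.π_desc _ _ _

section QIso

variable (hInj : ∀ n, Injective (I.X n)) (hr : QuasiIso r)

include hr in
theorem quasiIso_jhom : QuasiIso (jhom K I r) := by
  haveI := quasiIso_ry K I r hr ⊤
  unfold jhom
  infer_instance

include hInj in
theorem jq_quotIso (p : ℤ) :
    jq K I r p ≫ (quotIso _ _ _ (sesJ I hInj p)).hom = ry K I r p := by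
  rw [← cancel_epi (cokernel.π (K.fil p).arrow), ← Category.assoc, π_jq, Category.assoc,
    π_quotIso_hom, jhom_Imap]
  rfl

include hInj hr in
theorem quasiIso_jq (p : ℤ) : QuasiIso (jq K I r p) := by
  let e := quotIso _ _ _ (sesJ I hInj p)
  have h : jq K I r p ≫ e.hom = ry K I r p := jq_quotIso K I r hInj p
  haveI : QuasiIso (jq K I r p ≫ e.hom) := by
    rw [h]
    exact quasiIso_ry K I r hr p
  exact quasiIso_of_comp_right (jq K I r p) e.hom

include hInj hr in
theorem quasiIso_jp (p : ℤ) : QuasiIso (jp K I r p) := by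
  let S₁ : ShortComplex (CochainComplex A ℤ) :=
    ShortComplex.mk (K.fil p).arrow (cokernel.π (K.fil p).arrow) (cokernel.condition _)
  let S₂ : ShortComplex (CochainComplex A ℤ) :=
    ShortComplex.mk ((Jfc I).fil p).arrow (cokernel.π ((Jfc I).fil p).arrow) (cokernel.condition _)
  let φ : S₁ ⟶ S₂ :=
    { τ₁ := jp K I r p
      τ₂ := jhom K I r
      τ₃ := jq K I r p
      comm₁₂ := jp_arrow K I r p
      comm₂₃ := (π_jq K I r p).symm }
  exact quasiIso_τ₁ φ (shortExact_mk_of_mono_cokernel _) (shortExact_mk_of_mono_cokernel _)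
    (quasiIso_jhom K I r hr) (quasiIso_jq K I r hInj hr p)

include hInj hr in
theorem quasiIso_jg {p p' : ℤ} (h : p ≤ p') : QuasiIso (jg K I r h) := by
  let S₁ : ShortComplex (CochainComplex A ℤ) :=
    ShortComplex.mk (K.stepLE h) (cokernel.π (K.stepLE h)) (cokernel.condition _)
  let S₂ : ShortComplex (CochainComplex A ℤ) :=
    ShortComplex.mk ((Jfc I).stepLE h) (cokernel.π ((Jfc I).stepLE h)) (cokernel.condition _)
  let φ : S₁ ⟶ S₂ :=
    { τ₁ := jp K I r p'
      τ₂ := jp K I r p
      τ₃ := jg K I r h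
      comm₁₂ := jp_stepLE K I r h
      comm₂₃ := (π_jg K I r h).symm }
  exact HomologicalComplex.HomologySequence.quasiIso_τ₃ φ (shortExact_mk_of_mono_cokernel _)
    (shortExact_mk_of_mono_cokernel _)
    (quasiIso_jp K I r hInj hr p') (quasiIso_jp K I r hInj hr p)

end QIso

end Maps

end Resolution

end Groth.Agent.Lib.Helper99.FilKInj
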