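import Groth.Agent.Lib.Helper99.FilInj
set_option autoImplicit false
set_option linter.style.haveILetI false
set_option linter.unusedSectionVars false
universe v u
open CategoryTheory CategoryTheory.Limits Opposite
namespace Groth.Agent.Lib.Helper99.FilD
open _root_.FilD
variable {A : Type u} [Category.{v} A] [Abelian A]
open ZeroObject

/-- evaluation at level `p` -/
noncomputable abbrev evF (p : ℤ) : FilF A ⥤ A := (IsFinFil A).ι ⋙ (evaluation ℤᵒᵖ A).obj (op p)

/-- the complex of `p`-th levels -/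
noncomputable abbrev evCx (p : ℤ) : CochainComplex (FilF A) ℤ ⥤ CochainComplex A ℤ :=
  (evF p).mapHomologicalComplex (ComplexShape.up ℤ)

/-- the inclusion `X(p+1) ⟶ X(p)` as a natural transformation -/
noncomputable def stepT (p : ℤ) : evF (A := A) (p + 1) ⟶ evF p where
  app X := X.obj.map (stepHom p)
  naturality _ _ f := (f.hom.naturality (stepHom p)).symm

/-- the projection `X(p) ⟶ gr^p X` as a natural transformation -/
noncomputable def projT (p : ℤ) : evF (A := A) p ⟶ grF A p where
  app X := grπ X.obj p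
  naturality _ _ f := (grπ_map f.hom p).symm

/-- the short exact sequence of complexes `K(p+1) ⟶ K(p) ⟶ gr^p K` -/
noncomputable def levelSC (K : CochainComplex (FilF A) ℤ) (p : ℤ) :
    ShortComplex (CochainComplex A ℤ) :=
  ShortComplex.mk ((NatTrans.mapHomologicalComplex (stepT p) (ComplexShape.up ℤ)).app K)
    ((NatTrans.mapHomologicalComplex (projT p) (ComplexShape.up ℤ)).app K) (by
      ext n
      exact step_grπ (K.X n).obj p)

theorem levelSC_shortExact (K : CochainComplex (FilF A) ℤ) (p : ℤ) : (levelSC K p).ShortExact := by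
  apply HomologicalComplex.shortExact_of_degreewise_shortExact
  intro n
  have hm : Mono ((K.X n).obj.map (stepHom p)) := (K.X n).property.1 _
  have he : Epi (grπ (K.X n).obj p) := inferInstance
  exact ShortComplex.ShortExact.mk' (ShortComplex.exact_cokernel ((K.X n).obj.map (stepHom p)))
    hm he

/-- functoriality of `levelSC` -/
noncomputable def levelSCMap {K L : CochainComplex (FilF A) ℤ} (φ : K ⟶ L) (p : ℤ) :
    levelSC K p ⟶ levelSC L p where
  τ₁ := (evCx (p + 1)).map φ
  τ₂ := (evCx p).map φ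
  τ₃ := (grCx p).map φ
  comm₁₂ := ((NatTrans.mapHomologicalComplex (stepT p) (ComplexShape.up ℤ)).naturality φ)
  comm₂₃ := ((NatTrans.mapHomologicalComplex (projT p) (ComplexShape.up ℤ)).naturality φ)

/-- a levelwise quasi-isomorphism is a filtered quasi-isomorphism -/
theorem isFilteredQuasiIso_of_levelwise {K L : CochainComplex (FilF A) ℤ} (φ : K ⟶ L)
    (h : ∀ p : ℤ, QuasiIso ((evCx p).map φ)) : IsFilteredQuasiIso φ := by
  intro p
  exact HomologicalComplex.HomologySequence.quasiIso_τ₃ (levelSCMap φ p) (levelSC_shortExact K p)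
    (levelSC_shortExact L p) (h (p + 1)) (h p)

theorem isFinFil_of_iso {F G : ℤᵒᵖ ⥤ A} (e : F ≅ G) (hF : IsFinFil A F) : IsFinFil A G := by
  have hmap : ∀ ⦃x y : ℤᵒᵖ⦄ (f : x ⟶ y), G.map f = e.inv.app x ≫ F.map f ≫ e.hom.app y := by
    intro x y f
    rw [e.hom.naturality, Iso.inv_hom_id_app_assoc]
  refine ⟨?_, ?_, ?_⟩
  · intro x y f
    have := hF.1 f
    rw [hmap]
    infer_instance
  · obtain ⟨b, hb⟩ := hF.2.1
    exact ⟨b, fun p hp => IsZero.of_iso (hb p hp) (e.app (op p)).symm⟩
  · obtain ⟨a, ha⟩ := hF.2.2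
    refine ⟨a, fun x y f hx => ?_⟩
    have := ha f hx
    rw [hmap]
    infer_instance

instance : (IsFinFil A).IsClosedUnderIsomorphisms where
  of_iso e h := isFinFil_of_iso e h

theorem isFinFil_of_isZero {F : ℤᵒᵖ ⥤ A} (hF : IsZero F) : IsFinFil A F :=
  (IsFinFil A).prop_of_isZero hF

theorem isZero_of_isZero_obj (X : FilF A) (h : IsZero X.obj) : IsZero X := by
  rw [IsZero.iff_id_eq_zero]
  apply ObjectProperty.hom_ext
  exact h.eq_of_src _ _

/-- lifting a complex of functors with finite filtered terms to `Fil^f(A)` -/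
noncomputable def liftCx (M : CochainComplex (ℤᵒᵖ ⥤ A) ℤ) (h : ∀ n, IsFinFil A (M.X n)) :
    CochainComplex (FilF A) ℤ where
  X n := ⟨M.X n, h n⟩
  d i j := ObjectProperty.homMk (M.d i j)
  shape i j hij := by
    apply ObjectProperty.hom_ext
    exact M.shape i j hij
  d_comp_d' i j k _ _ := by
    apply ObjectProperty.hom_ext
    exact M.d_comp_d i j k

/-- the underlying complex of functors -/
noncomputable abbrev underCx : CochainComplex (FilF A) ℤ ⥤ CochainComplex (ℤᵒᵖ ⥤ A) ℤ :=
  (IsFinFil A).ι.mapHomologicalComplex (ComplexShape.up ℤ)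

/-- a map into `K` from a lifted complex -/
noncomputable def liftCxHomTo (M : CochainComplex (ℤᵒᵖ ⥤ A) ℤ) (h : ∀ n, IsFinFil A (M.X n))
    (K : CochainComplex (FilF A) ℤ) (ψ : M ⟶ underCx.obj K) : liftCx M h ⟶ K where
  f n := ObjectProperty.homMk (ψ.f n)
  comm' i j _ := by
    apply ObjectProperty.hom_ext
    exact ψ.comm i j

/-- a map from `K` to a lifted complex -/
noncomputable def liftCxHomFrom (M : CochainComplex (ℤᵒᵖ ⥤ A) ℤ) (h : ∀ n, IsFinFil A (M.X n))
    (K : CochainComplex (FilF A) ℤ) (ψ : underCx.obj K ⟶ M) : K ⟶ liftCx M h where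
  f n := ObjectProperty.homMk (ψ.f n)
  comm' i j _ := by
    apply ObjectProperty.hom_ext
    exact ψ.comm i j

/-- exactness in a functor category can be checked pointwise -/
theorem exact_of_evaluation {J : Type*} [Category J] (S : ShortComplex (J ⥤ A))
    (h : ∀ j, (S.map ((evaluation J A).obj j)).Exact) : S.Exact := by
  rw [ShortComplex.exact_iff_isZero_homology, Functor.isZero_iff]
  intro j
  have hj := h j
  rw [ShortComplex.exact_iff_isZero_homology] at hj
  exact IsZero.of_iso hj (S.mapHomologyIso ((evaluation J A).obj j)).symm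

theorem quasiIso_evCx_liftCxHomTo (M : CochainComplex (ℤᵒᵖ ⥤ A) ℤ) (h : ∀ n, IsFinFil A (M.X n))
    (K : CochainComplex (FilF A) ℤ) (ψ : M ⟶ underCx.obj K) [QuasiIso ψ] (p : ℤ) :
    QuasiIso ((evCx p).map (liftCxHomTo M h K ψ)) := by
  have h1 : QuasiIso ((((evaluation ℤᵒᵖ A).obj (op p)).mapHomologicalComplex (ComplexShape.up ℤ)).map ψ) :=
    inferInstance
  exact h1

theorem quasiIso_evCx_liftCxHomFrom (M : CochainComplex (ℤᵒᵖ ⥤ A) ℤ) (h : ∀ n, IsFinFil A (M.X n))
    (K : CochainComplex (FilF A) ℤ) (ψ : underCx.obj K ⟶ M) [QuasiIso ψ] (p : ℤ) :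
    QuasiIso ((evCx p).map (liftCxHomFrom M h K ψ)) := by
  have h1 : QuasiIso ((((evaluation ℤᵒᵖ A).obj (op p)).mapHomologicalComplex (ComplexShape.up ℤ)).map ψ) :=
    inferInstance
  exact h1

theorem gr_sc_exact_of_isZero_homology (K : CochainComplex (FilF A) ℤ) (n : ℤ)
    (h : ∀ p, IsZero (((grCx p).obj K).homology n)) (p : ℤ) :
    ((K.sc n).map (grF A p)).Exact := by
  have h1 : ((grCx p).obj K).ExactAt n := by
    rw [HomologicalComplex.exactAt_iff_isZero_homology]
    exact h p
  rw [HomologicalComplex.exactAt_iff] at h1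
  exact h1

theorem under_exactAt (K : CochainComplex (FilF A) ℤ) (n : ℤ)
    (h : ∀ p, IsZero (((grCx p).obj K).homology n)) : (underCx.obj K).ExactAt n := by
  rw [HomologicalComplex.exactAt_iff]
  apply exact_of_evaluation
  intro j
  exact exact_level_of_gr_exact' (K.sc n) (gr_sc_exact_of_isZero_homology K n h) j.unop

/-- canonical truncation above of a filtered complex -/
theorem exists_truncLE (K : CochainComplex (FilF A) ℤ) (b : ℤ)
    (hK : ∀ (p n : ℤ), b < n → IsZero (((grCx p).obj K).homology n)) :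
    ∃ (M : CochainComplex (FilF A) ℤ) (φ : M ⟶ K), M.IsStrictlyLE b ∧ IsFilteredQuasiIso φ := by
  let K' := underCx.obj K
  haveI : K'.IsLE b := by
    rw [CochainComplex.isLE_iff]
    intro i hi
    exact under_exactAt K i (fun p => hK p i hi)
  have hfin : ∀ n, IsFinFil A ((K'.truncLE b).X n) := by
    intro n
    rcases lt_trichotomy n b with hn | rfl | hn
    · exact (IsFinFil A).prop_of_iso (K'.truncLEXIso b n hn).symm (K.X n).property
    · have e1 : (K'.truncLE n).X n ≅ K'.cycles n := K'.truncLEXIsoCycles n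
      have e2 := IsLimit.conePointUniqueUpToIso (K'.cyclesIsKernel n (n + 1) (by simp))
          (kernelIsKernel (K'.d n (n + 1)))
      exact (IsFinFil A).prop_of_iso (e1 ≪≫ e2).symm (isFinFil_kernel _)
    · exact isFinFil_of_isZero (CochainComplex.isZero_of_isStrictlyLE _ b n hn)
  refine ⟨liftCx _ hfin, liftCxHomTo _ hfin K (K'.ιTruncLE b), ?_, ?_⟩
  · rw [CochainComplex.isStrictlyLE_iff]
    intro i hi
    exact isZero_of_isZero_obj _ (CochainComplex.isZero_of_isStrictlyLE (K'.truncLE b) b i hi)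
  · exact isFilteredQuasiIso_of_levelwise _ (fun p => quasiIso_evCx_liftCxHomTo _ hfin K _ p)


theorem cokernel_app_condition {F G : ℤᵒᵖ ⥤ A} (φ : F ⟶ G) (x : ℤᵒᵖ) :
    φ.app x ≫ (cokernel.π φ).app x = 0 := by
  rw [← NatTrans.comp_app, cokernel.condition, zero_app]

/-- the cokernel of a natural transformation is a cokernel levelwise -/
noncomputable def cokernelAppIsColimit {F G : ℤᵒᵖ ⥤ A} (φ : F ⟶ G) (x : ℤᵒᵖ) :
    IsColimit (CokernelCofork.ofπ ((cokernel.π φ).app x) (cokernel_app_condition φ x)) :=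
  CokernelCofork.mapIsColimit _ (cokernelIsCokernel φ) ((evaluation ℤᵒᵖ A).obj x)

instance cokernel_π_app_epi {F G : ℤᵒᵖ ⥤ A} (φ : F ⟶ G) (x : ℤᵒᵖ) : Epi ((cokernel.π φ).app x) :=
  inferInstance

theorem cokernel_π_app_lift {F G : ℤᵒᵖ ⥤ A} (φ : F ⟶ G) (x : ℤᵒᵖ) {W : A} (t : W ⟶ G.obj x)
    (ht : t ≫ (cokernel.π φ).app x = 0) :
    ∃ (W' : A) (π : W' ⟶ W) (_ : Epi π) (s : W' ⟶ F.obj x), π ≫ t = s ≫ φ.app x :=
  (CokernelCofork.IsColimit.comp_π_eq_zero_iff_up_to_refinements (cokernelAppIsColimit φ x) t).1 ht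

/-- the levelwise cokernel of a strict morphism is a finite filtered object -/
theorem isFinFil_cokernel {X Y : FilF A} (φ : X ⟶ Y) (hφ : StrictEl φ) :
    IsFinFil A (cokernel φ.hom) := by
  have hmono : ∀ ⦃x y : ℤᵒᵖ⦄ (f : x ⟶ y), Mono ((cokernel φ.hom).map f) := by
    intro x y f
    have hpq : y.unop ≤ x.unop := leOfHom f.unop
    apply Preadditive.mono_of_cancel_zero
    intro W c hc
    obtain ⟨W₁, π₁, hπ₁, t, ht⟩ := surjective_up_to_refinements_of_epi ((cokernel.π φ.hom).app x) c
    have h1 : (t ≫ Y.obj.map f) ≫ (cokernel.π φ.hom).app y = 0 := by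
      rw [Category.assoc, (cokernel.π φ.hom).naturality, ← Category.assoc, ← ht, Category.assoc, hc,
        comp_zero]
    obtain ⟨W₂, π₂, hπ₂, s, hs⟩ := cokernel_π_app_lift φ.hom y _ h1
    obtain ⟨W₃, π₃, hπ₃, s', hs'⟩ := hφ y.unop x.unop hpq s (π₂ ≫ t) (by
      rw [← hs, Category.assoc]
      congr 2)
    rw [← cancel_epi π₁, ← cancel_epi π₂, ← cancel_epi π₃, comp_zero, comp_zero, comp_zero, ht,
      ← Category.assoc π₂, ← Category.assoc π₃, hs', Category.assoc]
    have := cokernel_app_condition φ.hom x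
    rw [this, comp_zero]
  refine ⟨hmono, ?_, ?_⟩
  · obtain ⟨b, hb⟩ := Y.property.2.1
    exact ⟨b, fun p hp => IsZero.of_epi ((cokernel.π φ.hom).app (op p)) (hb p hp)⟩
  · obtain ⟨a, ha⟩ := Y.property.2.2
    refine ⟨a, fun x y f hx => ?_⟩
    have hiso : IsIso (Y.obj.map f) := ha f hx
    have := hmono f
    have hepi : Epi ((cokernel φ.hom).map f) := by
      have h2 : Epi (Y.obj.map f ≫ (cokernel.π φ.hom).app y) := inferInstance
      rw [(cokernel.π φ.hom).naturality] at h2
      exact epi_of_epi ((cokernel.π φ.hom).app x) _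
    exact isIso_of_mono_of_epi _

theorem gr_sc'_exact_of_isZero_homology (K : CochainComplex (FilF A) ℤ) (i j k : ℤ)
    (hij : i + 1 = j) (hjk : j + 1 = k)
    (h : ∀ p, IsZero (((grCx p).obj K).homology j)) (p : ℤ) :
    ((K.sc' i j k).map (grF A p)).Exact := by
  have h1 : ((grCx p).obj K).ExactAt j := by
    rw [HomologicalComplex.exactAt_iff_isZero_homology]
    exact h p
  rw [HomologicalComplex.exactAt_iff' _ i j k (by simp [← hij]) (by simp [← hjk])] at h1
  exact h1

/-- canonical truncation below of a filtered complex -/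
theorem exists_truncGE (K : CochainComplex (FilF A) ℤ) (a : ℤ)
    (hK : ∀ (p n : ℤ), n < a → IsZero (((grCx p).obj K).homology n)) :
    ∃ (L : CochainComplex (FilF A) ℤ) (φ : K ⟶ L), L.IsStrictlyGE a ∧ IsFilteredQuasiIso φ := by
  let K' := underCx.obj K
  haveI : K'.IsGE a := by
    rw [CochainComplex.isGE_iff]
    intro i hi
    exact under_exactAt K i (fun p => hK p i hi)
  have hstrict : StrictEl (K.d (a - 1) a) :=
    strictEl_g_of_gr_exact (K.sc' (a - 1 - 1) (a - 1) a)
      (gr_sc'_exact_of_isZero_homology K (a - 1 - 1) (a - 1) a (by ring) (by ring)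
        (fun p => hK p (a - 1) (by omega)))
  have hfin : ∀ n, IsFinFil A ((K'.truncGE a).X n) := by
    intro n
    rcases lt_trichotomy n a with hn | rfl | hn
    · exact isFinFil_of_isZero (CochainComplex.isZero_of_isStrictlyGE _ a n hn)
    · have e1 : (K'.truncGE n).X n ≅ K'.opcycles n := K'.truncGEXIsoOpcycles n
      have e2 := IsColimit.coconePointUniqueUpToIso (K'.opcyclesIsCokernel (n - 1) n (by simp))
          (cokernelIsCokernel (K'.d (n - 1) n))
      exact (IsFinFil A).prop_of_iso (e1 ≪≫ e2).symm (isFinFil_cokernel _ hstrict)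
    · exact (IsFinFil A).prop_of_iso (K'.truncGEXIso a n hn).symm (K.X n).property
  refine ⟨liftCx _ hfin, liftCxHomFrom _ hfin K (K'.πTruncGE a), ?_, ?_⟩
  · rw [CochainComplex.isStrictlyGE_iff]
    intro i hi
    exact isZero_of_isZero_obj _ (CochainComplex.isZero_of_isStrictlyGE (K'.truncGE a) a i hi)
  · exact isFilteredQuasiIso_of_levelwise _ (fun p => quasiIso_evCx_liftCxHomFrom _ hfin K _ p)

end Groth.Agent.Lib.Helper99.FilD
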