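import Groth.Agent.Lib.Helper99.FilAsm
set_option autoImplicit false
set_option linter.style.haveILetI false
set_option linter.unusedSectionVars false
universe v u
open CategoryTheory CategoryTheory.Limits Opposite
namespace Groth.Agent.Lib.Helper99.FilD
open _root_.FilD
variable {A : Type u} [Category.{v} A] [Abelian A]
open ZeroObject

section BiprodApp

variable (F G : ℤᵒᵖ ⥤ A) (x : ℤᵒᵖ)

theorem inl_fst_app : (biprod.inl : F ⟶ F ⊞ G).app x ≫ (biprod.fst : F ⊞ G ⟶ F).app x = 𝟙 _ := by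
  rw [← NatTrans.comp_app, biprod.inl_fst, NatTrans.id_app]

theorem inl_snd_app : (biprod.inl : F ⟶ F ⊞ G).app x ≫ (biprod.snd : F ⊞ G ⟶ G).app x = 0 := by
  rw [← NatTrans.comp_app, biprod.inl_snd, zero_app]

theorem inr_fst_app : (biprod.inr : G ⟶ F ⊞ G).app x ≫ (biprod.fst : F ⊞ G ⟶ F).app x = 0 := by
  rw [← NatTrans.comp_app, biprod.inr_fst, zero_app]

theorem inr_snd_app : (biprod.inr : G ⟶ F ⊞ G).app x ≫ (biprod.snd : F ⊞ G ⟶ G).app x = 𝟙 _ := by
  rw [← NatTrans.comp_app, biprod.inr_snd, NatTrans.id_app]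

variable {F G x}

theorem biprod_app_ext {W : A} (c₁ c₂ : W ⟶ (F ⊞ G).obj x)
    (h1 : c₁ ≫ (biprod.fst : F ⊞ G ⟶ F).app x = c₂ ≫ (biprod.fst : F ⊞ G ⟶ F).app x)
    (h2 : c₁ ≫ (biprod.snd : F ⊞ G ⟶ G).app x = c₂ ≫ (biprod.snd : F ⊞ G ⟶ G).app x) :
    c₁ = c₂ := by
  rw [← Category.comp_id c₁, ← Category.comp_id c₂, ← biprod_total_app, Preadditive.comp_add,
    Preadditive.comp_add, ← Category.assoc, ← Category.assoc, ← Category.assoc, ← Category.assoc,
    h1, h2]

/-- a pair of generalized elements as an element of the biproduct -/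
noncomputable def pairApp {W : A} (a : W ⟶ F.obj x) (b : W ⟶ G.obj x) : W ⟶ (F ⊞ G).obj x :=
  a ≫ (biprod.inl : F ⟶ F ⊞ G).app x + b ≫ (biprod.inr : G ⟶ F ⊞ G).app x

@[simp] theorem pairApp_fst {W : A} (a : W ⟶ F.obj x) (b : W ⟶ G.obj x) :
    pairApp a b ≫ (biprod.fst : F ⊞ G ⟶ F).app x = a := by
  rw [pairApp, Preadditive.add_comp, Category.assoc, Category.assoc, inl_fst_app, inr_fst_app,
    Category.comp_id, comp_zero, add_zero]

@[simp] theorem pairApp_snd {W : A} (a : W ⟶ F.obj x) (b : W ⟶ G.obj x) :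
    pairApp a b ≫ (biprod.snd : F ⊞ G ⟶ G).app x = b := by
  rw [pairApp, Preadditive.add_comp, Category.assoc, Category.assoc, inl_snd_app, inr_snd_app,
    Category.comp_id, comp_zero, zero_add]

theorem comp_pairApp {W W' : A} (π : W' ⟶ W) (a : W ⟶ F.obj x) (b : W ⟶ G.obj x) :
    π ≫ pairApp a b = pairApp (π ≫ a) (π ≫ b) := by
  apply biprod_app_ext <;> simp

theorem eq_pairApp {W : A} (c : W ⟶ (F ⊞ G).obj x) :
    c = pairApp (c ≫ (biprod.fst : F ⊞ G ⟶ F).app x) (c ≫ (biprod.snd : F ⊞ G ⟶ G).app x) := by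
  apply biprod_app_ext <;> simp

theorem desc_app {H : ℤᵒᵖ ⥤ A} (f : F ⟶ H) (g : G ⟶ H) :
    (biprod.desc f g).app x = (biprod.fst : F ⊞ G ⟶ F).app x ≫ f.app x +
      (biprod.snd : F ⊞ G ⟶ G).app x ≫ g.app x := by
  rw [biprod.desc_eq, NatTrans.app_add, NatTrans.comp_app, NatTrans.comp_app]

theorem pairApp_desc {W : A} {H : ℤᵒᵖ ⥤ A} (a : W ⟶ F.obj x) (b : W ⟶ G.obj x) (f : F ⟶ H)
    (g : G ⟶ H) : pairApp a b ≫ (biprod.desc f g).app x = a ≫ f.app x + b ≫ g.app x := by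
  rw [desc_app, Preadditive.comp_add, ← Category.assoc, ← Category.assoc, pairApp_fst, pairApp_snd]

end BiprodApp

/-- a levelwise epimorphism followed by a strict morphism is strict -/
theorem strictEl_comp_of_epi {X E I : FilF A} (π : X ⟶ E) (u : E ⟶ I)
    (hπ : ∀ p : ℤ, Epi (π.hom.app (op p))) (hu : StrictEl u) : StrictEl (π ≫ u) := by
  intro p q hpq W y z hyz
  have h1 : (y ≫ π.hom.app (op p)) ≫ u.hom.app (op p) = z ≫ I.obj.map (homOfLE hpq).op := by
    rw [Category.assoc]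
    exact hyz
  obtain ⟨W₁, π₁, hπ₁, y₁, hy₁⟩ := hu p q hpq _ z h1
  have := hπ q
  obtain ⟨W₂, π₂, hπ₂, y₂, hy₂⟩ := surjective_up_to_refinements_of_epi (π.hom.app (op q)) y₁
  refine ⟨W₂, π₂ ≫ π₁, inferInstance, y₂, ?_⟩
  rw [Category.assoc, hy₁, ← Category.assoc, hy₂, Category.assoc]
  rfl

section Stage

/-- the explicit biproduct of two finite filtered objects (reducible version) -/
noncomputable abbrev bipF (X Y : FilF A) : FilF A := ⟨X.obj ⊞ Y.obj, isFinFil_biprod X Y⟩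

variable (K : CochainComplex (FilF A) ℤ)

/-- the differential `K^n ⊕ P ⟶ K^{n+1} ⊕ Q` of the partial mapping cone -/
noncomputable def stageδ (n : ℤ) {P Q : FilF A} (α : K.X n ⟶ Q) (d : P ⟶ Q) :
    bipF (K.X n) P ⟶ bipF (K.X (n + 1)) Q :=
  ObjectProperty.homMk
    (biprod.lift (-(biprod.fst ≫ (K.d n (n + 1)).hom)) (biprod.desc α.hom d.hom))

/-- the map `K^n ⊕ P ⟶ Q` -/
noncomputable def stagee (n : ℤ) {P Q : FilF A} (α : K.X n ⟶ Q) (d : P ⟶ Q) :
    bipF (K.X n) P ⟶ Q :=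
  ObjectProperty.homMk (biprod.desc α.hom d.hom)

variable {K}

theorem stageδ_fst (n : ℤ) {P Q : FilF A} (α : K.X n ⟶ Q) (d : P ⟶ Q) (x : ℤᵒᵖ) :
    (stageδ K n α d).hom.app x ≫ (biprod.fst : (K.X (n + 1)).obj ⊞ Q.obj ⟶ _).app x =
      -((biprod.fst : (K.X n).obj ⊞ P.obj ⟶ _).app x ≫ (K.d n (n + 1)).hom.app x) := by
  have h : (stageδ K n α d).hom ≫ (biprod.fst : (K.X (n + 1)).obj ⊞ Q.obj ⟶ _) =
      -(biprod.fst ≫ (K.d n (n + 1)).hom) := biprod.lift_fst _ _
  have h2 := congrArg (fun t => NatTrans.app t x) h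
  exact h2

theorem stageδ_snd (n : ℤ) {P Q : FilF A} (α : K.X n ⟶ Q) (d : P ⟶ Q) (x : ℤᵒᵖ) :
    (stageδ K n α d).hom.app x ≫ (biprod.snd : (K.X (n + 1)).obj ⊞ Q.obj ⟶ _).app x =
      (stagee K n α d).hom.app x := by
  have h : (stageδ K n α d).hom ≫ (biprod.snd : (K.X (n + 1)).obj ⊞ Q.obj ⟶ _) =
      biprod.desc α.hom d.hom := biprod.lift_snd _ _
  have h2 := congrArg (fun t => NatTrans.app t x) h
  exact h2

theorem pairApp_stagee (n : ℤ) {P Q : FilF A} (α : K.X n ⟶ Q) (d : P ⟶ Q) (x : ℤᵒᵖ) {W : A}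
    (a : W ⟶ (K.X n).obj.obj x) (b : W ⟶ P.obj.obj x) :
    pairApp a b ≫ (stagee K n α d).hom.app x = a ≫ α.hom.app x + b ≫ d.hom.app x :=
  pairApp_desc a b α.hom d.hom

theorem pairApp_stageδ (n : ℤ) {P Q : FilF A} (α : K.X n ⟶ Q) (d : P ⟶ Q) (x : ℤᵒᵖ) {W : A}
    (a : W ⟶ (K.X n).obj.obj x) (b : W ⟶ P.obj.obj x) :
    pairApp a b ≫ (stageδ K n α d).hom.app x =
      pairApp (-(a ≫ (K.d n (n + 1)).hom.app x)) (a ≫ α.hom.app x + b ≫ d.hom.app x) := by
  apply biprod_app_ext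
  · rw [Category.assoc, stageδ_fst, Preadditive.comp_neg, ← Category.assoc, pairApp_fst, pairApp_fst]
  · rw [Category.assoc, stageδ_snd, pairApp_stagee, pairApp_snd]

/-- strictness of the partial cone differential from strictness of `e` -/
theorem strictEl_stageδ (n : ℤ) {P Q : FilF A} (α : K.X n ⟶ Q) (d : P ⟶ Q)
    (he : StrictEl (stagee K n α d))
    (hker : ∀ (p : ℤ) ⦃W : A⦄ (c : W ⟶ ((K.X n).obj ⊞ P.obj).obj (op p)),
      c ≫ (stagee K n α d).hom.app (op p) = 0 → c ≫ (stageδ K n α d).hom.app (op p) = 0) :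
    StrictEl (stageδ K n α d) := by
  intro p q hpq W y z hyz
  have hm : Mono ((bipF (K.X (n + 1)) Q).obj.map (homOfLE hpq).op) :=
    (bipF (K.X (n + 1)) Q).property.1 _
  -- second components
  have h1 : y ≫ (stagee K n α d).hom.app (op p) =
      (z ≫ (biprod.snd : (K.X (n + 1)).obj ⊞ Q.obj ⟶ _).app (op q)) ≫
        Q.obj.map (homOfLE hpq).op := by
    rw [← stageδ_snd, ← Category.assoc, hyz, Category.assoc, Category.assoc]
    congr 1
    exact (biprod.snd : (K.X (n + 1)).obj ⊞ Q.obj ⟶ _).naturality _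
  obtain ⟨W₁, π₁, hπ₁, y₁, hy₁⟩ := he p q hpq y _ h1
  refine ⟨W₁, π₁, hπ₁, y₁, ?_⟩
  rw [← cancel_mono ((bipF (K.X (n + 1)) Q).obj.map (homOfLE hpq).op), Category.assoc,
    Category.assoc, ← hyz, ← (stageδ K n α d).hom.naturality, ← Category.assoc, ← Category.assoc]
  -- difference lies in the kernel of e
  have h2a : (π₁ ≫ y) ≫ (stagee K n α d).hom.app (op p) =
      (π₁ ≫ z ≫ (biprod.snd : (K.X (n + 1)).obj ⊞ Q.obj ⟶ _).app (op q)) ≫
        Q.obj.map (homOfLE hpq).op := by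
    rw [Category.assoc, h1, ← Category.assoc]
  have h2b : (y₁ ≫ (bipF (K.X n) P).obj.map (homOfLE hpq).op) ≫
      (stagee K n α d).hom.app (op p) =
      (π₁ ≫ z ≫ (biprod.snd : (K.X (n + 1)).obj ⊞ Q.obj ⟶ _).app (op q)) ≫
        Q.obj.map (homOfLE hpq).op := by
    rw [Category.assoc, (stagee K n α d).hom.naturality, ← Category.assoc, ← hy₁]
  have h2 : (π₁ ≫ y - y₁ ≫ (bipF (K.X n) P).obj.map (homOfLE hpq).op) ≫
      (stagee K n α d).hom.app (op p) = 0 := by
    rw [Preadditive.sub_comp, h2a, h2b, sub_self]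
  have h3 := hker p _ h2
  rw [Preadditive.sub_comp, sub_eq_zero] at h3
  exact h3

end Stage

section Stage2

variable (K : CochainComplex (FilF A) ℤ)

/-- a stage of the inductive construction of a filtered injective resolution -/
structure Stage (n : ℤ) where
  Iprev : FilF A
  Icur : FilF A
  α : K.X n ⟶ Icur
  d : Iprev ⟶ Icur
  inj : IsFilteredInjective Icur
  estrict : StrictEl (stagee K n α d)
  kerδ : ∀ (p : ℤ) ⦃W : A⦄ (c : W ⟶ ((K.X n).obj ⊞ Iprev.obj).obj (op p)),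
    c ≫ (stagee K n α d).hom.app (op p) = 0 → c ≫ (stageδ K n α d).hom.app (op p) = 0
  αmono : ∀ p : ℤ, Mono (α.hom.app (op p))
  αstrict : StrictEl α

variable {K}

theorem strictEl_of_isZero_tgt {X Y : FilF A} (φ : X ⟶ Y)
    (hY : ∀ q : ℤ, IsZero (Y.obj.obj (op q))) : StrictEl φ := by
  intro p q hpq W y z _
  exact ⟨W, 𝟙 W, inferInstance, 0, (hY q).eq_of_tgt _ _⟩

/-- the trivial stage, in a degree where `K` vanishes -/
noncomputable def Stage.trivial (n : ℤ) (hz : IsZero (K.X n)) : Stage K n where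
  Iprev := zeroF
  Icur := zeroF
  α := 0
  d := 0
  inj := isFilteredInjective_constBelow 0 0
  estrict := strictEl_of_isZero_tgt _ isZero_zeroF_obj
  kerδ := by
    intro p W c _
    have hc : c = 0 := by
      apply biprod_app_ext
      · exact (((evF p).map_isZero hz)).eq_of_tgt _ _
      · exact (isZero_zeroF_obj p).eq_of_tgt _ _
    rw [hc, zero_comp]
  αmono := by
    intro p
    have h : IsZero ((K.X n).obj.obj (op p)) := (evF p).map_isZero hz
    exact ⟨fun g₁ g₂ _ => h.eq_of_tgt _ _⟩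
  αstrict := strictEl_of_isZero_tgt _ isZero_zeroF_obj

variable [EnoughInjectives A]

namespace Stage

variable {n : ℤ} (s : Stage K n)

theorem strict : StrictEl (stageδ K n s.α s.d) :=
  strictEl_stageδ n s.α s.d s.estrict s.kerδ

/-- the cokernel of the partial cone differential -/
noncomputable abbrev E : FilF A :=
  ⟨cokernel (stageδ K n s.α s.d).hom, isFinFil_cokernel _ s.strict⟩

noncomputable def πE : bipF (K.X (n + 1)) s.Icur ⟶ s.E :=
  ObjectProperty.homMk (cokernel.π (stageδ K n s.α s.d).hom)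

noncomputable def I' : FilF A := (exists_strictMono_into_filteredInjective s.E).choose

noncomputable def u : s.E ⟶ s.I' :=
  (exists_strictMono_into_filteredInjective s.E).choose_spec.choose

theorem I'_inj : IsFilteredInjective s.I' :=
  (exists_strictMono_into_filteredInjective s.E).choose_spec.choose_spec.1

instance u_mono : Mono s.u :=
  (exists_strictMono_into_filteredInjective s.E).choose_spec.choose_spec.2.1

theorem u_strict : IsStrict s.u :=
  (exists_strictMono_into_filteredInjective s.E).choose_spec.choose_spec.2.2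

noncomputable def e : bipF (K.X (n + 1)) s.Icur ⟶ s.I' := s.πE ≫ s.u

noncomputable def α' : K.X (n + 1) ⟶ s.I' :=
  (ObjectProperty.homMk biprod.inl : K.X (n + 1) ⟶ bipF (K.X (n + 1)) s.Icur) ≫ s.e

noncomputable def d' : s.Icur ⟶ s.I' :=
  (ObjectProperty.homMk biprod.inr : s.Icur ⟶ bipF (K.X (n + 1)) s.Icur) ≫ s.e

theorem stagee_eq : stagee K (n + 1) s.α' s.d' = s.e := by
  apply ObjectProperty.hom_ext
  change biprod.desc (biprod.inl ≫ s.e.hom) (biprod.inr ≫ s.e.hom) = s.e.hom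
  apply biprod.hom_ext' <;> simp

theorem δ_e : stageδ K n s.α s.d ≫ s.e = 0 := by
  have h : stageδ K n s.α s.d ≫ s.πE = 0 := by
    apply ObjectProperty.hom_ext
    exact cokernel.condition _
  rw [e, ← Category.assoc, h, zero_comp]

theorem e_strict : StrictEl s.e :=
  strictEl_comp_of_epi s.πE s.u (fun p => cokernel_π_app_epi _ (op p))
    (strictEl_of_isStrict _ s.u_strict)

theorem e_ker (p : ℤ) {W : A} (c : W ⟶ ((K.X (n + 1)).obj ⊞ s.Icur.obj).obj (op p))
    (hc : c ≫ s.e.hom.app (op p) = 0) :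
    ∃ (W' : A) (π : W' ⟶ W) (_ : Epi π) (c' : W' ⟶ ((K.X n).obj ⊞ s.Iprev.obj).obj (op p)),
      π ≫ c = c' ≫ (stageδ K n s.α s.d).hom.app (op p) := by
  have hm : Mono (s.u.hom.app (op p)) := mono_app_of_mono s.u (op p)
  have h1 : c ≫ (cokernel.π (stageδ K n s.α s.d).hom).app (op p) = 0 := by
    have h2 : (c ≫ (cokernel.π (stageδ K n s.α s.d).hom).app (op p)) ≫ s.u.hom.app (op p) =
        0 ≫ s.u.hom.app (op p) := by
      rw [Category.assoc, zero_comp]
      exact hc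
    exact (cancel_mono (s.u.hom.app (op p))).1 h2
  exact cokernel_π_app_lift _ _ c h1

theorem δ_δ' : stageδ K n s.α s.d ≫ stageδ K (n + 1) s.α' s.d' = 0 := by
  apply ObjectProperty.hom_ext
  change (stageδ K n s.α s.d).hom ≫ (stageδ K (n + 1) s.α' s.d').hom = 0
  apply biprod.hom_ext
  · have h1 : (stageδ K (n + 1) s.α' s.d').hom ≫ biprod.fst =
        -(biprod.fst ≫ (K.d (n + 1) (n + 1 + 1)).hom) := biprod.lift_fst _ _
    have h2 : (stageδ K n s.α s.d).hom ≫ biprod.fst =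
        -(biprod.fst ≫ (K.d n (n + 1)).hom) := biprod.lift_fst _ _
    have h3 : (K.d n (n + 1)).hom ≫ (K.d (n + 1) (n + 1 + 1)).hom = 0 :=
      congrArg (fun t => t.hom) (K.d_comp_d n (n + 1) (n + 1 + 1))
    rw [Category.assoc, h1, Preadditive.comp_neg, ← Category.assoc, h2, Preadditive.neg_comp,
      Category.assoc, h3, comp_zero, neg_zero, neg_zero, zero_comp]
  · have h1 : (stageδ K (n + 1) s.α' s.d').hom ≫ biprod.snd =
        (stagee K (n + 1) s.α' s.d').hom := biprod.lift_snd _ _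
    have h2 : (stageδ K n s.α s.d).hom ≫ s.e.hom = 0 := congrArg (fun t => t.hom) s.δ_e
    rw [Category.assoc, h1, stagee_eq, h2, zero_comp]

theorem kerδ' (p : ℤ) ⦃W : A⦄ (c : W ⟶ ((K.X (n + 1)).obj ⊞ s.Icur.obj).obj (op p))
    (hc : c ≫ (stagee K (n + 1) s.α' s.d').hom.app (op p) = 0) :
    c ≫ (stageδ K (n + 1) s.α' s.d').hom.app (op p) = 0 := by
  rw [stagee_eq] at hc
  obtain ⟨W', π, hπ, c', hc'⟩ := s.e_ker p c hc
  have h0 : (stageδ K n s.α s.d).hom.app (op p) ≫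
      (stageδ K (n + 1) s.α' s.d').hom.app (op p) = 0 :=
    congrArg (fun t => t.hom.app (op p)) s.δ_δ'
  rw [← cancel_epi π, ← Category.assoc, hc', Category.assoc, h0, comp_zero, comp_zero]

/-- the exactness property of the new stage -/
theorem exact' (p : ℤ) ⦃W : A⦄ (x : W ⟶ (K.X (n + 1)).obj.obj (op p))
    (i : W ⟶ s.Icur.obj.obj (op p))
    (h : x ≫ s.α'.hom.app (op p) + i ≫ s.d'.hom.app (op p) = 0) :
    ∃ (W' : A) (π : W' ⟶ W) (_ : Epi π) (x' : W' ⟶ (K.X n).obj.obj (op p))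
      (i' : W' ⟶ s.Iprev.obj.obj (op p)),
      π ≫ x = -x' ≫ (K.d n (n + 1)).hom.app (op p) ∧
      π ≫ i = x' ≫ s.α.hom.app (op p) + i' ≫ s.d.hom.app (op p) := by
  have hc : pairApp x i ≫ s.e.hom.app (op p) = 0 := by
    rw [← stagee_eq, pairApp_stagee]
    exact h
  obtain ⟨W', π, hπ, c', hc'⟩ := s.e_ker p _ hc
  rw [eq_pairApp c', pairApp_stageδ, comp_pairApp] at hc'
  refine ⟨W', π, hπ, c' ≫ (biprod.fst : (K.X n).obj ⊞ s.Iprev.obj ⟶ _).app (op p),
    c' ≫ (biprod.snd : (K.X n).obj ⊞ s.Iprev.obj ⟶ _).app (op p), ?_, ?_⟩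
  · have := congrArg (fun t => t ≫ (biprod.fst : (K.X (n + 1)).obj ⊞ s.Icur.obj ⟶ _).app (op p)) hc'
    simpa using this
  · have := congrArg (fun t => t ≫ (biprod.snd : (K.X (n + 1)).obj ⊞ s.Icur.obj ⟶ _).app (op p)) hc'
    simpa using this

theorem α_d' : s.α ≫ s.d' = K.d n (n + 1) ≫ s.α' := by
  have h0 : (stageδ K n s.α s.d).hom ≫ s.e.hom = 0 := congrArg (fun t => t.hom) s.δ_e
  have h1 : (biprod.inl : (K.X n).obj ⟶ (K.X n).obj ⊞ s.Iprev.obj) ≫ (stageδ K n s.α s.d).hom =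
      -((K.d n (n + 1)).hom ≫ biprod.inl) + s.α.hom ≫ biprod.inr := by
    apply biprod.hom_ext
    · have h2 : (stageδ K n s.α s.d).hom ≫ biprod.fst =
          -(biprod.fst ≫ (K.d n (n + 1)).hom) := biprod.lift_fst _ _
      rw [Category.assoc, h2]
      simp
    · have h2 : (stageδ K n s.α s.d).hom ≫ biprod.snd = biprod.desc s.α.hom s.d.hom :=
        biprod.lift_snd _ _
      rw [Category.assoc, h2]
      simp
  have h3 := congrArg (fun t => (biprod.inl : (K.X n).obj ⟶ (K.X n).obj ⊞ s.Iprev.obj) ≫ t) h0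
  simp only [comp_zero] at h3
  rw [← Category.assoc, h1, Preadditive.add_comp, Preadditive.neg_comp, Category.assoc,
    Category.assoc, neg_add_eq_zero] at h3
  apply ObjectProperty.hom_ext
  exact h3.symm

theorem d_d' : s.d ≫ s.d' = 0 := by
  have h0 : (stageδ K n s.α s.d).hom ≫ s.e.hom = 0 := congrArg (fun t => t.hom) s.δ_e
  have h1 : (biprod.inr : s.Iprev.obj ⟶ (K.X n).obj ⊞ s.Iprev.obj) ≫ (stageδ K n s.α s.d).hom =
      s.d.hom ≫ biprod.inr := by
    apply biprod.hom_ext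
    · have h2 : (stageδ K n s.α s.d).hom ≫ biprod.fst =
          -(biprod.fst ≫ (K.d n (n + 1)).hom) := biprod.lift_fst _ _
      rw [Category.assoc, h2]
      simp
    · have h2 : (stageδ K n s.α s.d).hom ≫ biprod.snd = biprod.desc s.α.hom s.d.hom :=
        biprod.lift_snd _ _
      rw [Category.assoc, h2]
      simp
  have h3 := congrArg (fun t => (biprod.inr : s.Iprev.obj ⟶ (K.X n).obj ⊞ s.Iprev.obj) ≫ t) h0
  simp only [comp_zero] at h3
  rw [← Category.assoc, h1, Category.assoc] at h3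
  apply ObjectProperty.hom_ext
  exact h3

theorem α'_app (p : ℤ) {W : A} (x : W ⟶ (K.X (n + 1)).obj.obj (op p)) :
    x ≫ s.α'.hom.app (op p) = pairApp x 0 ≫ s.e.hom.app (op p) := by
  rw [← stagee_eq, pairApp_stagee, zero_comp, add_zero]

theorem α'_mono (p : ℤ) : Mono (s.α'.hom.app (op p)) := by
  apply Preadditive.mono_of_cancel_zero
  intro W x hx
  obtain ⟨W', π, hπ, x', i', h1, h2⟩ := s.exact' p x 0 (by rw [hx, zero_comp, add_zero])
  rw [comp_zero] at h2
  have h3 : pairApp x' i' ≫ (stageδ K n s.α s.d).hom.app (op p) = 0 := by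
    apply s.kerδ
    rw [pairApp_stagee]
    exact h2.symm
  rw [pairApp_stageδ] at h3
  have h4 := congrArg (fun t => t ≫ (biprod.fst : (K.X (n + 1)).obj ⊞ s.Icur.obj ⟶ _).app (op p)) h3
  simp only [pairApp_fst, zero_comp] at h4
  rw [← cancel_epi π, h1, comp_zero]
  rw [← Preadditive.neg_comp]
  rw [← Preadditive.neg_comp] at h4
  exact h4

theorem α'_strict : StrictEl s.α' := by
  intro p q hpq W y z hyz
  -- (y, 0) ≫ e(p) = z ↓
  have h1 : pairApp y 0 ≫ s.e.hom.app (op p) = z ≫ s.I'.obj.map (homOfLE hpq).op := by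
    rw [← α'_app]
    exact hyz
  obtain ⟨W₁, π₁, hπ₁, c₁, hc₁⟩ := s.e_strict p q hpq _ z h1
  -- c₁↓ - π₁ ≫ (y,0) lies in the kernel of e(p)
  have h2 : (c₁ ≫ (bipF (K.X (n + 1)) s.Icur).obj.map (homOfLE hpq).op - π₁ ≫ pairApp y 0) ≫
      s.e.hom.app (op p) = 0 := by
    rw [Preadditive.sub_comp, Category.assoc, s.e.hom.naturality, ← Category.assoc, ← hc₁,
      Category.assoc, Category.assoc, h1, sub_self]
  obtain ⟨W₂, π₂, hπ₂, c₂, hc₂⟩ := s.e_ker p _ h2
  -- second components: i₁↓ = e_s(c₂)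
  have h3 : (π₂ ≫ c₁ ≫ (biprod.snd : (K.X (n + 1)).obj ⊞ s.Icur.obj ⟶ _).app (op q)) ≫
      s.Icur.obj.map (homOfLE hpq).op = c₂ ≫ (stagee K n s.α s.d).hom.app (op p) := by
    have := congrArg (fun t => t ≫ (biprod.snd : (K.X (n + 1)).obj ⊞ s.Icur.obj ⟶ _).app (op p)) hc₂
    simp only [Category.assoc, stageδ_snd, Preadditive.comp_sub, Preadditive.sub_comp,
      pairApp_snd, comp_zero, sub_zero] at this
    rw [← this, Category.assoc, Category.assoc]
    congr 2
    exact ((biprod.snd : (K.X (n + 1)).obj ⊞ s.Icur.obj ⟶ _).naturality _).symm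
  obtain ⟨W₃, π₃, hπ₃, c₃, hc₃⟩ := s.estrict p q hpq c₂ _ h3.symm
  -- the corrected element
  refine ⟨W₃, π₃ ≫ π₂ ≫ π₁, inferInstance,
    (π₃ ≫ π₂ ≫ c₁ ≫ (biprod.fst : (K.X (n + 1)).obj ⊞ s.Icur.obj ⟶ _).app (op q)) +
      (c₃ ≫ (biprod.fst : (K.X n).obj ⊞ s.Iprev.obj ⟶ _).app (op q)) ≫
        (K.d n (n + 1)).hom.app (op q), ?_⟩
  rw [α'_app]
  have h4 : pairApp ((π₃ ≫ π₂ ≫ c₁ ≫ (biprod.fst : (K.X (n + 1)).obj ⊞ s.Icur.obj ⟶ _).app (op q)) +
      (c₃ ≫ (biprod.fst : (K.X n).obj ⊞ s.Iprev.obj ⟶ _).app (op q)) ≫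
        (K.d n (n + 1)).hom.app (op q)) 0 =
      (π₃ ≫ π₂) ≫ c₁ - c₃ ≫ (stageδ K n s.α s.d).hom.app (op q) := by
    have h6 : (c₃ ≫ (stageδ K n s.α s.d).hom.app (op q)) ≫
        (biprod.fst : (K.X (n + 1)).obj ⊞ s.Icur.obj ⟶ _).app (op q) =
        -((c₃ ≫ (biprod.fst : (K.X n).obj ⊞ s.Iprev.obj ⟶ _).app (op q)) ≫
          (K.d n (n + 1)).hom.app (op q)) := by
      rw [Category.assoc, stageδ_fst, Preadditive.comp_neg, Category.assoc]
    have h7 : (c₃ ≫ (stageδ K n s.α s.d).hom.app (op q)) ≫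
        (biprod.snd : (K.X (n + 1)).obj ⊞ s.Icur.obj ⟶ _).app (op q) =
        c₃ ≫ (stagee K n s.α s.d).hom.app (op q) := by
      rw [Category.assoc, stageδ_snd]
    apply biprod_app_ext
    · rw [pairApp_fst, Preadditive.sub_comp, h6, sub_neg_eq_add]
      simp only [Category.assoc]
    · rw [pairApp_snd, Preadditive.sub_comp, h7, ← hc₃]
      simp
  have h5 : (stageδ K n s.α s.d).hom.app (op q) ≫ s.e.hom.app (op q) = 0 :=
    congrArg (fun t => t.hom.app (op q)) s.δ_e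
  rw [h4, Preadditive.sub_comp, Category.assoc c₃, h5, comp_zero, sub_zero, Category.assoc,
    Category.assoc, Category.assoc, Category.assoc, hc₁]

/-- the next stage -/
noncomputable def next : Stage K (n + 1) where
  Iprev := s.Icur
  Icur := s.I'
  α := s.α'
  d := s.d'
  inj := s.I'_inj
  estrict := by
    rw [stagee_eq]
    exact s.e_strict
  kerδ := s.kerδ'
  αmono := s.α'_mono
  αstrict := s.α'_strict

end Stage

end Stage2

section Sequence

variable (K : CochainComplex (FilF A) ℤ) [K.IsStrictlyGE 0] [EnoughInjectives A]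

/-- the stages of the resolution -/
noncomputable def stageN : ∀ k : ℕ, Stage K (Int.ofNat k)
  | 0 => (Stage.trivial (K := K) (Int.negSucc 0) (isZero_X_negSucc K 0)).next
  | k + 1 => (stageN k).next

noncomputable def resIx (k : ℕ) : FilF A := (stageN K k).Icur

noncomputable def resα (k : ℕ) : K.X k ⟶ resIx K k := (stageN K k).α

noncomputable def resd (k : ℕ) : resIx K k ⟶ resIx K (k + 1) := (stageN K (k + 1)).d

theorem resα_resd (k : ℕ) : resα K k ≫ resd K k = K.d k (k + 1 : ℕ) ≫ resα K (k + 1) :=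
  (stageN K k).α_d'

theorem resd_sq (k : ℕ) : resd K k ≫ resd K (k + 1) = 0 := (stageN K (k + 1)).d_d'

theorem strictEl_of_isZero_src {X Y : FilF A} (φ : X ⟶ Y) (hX : IsZero X) (hY : IsZero Y) :
    StrictEl φ := by
  apply strictEl_of_isZero_tgt
  intro q
  exact (evF q).map_isZero hY

/-- bounded below filtered injective resolutions, for complexes in degrees `≥ 0` -/
theorem exists_resolution_zero :
    ∃ (I : CochainComplex (FilF A) ℤ) (φ : K ⟶ I), I.IsStrictlyGE 0 ∧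
      (∀ n, IsFilteredInjective (I.X n)) ∧ IsFilteredQuasiIso φ ∧
      ∀ n, Mono (φ.f n) ∧ IsStrict (φ.f n) := by
  refine ⟨asmCx (resIx K) (resd K) (resd_sq K), asmHom K (resIx K) (resd K) (resd_sq K) (resα K)
    (resα_resd K), inferInstance, ?_, ?_, ?_⟩
  · exact asmCx_filteredInjective _ _ _ (fun k => (stageN K k).inj)
  · apply asmHom_filteredQuasiIso
    · exact (stageN K 0).αmono
    · intro p W x i h
      obtain ⟨W', π, hπ, x', i', h1, h2⟩ := (stageN K 0).exact' p x i h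
      have hi' : i' = 0 := (isZero_zeroF_obj p).eq_of_tgt _ _
      refine ⟨W', π, hπ, x', h1, ?_⟩
      rw [hi', zero_comp, add_zero] at h2
      exact h2
    · intro k p W x i h
      exact (stageN K (k + 1)).exact' p x i h
  · intro n
    cases n with
    | ofNat k =>
      exact ⟨mono_of_mono_app _ (stageN K k).αmono, isStrict_of_strictEl _ (stageN K k).αstrict⟩
    | negSucc k =>
      have hz : IsZero (K.X (Int.negSucc k)) := isZero_X_negSucc K k
      refine ⟨⟨fun g₁ g₂ _ => hz.eq_of_tgt _ _⟩, isStrict_of_strictEl _ ?_⟩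
      exact strictEl_of_isZero_tgt _ isZero_zeroF_obj

end Sequence


section Reindex

variable {C : Type*} [Category C] [HasZeroMorphisms C]

/-- reindexing a cochain complex by a translation (no signs) -/
def reidx (K : CochainComplex C ℤ) (t : ℤ) : CochainComplex C ℤ where
  X n := K.X (n + t)
  d i j := K.d (i + t) (j + t)
  shape i j hij := K.shape _ _ (by
    intro h
    apply hij
    change i + t + 1 = j + t at h
    change i + 1 = j
    omega)
  d_comp_d' i j k _ _ := K.d_comp_d _ _ _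

/-- functoriality of reindexing -/
def reidxMap {K L : CochainComplex C ℤ} (ψ : K ⟶ L) (t : ℤ) : reidx K t ⟶ reidx L t where
  f n := ψ.f (n + t)
  comm' i j _ := ψ.comm _ _

/-- reindexing back and forth -/
def reidxBack (K : CochainComplex C ℤ) (a : ℤ) : K ⟶ reidx (reidx K a) (-a) where
  f m := (K.XIsoOfEq (by ring : m = m + -a + a)).hom
  comm' i j _ := by
    change (K.XIsoOfEq _).hom ≫ K.d (i + -a + a) (j + -a + a) = K.d i j ≫ (K.XIsoOfEq _).hom
    rw [HomologicalComplex.XIsoOfEq_hom_comp_d, HomologicalComplex.d_comp_XIsoOfEq_hom]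

instance (K : CochainComplex C ℤ) (a : ℤ) : IsIso (reidxBack K a) := by
  have : ∀ m, IsIso ((reidxBack K a).f m) := by
    intro m
    change IsIso (K.XIsoOfEq (by ring : m = m + -a + a)).hom
    infer_instance
  exact HomologicalComplex.Hom.isIso_of_components _

end Reindex

theorem quasiIso_reidxMap {K L : CochainComplex A ℤ} (ψ : K ⟶ L) [QuasiIso ψ] (t : ℤ) :
    QuasiIso (reidxMap ψ t) := by
  rw [quasiIso_iff]
  intro m
  rw [quasiIsoAt_iff' _ (m - 1) m (m + 1) (by simp) (by simp)]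
  have h : QuasiIsoAt ψ (m + t) := inferInstance
  rw [quasiIsoAt_iff' _ (m - 1 + t) (m + t) (m + 1 + t) (by simp; omega) (by simp; omega)] at h
  exact h

theorem isStrict_XIsoOfEq_comp (K : CochainComplex (FilF A) ℤ) {m m' : ℤ} (h : m = m')
    {Y : FilF A} (ψ : K.X m' ⟶ Y) (hψ : Mono ψ ∧ IsStrict ψ) :
    Mono ((K.XIsoOfEq h).hom ≫ ψ) ∧ IsStrict ((K.XIsoOfEq h).hom ≫ ψ) := by
  subst h
  simpa [HomologicalComplex.XIsoOfEq] using hψ

/-- bounded below filtered injective resolutions -/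
theorem exists_resolution [EnoughInjectives A] (K : CochainComplex (FilF A) ℤ) (a : ℤ)
    [K.IsStrictlyGE a] :
    ∃ (I : CochainComplex (FilF A) ℤ) (φ : K ⟶ I), I.IsStrictlyGE a ∧
      (∀ n, IsFilteredInjective (I.X n)) ∧ IsFilteredQuasiIso φ ∧
      ∀ n, Mono (φ.f n) ∧ IsStrict (φ.f n) := by
  haveI : (reidx K a).IsStrictlyGE 0 := by
    rw [CochainComplex.isStrictlyGE_iff]
    intro i hi
    exact K.isZero_of_isStrictlyGE a (i + a) (by omega)
  obtain ⟨I₀, φ₀, h1, h2, h3, h4⟩ := exists_resolution_zero (reidx K a)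
  refine ⟨reidx I₀ (-a), reidxBack K a ≫ reidxMap φ₀ (-a), ?_, ?_, ?_, ?_⟩
  · rw [CochainComplex.isStrictlyGE_iff]
    intro i hi
    exact I₀.isZero_of_isStrictlyGE 0 (i + -a) (by omega)
  · intro n
    exact h2 (n + -a)
  · intro p
    rw [Functor.map_comp]
    haveI : QuasiIso ((grCx p).map φ₀) := h3 p
    haveI : QuasiIso ((grCx p).map (reidxMap φ₀ (-a))) :=
      quasiIso_reidxMap ((grCx p).map φ₀) (-a)
    infer_instance
  · intro n
    exact isStrict_XIsoOfEq_comp K (by ring : n = n + -a + a) (φ₀.f (n + -a)) (h4 (n + -a))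

end Groth.Agent.Lib.Helper99.FilD
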