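import Mathlib
import Groth.Agent.Lib.Helper99.KInjDerC
import Groth.Agent.Lib.Helper68.ExtAdj

set_option autoImplicit false
universe w w' v v' u u'
open CategoryTheory Limits

namespace Groth.Agent.Lib.Helper99.KInj

section AdjC

variable {A : Type u} [Category.{v} A] [Abelian A] [IsGrothendieckAbelian.{v} A]
  [HasDerivedCategory.{w} A]
  {A' : Type u'} [Category.{v'} A'] [Abelian A'] [HasDerivedCategory.{w'} A']
  (F : A' ⥤ A) (G : A ⥤ A') (adj : F ⊣ G) [F.Additive] [G.Additive]
  [PreservesFiniteLimits F] [PreservesFiniteColimits F]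
  (RG : DerivedCategory A ⥤ DerivedCategory A')
  (β : G.mapHomologicalComplex (ComplexShape.up ℤ) ⋙ DerivedCategory.Q ⟶ DerivedCategory.Q ⋙ RG)
  [RG.IsRightDerivedFunctor β (HomologicalComplex.quasiIso A (ComplexShape.up ℤ))]

omit [IsGrothendieckAbelian.{v} A] [HasDerivedCategory.{w} A] in
theorem isInvertedBy_mapHomologicalComplex_comp_Q :
    (HomologicalComplex.homotopyEquivalences A (ComplexShape.up ℤ)).IsInvertedBy
      (G.mapHomologicalComplex (ComplexShape.up ℤ) ⋙ (DerivedCategory.Q : _ ⥤ DerivedCategory A')) := by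
  rintro K L f ⟨e, rfl⟩
  have h : HomologicalComplex.homotopyEquivalences A' (ComplexShape.up ℤ)
      ((G.mapHomologicalComplex (ComplexShape.up ℤ)).map e.hom) := ⟨G.mapHomotopyEquiv e, rfl⟩
  have hq : QuasiIso ((G.mapHomologicalComplex (ComplexShape.up ℤ)).map e.hom) :=
    homotopyEquivalences_le_quasiIso _ _ _ h
  exact inferInstanceAs (IsIso (DerivedCategory.Q.map
    ((G.mapHomologicalComplex (ComplexShape.up ℤ)).map e.hom)))

instance : F.mapDerivedCategory.IsLeftDerivedFunctor F.mapDerivedCategoryFactors.hom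
    (HomologicalComplex.quasiIso A' (ComplexShape.up ℤ)) :=
  Functor.isLeftDerivedFunctor_of_inverts _ _ _

instance : (F.mapDerivedCategory ⋙ RG).IsLeftDerivedFunctor
    ((Functor.associator _ _ _).inv ≫ Functor.whiskerRight F.mapDerivedCategoryFactors.hom RG)
    (HomologicalComplex.quasiIso A' (ComplexShape.up ℤ)) :=
  Functor.isLeftDerivedFunctor_of_inverts _ _
    ((Functor.associator _ _ _).symm ≪≫ Functor.isoWhiskerRight F.mapDerivedCategoryFactors RG)

/-- the derived adjunction (complex level) -/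
noncomputable def derivedAdjC : F.mapDerivedCategory ⊣ RG :=
  haveI := isRightDerivedFunctor_comp_C _ (isInvertedBy_mapHomologicalComplex_comp_Q G) RG β
    F.mapDerivedCategory
  (Groth.Agent.Lib.Helper68.ExtAdj.adjCx adj).derived
    (HomologicalComplex.quasiIso A' (ComplexShape.up ℤ))
    (HomologicalComplex.quasiIso A (ComplexShape.up ℤ)) F.mapDerivedCategoryFactors.hom β

end AdjC

end Groth.Agent.Lib.Helper99.KInj
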