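import Mathlib.CategoryTheory.Abelian.GrothendieckCategory.EnoughInjectives
import Mathlib.CategoryTheory.Abelian.Refinements
import Mathlib.CategoryTheory.Functor.OfSequence
import Mathlib.Algebra.Homology.GrothendieckAbelian

set_option autoImplicit false
universe w v u
open CategoryTheory CategoryTheory.Limits

namespace Groth.Agent.Lib.Helper99.KInj

section Cover
variable {C : Type u} [Category.{v} C] [Abelian C]

/-- A jointly epimorphic family (tested against zero). -/
def Cover {X : C} {ι : Type w} {Y : ι → C} (c : ∀ i, Y i ⟶ X) : Prop :=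
  ∀ ⦃R : C⦄ (a : X ⟶ R), (∀ i, c i ≫ a = 0) → a = 0

theorem factors_iff_comp_cokernel {X W : C} (S : Subobject X) (f : W ⟶ X) :
    S.Factors f ↔ f ≫ cokernel.π S.arrow = 0 := by
  constructor
  · intro h
    rw [← S.factorThru_arrow f h, Category.assoc, cokernel.condition, comp_zero]
  · intro h
    rw [Subobject.factors_iff]
    exact ⟨(Abelian.monoIsKernelOfCokernel _ (colimit.isColimit _)).lift (KernelFork.ofι f h),
      (Abelian.monoIsKernelOfCokernel _ (colimit.isColimit _)).fac _ WalkingParallelPair.zero⟩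

variable [IsGrothendieckAbelian.{v} C]

theorem cover_iSup {X : C} {ι : Type w} {Y : ι → C} (c : ∀ i, Y i ⟶ X)
    (S : Subobject X) (hS : S = ⨆ i, imageSubobject (c i)) (h : ∀ i, S.Factors (c i)) :
    Cover (fun i => S.factorThru (c i) (h i)) := by
  intro R a ha
  let K : Subobject X := Subobject.mk (kernel.ι a ≫ S.arrow)
  have hK : ∀ i, K.Factors (c i) := by
    intro i
    rw [Subobject.mk_factors_iff]
    exact ⟨kernel.lift a _ (ha i), by simp⟩
  have hle : S ≤ K := by
    rw [hS]
    exact iSup_le (fun i => imageSubobject_le _ (K.factorThru (c i) (hK i)) (by simp))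
  have hf : K.Factors S.arrow := Subobject.factors_of_le _ hle (Subobject.factors_self S)
  rw [Subobject.mk_factors_iff] at hf
  obtain ⟨u, hu⟩ : ∃ u : (S : C) ⟶ kernel a, u ≫ (kernel.ι a ≫ S.arrow) = S.arrow := hf
  have h1 : u ≫ kernel.ι a = 𝟙 _ := by
    rw [← cancel_mono S.arrow, Category.assoc, hu, Category.id_comp]
  calc a = (u ≫ kernel.ι a) ≫ a := by rw [h1, Category.id_comp]
    _ = 0 := by rw [Category.assoc, kernel.condition, comp_zero]

theorem factors_iSup_image {X : C} {ι : Type w} {Y : ι → C} (c : ∀ i, Y i ⟶ X) (i : ι) :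
    (⨆ i, imageSubobject (c i)).Factors (c i) :=
  Subobject.factors_of_le _ (le_iSup (fun i => imageSubobject (c i)) i)
    (by simpa using imageSubobject_factors_comp_self (f := c i) (𝟙 _))

/-- if all generators of `S = ⨆ im(c i)` are mapped by `f` into `S'` then so is `S` -/
theorem factors_of_gen {X X' : C} {ι : Type w} {Y : ι → C} (c : ∀ i, Y i ⟶ X) (f : X ⟶ X')
    (S' : Subobject X') (h : ∀ i, S'.Factors (c i ≫ f)) :
    S'.Factors ((⨆ i, imageSubobject (c i)).arrow ≫ f) := by
  rw [factors_iff_comp_cokernel, Category.assoc]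
  apply cover_iSup c _ rfl (factors_iSup_image c)
  intro i
  dsimp
  rw [Subobject.factorThru_arrow_assoc, ← Category.assoc, ← factors_iff_comp_cokernel]
  exact h i

theorem cover_sep {G : C} (hG : IsSeparator G) (X : C) : Cover (fun f : G ⟶ X => f) := by
  intro R a ha
  exact hG.def _ _ (fun h => by rw [ha h, comp_zero])

theorem Cover.epi_desc {X : C} {ι : Type w} {Y : ι → C} [HasCoproduct Y] {c : ∀ i, Y i ⟶ X}
    (hc : Cover c) : Epi (Sigma.desc c) := by
  apply Abelian.epi_of_cokernel_π_eq_zero
  apply hc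
  intro i
  rw [← Sigma.ι_desc c i, Category.assoc, cokernel.condition, comp_zero]

theorem cover_of_epi_desc {X : C} {ι : Type w} {Y : ι → C} [HasCoproduct Y] (c : ∀ i, Y i ⟶ X)
    [Epi (Sigma.desc c)] : Cover c := by
  intro R a ha
  rw [← cancel_epi (Sigma.desc c), comp_zero]
  ext i
  simp [ha i]

/-- covering `G` by `Subobject G`-many sections of an epimorphism `P ⟶ G`. -/
theorem exists_cover_of_epi {G : C} (hG : IsSeparator G) {P : C} (p : P ⟶ G) [Epi p] :
    ∃ s : Shrink.{v} (Subobject G) → (G ⟶ P), Cover (fun V => s V ≫ p) := by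
  classical
  let s : Shrink.{v} (Subobject G) → (G ⟶ P) := fun V =>
    if h : ∃ g : G ⟶ P, imageSubobject (g ≫ p) = (equivShrink _).symm V then h.choose else 0
  refine ⟨s, ?_⟩
  intro R a ha
  rw [← cancel_epi p, comp_zero]
  apply cover_sep hG P
  intro g
  dsimp
  have hex : ∃ g' : G ⟶ P, imageSubobject (g' ≫ p) =
      (equivShrink _).symm (equivShrink _ (imageSubobject (g ≫ p))) := ⟨g, by simp⟩
  have h1 := ha (equivShrink _ (imageSubobject (g ≫ p)))
  have h2 := hex.choose_spec
  simp only [s, dif_pos hex] at h1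
  have h2 : imageSubobject (hex.choose ≫ p) = imageSubobject (g ≫ p) := by simpa using h2
  have key : ∀ (V : Subobject G), V = imageSubobject (hex.choose ≫ p) → V.arrow ≫ a = 0 := by
    rintro _ rfl
    rw [← cancel_epi (factorThruImageSubobject (hex.choose ≫ p)), comp_zero,
      imageSubobject_arrow_comp_assoc]
    simpa using h1
  have h3 := key _ h2.symm
  rw [← Category.assoc, ← imageSubobject_arrow_comp (g ≫ p), Category.assoc, h3, comp_zero]

/-- lifting an element along a map through whose image it factors, after a small cover -/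
theorem exists_lift_elt {G : C} (hG : IsSeparator G) {X' X : C} (f : X' ⟶ X) (x : G ⟶ X)
    (hx : (imageSubobject f).Factors x) :
    ∃ (w : Shrink.{v} (Subobject G) → (G ⟶ X')) (a : Shrink.{v} (Subobject G) → (G ⟶ G)),
      (∀ V, w V ≫ f = a V ≫ x) ∧ Cover a := by
  let ζ := (imageSubobject f).factorThru x hx
  have : Epi (pullback.snd (factorThruImageSubobject f) ζ) :=
    Abelian.epi_pullback_of_epi_f _ _
  obtain ⟨s, hs⟩ := exists_cover_of_epi hG (pullback.snd (factorThruImageSubobject f) ζ)
  refine ⟨fun V => s V ≫ pullback.fst _ _, fun V => s V ≫ pullback.snd _ _, ?_, hs⟩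
  intro V
  have h1 : pullback.fst (factorThruImageSubobject f) ζ ≫ f =
      pullback.snd (factorThruImageSubobject f) ζ ≫ x := by
    calc pullback.fst (factorThruImageSubobject f) ζ ≫ f
        = (pullback.fst (factorThruImageSubobject f) ζ ≫ factorThruImageSubobject f) ≫
          (imageSubobject f).arrow := by rw [Category.assoc, imageSubobject_arrow_comp]
      _ = (pullback.snd (factorThruImageSubobject f) ζ ≫ ζ) ≫ (imageSubobject f).arrow := by
          rw [pullback.condition]
      _ = _ := by rw [Category.assoc, Subobject.factorThru_arrow]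
  rw [Category.assoc, Category.assoc, h1]

theorem imageSubobject_le_of_factors {X W : C} (S : Subobject X) (f : W ⟶ X) (h : S.Factors f) :
    imageSubobject f ≤ S :=
  imageSubobject_le f (S.factorThru f h) (by simp)

theorem factors_of_imageSubobject_le {X W : C} (S : Subobject X) (f : W ⟶ X)
    (h : imageSubobject f ≤ S) : S.Factors f :=
  Subobject.factors_of_le _ h (by simpa using imageSubobject_factors_comp_self (f := f) (𝟙 _))

/-- a subobject of a `T`-generated subobject is generated by `Hom(G, ∐_T G)` elements -/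
theorem exists_gen_of_le {G : C} (hG : IsSeparator G) {X : C} {T : Type v} (y : T → (G ⟶ X))
    (S' : Subobject X) (hS' : S' ≤ ⨆ t, imageSubobject (y t)) :
    ∃ z : (G ⟶ ∐ fun _ : T => G) → (G ⟶ X), S' = ⨆ r, imageSubobject (z r) := by
  classical
  let S : Subobject X := ⨆ t, imageSubobject (y t)
  let e : (∐ fun _ : T => G) ⟶ X := Sigma.desc y
  let z : (G ⟶ ∐ fun _ : T => G) → (G ⟶ X) := fun r => if S'.Factors (r ≫ e) then r ≫ e else 0
  have hz : ∀ r, S'.Factors (z r) := by
    intro r
    by_cases h : S'.Factors (r ≫ e)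
    · simp only [z, if_pos h]; exact h
    · simp only [z, if_neg h]; exact Subobject.factors_zero
  refine ⟨z, le_antisymm ?_ (iSup_le fun r => imageSubobject_le_of_factors _ _ (hz r))⟩
  set S'' : Subobject X := ⨆ r, imageSubobject (z r) with hS''
  apply Subobject.le_of_factors
  rw [factors_iff_comp_cokernel]
  apply cover_sep hG
  intro g
  dsimp
  -- the element g' = g ≫ S'.arrow of S' ≤ S
  have hg' : S.Factors (g ≫ S'.arrow) :=
    Subobject.factors_of_le _ hS' (Subobject.factors_comp_arrow g)
  let ε : (∐ fun _ : T => G) ⟶ (S : C) :=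
    Sigma.desc (fun t => S.factorThru (y t) (factors_iSup_image y t))
  have hε : Epi ε := (cover_iSup y S rfl (factors_iSup_image y)).epi_desc
  have hεe : ε ≫ S.arrow = e := by
    apply Sigma.hom_ext
    intro t
    simp [ε, e]
  let g'' := S.factorThru _ hg'
  have : Epi (pullback.snd ε g'') := Abelian.epi_pullback_of_epi_f _ _
  rw [← cancel_epi (pullback.snd ε g''), comp_zero]
  apply cover_sep hG
  intro k
  dsimp
  have h1 : (k ≫ pullback.fst ε g'') ≫ e = k ≫ pullback.snd ε g'' ≫ g ≫ S'.arrow := by
    rw [← hεe, Category.assoc, pullback.condition_assoc, Subobject.factorThru_arrow]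
  have h2 : S'.Factors ((k ≫ pullback.fst ε g'') ≫ e) := by
    rw [h1, ← Category.assoc, ← Category.assoc]
    exact Subobject.factors_comp_arrow _
  have h3 : z (k ≫ pullback.fst ε g'') = (k ≫ pullback.fst ε g'') ≫ e := by
    simp only [z, if_pos h2]
  have h4 : S''.Factors ((k ≫ pullback.fst ε g'') ≫ e) := by
    rw [← h3]
    exact factors_iSup_image z _
  rw [factors_iff_comp_cokernel, h1] at h4
  simpa using h4

theorem exists_kill {G : C} (hG : IsSeparator G) {X' X : C} (f : X' ⟶ X) {T : Type v}
    (y : T → (G ⟶ X)) (S' : Subobject X) (hS' : S' ≤ ⨆ t, imageSubobject (y t))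
    (hf : S' ≤ imageSubobject f) :
    ∃ w : (G ⟶ ∐ fun _ : T => G) × Shrink.{v} (Subobject G) → (G ⟶ X'),
      S' ≤ ⨆ s, imageSubobject (w s ≫ f) := by
  classical
  obtain ⟨z, hz⟩ := exists_gen_of_le hG y S' hS'
  have hzf : ∀ r, (imageSubobject f).Factors (z r) := by
    intro r
    apply Subobject.factors_of_le _ hf
    rw [hz]
    exact factors_iSup_image z r
  choose w a hwa ha using fun r => exists_lift_elt hG f (z r) (hzf r)
  refine ⟨fun s => w s.1 s.2, ?_⟩
  rw [hz]
  apply iSup_le
  intro r
  apply imageSubobject_le_of_factors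
  rw [factors_iff_comp_cokernel]
  apply ha r
  intro V
  rw [← Category.assoc, ← hwa r V, ← factors_iff_comp_cokernel]
  exact factors_iSup_image (fun s : (G ⟶ ∐ fun _ : T => G) × Shrink.{v} (Subobject G) =>
    w s.1 s.2 ≫ f) (r, V)

theorem Cover.comp_epi {X : C} {ι : Type w} {Y Y' : ι → C} {c : ∀ i, Y i ⟶ X} (hc : Cover c)
    (p : ∀ i, Y' i ⟶ Y i) [∀ i, Epi (p i)] : Cover (fun i => p i ≫ c i) := by
  intro R a ha
  apply hc
  intro i
  rw [← cancel_epi (p i), comp_zero, ← Category.assoc]
  exact ha i

/-- an element of a union of images lifts, after refinement, to the coproduct -/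
theorem exists_lift_iSup {X W : C} {ι : Type v} {Y : ι → C} (c : ∀ i, Y i ⟶ X) (y : W ⟶ X)
    (hy : (⨆ i, imageSubobject (c i)).Factors y) :
    ∃ (W' : C) (π : W' ⟶ W) (_ : Epi π) (y' : W' ⟶ ∐ Y), π ≫ y = y' ≫ Sigma.desc c := by
  let S : Subobject X := ⨆ i, imageSubobject (c i)
  let ε : (∐ Y) ⟶ (S : C) := Sigma.desc (fun i => S.factorThru (c i) (factors_iSup_image c i))
  have hε : Epi ε := (cover_iSup c S rfl (factors_iSup_image c)).epi_desc
  have hεe : ε ≫ S.arrow = Sigma.desc c := by
    apply Sigma.hom_ext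
    intro t
    simp [ε]
  obtain ⟨W', π, hπ, y', hy'⟩ := surjective_up_to_refinements_of_epi ε (S.factorThru y hy)
  refine ⟨W', π, hπ, y', ?_⟩
  rw [← hεe, ← Category.assoc, ← hy', Category.assoc, Subobject.factorThru_arrow]

theorem factors_sigma_desc {X : C} {ι : Type w} {Y : ι → C} [HasCoproduct Y] (c : ∀ i, Y i ⟶ X)
    (S : Subobject X) (h : ∀ i, S.Factors (c i)) : S.Factors (Sigma.desc c) := by
  rw [Subobject.factors_iff]
  refine ⟨Sigma.desc (fun i => S.factorThru (c i) (h i)), ?_⟩
  apply Sigma.hom_ext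
  intro i
  simp

end Cover



variable {C : Type u} [Category.{v} C] [Abelian C] [IsGrothendieckAbelian.{v} C]

theorem hasExactColimitsOfShape_nat : HasExactColimitsOfShape ℕ C := by
  have : AB5OfSize.{0, 0} C := AB5OfSize_shrink.{0, 0, v, v} C
  infer_instance

section Elt

variable {X W : C} (b : ℕ → Subobject X) (hb : Monotone b) (z : W ⟶ X)

/-- the preimage of `b i` under `z`. -/
noncomputable abbrev pre (i : ℕ) : pullback (b i).arrow z ⟶ W := pullback.snd (b i).arrow z

include hb in
@[reassoc] theorem pre_comp_cokernel (i : ℕ) : pre b z i ≫ cokernel.π (pre b z (i + 1)) = 0 := by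
  have h : pre b z i = pullback.lift (pullback.fst (b i).arrow z ≫
      Subobject.ofLE (b i) (b (i + 1)) (hb (Nat.le_succ i))) (pullback.snd (b i).arrow z)
      (by simp [pullback.condition]) ≫ pre b z (i + 1) :=
    (pullback.lift_snd _ _ _).symm
  rw [h, Category.assoc, cokernel.condition, comp_zero]

include hb in
theorem arrow_comp_cokernel (i : ℕ) : (b i).arrow ≫ cokernel.π (b (i + 1)).arrow = 0 := by
  rw [← Subobject.ofLE_arrow (hb (Nat.le_succ i)), Category.assoc, cokernel.condition, comp_zero]

noncomputable def Fw : ℕ ⥤ C :=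
  Functor.ofSequence (X := fun i => cokernel (pre b z i))
    (fun i => cokernel.desc (pre b z i) (cokernel.π (pre b z (i + 1))) (pre_comp_cokernel b hb z i))

noncomputable def Fs : ℕ ⥤ C :=
  Functor.ofSequence (X := fun i => cokernel (b i).arrow)
    (fun i => cokernel.desc (b i).arrow (cokernel.π (b (i + 1)).arrow) (arrow_comp_cokernel b hb i))

theorem pre_comp (i : ℕ) : pre b z i ≫ z ≫ cokernel.π (b i).arrow = 0 := by
  rw [← pullback.condition_assoc, cokernel.condition, comp_zero]

noncomputable def tauApp (i : ℕ) : cokernel (pre b z i) ⟶ cokernel (b i).arrow :=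
  cokernel.desc (pre b z i) (z ≫ cokernel.π (b i).arrow) (pre_comp b z i)

instance (i : ℕ) : Mono (tauApp b z i) := by
  apply Preadditive.mono_of_cancel_zero
  intro V t ht
  obtain ⟨V', π, hπ, t', ht'⟩ := surjective_up_to_refinements_of_epi (cokernel.π (pre b z i)) t
  have h1 : (t' ≫ z) ≫ cokernel.π (b i).arrow = 0 := by
    have := ht' =≫ tauApp b z i
    rw [Category.assoc, ht, comp_zero] at this
    simp only [tauApp, Category.assoc, cokernel.π_desc] at this
    rw [Category.assoc, ← this]
  have h2 : (b i).Factors (t' ≫ z) := (factors_iff_comp_cokernel _ _).2 h1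
  have h3 : t' = pullback.lift ((b i).factorThru _ h2) t' (by simp) ≫ pre b z i :=
    (pullback.lift_snd _ _ _).symm
  rw [← cancel_epi π, comp_zero, ht', h3, Category.assoc, cokernel.condition, comp_zero]

noncomputable def πw (i : ℕ) : W ⟶ (Fw b hb z).obj i := cokernel.π (pre b z i)

noncomputable def πs (i : ℕ) : X ⟶ (Fs b hb).obj i := cokernel.π (b i).arrow

instance (i : ℕ) : Epi (πw b hb z i) := inferInstanceAs (Epi (cokernel.π (pre b z i)))

instance (i : ℕ) : Epi (πs b hb i) := inferInstanceAs (Epi (cokernel.π (b i).arrow))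

@[reassoc] theorem pre_πw (i : ℕ) : pre b z i ≫ πw b hb z i = 0 := cokernel.condition _

@[reassoc] theorem arrow_πs (i : ℕ) : (b i).arrow ≫ πs b hb i = 0 := cokernel.condition _

@[reassoc] theorem πw_map (i : ℕ) :
    πw b hb z i ≫ (Fw b hb z).map (homOfLE (Nat.le_succ i)) = πw b hb z (i + 1) := by
  have h : (Fw b hb z).map (homOfLE (Nat.le_succ i)) =
      cokernel.desc (pre b z i) (cokernel.π (pre b z (i + 1))) (pre_comp_cokernel b hb z i) :=
    Functor.ofSequence_map_homOfLE_succ _ i
  rw [h]
  exact cokernel.π_desc _ _ _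

@[reassoc] theorem πs_map (i : ℕ) :
    πs b hb i ≫ (Fs b hb).map (homOfLE (Nat.le_succ i)) = πs b hb (i + 1) := by
  have h : (Fs b hb).map (homOfLE (Nat.le_succ i)) =
      cokernel.desc (b i).arrow (cokernel.π (b (i + 1)).arrow) (arrow_comp_cokernel b hb i) :=
    Functor.ofSequence_map_homOfLE_succ _ i
  rw [h]
  exact cokernel.π_desc _ _ _

noncomputable def tauApp' (i : ℕ) : (Fw b hb z).obj i ⟶ (Fs b hb).obj i := tauApp b z i

@[reassoc] theorem πw_tauApp' (i : ℕ) : πw b hb z i ≫ tauApp' b hb z i = z ≫ πs b hb i :=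
  cokernel.π_desc _ _ _

instance (i : ℕ) : Mono (tauApp' b hb z i) := inferInstanceAs (Mono (tauApp b z i))

noncomputable def tau : Fw b hb z ⟶ Fs b hb :=
  NatTrans.ofSequence (fun i => tauApp' b hb z i) (by
    intro i
    rw [← cancel_epi (πw b hb z i), πw_map_assoc, πw_tauApp', πw_tauApp'_assoc, πs_map])

instance : Mono (tau b hb z) := by
  have : ∀ i, Mono ((tau b hb z).app i) := by
    intro i
    have h : (tau b hb z).app i = tauApp' b hb z i := rfl
    rw [h]
    infer_instance
  exact NatTrans.mono_of_mono_app _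

theorem sigma_eq (i : ℕ) : πs b hb 0 ≫ colimit.ι (Fs b hb) 0 =
    πs b hb i ≫ colimit.ι (Fs b hb) i := by
  induction i with
  | zero => rfl
  | succ i ih =>
    rw [ih, ← colimit.w (Fs b hb) (homOfLE (Nat.le_succ i)), πs_map_assoc]

theorem rho_eq (i : ℕ) : πw b hb z 0 ≫ colimit.ι (Fw b hb z) 0 =
    πw b hb z i ≫ colimit.ι (Fw b hb z) i := by
  induction i with
  | zero => rfl
  | succ i ih =>
    rw [ih, ← colimit.w (Fw b hb z) (homOfLE (Nat.le_succ i)), πw_map_assoc]

include hb in
/-- AB5: the preimages of an increasing sequence of subobjects cover the preimage of the union. -/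
theorem cover_pre (hz : (⨆ i, b i).Factors z) : Cover (fun i => pre b z i) := by
  have := hasExactColimitsOfShape_nat (C := C)
  have hmono : Mono (colimMap (tau b hb z)) := inferInstanceAs (Mono (colim.map (tau b hb z)))
  -- σ kills the union
  have hσ : (⨆ i, b i).arrow ≫ πs b hb 0 ≫ colimit.ι (Fs b hb) 0 = 0 := by
    have hS : (⨆ i, b i) = ⨆ i, imageSubobject (b i).arrow := by
      congr 1
      funext i
      rw [imageSubobject_mono, Subobject.mk_arrow]
    have hf : ∀ i, (⨆ i, b i).Factors (b i).arrow := fun i =>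
      Subobject.factors_of_le _ (le_iSup b i) (Subobject.factors_self _)
    apply cover_iSup (fun i => (b i).arrow) _ hS hf
    intro i
    dsimp
    rw [Subobject.factorThru_arrow_assoc, sigma_eq b hb i, arrow_πs_assoc, zero_comp]
  have hρ : πw b hb z 0 ≫ colimit.ι (Fw b hb z) 0 = 0 := by
    rw [← cancel_mono (colimMap (tau b hb z)), zero_comp, Category.assoc, ι_colimMap]
    have : (tau b hb z).app 0 = tauApp' b hb z 0 := rfl
    rw [this, πw_tauApp'_assoc, ← Subobject.factorThru_arrow _ z hz, Category.assoc, hσ, comp_zero]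
  intro R a ha
  let app : ∀ i, (Fw b hb z).obj i ⟶ ((Functor.const ℕ).obj R).obj i :=
    fun i => cokernel.desc (pre b z i) a (ha i)
  have happ : ∀ i, πw b hb z i ≫ app i = a := fun i => cokernel.π_desc _ _ _
  let cc : Cocone (Fw b hb z) := Cocone.mk R (NatTrans.ofSequence app (by
    intro i
    rw [← cancel_epi (πw b hb z i), πw_map_assoc, happ, ← Category.assoc, happ]
    simp))
  have h1 : a = (πw b hb z 0 ≫ colimit.ι (Fw b hb z) 0) ≫ colimit.desc _ cc := by
    rw [Category.assoc, colimit.ι_desc]
    exact (happ 0).symm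
  rw [h1, hρ, zero_comp]

end Elt

end Groth.Agent.Lib.Helper99.KInj
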