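import Groth.Agent.Lib.Helper99.KInjSub

set_option autoImplicit false
universe w v u
open CategoryTheory CategoryTheory.Limits

namespace Groth.Agent.Lib.Helper99.KInj

variable {A : Type u} [Category.{v} A] [Abelian A] [IsGrothendieckAbelian.{v} A]

theorem factors_image_of_epi {X' X W : A} (f : X' ⟶ X) [Epi f] (x : W ⟶ X) :
    (imageSubobject f).Factors x := by
  rw [factors_iff_comp_cokernel]
  have : cokernel.π (imageSubobject f).arrow = 0 := by
    rw [← cancel_epi f, comp_zero]
    calc f ≫ cokernel.π (imageSubobject f).arrow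
        = (factorThruImageSubobject f ≫ (imageSubobject f).arrow) ≫
          cokernel.π (imageSubobject f).arrow := by rw [imageSubobject_arrow_comp]
      _ = 0 := by rw [Category.assoc, cokernel.condition, comp_zero]
  rw [this, comp_zero]

namespace Fam

variable {G : A} (hG : IsSeparator G) {Y Q : CochainComplex A ℤ} (π : Y ⟶ Q) [∀ n, Epi (π.f n)]
  {T : Type v} (F : Fam G Q T)

noncomputable def liftW (t : T) : Shrink.{v} (Subobject G) → (G ⟶ Y.X (F.deg t)) :=
  (exists_lift_elt hG (π.f (F.deg t)) (F.x t) (factors_image_of_epi _ _)).choose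

noncomputable def liftA (t : T) : Shrink.{v} (Subobject G) → (G ⟶ G) :=
  (exists_lift_elt hG (π.f (F.deg t)) (F.x t) (factors_image_of_epi _ _)).choose_spec.choose

@[reassoc]
theorem liftW_comp (t : T) (V) :
    F.liftW hG π t V ≫ π.f (F.deg t) = F.liftA hG π t V ≫ F.x t :=
  (exists_lift_elt hG (π.f (F.deg t)) (F.x t)
    (factors_image_of_epi _ _)).choose_spec.choose_spec.1 V

theorem cover_liftA (t : T) : Cover (F.liftA hG π t) :=
  (exists_lift_elt hG (π.f (F.deg t)) (F.x t)
    (factors_image_of_epi _ _)).choose_spec.choose_spec.2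

/-- the lifted family in `Y` -/
noncomputable def liftFam : Fam G Y (T × Shrink.{v} (Subobject G)) where
  deg := fun p => F.deg p.1
  x := fun p => F.liftW hG π p.1 p.2

theorem liftFam_elt_inl (n : ℤ) (t : T) (V) :
    (F.liftFam hG π).elt n (Sum.inl (t, V)) ≫ π.f n = F.liftA hG π t V ≫ F.elt n (Sum.inl t) := by
  change (F.liftW hG π t V ≫ Y.d (F.deg t) n) ≫ π.f n = F.liftA hG π t V ≫ F.x t ≫ Q.d (F.deg t) n
  rw [Category.assoc, ← π.comm, liftW_comp_assoc]

theorem liftFam_elt_inr (n : ℤ) (t : T) (V) :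
    (F.liftFam hG π).elt n (Sum.inr (t, V)) ≫ π.f n = F.liftA hG π t V ≫ F.elt n (Sum.inr t) := by
  by_cases h : F.deg t = n
  · subst h
    change (if h : F.deg t = F.deg t then F.liftW hG π t V ≫ eqToHom _ else 0) ≫ π.f (F.deg t) =
      F.liftA hG π t V ≫ (if h : F.deg t = F.deg t then F.x t ≫ eqToHom _ else 0)
    simp [liftW_comp]
  · change (if h : F.deg t = n then F.liftW hG π t V ≫ eqToHom _ else 0) ≫ π.f n =
      F.liftA hG π t V ≫ (if h : F.deg t = n then F.x t ≫ eqToHom _ else 0)
    simp [dif_neg h]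

theorem liftFam_elt (n : ℤ) (s : T ⊕ T) (V) :
    (F.liftFam hG π).elt n (Sum.map (fun t => (t, V)) (fun t => (t, V)) s) ≫ π.f n =
      F.liftA hG π (Sum.elim id id s) V ≫ F.elt n s := by
  cases s with
  | inl t => exact F.liftFam_elt_inl hG π n t V
  | inr t => exact F.liftFam_elt_inr hG π n t V

theorem lift_factors (n : ℤ) :
    (F.obj n).Factors (((F.liftFam hG π).obj n).arrow ≫ π.f n) := by
  apply factors_of_gen
  rintro ((⟨t, V⟩) | (⟨t, V⟩))
  · rw [liftFam_elt_inl]
    exact Subobject.factors_of_factors_right _ (F.factors_elt n _)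
  · rw [liftFam_elt_inr]
    exact Subobject.factors_of_factors_right _ (F.factors_elt n _)

noncomputable def rhoF (n : ℤ) : (F.liftFam hG π).sub.cx.X n ⟶ F.sub.cx.X n :=
  (F.obj n).factorThru _ (F.lift_factors hG π n)

@[reassoc]
theorem rhoF_arrow (n : ℤ) :
    F.rhoF hG π n ≫ F.sub.ι.f n = (F.liftFam hG π).sub.ι.f n ≫ π.f n :=
  Subobject.factorThru_arrow _ _ _

instance epi_rhoF (n : ℤ) : Epi (F.rhoF hG π n) := by
  apply Abelian.epi_of_cokernel_π_eq_zero
  apply F.cover_eltC n
  intro s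
  apply F.cover_liftA hG π (Sum.elim id id s)
  intro V
  have key : F.liftA hG π (Sum.elim id id s) V ≫ F.eltC n s =
      (F.liftFam hG π).eltC n (Sum.map (fun t => (t, V)) (fun t => (t, V)) s) ≫ F.rhoF hG π n := by
    rw [← cancel_mono (F.sub.ι.f n), Category.assoc, Category.assoc, rhoF_arrow,
      eltC_ι, eltC_ι_assoc, liftFam_elt]
  rw [← Category.assoc, key, Category.assoc, cokernel.condition, comp_zero]

noncomputable def rho : (F.liftFam hG π).sub.cx ⟶ F.sub.cx where
  f n := F.rhoF hG π n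
  comm' := by
    rintro i j (rfl : i + 1 = j)
    rw [← cancel_mono (F.sub.ι.f (i + 1)), Category.assoc, Category.assoc, ← F.sub.ι.comm,
      rhoF_arrow_assoc, rhoF_arrow, π.comm, ← Category.assoc, ← Category.assoc,
      (F.liftFam hG π).sub.ι.comm]

theorem rho_ι : F.rho hG π ≫ F.sub.ι = (F.liftFam hG π).sub.ι ≫ π := by
  ext n
  exact F.rhoF_arrow hG π n

instance (n : ℤ) : Epi ((F.rho hG π).f n) := F.epi_rhoF hG π n

end Fam

end Groth.Agent.Lib.Helper99.KInj
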