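import Groth.Agent.Lib.Helper99.KInjLift
import Mathlib.Algebra.Homology.Double
import Mathlib.Algebra.Homology.HomologySequenceLemmas
import Mathlib.Algebra.Homology.HomologicalComplexAbelian

set_option autoImplicit false
universe w v u
open CategoryTheory CategoryTheory.Limits

namespace Groth.Agent.Lib.Helper99.KInj

variable {A : Type u} [Category.{v} A] [Abelian A]

section Disk

theorem up_rel (n : ℤ) : (ComplexShape.up ℤ).Rel n (n + 1) := by simp

/-- the disk complex: `X` in degrees `n`, `n+1` with identity differential -/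
noncomputable def disk (n : ℤ) (X : A) : CochainComplex A ℤ :=
  HomologicalComplex.double (𝟙 X) (up_rel n)

noncomputable def diskRep (n : ℤ) (X : A) :
    (HomologicalComplex.eval A (ComplexShape.up ℤ) n ⋙ coyoneda.obj (Opposite.op X)).CorepresentableBy
      (disk n X) :=
  HomologicalComplex.evalCompCoyonedaCorepresentableByDoubleId _ (by omega) X

noncomputable def diskEquiv (n : ℤ) (X : A) (K : CochainComplex A ℤ) :
    (disk n X ⟶ K) ≃ (X ⟶ K.X n) := (diskRep n X).homEquiv (Y := K)

noncomputable def diskIso (n : ℤ) (X : A) : (disk n X).X n ≅ X :=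
  HomologicalComplex.doubleXIso₀ (𝟙 X) (up_rel n)

theorem diskEquiv_apply (n : ℤ) (X : A) (K : CochainComplex A ℤ) (g : disk n X ⟶ K) :
    diskEquiv n X K g = (diskIso n X).inv ≫ g.f n := rfl

noncomputable def diskHom {n : ℤ} {X : A} {K : CochainComplex A ℤ} (x : X ⟶ K.X n) : disk n X ⟶ K :=
  (diskEquiv n X K).symm x

theorem diskHom_comp {n : ℤ} {X : A} {K K' : CochainComplex A ℤ} (x : X ⟶ K.X n) (a : K ⟶ K') :
    diskHom x ≫ a = diskHom (x ≫ a.f n) := by
  apply (diskEquiv n X K').injective
  have h : diskEquiv n X K (diskHom x) = x := (diskEquiv n X K).apply_symm_apply x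
  rw [diskEquiv_apply] at h
  unfold diskHom
  rw [Equiv.apply_symm_apply, diskEquiv_apply, HomologicalComplex.comp_f]
  unfold diskHom at h
  rw [reassoc_of% h]

theorem diskHom_eq_zero_iff {n : ℤ} {X : A} {K : CochainComplex A ℤ} (x : X ⟶ K.X n) :
    diskHom x = 0 ↔ x = 0 := by
  unfold diskHom
  rw [Equiv.symm_apply_eq, diskEquiv_apply, HomologicalComplex.zero_f, comp_zero]

end Disk

section Gen

variable [IsGrothendieckAbelian.{v} A] {G : A} {Q : CochainComplex A ℤ} {T : Type v} (F : Fam G Q T)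

/-- the canonical map from a coproduct of disks onto the subcomplex generated by a family -/
noncomputable def Fam.fromDisks : (∐ fun p : ℤ × (T ⊕ T) => disk p.1 G) ⟶ F.sub.cx :=
  Sigma.desc (fun p => diskHom (F.eltC p.1 p.2))

theorem Fam.epi_fromDisks : Epi F.fromDisks := by
  apply Abelian.epi_of_cokernel_π_eq_zero
  ext n
  rw [HomologicalComplex.zero_f]
  apply F.cover_eltC n
  intro s
  have h : diskHom (F.eltC n s) ≫ cokernel.π F.fromDisks = 0 := by
    have : diskHom (F.eltC n s) = Sigma.ι (fun p : ℤ × (T ⊕ T) => disk p.1 G) (n, s) ≫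
        F.fromDisks := by simp [Fam.fromDisks]
    rw [this, Category.assoc, cokernel.condition, comp_zero]
  rw [diskHom_comp, diskHom_eq_zero_iff] at h
  exact h

end Gen

section SES

theorem quasiIso_of_shortExact_of_acyclic {S : ShortComplex (CochainComplex A ℤ)}
    (hS : S.ShortExact) (h₃ : ∀ n, S.X₃.ExactAt n) : QuasiIso S.f := by
  rw [quasiIso_iff]
  intro i
  rw [quasiIsoAt_iff_isIso_homologyMap]
  have hz : ∀ n, IsZero (S.X₃.homology n) := fun n =>
    (HomologicalComplex.exactAt_iff_isZero_homology _ _).1 (h₃ n)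
  have h1 : Mono (HomologicalComplex.homologyMap S.f i) :=
    (hS.homology_exact₁ (i - 1) i (by simp)).mono_g ((hz (i - 1)).eq_of_src _ _)
  have h2 : Epi (HomologicalComplex.homologyMap S.f i) :=
    (hS.homology_exact₂ i).epi_f ((hz i).eq_of_tgt _ _)
  exact isIso_of_mono_of_epi _

end SES

section Main

variable [IsGrothendieckAbelian.{v} A] {G : A} (hG : IsSeparator G)

/-- index type of the generating disks -/
abbrev Tbig (G : A) : Type v := (Σ i, Tseq G i) × Shrink.{v} (Subobject G)

noncomputable def bigP (G : A) : CochainComplex A ℤ :=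
  ∐ fun p : ℤ × (Tbig G ⊕ Tbig G) => disk p.1 G

include hG in
theorem exists_small_sub {X Y : CochainComplex A ℤ} (p : X ⟶ Y) [Mono p] [QuasiIso p]
    (hp : ¬ IsIso p) :
    ∃ (K : CochainComplex A ℤ) (j : K ⟶ Y) (_ : Mono j) (e : bigP G ⟶ K) (_ : Epi e),
      QuasiIso (pullback.snd p j) ∧ ¬ ∃ l : K ⟶ X, l ≫ p = j := by
  let Q := cokernel p
  let π : Y ⟶ Q := cokernel.π p
  have hπ : ∀ n, Epi (π.f n) := fun n => inferInstance
  have hSE : (ShortComplex.mk p π (cokernel.condition p)).ShortExact :=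
    ShortComplex.ShortExact.mk' (ShortComplex.exact_of_g_is_cokernel _ (cokernelIsCokernel p))
      (by dsimp; infer_instance) (by dsimp; infer_instance)
  have hQ : ∀ n, Q.ExactAt n := hSE.acyclic_X₃ (by dsimp; infer_instance)
  obtain ⟨n₀, q₀, hq₀⟩ : ∃ (n₀ : ℤ) (q₀ : G ⟶ Q.X n₀), q₀ ≠ 0 := by
    by_contra! h
    apply hp
    have h1 : ∀ n, 𝟙 (Q.X n) = 0 := fun n =>
      hG.def _ _ (fun q => by rw [h n q, zero_comp, zero_comp])
    have h2 : π = 0 := by
      ext n
      rw [← Category.comp_id (π.f n), h1 n, comp_zero, HomologicalComplex.zero_f]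
    have : Epi p := Abelian.epi_of_cokernel_π_eq_zero _ h2
    exact isIso_of_mono_of_epi p
  let F0 : Fam G Q PUnit := ⟨fun _ => n₀, fun _ => q₀⟩
  let Fu := Funion hG hQ F0
  let Ft := Fu.liftFam hG π
  let ρ := Fu.rho hG π
  have hρ : ρ ≫ Fu.sub.ι = Ft.sub.ι ≫ π := Fu.rho_ι hG π
  have hρepi : Epi ρ := HomologicalComplex.epi_of_epi_f _ (fun n => inferInstance)
  refine ⟨Ft.sub.cx, Ft.sub.ι, inferInstance, Ft.fromDisks, Ft.epi_fromDisks, ?_, ?_⟩
  · -- the short exact sequence
    have hz : pullback.snd p Ft.sub.ι ≫ ρ = 0 := by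
      rw [← cancel_mono Fu.sub.ι, Category.assoc, hρ, ← pullback.condition_assoc, zero_comp]
      exact (cokernel.condition p) ▸ (by simp [π])
    have hex : (ShortComplex.mk (pullback.snd p Ft.sub.ι) ρ hz).Exact := by
      apply ShortComplex.exact_of_f_is_kernel
      refine KernelFork.IsLimit.ofι _ _
        (fun {V} t ht => pullback.lift
          ((Abelian.monoIsKernelOfCokernel _ (cokernelIsCokernel p)).lift
            (KernelFork.ofι (t ≫ Ft.sub.ι) (by
              change (t ≫ Ft.sub.ι) ≫ π = 0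
              rw [Category.assoc, ← hρ, ← Category.assoc]
              dsimp at ht
              rw [ht, zero_comp]))) t ?_) ?_ ?_
      · exact (Abelian.monoIsKernelOfCokernel _ (cokernelIsCokernel p)).fac _
          WalkingParallelPair.zero
      · intro V t ht
        exact pullback.lift_snd _ _ _
      · intro V t ht m hm
        rw [← cancel_mono (pullback.snd p Ft.sub.ι)]
        dsimp at hm
        rw [hm, pullback.lift_snd]
    have hSE' : (ShortComplex.mk (pullback.snd p Ft.sub.ι) ρ hz).ShortExact :=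
      ShortComplex.ShortExact.mk' hex (by dsimp; infer_instance) (by dsimp; infer_instance)
    exact quasiIso_of_shortExact_of_acyclic hSE' (fun n => exactAt_Funion hG hQ F0 n)
  · rintro ⟨l, hl⟩
    apply hq₀
    have h1 : ρ = 0 := by
      rw [← cancel_mono Fu.sub.ι, hρ, zero_comp, ← hl, Category.assoc]
      change l ≫ p ≫ cokernel.π p = 0
      rw [cokernel.condition, comp_zero]
    have h2 : 𝟙 (Fu.sub.cx.X n₀) = 0 := by
      rw [← cancel_epi (ρ.f n₀), h1, HomologicalComplex.zero_f, zero_comp, zero_comp]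
    have h3 : (Fu.obj n₀).Factors q₀ := Fu.factors_x ⟨0, PUnit.unit⟩
    let q₀' : G ⟶ Fu.sub.cx.X n₀ := (Fu.obj n₀).factorThru q₀ h3
    have h4 : q₀' ≫ Fu.sub.ι.f n₀ = q₀ := Subobject.factorThru_arrow _ _ _
    rw [← h4, ← Category.comp_id q₀', h2, comp_zero, zero_comp]

end Main

end Groth.Agent.Lib.Helper99.KInj
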