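import Groth.Agent.Lib.Helper99.KInjGen
import Mathlib.Algebra.Homology.ShortComplex.HomologicalComplex
import Mathlib.CategoryTheory.Abelian.Exact

set_option autoImplicit false
universe w v u
open CategoryTheory CategoryTheory.Limits

namespace Groth.Agent.Lib.Helper99.KInj

variable {A : Type u} [Category.{v} A] [Abelian A]

/-- a subcomplex given by a `d`-stable family of subobjects -/
structure SubCx (Q : CochainComplex A ℤ) where
  obj : ∀ n, Subobject (Q.X n)
  stable : ∀ n, (obj (n + 1)).Factors ((obj n).arrow ≫ Q.d n (n + 1))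

namespace SubCx

variable {Q : CochainComplex A ℤ} (L : SubCx Q)

noncomputable def cx : CochainComplex A ℤ :=
  CochainComplex.of (fun n => (L.obj n : A))
    (fun n => (L.obj (n + 1)).factorThru _ (L.stable n))
    (by
      intro n
      rw [← cancel_mono (L.obj (n + 1 + 1)).arrow]
      simp)

@[simp] theorem cx_d (n : ℤ) :
    L.cx.d n (n + 1) = (L.obj (n + 1)).factorThru _ (L.stable n) :=
  CochainComplex.of_d (fun n => (L.obj n : A))
    (fun n => (L.obj (n + 1)).factorThru _ (L.stable n)) n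

noncomputable def ι : L.cx ⟶ Q where
  f n := (L.obj n).arrow
  comm' := by
    rintro i j (rfl : i + 1 = j)
    rw [cx_d]
    exact (Subobject.factorThru_arrow _ _ _).symm

instance (n : ℤ) : Mono (L.ι.f n) := inferInstanceAs (Mono (L.obj n).arrow)

instance : Mono L.ι := HomologicalComplex.mono_of_mono_f _ (fun n => inferInstance)

theorem ι_f (n : ℤ) : L.ι.f n = (L.obj n).arrow := rfl

theorem exactAt_of_elements (n : ℤ)
    (h : ∀ ⦃W : A⦄ (z : W ⟶ Q.X n), (L.obj n).Factors z → z ≫ Q.d n (n + 1) = 0 →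
      ∃ (W' : A) (π : W' ⟶ W) (_ : Epi π) (w : W' ⟶ Q.X (n - 1)),
        (L.obj (n - 1)).Factors w ∧ π ≫ z = w ≫ Q.d (n - 1) n) :
    L.cx.ExactAt n := by
  rw [HomologicalComplex.exactAt_iff' L.cx (n - 1) n (n + 1) (by simp) (by simp),
    ShortComplex.exact_iff_exact_up_to_refinements]
  intro W x₂ hx₂
  change W ⟶ L.cx.X n at x₂
  change x₂ ≫ L.cx.d n (n + 1) = 0 at hx₂
  have h1 : (x₂ ≫ L.ι.f n) ≫ Q.d n (n + 1) = 0 := by
    rw [Category.assoc, L.ι.comm, ← Category.assoc, hx₂, zero_comp]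
  obtain ⟨W', π, hπ, w, hw, hw'⟩ := h (x₂ ≫ L.ι.f n) (Subobject.factors_comp_arrow x₂) h1
  let x₁ : W' ⟶ L.cx.X (n - 1) := (L.obj (n - 1)).factorThru w hw
  have hx₁ : x₁ ≫ L.ι.f (n - 1) = w := Subobject.factorThru_arrow _ _ _
  refine ⟨W', π, hπ, x₁, ?_⟩
  change π ≫ x₂ = x₁ ≫ L.cx.d (n - 1) n
  rw [← cancel_mono (L.ι.f n), Category.assoc, Category.assoc, hw', ← L.ι.comm,
    ← Category.assoc, hx₁]

end SubCx

variable [IsGrothendieckAbelian.{v} A]

/-- a family of "elements" (maps from `G`) of a complex, in various degrees -/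
structure Fam (G : A) (Q : CochainComplex A ℤ) (T : Type v) where
  deg : T → ℤ
  x : ∀ t, G ⟶ Q.X (deg t)

namespace Fam

variable {G : A} {Q : CochainComplex A ℤ} {T : Type v} (F : Fam G Q T)

/-- the elements of degree `n` generated by the family: `d x_t` and `x_t` -/
noncomputable def elt (n : ℤ) : T ⊕ T → (G ⟶ Q.X n)
  | Sum.inl t => F.x t ≫ Q.d (F.deg t) n
  | Sum.inr t => if h : F.deg t = n then F.x t ≫ eqToHom (by rw [h]) else 0

noncomputable def obj (n : ℤ) : Subobject (Q.X n) := ⨆ s, imageSubobject (F.elt n s)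

theorem factors_elt (n : ℤ) (s : T ⊕ T) : (F.obj n).Factors (F.elt n s) :=
  factors_iSup_image (F.elt n) s

theorem factors_x (t : T) : (F.obj (F.deg t)).Factors (F.x t) := by
  have := F.factors_elt (F.deg t) (Sum.inr t)
  simpa [elt] using this

theorem factors_dx (t : T) (n : ℤ) : (F.obj n).Factors (F.x t ≫ Q.d (F.deg t) n) :=
  F.factors_elt n (Sum.inl t)

theorem obj_le {n : ℤ} (S : Subobject (Q.X n)) (h : ∀ s, S.Factors (F.elt n s)) : F.obj n ≤ S :=
  iSup_le (fun s => imageSubobject_le_of_factors _ _ (h s))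

theorem obj_le_fam (S : ∀ m, Subobject (Q.X m))
    (h1 : ∀ t m, (S m).Factors (F.x t ≫ Q.d (F.deg t) m))
    (h2 : ∀ t, (S (F.deg t)).Factors (F.x t)) (n : ℤ) : F.obj n ≤ S n := by
  apply F.obj_le
  rintro (t | t)
  · exact h1 t n
  · by_cases h : F.deg t = n
    · subst h
      simpa [elt] using h2 t
    · simp only [elt, dif_neg h]; exact Subobject.factors_zero

theorem stable (n : ℤ) : (F.obj (n + 1)).Factors ((F.obj n).arrow ≫ Q.d n (n + 1)) := by
  apply factors_of_gen
  rintro (t | t)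
  · simp only [elt, Category.assoc, HomologicalComplex.d_comp_d, comp_zero]
    exact Subobject.factors_zero
  · by_cases h : F.deg t = n
    · subst h
      simp only [elt, dif_pos, eqToHom_refl, Category.comp_id]
      exact F.factors_dx t _
    · simp only [elt, dif_neg h, zero_comp]
      exact Subobject.factors_zero

noncomputable def sub : SubCx Q := ⟨F.obj, F.stable⟩

/-- the generating elements, as elements of the subcomplex -/
noncomputable def eltC (n : ℤ) (s : T ⊕ T) : G ⟶ F.sub.cx.X n :=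
  (F.obj n).factorThru (F.elt n s) (F.factors_elt n s)

@[reassoc]
theorem eltC_ι (n : ℤ) (s : T ⊕ T) : F.eltC n s ≫ F.sub.ι.f n = F.elt n s :=
  Subobject.factorThru_arrow _ _ _

theorem cover_eltC (n : ℤ) : Cover (F.eltC n) :=
  cover_iSup (F.elt n) (F.obj n) rfl (F.factors_elt n)

section Sum

variable {T' : Type v} (F' : Fam G Q T')

def sum : Fam G Q (T ⊕ T') where
  deg := Sum.elim F.deg F'.deg
  x := fun s => match s with
    | Sum.inl t => F.x t
    | Sum.inr t => F'.x t

theorem obj_le_sum_left (n : ℤ) : F.obj n ≤ (F.sum F').obj n :=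
  F.obj_le_fam (fun m => (F.sum F').obj m) (fun t m => (F.sum F').factors_dx (Sum.inl t) m)
    (fun t => (F.sum F').factors_x (Sum.inl t)) n

theorem obj_le_sum_right (n : ℤ) : F'.obj n ≤ (F.sum F').obj n :=
  F'.obj_le_fam (fun m => (F.sum F').obj m) (fun t m => (F.sum F').factors_dx (Sum.inr t) m)
    (fun t => (F.sum F').factors_x (Sum.inr t)) n

end Sum

section Sigma

variable {Ts : ℕ → Type v} (Fs : ∀ i, Fam G Q (Ts i))

def sigma : Fam G Q (Σ i, Ts i) where
  deg := fun p => (Fs p.1).deg p.2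
  x := fun p => (Fs p.1).x p.2

theorem obj_le_sigma (i : ℕ) (n : ℤ) : (Fs i).obj n ≤ (sigma Fs).obj n :=
  (Fs i).obj_le_fam (fun m => (sigma Fs).obj m) (fun t m => (sigma Fs).factors_dx ⟨i, t⟩ m)
    (fun t => (sigma Fs).factors_x ⟨i, t⟩) n

theorem sigma_obj_le (n : ℤ) : (sigma Fs).obj n ≤ ⨆ i, (Fs i).obj n :=
  (sigma Fs).obj_le_fam (fun m => ⨆ i, (Fs i).obj m)
    (fun p m => Subobject.factors_of_le _ (le_iSup (fun i => (Fs i).obj m) p.1)
      ((Fs p.1).factors_dx p.2 m))
    (fun p => Subobject.factors_of_le _ (le_iSup (fun i => (Fs i).obj ((Fs p.1).deg p.2)) p.1)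
      ((Fs p.1).factors_x p.2)) n

end Sigma

section Kill

variable (hG : IsSeparator G) (hQ : ∀ n, Q.ExactAt n)

include hQ in
theorem cycles_le_image (n : ℤ) :
    F.obj n ⊓ kernelSubobject (Q.d n (n + 1)) ≤ imageSubobject (Q.d (n - 1) n) := by
  have h := (HomologicalComplex.exactAt_iff' Q (n - 1) n (n + 1) (by simp) (by simp)).1 (hQ n)
  rw [ShortComplex.exact_iff_image_eq_kernel] at h
  exact inf_le_right.trans (le_of_eq h.symm)

/-- chosen preimages under `d` of (a cover of) the cycles of `F.obj n` -/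
noncomputable def killW (n : ℤ) :
    (G ⟶ ∐ fun _ : T ⊕ T => G) × Shrink.{v} (Subobject G) → (G ⟶ Q.X (n - 1)) :=
  (exists_kill hG (Q.d (n - 1) n) (F.elt n) (F.obj n ⊓ kernelSubobject (Q.d n (n + 1)))
    inf_le_left (F.cycles_le_image hQ n)).choose

theorem killW_spec (n : ℤ) : F.obj n ⊓ kernelSubobject (Q.d n (n + 1)) ≤
    ⨆ s, imageSubobject (F.killW hG hQ n s ≫ Q.d (n - 1) n) :=
  (exists_kill hG (Q.d (n - 1) n) (F.elt n) (F.obj n ⊓ kernelSubobject (Q.d n (n + 1)))
    inf_le_left (F.cycles_le_image hQ n)).choose_spec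

noncomputable def kill :
    Fam G Q (ℤ × ((G ⟶ ∐ fun _ : T ⊕ T => G) × Shrink.{v} (Subobject G))) where
  deg := fun p => p.1 - 1
  x := fun p => F.killW hG hQ p.1 p.2

theorem factors_killW (n : ℤ) (s) : ((F.kill hG hQ).obj (n - 1)).Factors (F.killW hG hQ n s) :=
  (F.kill hG hQ).factors_x (n, s)

end Kill

end Fam

section Seq

variable {G : A} {Q : CochainComplex A ℤ} (hG : IsSeparator G) (hQ : ∀ n, Q.ExactAt n)

/-- index types of the successive families -/
def Tseq (G : A) : ℕ → Type v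
  | 0 => PUnit
  | i + 1 => Tseq G i ⊕ (ℤ × ((G ⟶ ∐ fun _ : Tseq G i ⊕ Tseq G i => G) × Shrink.{v} (Subobject G)))

noncomputable def Fseq (F0 : Fam G Q PUnit) : ∀ i, Fam G Q (Tseq G i)
  | 0 => F0
  | i + 1 => (Fseq F0 i).sum ((Fseq F0 i).kill hG hQ)

variable (F0 : Fam G Q PUnit)

theorem Fseq_mono (n : ℤ) : Monotone (fun i => (Fseq hG hQ F0 i).obj n) :=
  monotone_nat_of_le_succ (fun i => Fam.obj_le_sum_left _ _ n)

/-- the union of the sequence of families -/
noncomputable def Funion : Fam G Q (Σ i, Tseq G i) := Fam.sigma (Fseq hG hQ F0)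

theorem exactAt_Funion (n : ℤ) : (Funion hG hQ F0).sub.cx.ExactAt n := by
  apply SubCx.exactAt_of_elements
  intro W z hz hz0
  change ((Funion hG hQ F0).obj n).Factors z at hz
  let b : ℕ → Subobject (Q.X n) := fun i => (Fseq hG hQ F0 i).obj n
  have hb : Monotone b := Fseq_mono hG hQ F0 n
  have hz' : (⨆ i, b i).Factors z :=
    Subobject.factors_of_le _ (Fam.sigma_obj_le (Fseq hG hQ F0) n) hz
  have hcov := cover_pre b hb z hz'
  -- on each piece
  have key : ∀ i : ℕ, ∃ (W' : A) (π : W' ⟶ pullback (b i).arrow z) (_ : Epi π)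
      (w : W' ⟶ Q.X (n - 1)), ((Funion hG hQ F0).obj (n - 1)).Factors w ∧
        π ≫ pre b z i ≫ z = w ≫ Q.d (n - 1) n := by
    intro i
    have h1 : (b i).Factors (pre b z i ≫ z) := by
      rw [← pullback.condition]
      exact Subobject.factors_comp_arrow _
    have h2 : (kernelSubobject (Q.d n (n + 1))).Factors (pre b z i ≫ z) := by
      rw [kernelSubobject_factors_iff, Category.assoc, hz0, comp_zero]
    have h3 : (b i ⊓ kernelSubobject (Q.d n (n + 1))).Factors (pre b z i ≫ z) :=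
      (Subobject.inf_factors _).2 ⟨h1, h2⟩
    have h4 := Subobject.factors_of_le _ ((Fseq hG hQ F0 i).killW_spec hG hQ n) h3
    obtain ⟨W', π, hπ, y', hy'⟩ := exists_lift_iSup _ _ h4
    refine ⟨W', π, hπ, y' ≫ Sigma.desc ((Fseq hG hQ F0 i).killW hG hQ n), ?_, ?_⟩
    · apply Subobject.factors_of_factors_right
      apply factors_sigma_desc
      intro s
      apply Subobject.factors_of_le _ _ ((Fseq hG hQ F0 i).factors_killW hG hQ n s)
      exact (Fam.obj_le_sum_right (Fseq hG hQ F0 i) _ (n - 1)).trans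
        (Fam.obj_le_sigma (Fseq hG hQ F0) (i + 1) (n - 1))
    · rw [hy', Category.assoc]
      congr 1
      apply Sigma.hom_ext
      intro s
      simp
  choose W' π hπ w hw hπw using key
  refine ⟨∐ W', Sigma.desc (fun i => π i ≫ pre b z i), (hcov.comp_epi π).epi_desc,
    Sigma.desc w, factors_sigma_desc _ _ hw, ?_⟩
  apply Sigma.hom_ext
  intro i
  simp [hπw i]

end Seq

end Groth.Agent.Lib.Helper99.KInj
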