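import Mathlib.CategoryTheory.Abelian.GrothendieckCategory.EnoughInjectives

set_option autoImplicit false
universe w v u
open CategoryTheory CategoryTheory.Limits CategoryTheory.MorphismProperty

namespace Groth.Agent.Lib.Helper99.KInj

variable {C : Type u} [Category.{v} C] [Abelian C] [IsGrothendieckAbelian.{v} C]

/-- hypotheses for the transfinite argument: `W`-maps that are not isomorphisms can be enlarged
by pushouts of `I`-maps. -/
structure TransHyp (I W : MorphismProperty C) : Prop where
  iso_le : isomorphisms C ≤ I.pushouts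
  pushouts_le : I.pushouts ≤ W
  le_mono : W ≤ monomorphisms C
  larger : ∀ {X Y : C} (p : X ⟶ Y), W p → ¬ IsIso p →
    ∃ (X' : C) (i : X ⟶ X') (p' : X' ⟶ Y), I.pushouts i ∧ ¬ IsIso i ∧ W p' ∧ i ≫ p' = p

namespace TransHyp

variable {I W : MorphismProperty C} [W.RespectsIso]
  [MorphismProperty.IsStableUnderFilteredColimits.{v, v} W] (h : TransHyp I W)

include h

theorem W_of_isIso {X Y : C} (f : X ⟶ Y) [IsIso f] : W f :=
  h.pushouts_le _ (h.iso_le _ (MorphismProperty.isomorphisms.infer_property f))

theorem W_arrow_mk {X Y : C} (f : X ⟶ Y) [Mono f] : W (Subobject.mk f).arrow ↔ W f :=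
  W.arrow_mk_iso_iff (Arrow.isoMk (Subobject.underlyingIso f) (Iso.refl _) (by simp))

set_option backward.defeqAttrib.useBackward true in
theorem exists_larger_subobject {Y : C} (B : Subobject Y) (hB : W B.arrow) (hB' : B ≠ ⊤) :
    ∃ (B' : Subobject Y) (hlt : B < B'),
      I.pushouts (Subobject.ofLE B B' hlt.le) ∧ W B'.arrow := by
  induction B using Subobject.ind with | _ f
  rw [h.W_arrow_mk] at hB
  obtain ⟨X', i, p', hi, hi', hp', fac⟩ := h.larger f hB
    (by simpa only [Subobject.isIso_iff_mk_eq_top] using hB')
  have : Mono p' := h.le_mono _ hp'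
  refine ⟨Subobject.mk p', Subobject.mk_lt_mk_of_comm i fac hi', ?_, (h.W_arrow_mk p').2 hp'⟩
  refine (MorphismProperty.arrow_mk_iso_iff _ ?_).2 hi
  refine Arrow.isoMk (Subobject.underlyingIso f) (Subobject.underlyingIso p') ?_
  dsimp
  simp only [← cancel_mono p', Category.assoc, fac,
    Subobject.underlyingIso_hom_comp_eq_mk, Subobject.ofLE_arrow]

variable {Y : C}

open scoped Classical in
noncomputable def largerSubobject (B : Subobject Y) : Subobject Y :=
  if hB : W B.arrow ∧ B ≠ ⊤ then (h.exists_larger_subobject B hB.1 hB.2).choose else ⊤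

theorem largerSubobject_top : h.largerSubobject (⊤ : Subobject Y) = ⊤ := by
  unfold largerSubobject
  rw [dif_neg]
  simp

theorem lt_largerSubobject (B : Subobject Y) (hB : B ≠ ⊤) : B < h.largerSubobject B := by
  unfold largerSubobject
  by_cases hW : W B.arrow
  · rw [dif_pos ⟨hW, hB⟩]
    exact (h.exists_larger_subobject B hW hB).choose_spec.choose
  · rw [dif_neg (fun hh => hW hh.1)]
    exact lt_top_iff_ne_top.2 hB

theorem le_largerSubobject (B : Subobject Y) : B ≤ h.largerSubobject B := by
  by_cases hB : B = ⊤
  · subst hB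
    rw [h.largerSubobject_top]
  · exact (h.lt_largerSubobject B hB).le

theorem W_largerSubobject (B : Subobject Y) (hW : W B.arrow) : W (h.largerSubobject B).arrow := by
  by_cases hB : B = ⊤
  · subst hB
    rw [h.largerSubobject_top]
    exact hW
  · unfold largerSubobject
    rw [dif_pos ⟨hW, hB⟩]
    exact (h.exists_larger_subobject B hW hB).choose_spec.choose_spec.2

set_option backward.defeqAttrib.useBackward true in
set_option backward.isDefEq.respectTransparency false in
theorem pushouts_ofLE_le_largerSubobject (B : Subobject Y) (hW : W B.arrow) :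
    I.pushouts (Subobject.ofLE _ _ (h.le_largerSubobject B)) := by
  by_cases hB : B = ⊤
  · subst hB
    have := (Subobject.isIso_arrow_iff_eq_top (h.largerSubobject (⊤ : Subobject Y))).2
      h.largerSubobject_top
    exact (MorphismProperty.arrow_mk_iso_iff _
      (Arrow.isoMk (asIso (Subobject.arrow _)) (asIso (Subobject.arrow _)) (by simp))).2
        (h.iso_le (𝟙 Y) (MorphismProperty.isomorphisms.infer_property _))
  · refine (MorphismProperty.arrow_mk_iso_iff _ ?_).1
      (h.exists_larger_subobject B hW hB).choose_spec.choose_spec.1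
    exact Arrow.isoMk (Iso.refl _)
      (Subobject.isoOfEq _ _ ((by simp [largerSubobject, dif_pos (And.intro hW hB)])))

attribute [local instance] IsFiltered.isConnected

omit h in
set_option backward.defeqAttrib.useBackward true in
set_option backward.isDefEq.respectTransparency false in
/-- `W` is stable under filtered unions of subobjects -/
theorem W_iSup {J : Type v} [SmallCategory J] [IsFiltered J] (F : J ⥤ MonoOver Y)
    (hF : ∀ j, W (F.obj j).obj.hom) : W (⨆ j, Subobject.mk (F.obj j).obj.hom).arrow := by
  let f : colimit (F ⋙ MonoOver.forget Y ⋙ Over.forget Y) ⟶ Y :=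
    colimit.desc _ (Cocone.mk Y
      { app j := (F.obj j).obj.hom
        naturality {j j'} g := by simp [MonoOver.forget] })
  have hf : ∀ j, colimit.ι (F ⋙ MonoOver.forget Y ⋙ Over.forget Y) j ≫ f = (F.obj j).obj.hom :=
    fun j => by simp [f]
  haveI := IsGrothendieckAbelian.mono_of_isColimit_monoOver F (colimit.isColimit _) f hf
  have h1 := IsGrothendieckAbelian.subobjectMk_of_isColimit_eq_iSup F (colimit.isColimit _) f hf
  rw [← h1]
  have hWf : W f := by
    have hst : W.IsStableUnderColimitsOfShape J := inferInstance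
    let α : (F ⋙ MonoOver.forget Y ⋙ Over.forget Y) ⟶ (Functor.const J).obj Y :=
      { app j := (F.obj j).obj.hom
        naturality {j j'} g := by simp [MonoOver.forget] }
    exact hst.condition _ _ _ _ (colimit.isColimit _) (isColimitConstCocone J Y) α hF f
      (fun j => by simp [f, α])
  exact (W.arrow_mk_iso_iff (Arrow.isoMk (Subobject.underlyingIso f) (Iso.refl _) (by simp))).2 hWf

lemma top_mem_range (A₀ : Subobject Y) {J : Type v} [LinearOrder J] [OrderBot J] [SuccOrder J]
    [WellFoundedLT J] (hJ : HasCardinalLT (Subobject Y) (Cardinal.mk J)) :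
    ∃ (j : J), transfiniteIterate (h.largerSubobject) j A₀ = ⊤ :=
  top_mem_range_transfiniteIterate (h.largerSubobject) A₀ (h.lt_largerSubobject)
    h.largerSubobject_top
    (fun hh ↦ by simpa [hasCardinalLT_iff_cardinal_mk_lt] using hJ.of_injective _ hh)

lemma exists_ordinal (A₀ : Subobject Y) :
    ∃ (o : Ordinal.{v}) (j : o.ToType), transfiniteIterate (h.largerSubobject) j A₀ = ⊤ := by
  let κ := Order.succ (Cardinal.mk (Shrink.{v} (Subobject Y)))
  have : Nonempty κ.ord.ToType := by simp [κ]
  have := WellFoundedLT.toOrderBot κ.ord.ToType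
  exact ⟨κ.ord, h.top_mem_range A₀ (lt_of_lt_of_le (Order.lt_succ _) (by simp [κ]))⟩

section

variable (A₀ : Subobject Y) (J : Type v) [LinearOrder J] [OrderBot J] [SuccOrder J]
  [WellFoundedLT J]

@[simps]
noncomputable def functorToMonoOver : J ⥤ MonoOver Y where
  obj j := MonoOver.mk (transfiniteIterate (h.largerSubobject) j A₀).arrow
  map {j j'} f := MonoOver.homMk (Subobject.ofLE _ _
      (monotone_transfiniteIterate _ _ (h.le_largerSubobject) (leOfHom f)))

noncomputable abbrev functor : J ⥤ C :=
  h.functorToMonoOver A₀ J ⋙ MonoOver.forget _ ⋙ Over.forget _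

set_option backward.defeqAttrib.useBackward true in
instance : (h.functor A₀ J).IsWellOrderContinuous where
  nonempty_isColimit m hm := ⟨by
    have := hm.nonempty_Iio.to_subtype
    let c := (Set.principalSegIio m).cocone (h.functorToMonoOver A₀ J ⋙ MonoOver.forget _)
    have : Mono c.pt.hom := by dsimp [c]; infer_instance
    apply IsGrothendieckAbelian.isColimitMapCoconeOfSubobjectMkEqISup
      ((Set.principalSegIio m).monotone.functor ⋙ h.functorToMonoOver A₀ J) c
    dsimp [c]
    simp only [Subobject.mk_arrow]
    exact transfiniteIterate_limit (h.largerSubobject) A₀ m hm⟩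

variable {J} in
theorem W_iterate (hA₀ : W A₀.arrow) (j : J) :
    W (transfiniteIterate (h.largerSubobject) j A₀).arrow := by
  induction j using SuccOrder.limitRecOn with
  | isMin j hj =>
    obtain rfl := hj.eq_bot
    rw [transfiniteIterate_bot]
    exact hA₀
  | succ j hj hj' =>
    rw [transfiniteIterate_succ _ _ _ hj]
    exact h.W_largerSubobject _ hj'
  | isSuccLimit j hj hj' =>
    rw [transfiniteIterate_limit _ _ _ hj]
    have := hj.nonempty_Iio.to_subtype
    have key := W_iSup (W := W)
      ((Set.principalSegIio j).monotone.functor ⋙ h.functorToMonoOver A₀ J)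
      (fun x => hj' x.1 x.2)
    have e : (fun x : Set.Iio j => Subobject.mk
        (((Set.principalSegIio j).monotone.functor ⋙ h.functorToMonoOver A₀ J).obj x).obj.hom) =
        fun x : Set.Iio j => transfiniteIterate (h.largerSubobject) x.1 A₀ := by
      funext x
      exact Subobject.mk_arrow _
    have e' : (⨆ x : Set.Iio j, Subobject.mk
        (((Set.principalSegIio j).monotone.functor ⋙ h.functorToMonoOver A₀ J).obj x).obj.hom) =
        ⨆ x : Set.Iio j, transfiniteIterate (h.largerSubobject) x.1 A₀ := congrArg iSup e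
    rw [← e']
    exact key

set_option backward.isDefEq.respectTransparency.types false in
set_option backward.defeqAttrib.useBackward true in
variable {J} in
noncomputable def transfiniteCompositionOfShapeMapFromBot (hA₀ : W A₀.arrow) (j : J) :
    I.pushouts.TransfiniteCompositionOfShape (Set.Iic j)
    ((h.functor A₀ J).map (homOfLE bot_le : ⊥ ⟶ j)) where
  F := (Set.initialSegIic j).monotone.functor ⋙ h.functor A₀ J
  isoBot := Iso.refl _
  incl :=
    { app k := (h.functor A₀ J).map (homOfLE k.2)
      naturality k k' hh := by simp [MonoOver.forget] }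
  isColimit := colimitOfDiagramTerminal isTerminalTop _
  map_mem k hk := by
    dsimp [MonoOver.forget]
    convert!
      h.pushouts_ofLE_le_largerSubobject (transfiniteIterate (h.largerSubobject) k.1 A₀)
        (h.W_iterate A₀ hA₀ k.1) using 2
    all_goals
      rw [Set.Iic.succ_eq_of_not_isMax hk,
        transfiniteIterate_succ _ _ _ (Set.not_isMax_coe _ hk)]

end

variable {A : C} {f : A ⟶ Y} [Mono f]

set_option backward.defeqAttrib.useBackward true in
set_option backward.isDefEq.respectTransparency false in
noncomputable def transfiniteCompositionOfShapeOfEqTop (hf : W f)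
    {J : Type v} [LinearOrder J] [OrderBot J] [SuccOrder J] [WellFoundedLT J] {j : J}
    (hj : transfiniteIterate (h.largerSubobject) j (Subobject.mk f) = ⊤) :
    I.pushouts.TransfiniteCompositionOfShape (Set.Iic j) f := by
  let t := transfiniteIterate (h.largerSubobject) j (Subobject.mk f)
  have := (Subobject.isIso_arrow_iff_eq_top t).2 hj
  apply (h.transfiniteCompositionOfShapeMapFromBot (Subobject.mk f)
    ((h.W_arrow_mk f).2 hf) j).ofArrowIso
  refine Arrow.isoMk ((Subobject.isoOfEq _ _ (transfiniteIterate_bot _ _) ≪≫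
    Subobject.underlyingIso f)) (asIso t.arrow) ?_
  dsimp [MonoOver.forget]
  rw [Category.assoc, Subobject.underlyingIso_hom_comp_eq_mk, Subobject.ofLE_arrow,
    Subobject.ofLE_arrow]

variable (f)

lemma exists_transfiniteCompositionOfShape (hf : W f) :
    ∃ (J : Type v) (_ : LinearOrder J) (_ : OrderBot J) (_ : SuccOrder J)
        (_ : WellFoundedLT J),
    Nonempty (I.pushouts.TransfiniteCompositionOfShape J f) := by
  obtain ⟨o, j, hj⟩ := h.exists_ordinal (Subobject.mk f)
  have : Nonempty o.ToType := ⟨j⟩
  have : OrderBot o.ToType := WellFoundedLT.toOrderBot _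
  exact ⟨_, _, _, _, _, ⟨h.transfiniteCompositionOfShapeOfEqTop hf hj⟩⟩

omit [Mono f] in
theorem rlp_le : I.rlp ≤ W.rlp := by
  intro X Y' p hp A' B i hi
  have : Mono i := h.le_mono _ hi
  obtain ⟨J, _, _, _, _, ⟨hh⟩⟩ := h.exists_transfiniteCompositionOfShape i hi
  exact transfiniteCompositionsOfShape_le_llp_rlp _ _ _ hh.mem _ (by simpa)

end TransHyp

end Groth.Agent.Lib.Helper99.KInj
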