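import Groth.Agent.Lib.Helper99.KInjSmall
import Groth.Agent.Lib.Helper99.KInjTrans
import Mathlib.Algebra.Homology.QuasiIso

set_option autoImplicit false
universe w v u
open CategoryTheory CategoryTheory.Limits CategoryTheory.MorphismProperty

namespace Groth.Agent.Lib.Helper99.KInj

variable {A : Type u} [Category.{v} A] [Abelian A]

/-- exactness in a functor category can be checked pointwise -/
theorem exact_of_pointwise {J : Type w} [Category J] (S : ShortComplex (J ⥤ A))
    (h : ∀ j, (S.map ((evaluation J A).obj j)).Exact) : S.Exact := by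
  rw [ShortComplex.exact_iff_isZero_homology]
  apply Functor.isZero
  intro j
  have hj := h j
  rw [ShortComplex.exact_iff_isZero_homology] at hj
  exact hj.of_iso (S.mapHomologyIso ((evaluation J A).obj j)).symm

/-- trivial cofibrations: monomorphisms which are quasi-isomorphisms -/
def trivCof (A : Type u) [Category.{v} A] [Abelian A] : MorphismProperty (CochainComplex A ℤ) :=
  fun _ _ f => Mono f ∧ QuasiIso f

theorem trivCof_iff {X Y : CochainComplex A ℤ} (f : X ⟶ Y) :
    trivCof A f ↔ Mono f ∧ QuasiIso f := Iff.rfl

instance : (trivCof A).RespectsIso := by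
  apply MorphismProperty.RespectsIso.mk
  · rintro X Y Z e f ⟨h1, h2⟩
    exact ⟨inferInstance, inferInstance⟩
  · rintro X Y Z e f ⟨h1, h2⟩
    exact ⟨inferInstance, inferInstance⟩

instance : (trivCof A).IsMultiplicative where
  id_mem X := ⟨inferInstance, inferInstance⟩
  comp_mem f g := by
    rintro ⟨h1, h2⟩ ⟨h3, h4⟩
    exact ⟨mono_comp f g, inferInstance⟩

theorem trivCof_le_mono : trivCof A ≤ monomorphisms _ := fun _ _ _ h => h.1

instance : (trivCof A).IsStableUnderRetracts where
  of_retract {X Y Z W f g} r := by
    rintro ⟨h1, h2⟩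
    exact ⟨(monomorphisms _).of_retract r h1,
      (HomologicalComplex.quasiIso A (ComplexShape.up ℤ)).of_retract r h2⟩

/-- the short exact sequence attached to a monomorphism -/
theorem shortExact_cokernel {X Y : CochainComplex A ℤ} (f : X ⟶ Y) [Mono f] :
    (ShortComplex.mk f (cokernel.π f) (cokernel.condition f)).ShortExact :=
  ShortComplex.ShortExact.mk' (ShortComplex.exact_of_g_is_cokernel _ (cokernelIsCokernel f))
    (by dsimp; infer_instance) (by dsimp; infer_instance)

theorem acyclic_cokernel_of_trivCof {X Y : CochainComplex A ℤ} (f : X ⟶ Y) (hf : trivCof A f)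
    (n : ℤ) : (cokernel f).ExactAt n := by
  have := hf.1
  have := hf.2
  exact (shortExact_cokernel f).acyclic_X₃ (by dsimp; infer_instance) n

instance : (trivCof A).IsStableUnderCobaseChange where
  of_isPushout {K K' L L'} f g f' g' sq := by
    rintro ⟨h1, h2⟩
    have hm : Mono f' := (monomorphisms _).of_isPushout sq h1
    refine ⟨hm, ?_⟩
    let g'' : L' ⟶ cokernel f := sq.desc 0 (cokernel.π f) (by simp)
    have hg1 : f' ≫ g'' = 0 := sq.inl_desc _ _ _
    have hg2 : g' ≫ g'' = cokernel.π f := sq.inr_desc _ _ _
    have hepi : Epi g'' := epi_of_epi_fac hg2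
    have hex : (ShortComplex.mk f' g'' hg1).Exact := by
      apply ShortComplex.exact_of_g_is_cokernel
      refine CokernelCofork.IsColimit.ofπ _ _
        (fun {R} t ht => cokernel.desc f (g' ≫ t) (by
          rw [← sq.w_assoc]; dsimp at ht; rw [ht, comp_zero])) ?_ ?_
      · intro R t ht
        apply sq.hom_ext
        · rw [reassoc_of% hg1, zero_comp]; exact ht.symm
        · rw [reassoc_of% hg2, cokernel.π_desc]
      · intro R t ht m hm'
        rw [← cancel_epi (cokernel.π f), cokernel.π_desc, ← hg2, Category.assoc]
        dsimp at hm'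
        rw [hm']
    exact quasiIso_of_shortExact_of_acyclic
      (ShortComplex.ShortExact.mk' hex (by dsimp; infer_instance) (by dsimp; infer_instance))
      (acyclic_cokernel_of_trivCof f ⟨h1, h2⟩)

section StabColim

variable (J : Type w) [Category.{w} J] [HasColimitsOfShape J A] [HasExactColimitsOfShape J A]

/-- the differential as a natural transformation between evaluation functors -/
@[simps]
def dNat (i j : ℤ) : HomologicalComplex.eval A (ComplexShape.up ℤ) i ⟶
    HomologicalComplex.eval A (ComplexShape.up ℤ) j where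
  app K := K.d i j
  naturality K L f := f.comm i j

/-- a filtered colimit (or coproduct) of acyclic complexes is acyclic -/
theorem exactAt_colimit {Q : J ⥤ CochainComplex A ℤ} (hQ : ∀ j n, (Q.obj j).ExactAt n)
    {c : Cocone Q} (hc : IsColimit c) (n : ℤ) : c.pt.ExactAt n := by
  rw [HomologicalComplex.exactAt_iff' c.pt (n - 1) n (n + 1) (by simp) (by simp)]
  let S : ShortComplex (J ⥤ A) := ShortComplex.mk (Functor.whiskerLeft Q (dNat (n - 1) n))
    (Functor.whiskerLeft Q (dNat n (n + 1))) (by ext j; exact (Q.obj j).d_comp_d _ _ _)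
  have hS : S.Exact := by
    apply exact_of_pointwise
    intro j
    exact (HomologicalComplex.exactAt_iff' (Q.obj j) (n - 1) n (n + 1) (by simp) (by simp)).1
      (hQ j n)
  exact colim.exact_mapShortComplex hS
    (isColimitOfPreserves (HomologicalComplex.eval A _ (n - 1)) hc)
    (isColimitOfPreserves (HomologicalComplex.eval A _ n) hc)
    (isColimitOfPreserves (HomologicalComplex.eval A _ (n + 1)) hc)
    (c.pt.d (n - 1) n) (c.pt.d n (n + 1)) (fun j => (c.ι.app j).comm _ _)
    (fun j => (c.ι.app j).comm _ _)

instance trivCof_isStableUnderColimitsOfShape : (trivCof A).IsStableUnderColimitsOfShape J where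
  condition X₁ X₂ c₁ c₂ hc₁ hc₂ f hf φ hφ := by
    have hmono : ∀ j, Mono (f.app j) := fun j => (hf j).1
    have hqis : ∀ j, QuasiIso (f.app j) := fun j => (hf j).2
    have : Mono f := NatTrans.mono_of_mono_app f
    have hφm : Mono φ := colim.map_mono' f hc₁ hc₂ φ hφ
    refine ⟨hφm, ?_⟩
    -- the cokernel in the functor category
    let π := cokernel.π f
    have hSE : (ShortComplex.mk f π (cokernel.condition f)).ShortExact :=
      ShortComplex.ShortExact.mk' (ShortComplex.exact_of_g_is_cokernel _ (cokernelIsCokernel f))
        (by dsimp; infer_instance) (by dsimp; infer_instance)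
    have hQ : ∀ j n, ((cokernel f).obj j).ExactAt n := by
      intro j n
      have hj := hSE.map_of_exact ((evaluation J (CochainComplex A ℤ)).obj j)
      have : QuasiIso ((ShortComplex.mk f π (cokernel.condition f)).map
          ((evaluation J (CochainComplex A ℤ)).obj j)).f := hqis j
      exact hj.acyclic_X₃ this n
    let c₃ := colimit.cocone (cokernel f)
    let hc₃ : IsColimit c₃ := colimit.isColimit _
    let g : c₂.pt ⟶ c₃.pt := hc₂.desc (Cocone.mk c₃.pt (π ≫ c₃.ι))
    have hg : ∀ j, c₂.ι.app j ≫ g = π.app j ≫ c₃.ι.app j := fun j => hc₂.fac _ j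
    have hex := colim.exact_mapShortComplex hSE.exact hc₁ hc₂ hc₃ φ g hφ hg
    have hepi : Epi g := by
      have : ∀ j, Epi (π.app j) := fun j => inferInstance
      exact colim.map_epi' π c₂ hc₃ g hg
    exact quasiIso_of_shortExact_of_acyclic
      (ShortComplex.ShortExact.mk' hex hφm hepi)
      (fun n => exactAt_colimit J hQ hc₃ n)

end StabColim

end Groth.Agent.Lib.Helper99.KInj
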