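import Mathlib
import Groth.Agent.Lib.Helper99.MVAbs

/-!
# Dual Mayer–Vietoris sequences via conjugate natural transformations (helper99)

If `0 → J → R₁ J ⊞ R₂ J → R₃ J → 0` is short exact for every injective `J`, where the `Rᵢ` have left
adjoints `Lᵢ`, then `0 → L₃ M → L₁ M ⊞ L₂ M → M → 0` (conjugate maps) is short exact for every `M`.
-/

set_option autoImplicit false
universe v u
open CategoryTheory Limits Category

namespace Groth.Agent.Lib.Helper99.MVDual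

section InjTest

variable {C : Type u} [Category.{v} C] [Abelian C] [EnoughInjectives C]

theorem shortExact_of_injective_test (S : ShortComplex C)
    (ha : ∀ (J : C), Injective J → ∀ (φ : S.X₁ ⟶ J), ∃ ψ : S.X₂ ⟶ J, S.f ≫ ψ = φ)
    (hb : ∀ (J : C), Injective J → ∀ (φ : S.X₂ ⟶ J), S.f ≫ φ = 0 → ∃ ψ : S.X₃ ⟶ J, S.g ≫ ψ = φ)
    (hc : ∀ (J : C), Injective J → ∀ (ψ : S.X₃ ⟶ J), S.g ≫ ψ = 0 → ψ = 0) : S.ShortExact := by
  have hm : Mono S.f := by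
    obtain ⟨ψ, hψ⟩ := ha _ inferInstance (Injective.ι S.X₁)
    exact mono_of_mono_fac hψ
  have he : Epi S.g := by
    have h0 : cokernel.π S.g ≫ Injective.ι (cokernel S.g) = 0 := by
      apply hc _ inferInstance
      rw [← Category.assoc, cokernel.condition, zero_comp]
    have h1 : cokernel.π S.g = 0 := by
      rw [← cancel_mono (Injective.ι (cokernel S.g)), h0, zero_comp]
    exact Preadditive.epi_of_cokernel_zero h1
  refine ShortComplex.ShortExact.mk ?_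
  rw [ShortComplex.exact_iff_mono_cokernel_desc]
  have hf0 : S.f ≫ (cokernel.π S.f ≫ Injective.ι (cokernel S.f)) = 0 := by
    rw [← Category.assoc, cokernel.condition, zero_comp]
  obtain ⟨ψ, hψ⟩ := hb _ inferInstance _ hf0
  have : cokernel.desc S.f S.g S.zero ≫ ψ = Injective.ι (cokernel S.f) := by
    rw [← cancel_epi (cokernel.π S.f), ← Category.assoc, cokernel.π_desc, hψ]
  exact mono_of_mono_fac this

end InjTest

section Conj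

variable {C : Type u} [Category.{v} C] {LA LB RA RB : C ⥤ C} (adjA : LA ⊣ RA) (adjB : LB ⊣ RB)

theorem homEquiv_conj (τ : RA ⟶ RB) {M J : C} (φ : LA.obj M ⟶ J) :
    adjB.homEquiv M J (((conjugateEquiv adjA adjB).symm τ).app M ≫ φ) =
      adjA.homEquiv M J φ ≫ τ.app J := by
  rw [Adjunction.homEquiv_unit, Adjunction.homEquiv_unit, Functor.map_comp, ← Category.assoc,
    ← unit_conjugateEquiv_symm, Category.assoc, Category.assoc, τ.naturality]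

end Conj

section Dual

variable {C : Type u} [Category.{v} C] [Abelian C] [EnoughInjectives C]
  {L₁ L₂ L₃ R₁ R₂ R₃ : C ⥤ C} (adj₁ : L₁ ⊣ R₁) (adj₂ : L₂ ⊣ R₂) (adj₃ : L₃ ⊣ R₃)
  [R₁.Additive] [R₂.Additive] [R₃.Additive] [L₁.Additive] [L₂.Additive] [L₃.Additive]
  (η₁ : 𝟭 C ⟶ R₁) (η₂ : 𝟭 C ⟶ R₂) (ρ₁ : R₁ ⟶ R₃) (ρ₂ : R₂ ⟶ R₃) (w : η₁ ≫ ρ₁ = η₂ ≫ ρ₂)

/-- conjugate of `η : 𝟭 ⟶ R` -/
noncomputable def eps {L R : C ⥤ C} (adj : L ⊣ R) (η : 𝟭 C ⟶ R) : L ⟶ 𝟭 C :=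
  (conjugateEquiv Adjunction.id adj).symm η

/-- conjugate of `ρ : R ⟶ R'` -/
noncomputable def sig {L R L' R' : C ⥤ C} (adj : L ⊣ R) (adj' : L' ⊣ R') (ρ : R ⟶ R') : L' ⟶ L :=
  (conjugateEquiv adj adj').symm ρ

theorem sig_eps {L R L' R' : C ⥤ C} (adj : L ⊣ R) (adj' : L' ⊣ R') (η : 𝟭 C ⟶ R) (ρ : R ⟶ R') :
    sig adj adj' ρ ≫ eps adj η = eps adj' (η ≫ ρ) :=
  conjugateEquiv_symm_comp Adjunction.id adj adj' η ρ

include w in
theorem w' : sig adj₁ adj₃ ρ₁ ≫ eps adj₁ η₁ = sig adj₂ adj₃ ρ₂ ≫ eps adj₂ η₂ := by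
  rw [sig_eps, sig_eps, w]

theorem homEquiv_id {M J : C} (ψ : M ⟶ J) :
    (Adjunction.id (C := C)).homEquiv M J ψ = ψ := by
  rw [Adjunction.homEquiv_unit]
  simp

theorem homEquiv_eps {L R : C ⥤ C} (adj : L ⊣ R) (η : 𝟭 C ⟶ R) {M J : C} (ψ : M ⟶ J) :
    adj.homEquiv M J ((eps adj η).app M ≫ ψ) = ψ ≫ η.app J := by
  have := homEquiv_conj Adjunction.id adj η (M := M) (J := J) ψ
  rw [homEquiv_id] at this
  exact this

theorem homEquiv_sig {L R L' R' : C ⥤ C} (adj : L ⊣ R) (adj' : L' ⊣ R') (ρ : R ⟶ R') {M J : C}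
    (φ : L.obj M ⟶ J) :
    adj'.homEquiv M J ((sig adj adj' ρ).app M ≫ φ) = adj.homEquiv M J φ ≫ ρ.app J :=
  homEquiv_conj adj adj' ρ φ

theorem homEquiv_add' {L R : C ⥤ C} [R.Additive] (adj : L ⊣ R) {M J : C} (φ φ' : L.obj M ⟶ J) :
    adj.homEquiv M J (φ + φ') = adj.homEquiv M J φ + adj.homEquiv M J φ' := by
  simp [Adjunction.homEquiv_unit, Functor.map_add]

theorem homEquiv_neg' {L R : C ⥤ C} [R.Additive] (adj : L ⊣ R) {M J : C} (φ : L.obj M ⟶ J) :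
    adj.homEquiv M J (-φ) = -adj.homEquiv M J φ := by
  simp [Adjunction.homEquiv_unit, Functor.map_neg]

theorem homEquiv_zero' {L R : C ⥤ C} [R.Additive] (adj : L ⊣ R) {M J : C} :
    adj.homEquiv M J (0 : L.obj M ⟶ J) = 0 := by
  simp [Adjunction.homEquiv_unit]

section Aux

variable (M J : C)
  (hmono : Mono (biprod.lift (η₁.app J) (η₂.app J)))
  (hker : ∀ k : M ⟶ R₁.obj J ⊞ R₂.obj J, k ≫ biprod.desc (ρ₁.app J) (-ρ₂.app J) = 0 →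
    ∃ ψ : M ⟶ J, ψ ≫ biprod.lift (η₁.app J) (η₂.app J) = k)
  (hsec : ∃ s : R₃.obj J ⟶ R₁.obj J ⊞ R₂.obj J, s ≫ biprod.desc (ρ₁.app J) (-ρ₂.app J) = 𝟙 _)

include hsec in
theorem aux_a (φ : L₃.obj M ⟶ J) :
    ∃ ψ : L₁.obj M ⊞ L₂.obj M ⟶ J,
      biprod.lift ((sig adj₁ adj₃ ρ₁).app M) ((sig adj₂ adj₃ ρ₂).app M) ≫ ψ = φ := by
  obtain ⟨s, hs⟩ := hsec
  let m := adj₃.homEquiv M J φ
  let m₁ : M ⟶ R₁.obj J := m ≫ s ≫ biprod.fst
  let m₂ : M ⟶ R₂.obj J := -(m ≫ s ≫ biprod.snd)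
  have hm : m₁ ≫ ρ₁.app J + m₂ ≫ ρ₂.app J = m := by
    have hd : biprod.desc (ρ₁.app J) (-ρ₂.app J) =
        biprod.fst ≫ ρ₁.app J - biprod.snd ≫ ρ₂.app J := by ext <;> simp
    have h1 : s ≫ biprod.fst ≫ ρ₁.app J - s ≫ biprod.snd ≫ ρ₂.app J = 𝟙 _ := by
      rw [← hs, hd, Preadditive.comp_sub]
    calc m₁ ≫ ρ₁.app J + m₂ ≫ ρ₂.app J
        = m ≫ (s ≫ biprod.fst ≫ ρ₁.app J - s ≫ biprod.snd ≫ ρ₂.app J) := by
          simp only [m₁, m₂, Preadditive.neg_comp, Preadditive.comp_add, Preadditive.comp_neg,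
            Category.assoc, sub_eq_add_neg]
      _ = m := by rw [h1, Category.comp_id]
  refine ⟨biprod.desc ((adj₁.homEquiv M J).symm m₁) ((adj₂.homEquiv M J).symm m₂), ?_⟩
  apply (adj₃.homEquiv M J).injective
  rw [biprod.lift_desc, homEquiv_add', homEquiv_sig, homEquiv_sig, Equiv.apply_symm_apply,
    Equiv.apply_symm_apply, hm]

include hker in
theorem aux_b (φ : L₁.obj M ⊞ L₂.obj M ⟶ J)
    (hφ : biprod.lift ((sig adj₁ adj₃ ρ₁).app M) ((sig adj₂ adj₃ ρ₂).app M) ≫ φ = 0) :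
    ∃ ψ : M ⟶ J, biprod.desc ((eps adj₁ η₁).app M) (-(eps adj₂ η₂).app M) ≫ ψ = φ := by
  let φ₁ : L₁.obj M ⟶ J := biprod.inl ≫ φ
  let φ₂ : L₂.obj M ⟶ J := biprod.inr ≫ φ
  have hφ' : (sig adj₁ adj₃ ρ₁).app M ≫ φ₁ + (sig adj₂ adj₃ ρ₂).app M ≫ φ₂ = 0 := by
    rw [← hφ]
    have : φ = biprod.desc φ₁ φ₂ := by ext <;> simp [φ₁, φ₂]
    rw [this, biprod.lift_desc]
  let m₁ := adj₁.homEquiv M J φ₁
  let m₂ := adj₂.homEquiv M J φ₂
  have hm : m₁ ≫ ρ₁.app J + m₂ ≫ ρ₂.app J = 0 := by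
    have := congrArg (adj₃.homEquiv M J) hφ'
    rwa [homEquiv_add', homEquiv_sig, homEquiv_sig, homEquiv_zero'] at this
  have hk : biprod.lift m₁ (-m₂) ≫ biprod.desc (ρ₁.app J) (-ρ₂.app J) = 0 := by
    rw [biprod.lift_desc]
    simpa using hm
  obtain ⟨ψ, hψ⟩ := hker _ hk
  have hψ₁ : ψ ≫ η₁.app J = m₁ := by
    have := congrArg (· ≫ biprod.fst) hψ
    simpa using this
  have hψ₂ : ψ ≫ η₂.app J = -m₂ := by
    have := congrArg (· ≫ biprod.snd) hψ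
    simpa using this
  refine ⟨ψ, ?_⟩
  apply biprod.hom_ext'
  · rw [biprod.inl_desc_assoc]
    apply (adj₁.homEquiv M J).injective
    rw [homEquiv_eps, hψ₁]
  · rw [biprod.inr_desc_assoc, Preadditive.neg_comp]
    apply (adj₂.homEquiv M J).injective
    rw [homEquiv_neg', homEquiv_eps, hψ₂, neg_neg]

include hmono in
theorem aux_c (ψ : M ⟶ J)
    (hψ : biprod.desc ((eps adj₁ η₁).app M) (-(eps adj₂ η₂).app M) ≫ ψ = 0) : ψ = 0 := by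
  have h1 : (eps adj₁ η₁).app M ≫ ψ = 0 := by
    have := congrArg (biprod.inl ≫ ·) hψ
    simpa using this
  have h2 : (eps adj₂ η₂).app M ≫ ψ = 0 := by
    have := congrArg (biprod.inr ≫ ·) hψ
    simpa using this
  have e1 : ψ ≫ η₁.app J = 0 := by
    rw [← homEquiv_eps adj₁ η₁ ψ, h1, homEquiv_zero']
  have e2 : ψ ≫ η₂.app J = 0 := by
    rw [← homEquiv_eps adj₂ η₂ ψ, h2, homEquiv_zero']
  rw [← cancel_mono (biprod.lift (η₁.app J) (η₂.app J)), zero_comp]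
  ext
  · simpa using e1
  · simpa using e2

end Aux

open Groth.Agent.Lib.Helper99 in
theorem dual_shortExact
    (hex : ∀ J : C, Injective J → (MV.sc η₁ η₂ ρ₁ ρ₂ w J).ShortExact) (M : C) :
    (MV.sc (sig adj₁ adj₃ ρ₁) (sig adj₂ adj₃ ρ₂) (eps adj₁ η₁) (eps adj₂ η₂)
      (w' adj₁ adj₂ adj₃ η₁ η₂ ρ₁ ρ₂ w) M).ShortExact := by
  have hmono : ∀ J, Injective J → Mono (biprod.lift (η₁.app J) (η₂.app J)) :=
    fun J hJ => (hex J hJ).mono_f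
  have hker : ∀ J, Injective J → ∀ k : M ⟶ R₁.obj J ⊞ R₂.obj J,
      k ≫ biprod.desc (ρ₁.app J) (-ρ₂.app J) = 0 →
      ∃ ψ : M ⟶ J, ψ ≫ biprod.lift (η₁.app J) (η₂.app J) = k := by
    intro J hJ k hk
    have hS := hex J hJ
    have := hS.mono_f
    exact ⟨hS.exact.lift k hk, hS.exact.lift_f k hk⟩
  have hsec : ∀ J, Injective J → ∃ s : R₃.obj J ⟶ R₁.obj J ⊞ R₂.obj J,
      s ≫ biprod.desc (ρ₁.app J) (-ρ₂.app J) = 𝟙 _ := by
    intro J hJ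
    have hS := hex J hJ
    haveI : Injective (MV.sc η₁ η₂ ρ₁ ρ₂ w J).X₁ := hJ
    exact ⟨hS.splittingOfInjective.s, hS.splittingOfInjective.s_g⟩
  exact shortExact_of_injective_test _
    (fun J hJ φ => aux_a adj₁ adj₂ adj₃ ρ₁ ρ₂ M J (hsec J hJ) φ)
    (fun J hJ φ hφ => aux_b adj₁ adj₂ adj₃ η₁ η₂ ρ₁ ρ₂ M J (hker J hJ) φ hφ)
    (fun J hJ ψ hψ => aux_c adj₁ adj₂ η₁ η₂ M J (hmono J hJ) ψ hψ)

end Dual

end Groth.Agent.Lib.Helper99.MVDual
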