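import Mathlib
import Groth.Agent.Lib.Helper99.MVDual
import Groth.Agent.Lib.Helper99.MVSch2
import Groth.Prelude.Def_CxOX

/-!
# Mayer–Vietoris for extension by zero (helper99)
-/

set_option autoImplicit false
universe u
open CategoryTheory Limits AlgebraicGeometry Opposite TopologicalSpace

attribute [local instance] HasDerivedCategory.standard

namespace Groth.Agent.Lib.Helper99.MVExt

open Groth.Agent.Lib.Helper99.MVSch Groth.Agent.Lib.Helper99

variable {X : Scheme.{u}}

/-- `M ↦ j_!(M|_U)` -/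
noncomputable abbrev C (U : X.Opens) : X.Modules ⥤ X.Modules :=
  Scheme.Modules.restrictFunctor U.ι ⋙ CxOX.extZero U.ι

/-- `j_! j^* ⊣ j_* j^*` -/
noncomputable def adjC (U : X.Opens) : C U ⊣ R U :=
  (Scheme.Modules.restrictAdjunction U.ι).comp (CxOX.extZeroAdj U.ι)

theorem mvExact_eta_rho (U V : X.Opens) (hUV : U ⊔ V = ⊤) (J : X.Modules) (hJ : Injective J)
    (O : X.Opens) :
    MVExact (((eta U).app J).app O) (((eta V).app J).app O)
      (((rho (inf_le_left : U ⊓ V ≤ U)).app J).app O)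
      (((rho (inf_le_right : U ⊓ V ≤ V)).app J).app O) := by
  have h1 := congrArg (fun t => t.app O) (eta_rho_app (inf_le_left : U ⊓ V ≤ U) J)
  have h2 := congrArg (fun t => t.app O) (eta_rho_app (inf_le_right : U ⊓ V ≤ V) J)
  simp only [Scheme.Modules.Hom.comp_app] at h1 h2
  rw [Scheme.Modules.restrictAdjunction_unit_app_app,
    Scheme.Modules.restrictAdjunction_unit_app_app] at h1 h2
  rw [Scheme.Modules.restrictAdjunction_unit_app_app,
    Scheme.Modules.restrictAdjunction_unit_app_app]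
  exact mvExact_of_injective_of_factor J hJ (homOfLE (img_le U O))
    (homOfLE (img_le V O)) (homOfLE (img_le (U ⊓ V) O))
    (homOfLE (img_mono inf_le_left O)) (homOfLE (img_mono inf_le_right O))
    (img_cover hUV _) (img_inter U V _) _ _
    (fun s => ConcreteCategory.congr_hom h1 s) (fun s => ConcreteCategory.congr_hom h2 s)

theorem eta_rho_w (U V : X.Opens) :
    eta U ≫ rho (inf_le_left : U ⊓ V ≤ U) = eta V ≫ rho (inf_le_right : U ⊓ V ≤ V) :=
  (eta_rho _).trans (eta_rho _).symm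

theorem primal_shortExact (U V : X.Opens) (hUV : U ⊔ V = ⊤) (J : X.Modules) (hJ : Injective J) :
    (MV.sc (eta U) (eta V) (rho (inf_le_left : U ⊓ V ≤ U)) (rho (inf_le_right : U ⊓ V ≤ V))
      (eta_rho_w U V) J).ShortExact :=
  sc_shortExact_modules _ _ _ _ _ J (fun O => mvExact_eta_rho U V hUV J hJ O)

open Groth.Agent.Lib.Helper99.RestrKInj in
theorem dual_shortExact (U V : X.Opens) (hUV : U ⊔ V = ⊤) (M : X.Modules) :
    (MV.sc (MVDual.sig (adjC U) (adjC (U ⊓ V)) (rho (inf_le_left : U ⊓ V ≤ U)))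
      (MVDual.sig (adjC V) (adjC (U ⊓ V)) (rho (inf_le_right : U ⊓ V ≤ V)))
      (MVDual.eps (adjC U) (eta U)) (MVDual.eps (adjC V) (eta V))
      (MVDual.w' (adjC U) (adjC V) (adjC (U ⊓ V)) (eta U) (eta V) _ _ (eta_rho_w U V)) M).ShortExact :=
  MVDual.dual_shortExact (adjC U) (adjC V) (adjC (U ⊓ V)) (eta U) (eta V) _ _ (eta_rho_w U V)
    (fun J hJ => primal_shortExact U V hUV J hJ) M

/-- `j_!(E|_U)` computed termwise -/
noncomputable def extPieceIso (U : X.Opens) [PreservesFiniteLimits (CxOX.extZero U.ι)]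
    [PreservesFiniteLimits (Scheme.Modules.restrictFunctor U.ι)]
    (K : CochainComplex X.Modules ℤ) :
    (CxOX.extZeroD U.ι).obj ((DCoh.restrictD U.ι).obj (DerivedCategory.Q.obj K)) ≅
      DerivedCategory.Q.obj (MV.cx (C U) K) :=
  (CxOX.extZeroD U.ι).mapIso
      ((Scheme.Modules.restrictFunctor U.ι).mapDerivedCategoryFactors.app K) ≪≫
    (CxOX.extZero U.ι).mapDerivedCategoryFactors.app
      (((Scheme.Modules.restrictFunctor U.ι).mapHomologicalComplex (ComplexShape.up ℤ)).obj K)

end Groth.Agent.Lib.Helper99.MVExt
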