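import Mathlib
import Groth.Prelude.Def_SixF1

/-!
# Composition of bounded-below right derived functors (helper99)

If `F : A ⥤ B` preserves injective objects and `θ : H ⟶ F ⋙ G` is an isomorphism, then
`EtSix.rPlusDesc₂ θ : R⁺H ⟶ R⁺F ⋙ R⁺G` is an isomorphism.
-/

universe v₁ v₂ v₃ u₁ u₂ u₃
open CategoryTheory Limits

namespace Groth.Agent.Lib.Helper99.PlusComp

variable {A : Type u₁} [Category.{v₁} A] [Abelian A] {B : Type u₂} [Category.{v₂} B] [Abelian B]
  {C : Type u₃} [Category.{v₃} C] [Abelian C]

theorem isIso_plusNatTrans {F G : A ⥤ B} [F.Additive] [G.Additive] (α : F ⟶ G) [IsIso α] :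
    IsIso (EtSix.plusNatTrans α) := by
  have h1 : IsIso (NatTrans.mapHomotopyCategory α (ComplexShape.up ℤ)) := by
    refine ⟨NatTrans.mapHomotopyCategory (inv α) (ComplexShape.up ℤ), ?_, ?_⟩
    · rw [← NatTrans.mapHomotopyCategory_comp, IsIso.hom_inv_id, NatTrans.mapHomotopyCategory_id]
    · rw [← NatTrans.mapHomotopyCategory_comp, IsIso.inv_hom_id, NatTrans.mapHomotopyCategory_id]
  have h2 : IsIso (Functor.whiskerLeft (HomotopyCategory.Plus.ι A)
      (NatTrans.mapHomotopyCategory α (ComplexShape.up ℤ))) := inferInstance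
  refine @Functor.FullyFaithful.isIso_of_isIso_map _ _ _ _ _
    ((HomotopyCategory.plus B).fullyFaithfulι.whiskeringRight (HomotopyCategory.Plus A))
    _ _ (EtSix.plusNatTrans α) ?_
  dsimp only [EtSix.plusNatTrans]
  rw [Functor.FullyFaithful.map_preimage]
  exact h2

variable [HasDerivedCategory A] [HasDerivedCategory B] [HasDerivedCategory C]

theorem isIso_rPlusDesc₂ {F : A ⥤ B} {G : B ⥤ C} {H : A ⥤ C} [F.Additive] [G.Additive]
    [H.Additive] [EnoughInjectives A] [EnoughInjectives B] [F.PreservesInjectiveObjects]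
    (θ : H ⟶ F ⋙ G) [IsIso θ] : IsIso (EtSix.rPlusDesc₂ θ) := by
  have := isIso_plusNatTrans θ
  have hder : (F.rightDerivedFunctorPlus ⋙ G.rightDerivedFunctorPlus).IsRightDerivedFunctor
      (EtSix.rPlusUnit₂ θ) (HomotopyCategory.Plus.quasiIso A) := by
    refine (HomotopyCategory.Plus.localizerMorphism_derives
      (H.mapHomotopyCategoryPlus ⋙ DerivedCategory.Plus.Qh)).isRightDerivedFunctor_of_isIso _ ?_
    intro K
    have hK : ∀ n : ℤ, Injective
        ((F.mapHomotopyCategoryPlus.obj
          ((HomotopyCategory.Plus.localizerMorphism A).functor.obj K)).obj.as.X n) := fun n =>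
      inferInstanceAs (Injective (F.obj ((InjectiveObject.ι A).obj (K.obj.as.X n))))
    have h2 : IsIso (G.rightDerivedFunctorPlusUnit.app (F.mapHomotopyCategoryPlus.obj
      ((HomotopyCategory.Plus.localizerMorphism A).functor.obj K))) := inferInstance
    have h3 : IsIso (F.rightDerivedFunctorPlusUnit.app
      ((HomotopyCategory.Plus.localizerMorphism A).functor.obj K)) := inferInstance
    simp only [EtSix.rPlusUnit₂, NatTrans.comp_app, Functor.whiskerRight_app,
      Functor.whiskerLeft_app, Functor.associator_hom_app, Functor.associator_inv_app]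
    infer_instance
  dsimp only [EtSix.rPlusDesc₂]
  exact (Functor.isRightDerivedFunctor_iff_isIso_rightDerivedDesc _ _ _ _ _).1 hder

end Groth.Agent.Lib.Helper99.PlusComp
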