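import Mathlib

/-!
# Truncation triangles in the derived category and cohomology (helper99)
-/

set_option autoImplicit false
universe v u
open CategoryTheory Limits Pretriangulated

attribute [local instance] HasDerivedCategory.standard

namespace Groth.Agent.Lib.Helper99.SCoh

open DerivedCategory

variable {C : Type u} [Category.{v} C] [Abelian C]

theorem isIso_homologyMap_mor₁ (T : Triangle (DerivedCategory C)) (hT : T ∈ distTriang _) (n : ℤ)
    (h0 : IsZero ((homologyFunctor C (n - 1)).obj T.obj₃))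
    (h1 : IsZero ((homologyFunctor C n).obj T.obj₃)) :
    IsIso ((homologyFunctor C n).map T.mor₁) := by
  haveI : Mono ((homologyFunctor C n).map T.mor₁) :=
    (HomologySequence.mono_homologyMap_mor₁_iff T hT (n - 1) n (by omega)).2 (h0.eq_of_src _ _)
  haveI : Epi ((homologyFunctor C n).map T.mor₁) :=
    (HomologySequence.epi_homologyMap_mor₁_iff T hT n).2 (h1.eq_of_tgt _ _)
  exact isIso_of_mono_of_epi _

theorem isIso_homologyMap_mor₂ (T : Triangle (DerivedCategory C)) (hT : T ∈ distTriang _) (n : ℤ)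
    (h0 : IsZero ((homologyFunctor C n).obj T.obj₁))
    (h1 : IsZero ((homologyFunctor C (n + 1)).obj T.obj₁)) :
    IsIso ((homologyFunctor C n).map T.mor₂) := by
  haveI : Mono ((homologyFunctor C n).map T.mor₂) :=
    (HomologySequence.mono_homologyMap_mor₂_iff T hT n).2 (h0.eq_of_src _ _)
  haveI : Epi ((homologyFunctor C n).map T.mor₂) :=
    (HomologySequence.epi_homologyMap_mor₂_iff T hT n (n + 1) rfl).2 (h1.eq_of_tgt _ _)
  exact isIso_of_mono_of_epi _

/-- the truncation triangle `τ_{≤ n} K → K → τ_{≥ n+1} K` with its cohomological properties -/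
theorem exists_truncation_triangle (K : DerivedCategory C) (n : ℤ) :
    ∃ (A B : DerivedCategory C) (f : A ⟶ K) (g : K ⟶ B) (h : B ⟶ A⟦(1 : ℤ)⟧),
      Triangle.mk f g h ∈ distTriang _ ∧ A.IsLE n ∧ B.IsGE (n + 1) ∧
      (∀ i : ℤ, i ≤ n → IsIso ((homologyFunctor C i).map f)) ∧
      (∀ i : ℤ, n + 1 ≤ i → IsIso ((homologyFunctor C i).map g)) := by
  obtain ⟨A, B, hA, hB, f, g, h, hT⟩ := TStructure.t.exists_triangle K n (n + 1) rfl
  haveI : A.IsLE n := ⟨hA⟩
  haveI : B.IsGE (n + 1) := ⟨hB⟩
  refine ⟨A, B, f, g, h, hT, inferInstance, inferInstance, fun i hi => ?_, fun i hi => ?_⟩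
  · exact isIso_homologyMap_mor₁ _ hT i (B.isZero_of_isGE (n + 1) (i - 1) (by omega))
      (B.isZero_of_isGE (n + 1) i (by omega))
  · exact isIso_homologyMap_mor₂ _ hT i (A.isZero_of_isLE n i (by omega))
      (A.isZero_of_isLE n (i + 1) (by omega))

/-- an object concentrated in one degree is a shifted single object on its cohomology -/
theorem exists_iso_single_homology (B : DerivedCategory C) (n : ℤ) [B.IsGE n] [B.IsLE n] :
    Nonempty (B ≅ ((singleFunctor C 0).obj ((homologyFunctor C n).obj B))⟦-n⟧) := by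
  obtain ⟨Y, ⟨e⟩⟩ := exists_iso_singleFunctor_obj_of_isGE_of_isLE B n
  have e1 : (homologyFunctor C n).obj B ≅ Y :=
    (homologyFunctor C n).mapIso e ≪≫ (singleFunctorCompHomologyFunctorIso C n).app Y
  exact ⟨e ≪≫ (singleFunctor C n).mapIso e1.symm ≪≫
    (((singleFunctors C).shiftIso (-n) n 0 (by omega)).app _).symm⟩

end Groth.Agent.Lib.Helper99.SCoh
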