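import Mathlib
import Groth.Agent.Lib.Helper99.SPerf10

/-!
# A single module as a pseudo-coherent object (helper99): S6518
-/

set_option autoImplicit false
universe u
open CategoryTheory Limits AlgebraicGeometry Opposite TopologicalSpace Pretriangulated ZeroObject

attribute [local instance] HasDerivedCategory.standard

namespace Groth.Agent.Lib.Helper99.SPerf

open Scheme.Modules CochainComplex HomologicalComplex Groth.Agent.Lib.QCoh Groth.Agent.Lib.QCoh.Lift74

section Abstract

variable {C : Type*} [Category C] [Abelian C] [HasDerivedCategory C]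

theorem isZero_homology_single (M : C) (i : ℤ) (hi : i ≠ 0) :
    IsZero ((DerivedCategory.homologyFunctor C i).obj ((DerivedCategory.singleFunctor C 0).obj M)) := by
  rcases lt_or_gt_of_ne hi with h | h
  · exact DerivedCategory.isZero_of_isGE _ 0 i h
  · exact DerivedCategory.isZero_of_isLE _ 0 i h

/-- `Cond 0` for the image of an epimorphism under `singleFunctor 0` -/
theorem Cond.single_of_epi {M N : C} (π : M ⟶ N) [Epi π] :
    Cond 0 ((DerivedCategory.singleFunctor C 0).map π) := by
  refine ⟨fun i hi => ?_, ?_⟩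
  · have h1 := isZero_homology_single M i (by omega)
    have h2 := isZero_homology_single N i (by omega)
    exact ⟨⟨0, h1.eq_of_src _ _, h2.eq_of_src _ _⟩⟩
  · have e := (DerivedCategory.singleFunctorCompHomologyFunctorIso C 0).hom.naturality π
    dsimp only [Functor.comp_map, Functor.id_map] at e
    have : (DerivedCategory.homologyFunctor C 0).map ((DerivedCategory.singleFunctor C 0).map π) =
        (DerivedCategory.singleFunctorCompHomologyFunctorIso C 0).hom.app M ≫ π ≫
          (DerivedCategory.singleFunctorCompHomologyFunctorIso C 0).inv.app N := by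
      rw [← Category.assoc, ← e, Category.assoc, Iso.hom_inv_id_app, Category.comp_id]
    rw [this]
    infer_instance

end Abstract

variable {X : Scheme.{u}}

theorem isStrictlyPerfect_single {M : X.Modules} (hM : FlatMod.IsFinLocFree M) :
    DCoh.IsStrictlyPerfect ((CochainComplex.singleFunctor X.Modules 0).obj M) := by
  refine ⟨⟨0, 0, fun i hi => ?_⟩, fun i => ?_⟩
  · exact HomologicalComplex.isZero_single_obj_X _ _ _ _ (by omega)
  · by_cases hi : i = 0
    · subst hi
      exact isFinLocFree_of_iso (HomologicalComplex.singleObjXSelf (ComplexShape.up ℤ) 0 M).symm hM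
    · exact isFinLocFree_of_isZero (HomologicalComplex.isZero_single_obj_X _ _ _ _ hi)

theorem isFinLocFree_free (X : Scheme.{u}) (I : Type u) [Finite I] :
    FlatMod.IsFinLocFree (X := X) (SheafOfModules.free (R := X.ringCatSheaf) I) := by
  obtain ⟨n, ⟨e⟩⟩ := Finite.exists_equiv_fin I
  have e' : I ≃ ULift.{u} (Fin n) := e.trans Equiv.ulift.symm
  exact isFinLocFree_of_iso
    ((freeModIsoFree X n) ≪≫ (SheafOfModules.freeFunctor (R := X.ringCatSheaf)).mapIso
      (Equiv.toIso e').symm)
    (isFinLocFree_freeMod X n)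



/-- a module with finitely many global generators is `0`-pseudo-coherent, witnessed globally -/
theorem exists_cond_single_of_generatingSections (N : X.Modules) (G : N.GeneratingSections)
    [hG : G.IsFiniteType] :
    ∃ (E : CochainComplex X.Modules ℤ) (α : DerivedCategory.Q.obj E ⟶ DCoh.inD X N),
      DCoh.IsStrictlyPerfect E ∧ Cond 0 α := by
  have : Finite G.I := hG.finite
  have : Epi G.π := G.epi
  refine ⟨(CochainComplex.singleFunctor X.Modules 0).obj (SheafOfModules.free G.I),
    (DerivedCategory.singleFunctorIsoCompQ X.Modules 0).inv.app (SheafOfModules.free G.I) ≫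
      (DerivedCategory.singleFunctor X.Modules 0).map G.π,
    isStrictlyPerfect_single (isFinLocFree_free X G.I), ?_⟩
  exact Cond.comp (Cond.of_isIso _) (Cond.single_of_epi G.π)

theorem isPseudoCoherentD_single_of_isFiniteType (F : X.Modules) [hF : F.IsFiniteType] :
    DCoh.IsPseudoCoherentD 0 (DCoh.inD X F) := by
  rw [isPseudoCoherentD_iff]
  intro x
  obtain ⟨ι, U, hU, hG⟩ := (isFiniteType_iff_exists_isOpenCover F).1 hF
  have hx : x ∈ (⨆ i, U i : X.Opens) := by rw [hU.iSup_eq_top]; trivial
  obtain ⟨i, hi⟩ := Opens.mem_iSup.1 hx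
  obtain ⟨G, hG'⟩ := hG i
  obtain ⟨E, α, hE, hα⟩ := exists_cond_single_of_generatingSections _ G
  exact ⟨U i, hi, E,
    α ≫ ((restrictFunctor (U i).ι).mapDerivedCategorySingleFunctor 0).inv.app F, hE,
    Cond.comp hα (Cond.of_isIso _)⟩



theorem isFiniteType_of_isPseudoCoherentD_single (F : X.Modules)
    (h : DCoh.IsPseudoCoherentD 0 (DCoh.inD X F)) : F.IsFiniteType := by
  have := isFiniteType_HD_of_isPseudoCoherentD 0 _ h
    (fun i hi => isZero_homology_single F i (by omega))
  exact @isFiniteType_of_iso _ _ _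
    ((DerivedCategory.singleFunctorCompHomologyFunctorIso X.Modules 0).app F) this

theorem isFinitePresentation_of_isPseudoCoherentD_single (F : X.Modules)
    (h : DCoh.IsPseudoCoherentD (-1) (DCoh.inD X F)) : F.IsFinitePresentation := by
  have h1 := isFinitePresentation_HD_of_isPseudoCoherentD (-1) _ h
    (fun i hi => isZero_homology_single F i (by omega))
  have e : DCoh.HD (DCoh.inD X F) (-1 + 1) ≅ F :=
    (DerivedCategory.singleFunctorCompHomologyFunctorIso X.Modules 0).app F
  exact (SheafOfModules.isFinitePresentation X.ringCatSheaf).prop_of_iso e h1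

theorem isPseudoCoherentD_Q_of_isStrictlyPerfect {E : CochainComplex X.Modules ℤ}
    (hE : DCoh.IsStrictlyPerfect E) (m : ℤ) : DCoh.IsPseudoCoherentD m (DerivedCategory.Q.obj E) := by
  rw [isPseudoCoherentD_iff]
  intro x
  exact ⟨⊤, trivial, (restrCx (⊤ : X.Opens).ι).obj E, (restrictDQIso _ E).inv,
    isStrictlyPerfect_restrict _ hE, Cond.of_isIso _⟩

theorem isPseudoCoherentD_of_iso {m : ℤ} {K K' : DCoh.D X} (e : K ≅ K')
    (h : DCoh.IsPseudoCoherentD m K) : DCoh.IsPseudoCoherentD m K' := by
  rw [isPseudoCoherentD_iff_pcAt] at h ⊢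
  exact fun x => (h x).of_iso e

theorem isPseudoCoherentD_single_of_presentation (N : X.Modules) (P : N.Presentation)
    [hP : P.IsFinite] : DCoh.IsPseudoCoherentD (-1) (DCoh.inD X N) := by
  have hg : P.generators.IsFiniteType := hP.isFiniteType_generators
  have hr : P.relations.IsFiniteType := hP.isFiniteType_relations
  have : Finite P.generators.I := hg.finite
  let π : (SheafOfModules.free P.generators.I : X.Modules) ⟶ N := P.generators.π
  have : Epi π := P.generators.epi
  have hK : (kernel π).IsFiniteType :=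
    @isFiniteType_of_generatingSections _ _ P.relations hr
  let S : ShortComplex X.Modules :=
    ShortComplex.mk (kernel.ι π) π (kernel.condition π)
  have hS : S.ShortExact :=
    { exact := ShortComplex.exact_of_f_is_kernel S (kernelIsKernel π)
      mono_f := inferInstanceAs (Mono (kernel.ι π))
      epi_g := inferInstanceAs (Epi π) }
  have h1 : DCoh.IsPseudoCoherentD (-1 + 1) hS.singleTriangle.obj₁ :=
    @isPseudoCoherentD_single_of_isFiniteType _ (kernel π) hK
  have h2 : DCoh.IsPseudoCoherentD (-1) hS.singleTriangle.obj₂ :=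
    isPseudoCoherentD_Q_of_isStrictlyPerfect
      (isStrictlyPerfect_single (isFinLocFree_free X P.generators.I)) (-1)
  exact isPseudoCoherentD_obj₃ (-1) hS.singleTriangle hS.singleTriangle_distinguished h1 h2

theorem isPseudoCoherentD_single_of_isFinitePresentation (F : X.Modules)
    [hF : F.IsFinitePresentation] : DCoh.IsPseudoCoherentD (-1) (DCoh.inD X F) := by
  rw [isPseudoCoherentD_iff_pcAt]
  intro x
  obtain ⟨ι, U, hU, hG⟩ := (isFinitePresentation_iff_exists_isOpenCover F).1 hF
  have hx : x ∈ (⨆ i, U i : X.Opens) := by rw [hU.iSup_eq_top]; trivial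
  obtain ⟨i, hi⟩ := Opens.mem_iSup.1 hx
  obtain ⟨P, hP⟩ := hG i
  have h1 := isPseudoCoherentD_single_of_presentation _ P
  have h2 : DCoh.IsPseudoCoherentD (-1) ((DCoh.restrictD (U i).ι).obj (DCoh.inD X F)) :=
    isPseudoCoherentD_of_iso
      (((restrictFunctor (U i).ι).mapDerivedCategorySingleFunctor 0).app F).symm h1
  rw [isPseudoCoherentD_iff] at h2
  obtain ⟨V', hxV', hV'⟩ := h2 ⟨x, hi⟩
  exact (isLocalProp_pc (-1) (DCoh.inD X F)).of_two_step (U i) V' x hi hxV' hV'


end Groth.Agent.Lib.Helper99.SPerf
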