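import Mathlib
import Groth.Agent.Lib.Helper99.SCoh1
import Groth.Agent.Lib.Helper99.SPerf15d
import Groth.Agent.Lib.Helper99.SPerf13
import Groth.Agent.Lib.Helper99.SPerf12
import Groth.Agent.Lib.Helper99.SStalk6
import Groth.Agent.Lib.QCoh.Helper74_FittGen
import Groth.Agent.Lib.QCoh.CohKernel
import Groth.Agent.Lib.QCoh.AffineOpen
import Groth.Agent.Lib.QCoh.FiniteType
import Groth.Agent.Lib.QCoh.Helper50_Products

/-!
# Pseudo-coherence on Noetherian schemes via coherent cohomology (helper99): S1039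
-/

set_option autoImplicit false
universe u
open CategoryTheory Limits AlgebraicGeometry Opposite TopologicalSpace Pretriangulated

attribute [local instance] HasDerivedCategory.standard

namespace Groth.Agent.Lib.Helper99.SCoh

open Scheme.Modules Groth.Agent.Lib.Helper99.SPerf Groth.Agent.Lib.QCoh

variable {X : Scheme.{u}}

theorem isPseudoCoherentD_of_locally (m : ℤ) (K : DCoh.D X)
    (h : ∀ x : X, ∃ V : X.Opens, x ∈ V ∧ DCoh.IsPseudoCoherentD m ((DCoh.restrictD V.ι).obj K)) :
    DCoh.IsPseudoCoherentD m K := by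
  rw [isPseudoCoherentD_iff]
  intro x
  obtain ⟨V, hxV, hV⟩ := h x
  rw [isPseudoCoherentD_iff] at hV
  obtain ⟨V', hxV', hV'⟩ := hV ⟨x, hxV⟩
  exact (isLocalProp_pc m K).of_two_step V V' x hxV hxV' hV'

theorem isCoh_freeMod (Y : Scheme.{u}) (k : ℕ) : Coh.IsCoh (FlatMod.freeMod Y k) :=
  ⟨isQuasicoherent_of_isFinLocFree (isFinLocFree_freeMod Y k),
    isFiniteType_of_isFinLocFree (isFinLocFree_freeMod Y k)⟩

theorem isCoh_restrict {M : X.Modules} (hM : Coh.IsCoh M) (V : X.Opens) :
    Coh.IsCoh (M.restrict V.ι) := by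
  haveI := hM.1
  haveI := hM.2
  exact ⟨isQuasicoherent_restrict V.ι M, isFiniteType_restrict V.ι M⟩

theorem isPseudoCoherentD_inD_freeMod (Y : Scheme.{u}) (k : ℕ) (m : ℤ) :
    DCoh.IsPseudoCoherentD m (DCoh.inD Y (FlatMod.freeMod Y k)) :=
  isPseudoCoherentD_of_iso
    ((DerivedCategory.singleFunctorIsoCompQ Y.Modules 0).app (FlatMod.freeMod Y k)).symm
    (isPseudoCoherentD_Q_of_isStrictlyPerfect
      (isStrictlyPerfect_single (isFinLocFree_freeMod Y k)) m)

/-- a coherent module on a locally Noetherian scheme is pseudo-coherent, step `-n` -/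
theorem isPseudoCoherentD_single_of_isCoh_aux (n : ℕ) :
    ∀ (Y : Scheme.{u}) [IsLocallyNoetherian Y] (M : Y.Modules), Coh.IsCoh M →
      DCoh.IsPseudoCoherentD (-(n : ℤ)) (DCoh.inD Y M) := by
  induction n with
  | zero =>
    intro Y _ M hM
    haveI := hM.2
    simpa using isPseudoCoherentD_single_of_isFiniteType M
  | succ n ih =>
    intro Y _ M hM
    apply isPseudoCoherentD_of_locally
    intro y
    obtain ⟨W, hW, hyW⟩ : ∃ W : Y.Opens, IsAffineOpen W ∧ y ∈ W := by
      obtain ⟨_, ⟨W, hW, rfl⟩, hyW, -⟩ :=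
        Y.isBasis_affineOpens.exists_subset_of_mem_open (Set.mem_univ y) isOpen_univ
      exact ⟨W, hW, hyW⟩
    refine ⟨W, hyW, ?_⟩
    haveI := hM.1
    haveI := hM.2
    have hfin : Module.Finite Γ(Y, W) Γ(M, W) := finite_Γ_of_isAffineOpen hW M
    obtain ⟨k, t, ht⟩ := Module.Finite.exists_fin (R := Γ(Y, W)) (M := Γ(M, W))
    obtain ⟨π, hπ⟩ := FittSheaf74.exists_epi_of_span M hW t ht
    let S : ShortComplex (W : Scheme.{u}).Modules :=
      ShortComplex.mk (kernel.ι π) π (kernel.condition π)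
    have hS : S.ShortExact :=
      { exact := ShortComplex.exact_of_f_is_kernel _ (kernelIsKernel π)
        mono_f := inferInstanceAs (Mono (kernel.ι π))
        epi_g := hπ }
    have hN : Coh.IsCoh (kernel π) :=
      isCoh_kernel (isCoh_freeMod _ k) (isCoh_restrict hM W) π
    have h1 : DCoh.IsPseudoCoherentD (-((n + 1 : ℕ) : ℤ) + 1) (DCoh.inD _ (kernel π)) := by
      have : (-((n + 1 : ℕ) : ℤ) + 1) = -(n : ℤ) := by push_cast; ring
      rw [this]
      exact ih _ _ hN
    have h2 := (isPseudoCoherent_triangle (-((n + 1 : ℕ) : ℤ)) _ hS.singleTriangle_distinguished).1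
      h1 (isPseudoCoherentD_inD_freeMod _ k _)
    exact isPseudoCoherentD_of_iso
      (((restrictFunctor W.ι).mapDerivedCategorySingleFunctor 0).app M).symm h2

theorem isPseudoCoherentD_single_of_isCoh [IsLocallyNoetherian X] (M : X.Modules)
    (hM : Coh.IsCoh M) (j : ℤ) : DCoh.IsPseudoCoherentD j (DCoh.inD X M) := by
  have h := isPseudoCoherentD_single_of_isCoh_aux (-j).toNat X M hM
  rw [isPseudoCoherentD_iff_pcAt] at h ⊢
  exact fun x => (h x).mono (by omega)

end Groth.Agent.Lib.Helper99.SCoh
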