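import Mathlib
import Groth.Agent.Lib.Helper99.SPush1
import Groth.Agent.Lib.Helper22.QCohLoc
import Groth.Agent.Lib.QCoh.Helper66_LocCrit

/-!
# Direct image along a closed immersion of affine schemes reflects quasi-coherence (helper99)
-/

set_option autoImplicit false
universe u
open CategoryTheory Limits AlgebraicGeometry Opposite TopologicalSpace

namespace Groth.Agent.Lib.Helper99.SPush

open Groth.Agent.Lib.Helper22 Groth.Agent.Lib.QCoh

variable {Z A : Scheme.{u}}

theorem isQuasicoherent_of_pushforward (c : Z ⟶ A) [IsAffine Z] [IsAffine A]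
    [IsClosedImmersion c] (M : Z.Modules)
    [h : ((Scheme.Modules.pushforward c).obj M).IsQuasicoherent] : M.IsQuasicoherent := by
  have hsur : Function.Surjective c.appTop :=
    (IsClosedImmersion.isAffine_surjective_of_isAffine c).2
  refine LocCrit.isQuasicoherent_of_elementwise M (fun _ : PUnit.{u + 1} => (⊤ : Z.Opens)) ?_
    (fun _ => isAffineOpen_top Z) ?_ ?_
  · rw [IsOpenCover, ← top_le_iff]
    exact le_iSup (fun _ : PUnit.{u + 1} => (⊤ : Z.Opens)) PUnit.unit
  · intro _ g y
    obtain ⟨r, rfl⟩ := hsur g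
    have key : ∀ (V' : Z.Opens) (_ : c ⁻¹ᵁ A.basicOpen r = V') (hle : V' ≤ ⊤) (y : Γ(M, V')),
        ∃ (n : ℕ) (x : Γ(M, ⊤)), M.presheaf.map (homOfLE hle).op x =
          (Z.presheaf.map (homOfLE hle).op (c.appTop r)) ^ n • y := by
      rintro _ rfl hle y
      obtain ⟨n, x, hx⟩ := exists_pow_smul_eq_map_of_isAffineOpen
        ((Scheme.Modules.pushforward c).obj M) (isAffineOpen_top A) r y
      refine ⟨n, x, ?_⟩
      have h1 : M.presheaf.map (homOfLE hle).op x =
          ((c.app (A.basicOpen r)).hom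
            ((A.presheaf.map (homOfLE (A.basicOpen_le r)).op r) ^ n) •
            (y : Γ(M, c ⁻¹ᵁ A.basicOpen r)) : Γ(M, c ⁻¹ᵁ A.basicOpen r)) := hx
      rw [h1, map_pow]
      congr 2
      exact congr($(c.naturality (homOfLE (A.basicOpen_le r)).op) r)
    exact key (Z.basicOpen (c.appTop r)) (Scheme.preimage_basicOpen_top c r) _ y
  · intro _ g x hx
    obtain ⟨r, rfl⟩ := hsur g
    have key : ∀ (V' : Z.Opens) (_ : c ⁻¹ᵁ A.basicOpen r = V') (hle : V' ≤ ⊤),
        M.presheaf.map (homOfLE hle).op x = 0 → ∃ n : ℕ, (c.appTop r) ^ n • x = 0 := by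
      rintro _ rfl hle hx
      obtain ⟨n, hn⟩ := exists_pow_smul_eq_zero_of_isAffineOpen
        ((Scheme.Modules.pushforward c).obj M) (isAffineOpen_top A) r x hx
      refine ⟨n, ?_⟩
      have h1 : (c.appTop.hom (r ^ n) • x : Γ(M, ⊤)) = 0 := hn
      rw [map_pow] at h1
      exact h1
    exact key (Z.basicOpen (c.appTop r)) (Scheme.preimage_basicOpen_top c r) _ hx

end Groth.Agent.Lib.Helper99.SPush
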