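import Mathlib
import Groth.Agent.Lib.Helper99.SPush2
import Groth.Agent.Lib.Helper99.SPerf11

/-!
# Relative pseudo-coherence implies quasi-coherent cohomology (helper99)
-/

set_option autoImplicit false
universe u
open CategoryTheory Limits AlgebraicGeometry Opposite TopologicalSpace

attribute [local instance] HasDerivedCategory.standard

namespace Groth.Agent.Lib.Helper99.SPush

open DerSch Groth.Agent.Lib.Helper99.SPerf Groth.Agent.Lib.Helper99.SStalk Groth.Agent.Lib.QCoh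

variable {X Y : Scheme.{u}}

/-- **S7213** -/
theorem isQCoh_HD_of_isPseudoCoherentRel (f : X ⟶ Y) (m : ℤ) (E : DCoh.D X)
    (hE : IsPseudoCoherentRel f m E) (i : ℤ) (hi : m < i) : Coh.IsQCoh (DCoh.HD E i) := by
  obtain ⟨-, 𝒱, h𝒱, H⟩ := hE
  let G := (DerivedCategory.Q : _ ⥤ DCoh.D X).objPreimage E
  let e₀ : DCoh.toD X G ≅ E := DerivedCategory.Q.objObjPreimageIso E
  apply isQuasicoherent_of_locally
  intro x
  have hfx : f.base x ∈ (⨆ V ∈ 𝒱, (V : Y.Opens)) := by rw [h𝒱]; trivial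
  obtain ⟨V, hV⟩ := Opens.mem_iSup.1 hfx
  obtain ⟨hV𝒱, hfxV⟩ := Opens.mem_iSup.1 hV
  obtain ⟨𝒰, h𝒰, HU⟩ := H V hV𝒱
  have hx : x ∈ (⨆ U ∈ 𝒰, (U : X.Opens)) := by rw [h𝒰]; exact hfxV
  obtain ⟨U, hU⟩ := Opens.mem_iSup.1 hx
  obtain ⟨hU𝒰, hxU⟩ := Opens.mem_iSup.1 hU
  have hUV : (U : X.Opens) ≤ f ⁻¹ᵁ (V : Y.Opens) := by
    rw [← h𝒰]; exact le_iSup₂ (f := fun (U : X.affineOpens) (_ : U ∈ 𝒰) => (U : X.Opens)) U hU𝒰
  obtain ⟨n', φ, hchart, hPC⟩ := HU U hU𝒰 hUV
  haveI : IsClosedImmersion (chartImm (U : X.Opens) φ) :=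
    isClosedImmersion_chartImm (U : X.Opens) U.2 φ hchart.1
  haveI : IsAffine ((U : X.Opens) : Scheme.{u}) := U.2
  refine ⟨U, hxU, ?_⟩
  have h1 := isQuasicoherent_HD_of_isPseudoCoherentD m _ (hPC G ⟨e₀⟩) i hi
  have h2 : (((pushCx (chartImm (U : X.Opens) φ)).obj
      ((DCoh.restrictCx (U : X.Opens)).obj G)).homology i).IsQuasicoherent :=
    isQuasicoherent_of_iso (homologyQIso _ i) h1
  haveI h3 : ((Scheme.Modules.pushforward (chartImm (U : X.Opens) φ)).obj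
      (((DCoh.restrictCx (U : X.Opens)).obj G).homology i)).IsQuasicoherent :=
    isQuasicoherent_of_iso (pushCxHomologyIso (chartImm (U : X.Opens) φ)
      (chartImm (U : X.Opens) φ).isClosedEmbedding _ i) h2
  have h4 : (((DCoh.restrictCx (U : X.Opens)).obj G).homology i).IsQuasicoherent :=
    isQuasicoherent_of_pushforward (chartImm (U : X.Opens) φ) _
  exact isQuasicoherent_of_iso ((homologyRestrictDIso (U : X.Opens).ι E i).symm ≪≫
      (DerivedCategory.homologyFunctor _ i).mapIso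
        ((DCoh.restrictD (U : X.Opens).ι).mapIso e₀.symm ≪≫ restrictDQIso (U : X.Opens).ι G) ≪≫
      homologyQIso _ i).symm h4

/-- **S6235** -/
theorem isQCohD_of_isPseudoCoherentRelAll (f : X ⟶ Y) (E : DCoh.D X)
    (hE : IsPseudoCoherentRelAll f E) : DCoh.IsQCohD E :=
  fun i => isQCoh_HD_of_isPseudoCoherentRel f (i - 1) E (hE (i - 1)) i (by omega)

end Groth.Agent.Lib.Helper99.SPush
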