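import Mathlib
import Groth.Agent.Lib.Helper99.SPush3
import Groth.Agent.Lib.Helper99.SPerf15d
import Groth.Agent.Lib.Helper99.SPerf12
import Groth.Agent.Lib.Helper99.SPerf17b
import Groth.Agent.Lib.Helper99.SCoh2
import Groth.Agent.Lib.QCoh.Helper50_Pushforward
import Groth.Agent.Lib.QCoh.Helper74_LocFree
import Groth.Prelude.Def_CxOX

/-!
# Pseudo-coherence and closed immersions (helper99)

For a closed immersion `i : Z ⟶ X` with `i_* O_Z` pseudo-coherent, `E ∈ D(O_Z)` is `m`-pseudo-coherent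
iff `i_* E` is.  Part 1.
-/

set_option autoImplicit false
universe u
open CategoryTheory Limits AlgebraicGeometry Opposite TopologicalSpace Pretriangulated

attribute [local instance] HasDerivedCategory.standard

namespace Groth.Agent.Lib.Helper99.SClosed

open Groth.Agent.Lib.Helper99.SPerf Groth.Agent.Lib.Helper99.SPush
  Groth.Agent.Lib.Helper99.SStalk Groth.Agent.Lib.QCoh Groth.Agent.Lib.Helper20.PushStalk
  Scheme.Modules Groth.Agent.Lib.Helper99.SCoh

variable {Z X : Scheme.{u}}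


theorem pcAt_restrict_iff (m : ℤ) (K : DCoh.D X) (V : X.Opens) (x : X) (hx : x ∈ V) :
    PCAt m ((DCoh.restrictD V.ι).obj K) (⟨x, hx⟩ : (V : Scheme.{u})) ↔ PCAt m K x := by
  constructor
  · rintro ⟨V', hx', h⟩
    exact (isLocalProp_pc m K).of_two_step V V' x hx hx' h
  · rintro ⟨W, hxW, hW⟩
    exact ⟨V.ι ⁻¹ᵁ W, hxW, (isLocalProp_pc m K).restrict_open V W hW⟩

/-- derived direct image along a closed immersion -/
noncomputable abbrev FD (i : Z ⟶ X) [PreservesFiniteColimits (Scheme.Modules.pushforward i)] :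
    DCoh.D Z ⥤ DCoh.D X :=
  (Scheme.Modules.pushforward i).mapDerivedCategory

instance (i : Z ⟶ X) [IsClosedImmersion i] :
    PreservesFiniteColimits (Scheme.Modules.pushforward i) :=
  preservesFiniteColimits_pushforward i i.isClosedEmbedding

/-- base change of the derived direct image to an open of the target -/
noncomputable def bcIso (i : Z ⟶ X) [IsClosedImmersion i] (W : X.Opens) :
    FD i ⋙ DCoh.restrictD W.ι ≅ DCoh.restrictD (i ⁻¹ᵁ W).ι ⋙ FD (i ∣_ W) :=
  (mapDerivedCategoryIsoOfComp (Scheme.Modules.pushforward i)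
      (Scheme.Modules.restrictFunctor W.ι)
      (Scheme.Modules.pushforward i ⋙ Scheme.Modules.restrictFunctor W.ι) (Iso.refl _)).symm ≪≫
    mapDerivedCategoryIsoOfComp (Scheme.Modules.restrictFunctor (i ⁻¹ᵁ W).ι)
      (Scheme.Modules.pushforward (i ∣_ W))
      (Scheme.Modules.pushforward i ⋙ Scheme.Modules.restrictFunctor W.ι)
      (pushforwardRestrictIso i W)

theorem morphismRestrict_base_mk (i : Z ⟶ X) (W : X.Opens) (z : Z) (hz : i.base z ∈ W) :
    (i ∣_ W).base (⟨z, hz⟩ : (i ⁻¹ᵁ W : Scheme.{u})) = (⟨i.base z, hz⟩ : (W : Scheme.{u})) := by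
  apply Subtype.ext
  exact morphismRestrict_base_coe i W ⟨z, hz⟩

theorem loc_iff (i : Z ⟶ X) [IsClosedImmersion i] (E : DCoh.D Z) (m : ℤ) (W : X.Opens) (z : Z)
    (hz : i.base z ∈ W)
    (h : PCAt m ((DCoh.restrictD (i ⁻¹ᵁ W).ι).obj E) (⟨z, hz⟩ : (i ⁻¹ᵁ W : Scheme.{u})) ↔
      PCAt m ((FD (i ∣_ W)).obj ((DCoh.restrictD (i ⁻¹ᵁ W).ι).obj E))
        ((i ∣_ W).base (⟨z, hz⟩ : (i ⁻¹ᵁ W : Scheme.{u})))) :
    PCAt m E z ↔ PCAt m ((FD i).obj E) (i.base z) := by
  rw [← pcAt_restrict_iff m E (i ⁻¹ᵁ W) z hz, ← pcAt_restrict_iff m ((FD i).obj E) W (i.base z) hz,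
    h, morphismRestrict_base_mk]
  exact ⟨fun h' => h'.of_iso ((bcIso i W).app E).symm, fun h' => h'.of_iso ((bcIso i W).app E)⟩


/-- the hypothesis "`i_* O_Z` is pseudo-coherent" -/
def PushUnitPC (i : Z ⟶ X) : Prop :=
  ∀ m : ℤ, DCoh.IsPseudoCoherentD m
    (DCoh.inD X ((Scheme.Modules.pushforward i).obj (Coh.structureModule Z)))

theorem PushUnitPC.restrict {i : Z ⟶ X} (hO : PushUnitPC i) (W : X.Opens) :
    PushUnitPC (i ∣_ W) := by
  intro m
  have h1 := isPseudoCoherentD_restrict m _ W (hO m)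
  have e1 := ((Scheme.Modules.restrictFunctor W.ι).mapDerivedCategorySingleFunctor 0).app
    ((Scheme.Modules.pushforward i).obj (Coh.structureModule Z))
  have e2 : (Scheme.Modules.restrictFunctor W.ι).obj
      ((Scheme.Modules.pushforward i).obj (Coh.structureModule Z)) ≅
      (Scheme.Modules.pushforward (i ∣_ W)).obj (Coh.structureModule (i ⁻¹ᵁ W : Scheme.{u})) :=
    (pushforwardRestrictIso i W).app _ ≪≫
      (Scheme.Modules.pushforward (i ∣_ W)).mapIso (Scheme.Modules.restrictUnitIso _)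
  exact isPseudoCoherentD_of_iso (e1 ≪≫ (DerivedCategory.singleFunctor _ 0).mapIso e2) h1


theorem isZero_of_isZero_push (i : Z ⟶ X) (hi : Topology.IsInducing i) (M : Z.Modules)
    (h : IsZero ((Scheme.Modules.pushforward i).obj M)) : IsZero M := by
  apply isZero_of_forall_stalk_subsingleton
  intro z
  haveI : Subsingleton (((Scheme.Modules.pushforward i).obj M).presheaf.stalk (i z)) :=
    (isZero_iff_forall_stalk_subsingleton _).1 h (i z)
  exact (pushStalk_bijective i hi M z).surjective.subsingleton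

theorem epi_of_epi_push (i : Z ⟶ X) (hi : Topology.IsInducing i) {M N : Z.Modules} (g : M ⟶ N)
    [Epi ((Scheme.Modules.pushforward i).map g)] : Epi g := by
  apply epi_of_forall_stalkMap_surjective
  intro z n
  obtain ⟨n', rfl⟩ := (pushStalk_bijective i hi N z).surjective n
  obtain ⟨m', rfl⟩ := stalkMap_surjective_of_epi ((Scheme.Modules.pushforward i).map g) (i z) n'
  exact ⟨pushStalk i M z m', (pushStalk_naturality i g z m').symm⟩

/-- generators of `M` from generators of `i_* M` -/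
theorem exists_epi_freeMod_of_push (i : Z ⟶ X) (hi : Topology.IsInducing i) (M : Z.Modules) (n : ℕ)
    (π : FlatMod.freeMod X n ⟶ (Scheme.Modules.pushforward i).obj M) [Epi π] :
    ∃ ψ : FlatMod.freeMod Z n ⟶ M, Epi ψ := by
  let adj := Scheme.Modules.pullbackPushforwardAdjunction i
  let π' : (Scheme.Modules.pullback i).obj (FlatMod.freeMod X n) ⟶ M := (adj.homEquiv _ _).symm π
  have hπ : π = adj.unit.app _ ≫ (Scheme.Modules.pushforward i).map π' := by
    have := adj.homEquiv_unit (f := π')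
    rw [← this]
    simp [π']
  haveI : Epi ((Scheme.Modules.pushforward i).map π') := by
    have : Epi (adj.unit.app _ ≫ (Scheme.Modules.pushforward i).map π') := by rw [← hπ]; infer_instance
    exact epi_of_epi (adj.unit.app _) _
  haveI : Epi π' := epi_of_epi_push i hi π'
  exact ⟨(pullbackFreeModIso i n).inv ≫ π', inferInstance⟩

theorem exists_epi_freeMod_of_generatingSections {Y : Scheme.{u}} (N : Y.Modules)
    (G : N.GeneratingSections) [hG : G.IsFiniteType] :
    ∃ (n : ℕ) (π : FlatMod.freeMod Y n ⟶ N), Epi π := by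
  have : Finite G.I := hG.finite
  haveI hGe : Epi G.π := G.epi
  obtain ⟨n, ⟨e⟩⟩ := Finite.exists_equiv_fin G.I
  have e' : G.I ≃ ULift.{u} (Fin n) := e.trans Equiv.ulift.symm
  exact ⟨n, ((freeModIsoFree Y n) ≪≫ (SheafOfModules.freeFunctor (R := Y.ringCatSheaf)).mapIso
      (Equiv.toIso e').symm).hom ≫ G.π, by
        exact @epi_comp _ _ _ _ _ _ inferInstance _ hGe⟩

/-- `M` is generated near `z` by finitely many sections over an open of the form `i⁻¹ W` -/
def LocGen (i : Z ⟶ X) (M : Z.Modules) (z : Z) : Prop :=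
  ∃ (W : X.Opens) (_ : i.base z ∈ W) (n : ℕ)
    (ψ : FlatMod.freeMod (i ⁻¹ᵁ W : Scheme.{u}) n ⟶ M.restrict (i ⁻¹ᵁ W).ι), Epi ψ

theorem exists_opens_preimage_le (i : Z ⟶ X) [IsClosedImmersion i] (V : Z.Opens) (z : Z)
    (hz : z ∈ V) : ∃ W : X.Opens, i.base z ∈ W ∧ i ⁻¹ᵁ W ≤ V := by
  obtain ⟨W, hW, hWV⟩ := i.isClosedEmbedding.isInducing.isOpen_iff.1 V.2
  refine ⟨⟨W, hW⟩, ?_, ?_⟩
  · show z ∈ i.base ⁻¹' W
    rw [hWV]; exact hz
  · intro y hy
    have : y ∈ i.base ⁻¹' W := hy
    rw [hWV] at this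
    exact this

theorem locGen_of_isFiniteType (i : Z ⟶ X) [IsClosedImmersion i] (M : Z.Modules)
    [hM : M.IsFiniteType] (z : Z) : LocGen i M z := by
  obtain ⟨ι, U, hU, hG⟩ := (isFiniteType_iff_exists_isOpenCover M).1 hM
  have hx : z ∈ (⨆ k, U k : Z.Opens) := by rw [hU.iSup_eq_top]; trivial
  obtain ⟨k, hk⟩ := Opens.mem_iSup.1 hx
  obtain ⟨G, hG'⟩ := hG k
  obtain ⟨n, π, hπ⟩ := exists_epi_freeMod_of_generatingSections _ G
  obtain ⟨W, hzW, hWV⟩ := exists_opens_preimage_le i (U k) z hk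
  refine ⟨W, hzW, n, (restrictFreeModIso (Z.homOfLE hWV) n).inv ≫
    (restrictFunctor (Z.homOfLE hWV)).map π ≫
      (((restrictFunctorComp (Z.homOfLE hWV) (U k).ι).app M).symm ≪≫
        (restrictFunctorCongr (Z.homOfLE_ι hWV)).app M).hom, ?_⟩
  haveI : Epi ((restrictFunctor (Z.homOfLE hWV)).map π) := inferInstance
  infer_instance

theorem locGen_of_isFiniteType_push (i : Z ⟶ X) [IsClosedImmersion i] (M : Z.Modules)
    [hM : ((Scheme.Modules.pushforward i).obj M).IsFiniteType] (z : Z) : LocGen i M z := by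
  obtain ⟨ι, U, hU, hG⟩ := (isFiniteType_iff_exists_isOpenCover _).1 hM
  have hx : i.base z ∈ (⨆ k, U k : X.Opens) := by rw [hU.iSup_eq_top]; trivial
  obtain ⟨k, hk⟩ := Opens.mem_iSup.1 hx
  obtain ⟨G, hG'⟩ := hG k
  obtain ⟨n, π, hπ⟩ := exists_epi_freeMod_of_generatingSections _ G
  obtain ⟨ψ, hψ⟩ := exists_epi_freeMod_of_push (i ∣_ U k) (i ∣_ U k).isClosedEmbedding.isInducing
    (M.restrict (i ⁻¹ᵁ U k).ι) n (π ≫ ((pushforwardRestrictIso i (U k)).app M).hom)
  exact ⟨U k, hk, n, ψ, hψ⟩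


attribute [local instance] preservesBinaryBiproducts_of_preservesBiproducts

theorem isPseudoCoherentD_of_isZero' (m : ℤ) (K : DCoh.D X) (hK : IsZero K) :
    DCoh.IsPseudoCoherentD m K := by
  rw [isPseudoCoherentD_iff_pcAt]
  intro x
  exact pcAt_of_vanishing m K x ⊤ trivial (fun i _ =>
    (DerivedCategory.homologyFunctor _ i).map_isZero ((DCoh.restrictD _).map_isZero hK))

theorem isPseudoCoherentD_biprod (m : ℤ) (K L : DCoh.D X) [HasBinaryBiproduct K L]
    (hK : DCoh.IsPseudoCoherentD m K) (hL : DCoh.IsPseudoCoherentD m L) :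
    DCoh.IsPseudoCoherentD m (K ⊞ L) :=
  (isPseudoCoherent_triangle m (binaryBiproductTriangle K L)
    (binaryBiproductTriangle_distinguished K L)).2.1 hK hL

/-- finite coproducts of copies of a pseudo-coherent module are pseudo-coherent -/
theorem isPseudoCoherentD_inD_sigma_fin (N : X.Modules)
    (hN : ∀ m : ℤ, DCoh.IsPseudoCoherentD m (DCoh.inD X N)) (n : ℕ) (m : ℤ) :
    DCoh.IsPseudoCoherentD m (DCoh.inD X (∐ fun _ : Fin n => N)) := by
  induction n with
  | zero =>
    apply isPseudoCoherentD_of_isZero'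
    apply Functor.map_isZero
    have : IsInitial (∐ fun _ : Fin 0 => N) := by
      refine IsInitial.ofUniqueHom (fun Y => Limits.Sigma.desc (fun j => Fin.elim0 j)) (fun Y f => ?_)
      apply Limits.Sigma.hom_ext
      intro j
      exact Fin.elim0 j
    exact (isZero_zero _).of_iso (this.uniqueUpToIso (isZero_zero _).isInitial)
  | succ n ih =>
    let c₁ : Cofan (fun _ : Fin n => N) := Cofan.mk (∐ fun _ : Fin n => N) (Limits.Sigma.ι _)
    have t₁ : IsColimit c₁ := coproductIsCoproduct _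
    let c₂ : BinaryCofan N c₁.pt := BinaryBicone.toCocone (BinaryBiproduct.bicone N c₁.pt)
    have t₂ : IsColimit c₂ := BinaryBiproduct.isColimit N c₁.pt
    have t : IsColimit (extendCofan (f := fun _ : Fin (n + 1) => N) c₁ c₂) :=
      extendCofanIsColimit (fun _ : Fin (n + 1) => N) t₁ t₂
    let e : (∐ fun _ : Fin (n + 1) => N) ≅ N ⊞ (∐ fun _ : Fin n => N) :=
      (coproductIsCoproduct _).coconePointUniqueUpToIso t
    haveI : HasBinaryBiproduct ((DerivedCategory.singleFunctor X.Modules 0).obj N)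
        ((DerivedCategory.singleFunctor X.Modules 0).obj (∐ fun _ : Fin n => N)) :=
      Functor.hasBinaryBiproduct_of_preserves (DerivedCategory.singleFunctor X.Modules 0) _ _
    refine isPseudoCoherentD_of_iso ((DerivedCategory.singleFunctor X.Modules 0).mapIso e ≪≫
      (DerivedCategory.singleFunctor X.Modules 0).mapBiprod _ _).symm ?_
    exact isPseudoCoherentD_biprod m _ _ (hN m) ih

end Groth.Agent.Lib.Helper99.SClosed
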