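import Mathlib
import Groth.Agent.Lib.Helper99.SPush3
import Groth.Agent.Lib.Helper99.SPerf15d
import Groth.Agent.Lib.Helper99.SPerf12
import Groth.Agent.Lib.Helper99.SPerf17b
import Groth.Agent.Lib.Helper99.SCoh2
import Groth.Agent.Lib.QCoh.Helper50_Pushforward
import Groth.Agent.Lib.QCoh.Helper74_LocFree
import Groth.Prelude.Def_CxOX
import Groth.Agent.Lib.Helper99.SClosed1
/-!
# Pseudo-coherence and closed immersions (helper99)

For a closed immersion `i : Z ⟶ X` with `i_* O_Z` pseudo-coherent, `E ∈ D(O_Z)` is `m`-pseudo-coherent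
iff `i_* E` is.  Part 2.
-/

set_option autoImplicit false
universe u
open CategoryTheory Limits AlgebraicGeometry Opposite TopologicalSpace Pretriangulated

attribute [local instance] HasDerivedCategory.standard

namespace Groth.Agent.Lib.Helper99.SClosed

open Groth.Agent.Lib.Helper99.SPerf Groth.Agent.Lib.Helper99.SPush
  Groth.Agent.Lib.Helper99.SStalk Groth.Agent.Lib.QCoh Groth.Agent.Lib.Helper20.PushStalk
  Scheme.Modules Groth.Agent.Lib.Helper99.SCoh

variable {Z X : Scheme.{u}}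

/-- the shifted free module `O^n[-b]` -/
noncomputable abbrev freeSh (Z : Scheme.{u}) (n : ℕ) (b : ℤ) : DCoh.D Z :=
  (DCoh.inD Z (FlatMod.freeMod Z n))⟦-b⟧

theorem isPseudoCoherentD_freeSh (Z : Scheme.{u}) (n : ℕ) (b m : ℤ) :
    DCoh.IsPseudoCoherentD m (freeSh Z n b) :=
  isPseudoCoherentD_shift _ (-b) (m - b) m (by omega) (isPseudoCoherentD_inD_freeMod Z n (m - b))

theorem isPseudoCoherentD_FD_freeSh (i : Z ⟶ X) [IsClosedImmersion i] (hO : PushUnitPC i)
    (n : ℕ) (b m : ℤ) : DCoh.IsPseudoCoherentD m ((FD i).obj (freeSh Z n b)) := by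
  have e1 : (Scheme.Modules.pushforward i).obj (FlatMod.freeMod Z n) ≅
      ∐ fun _ : Fin n => (Scheme.Modules.pushforward i).obj (Coh.structureModule Z) :=
    PreservesCoproduct.iso (Scheme.Modules.pushforward i) _
  have h1 : DCoh.IsPseudoCoherentD (m - b)
      (DCoh.inD X ((Scheme.Modules.pushforward i).obj (FlatMod.freeMod Z n))) :=
    isPseudoCoherentD_of_iso ((DerivedCategory.singleFunctor _ 0).mapIso e1).symm
      (isPseudoCoherentD_inD_sigma_fin _ hO n (m - b))
  have h2 : DCoh.IsPseudoCoherentD (m - b) ((FD i).obj (DCoh.inD Z (FlatMod.freeMod Z n))) :=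
    isPseudoCoherentD_of_iso
      (((Scheme.Modules.pushforward i).mapDerivedCategorySingleFunctor 0).app _).symm h1
  exact isPseudoCoherentD_of_iso (((FD i).commShiftIso (-b)).app _).symm
    (isPseudoCoherentD_shift _ (-b) (m - b) m (by omega) h2)

theorem pcAt_shift {m : ℤ} {K : DCoh.D X} {x : X} (n m' : ℤ) (hm : m' + n = m)
    (h : PCAt m K x) : PCAt m' (K⟦n⟧) x := by
  obtain ⟨V, hx, hV⟩ := h
  exact ⟨V, hx, pcProp_shift K n m m' hm V.ι hV⟩

theorem pcAt_obj₂ (m : ℤ) (T : Triangle (DCoh.D X)) (hT : T ∈ distTriang _) (x : X)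
    (h₁ : PCAt m T.obj₁ x) (h₃ : PCAt m T.obj₃ x) : PCAt m T.obj₂ x :=
  pcAt_obj₃ m T.invRotate (inv_rot_of_distTriang _ hT) x
    (pcAt_shift (-1) (m + 1) (by omega) h₃) h₁

section Abstract

variable {C : Type*} [Category C] [Abelian C] [HasDerivedCategory C]

theorem isZero_homology_shift_single (M : C) (b j : ℤ) (hj : j ≠ b) :
    IsZero ((DerivedCategory.homologyFunctor C j).obj
      (((DerivedCategory.singleFunctor C 0).obj M)⟦-b⟧)) := by
  have e := ((DerivedCategory.homologyFunctor C 0).shiftIso (-b) j (-b + j) rfl).app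
    ((DerivedCategory.singleFunctor C 0).obj M)
  exact (isZero_homology_single M (-b + j) (by omega)).of_iso e

/-- the cone of a map from `M[-b]` which is onto on `H^b` is `≤ b - 1` when the target is `≤ b` -/
theorem isLE_cone (M : C) (b : ℤ) (T : Triangle (DerivedCategory C)) (hT : T ∈ distTriang _)
    (e₁ : T.obj₁ ≅ ((DerivedCategory.singleFunctor C 0).obj M)⟦-b⟧) [T.obj₂.IsLE b]
    (hσ : Epi ((DerivedCategory.homologyFunctor C b).map T.mor₁)) : T.obj₃.IsLE (b - 1) := by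
  rw [DerivedCategory.isLE_iff]
  intro j hj
  have hz : ∀ k : ℤ, k ≠ b → IsZero ((DerivedCategory.homologyFunctor C k).obj T.obj₁) :=
    fun k hk => (isZero_homology_shift_single M b k hk).of_iso
      ((DerivedCategory.homologyFunctor C k).mapIso e₁)
  apply isZero_homology_obj₃ T hT j
  · rcases eq_or_lt_of_le (show b ≤ j by omega) with rfl | hlt
    · exact hσ
    · exact ⟨fun g h _ => (DerivedCategory.isZero_of_isLE T.obj₂ b j hlt).eq_of_src g h⟩
  · exact ⟨fun g h _ => (hz (j + 1) (by omega)).eq_of_tgt g h⟩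

end Abstract

/-- the induction hypothesis -/
def IHyp (N : ℕ) : Prop :=
  ∀ {Z X : Scheme.{u}} (i : Z ⟶ X) [IsClosedImmersion i], PushUnitPC i →
    ∀ (E : DCoh.D Z) (b m : ℤ), E.IsLE b → b - m < N → ∀ z : Z,
      (PCAt m E z ↔ PCAt m ((FD i).obj E) (i.base z))

theorem tri_iff {N : ℕ} (IH : IHyp.{u} N) (i : Z ⟶ X) [IsClosedImmersion i] (hO : PushUnitPC i)
    (E : DCoh.D Z) (b m : ℤ) [E.IsLE b] (hbm : b - m < N + 1) (n : ℕ) (σ : freeSh Z n b ⟶ E)
    (hσ : Epi ((DerivedCategory.homologyFunctor _ b).map σ)) (z : Z) :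
    PCAt m E z ↔ PCAt m ((FD i).obj E) (i.base z) := by
  obtain ⟨E', g, h, hT⟩ := distinguished_cocone_triangle σ
  haveI : (Triangle.mk σ g h).obj₂.IsLE b := ‹E.IsLE b›
  have hE' : E'.IsLE (b - 1) :=
    isLE_cone (FlatMod.freeMod Z n) b (Triangle.mk σ g h) hT (Iso.refl _) hσ
  have ih := IH i hO E' (b - 1) m hE' (by omega) z
  have hL : ∀ k, PCAt k (freeSh Z n b) z := fun k =>
    (isPseudoCoherentD_iff_pcAt k _).1 (isPseudoCoherentD_freeSh Z n b k) z
  have hFL : ∀ k, PCAt k ((FD i).obj (freeSh Z n b)) (i.base z) := fun k =>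
    (isPseudoCoherentD_iff_pcAt k _).1 (isPseudoCoherentD_FD_freeSh i hO n b k) (i.base z)
  have hT' := (FD i).map_distinguished _ hT
  constructor
  · intro hE
    have h1 : PCAt m E' z := pcAt_obj₃ m _ hT z (hL (m + 1)) hE
    exact pcAt_obj₂ m _ hT' (i.base z) (hFL m) (ih.1 h1)
  · intro hE
    have h1 : PCAt m ((FD i).obj E') (i.base z) := pcAt_obj₃ m _ hT' _ (hFL (m + 1)) hE
    exact pcAt_obj₂ m _ hT z (hL m) (ih.2 h1)

theorem isLE_restrictD {U : Scheme.{u}} (k : U ⟶ X) [IsOpenImmersion k] (E : DCoh.D X) (b : ℤ)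
    [E.IsLE b] : ((DCoh.restrictD k).obj E).IsLE b := by
  rw [DerivedCategory.isLE_iff]
  intro j hj
  exact isZero_homology_of_isZero (restrictFunctor k) E j (DerivedCategory.isZero_of_isLE E b j hj)

/-- restriction of the shifted free module -/
noncomputable def freeShRestrictIso {U : Scheme.{u}} (k : U ⟶ X) [IsOpenImmersion k] (n : ℕ)
    (b : ℤ) : (DCoh.restrictD k).obj (freeSh X n b) ≅ freeSh U n b :=
  ((DCoh.restrictD k).commShiftIso (-b)).app _ ≪≫
    (shiftFunctor (DCoh.D U) (-b)).mapIso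
      (((restrictFunctor k).mapDerivedCategorySingleFunctor 0).app _ ≪≫
        (DerivedCategory.singleFunctor _ 0).mapIso (restrictFreeModIso k n))

/-- the local property: "a map from `O^n[-b]` onto `H^b`" -/
def GenProp (E : DCoh.D X) (n : ℕ) (b : ℤ) (U : Scheme.{u}) (Φ : DCoh.D X ⥤ DCoh.D U) : Prop :=
  ∃ σ : freeSh U n b ⟶ Φ.obj E, Epi ((DerivedCategory.homologyFunctor _ b).map σ)

theorem isLocalProp_gen (E : DCoh.D X) (n : ℕ) (b : ℤ) : IsLocalProp (GenProp E n b) where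
  post Φ k _ h := by
    obtain ⟨σ, hσ⟩ := h
    refine ⟨(freeShRestrictIso k n b).inv ≫ (DCoh.restrictD k).map σ, ?_⟩
    haveI := epi_homology_map_of_epi (restrictFunctor k) σ b hσ
    rw [Functor.map_comp]
    infer_instance
  iso {U Φ Φ'} e h := by
    obtain ⟨σ, hσ⟩ := h
    refine ⟨σ ≫ e.hom.app E, ?_⟩
    rw [Functor.map_comp]
    infer_instance

theorem exists_local_sigma (E : DCoh.D X) (b : ℤ) [E.IsLE b] (n : ℕ)
    (π : FlatMod.freeMod X n ⟶ DCoh.HD E b) [Epi π] (x : X) :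
    ∃ V : X.Opens, x ∈ V ∧ GenProp E n b V (DCoh.restrictD V.ι) := by
  obtain ⟨A, B, f, g, h, hT, hA, hB, hf, hg⟩ := exists_truncation_triangle E (b - 1)
  haveI : B.IsGE b := by
    have : b - 1 + 1 = b := by omega
    rw [this] at hB; exact hB
  haveI : B.IsLE b := by
    rw [DerivedCategory.isLE_iff]
    intro j hj
    haveI := hg j (by omega)
    exact (DerivedCategory.isZero_of_isLE E b j hj).of_iso
      (asIso ((DerivedCategory.homologyFunctor _ j).map g)).symm
  obtain ⟨e⟩ := exists_iso_single_homology B b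
  haveI : IsIso ((DerivedCategory.homologyFunctor _ b).map g) := hg b (by omega)
  let π' : FlatMod.freeMod X n ⟶ (DerivedCategory.homologyFunctor _ b).obj B :=
    π ≫ (DerivedCategory.homologyFunctor _ b).map g
  haveI : Epi π' := epi_comp _ _
  let E₀ : CochainComplex X.Modules ℤ :=
    ((CochainComplex.singleFunctor X.Modules 0).obj (FlatMod.freeMod X n))⟦-b⟧
  have hE₀ : DCoh.IsStrictlyPerfect E₀ :=
    isStrictlyPerfect_shift (isStrictlyPerfect_single (isFinLocFree_freeMod X n)) (-b)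
  have hE₀a : ∀ i : ℤ, i < b → IsZero (E₀.X i) := fun i hi => by
    change IsZero (((CochainComplex.singleFunctor X.Modules 0).obj (FlatMod.freeMod X n)).X (i + -b))
    exact HomologicalComplex.isZero_single_obj_X _ _ _ _ (by omega)
  let ε : DerivedCategory.Q.obj E₀ ≅ freeSh X n b :=
    ((DerivedCategory.Q : _ ⥤ DCoh.D X).commShiftIso (-b)).app _ ≪≫
      (shiftFunctor (DCoh.D X) (-b)).mapIso
        ((DerivedCategory.singleFunctorIsoCompQ X.Modules 0).app (FlatMod.freeMod X n)).symm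
  let α : DerivedCategory.Q.obj E₀ ⟶ B :=
    ε.hom ≫ ((DerivedCategory.singleFunctor X.Modules 0).map π')⟦-b⟧' ≫ e.inv
  have hα : Cond b α :=
    Cond.comp (Cond.of_isIso _) (Cond.comp ((Cond.single_of_epi π').shift (-b) b (by omega))
      (Cond.of_isIso _))
  obtain ⟨V, hxV, β, hβ⟩ := exists_lift_D hE₀ b hE₀a g (fun i hi => hg i (by omega))
    inferInstance α x
  refine ⟨V, hxV, ((DCoh.restrictD V.ι).mapIso ε ≪≫ freeShRestrictIso V.ι n b).inv ≫ β, ?_⟩
  have h1 : Epi ((DerivedCategory.homologyFunctor _ b).map ((DCoh.restrictD V.ι).map α)) :=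
    epi_homology_map_of_epi (restrictFunctor V.ι) α b hα.2
  have h2 : IsIso ((DerivedCategory.homologyFunctor _ b).map ((DCoh.restrictD V.ι).map g)) :=
    isIso_homology_map_of_isIso (restrictFunctor V.ι) g b inferInstance
  have h3 : Epi ((DerivedCategory.homologyFunctor _ b).map β) := by
    have e3 : (DerivedCategory.homologyFunctor _ b).map β =
        (DerivedCategory.homologyFunctor _ b).map ((DCoh.restrictD V.ι).map α) ≫
          inv ((DerivedCategory.homologyFunctor _ b).map ((DCoh.restrictD V.ι).map g)) := by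
      rw [← hβ, Functor.map_comp, Category.assoc, IsIso.hom_inv_id, Category.comp_id]
    rw [e3]
    infer_instance
  rw [Functor.map_comp]
  infer_instance

theorem core_iff {N : ℕ} (IH : IHyp.{u} N) (i : Z ⟶ X) [IsClosedImmersion i] (hO : PushUnitPC i)
    (E : DCoh.D Z) (b m : ℤ) [E.IsLE b] (hbm : b - m < N + 1) (n : ℕ)
    (π : FlatMod.freeMod Z n ⟶ DCoh.HD E b) [Epi π] (z : Z) :
    PCAt m E z ↔ PCAt m ((FD i).obj E) (i.base z) := by
  obtain ⟨V, hzV, hV⟩ := exists_local_sigma E b n π z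
  obtain ⟨W, hzW, hWV⟩ := exists_opens_preimage_le i V z hzV
  obtain ⟨σ, hσ⟩ := (isLocalProp_gen E n b).of_le hWV hV
  apply loc_iff i E m W z hzW
  haveI := isLE_restrictD (i ⁻¹ᵁ W).ι E b
  exact tri_iff IH (i ∣_ W) (hO.restrict W) _ b m hbm n σ hσ ⟨z, hzW⟩

theorem iff_of_locGen {N : ℕ} (IH : IHyp.{u} N) (i : Z ⟶ X) [IsClosedImmersion i]
    (hO : PushUnitPC i) (E : DCoh.D Z) (b m : ℤ) [E.IsLE b] (hbm : b - m < N + 1) (z : Z)
    (h : LocGen i (DCoh.HD E b) z) :
    PCAt m E z ↔ PCAt m ((FD i).obj E) (i.base z) := by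
  obtain ⟨W, hzW, n, ψ, hψ⟩ := h
  apply loc_iff i E m W z hzW
  haveI := isLE_restrictD (i ⁻¹ᵁ W).ι E b
  haveI : Epi (ψ ≫ (homologyRestrictDIso (i ⁻¹ᵁ W).ι E b).inv) := epi_comp _ _
  exact core_iff IH (i ∣_ W) (hO.restrict W) _ b m hbm n
    (ψ ≫ (homologyRestrictDIso (i ⁻¹ᵁ W).ι E b).inv) ⟨z, hzW⟩

end Groth.Agent.Lib.Helper99.SClosed
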