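import Mathlib
import Groth.Agent.Lib.Helper99.SPush3
import Groth.Agent.Lib.Helper99.SPerf15d
import Groth.Agent.Lib.Helper99.SPerf12
import Groth.Agent.Lib.Helper99.SPerf17b
import Groth.Agent.Lib.Helper99.SCoh2
import Groth.Agent.Lib.QCoh.Helper50_Pushforward
import Groth.Agent.Lib.QCoh.Helper74_LocFree
import Groth.Prelude.Def_CxOX
import Groth.Agent.Lib.Helper99.SClosed2
/-!
# Pseudo-coherence and closed immersions (helper99)

For a closed immersion `i : Z ⟶ X` with `i_* O_Z` pseudo-coherent, `E ∈ D(O_Z)` is `m`-pseudo-coherent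
iff `i_* E` is.  Part 3.
-/

set_option autoImplicit false
universe u
open CategoryTheory Limits AlgebraicGeometry Opposite TopologicalSpace Pretriangulated

attribute [local instance] HasDerivedCategory.standard

namespace Groth.Agent.Lib.Helper99.SClosed

open Groth.Agent.Lib.Helper99.SPerf Groth.Agent.Lib.Helper99.SPush
  Groth.Agent.Lib.Helper99.SStalk Groth.Agent.Lib.QCoh Groth.Agent.Lib.Helper20.PushStalk
  Scheme.Modules Groth.Agent.Lib.Helper99.SCoh

variable {Z X : Scheme.{u}}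

theorem pc_of_pcProp {m : ℤ} {K : DCoh.D X} {V : X.Opens}
    (h : PCProp m K V (DCoh.restrictD V.ι)) :
    DCoh.IsPseudoCoherentD m ((DCoh.restrictD V.ι).obj K) := by
  rw [isPseudoCoherentD_iff]
  intro x'
  exact ⟨⊤, trivial, (isLocalProp_pc m K).post _ (⊤ : (V : Scheme.{u}).Opens).ι h⟩

theorem isPseudoCoherentD_mono {m n : ℤ} {K : DCoh.D X} (h : DCoh.IsPseudoCoherentD m K)
    (hmn : m ≤ n) : DCoh.IsPseudoCoherentD n K := by
  rw [isPseudoCoherentD_iff_pcAt] at h ⊢
  exact fun x => (h x).mono hmn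

theorem exists_isLE_of_pcProp {m : ℤ} {K : DCoh.D X} {V : X.Opens}
    (h : PCProp m K V (DCoh.restrictD V.ι)) : ∃ b : ℤ, ((DCoh.restrictD V.ι).obj K).IsLE b := by
  obtain ⟨E, α, ⟨⟨a, b, hab⟩, -⟩, hα⟩ := h
  refine ⟨max m b, ?_⟩
  rw [DerivedCategory.isLE_iff]
  intro i hi
  have hi1 : m < i := lt_of_le_of_lt (le_max_left m b) hi
  have hi2 : b < i := lt_of_le_of_lt (le_max_right m b) hi
  haveI := hα.1 i hi1
  have hz : IsZero (E.homology i) := isZero_homology_of_isZero_X E i (hab i (Or.inr hi2))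
  exact (hz.of_iso (homologyQIso E i)).of_iso
    (asIso ((DerivedCategory.homologyFunctor _ i).map α)).symm

theorem iff_of_lt (i : Z ⟶ X) [IsClosedImmersion i] (E : DCoh.D Z) (b m : ℤ) [E.IsLE b]
    (hbm : b < m) (z : Z) : PCAt m E z ↔ PCAt m ((FD i).obj E) (i.base z) := by
  have h1 : PCAt m E z := pcAt_of_vanishing m E z ⊤ trivial (fun j hj =>
    isZero_homology_of_isZero (restrictFunctor _) E j
      (DerivedCategory.isZero_of_isLE E b j (by omega)))
  have h2 : PCAt m ((FD i).obj E) (i.base z) := pcAt_of_vanishing m _ _ ⊤ trivial (fun j hj =>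
    isZero_homology_of_isZero (restrictFunctor _) _ j
      (isZero_homology_of_isZero (Scheme.Modules.pushforward i) E j
        (DerivedCategory.isZero_of_isLE E b j (by omega))))
  exact ⟨fun _ => h2, fun _ => h1⟩

theorem step {N : ℕ} (IH : IHyp.{u} N) : IHyp.{u} (N + 1) := by
  intro Z X i _ hO E b m hE hbm z
  haveI := hE
  by_cases hmb : b < m
  · exact iff_of_lt i E b m hmb z
  · have hmb : m ≤ b := not_lt.1 hmb
    constructor
    · rintro ⟨V, hzV, hV⟩
      obtain ⟨W, hzW, hWV⟩ := exists_opens_preimage_le i V z hzV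
      have hW := (isLocalProp_pc m E).of_le hWV hV
      have hpc := pc_of_pcProp hW
      haveI := isLE_restrictD (i ⁻¹ᵁ W).ι E b
      haveI : (DCoh.HD ((DCoh.restrictD (i ⁻¹ᵁ W).ι).obj E) b).IsFiniteType :=
        isFiniteType_HD_of_isPseudoCoherentD b _ (isPseudoCoherentD_mono hpc hmb)
          (fun j hj => DerivedCategory.isZero_of_isLE _ b j hj)
      have key := iff_of_locGen IH (i ∣_ W) (hO.restrict W) _ b m hbm ⟨z, hzW⟩
        (locGen_of_isFiniteType (i ∣_ W) (DCoh.HD ((DCoh.restrictD (i ⁻¹ᵁ W).ι).obj E) b) ⟨z, hzW⟩)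
      exact (loc_iff i E m W z hzW key).1 ⟨V, hzV, hV⟩
    · rintro ⟨W, hzW, hW⟩
      have hpc := pc_of_pcProp hW
      have hpc' : DCoh.IsPseudoCoherentD m
          ((FD (i ∣_ W)).obj ((DCoh.restrictD (i ⁻¹ᵁ W).ι).obj E)) :=
        isPseudoCoherentD_of_iso ((bcIso i W).app E) hpc
      haveI := isLE_restrictD (i ⁻¹ᵁ W).ι E b
      have hz : ∀ j : ℤ, b < j → IsZero (DCoh.HD
          ((FD (i ∣_ W)).obj ((DCoh.restrictD (i ⁻¹ᵁ W).ι).obj E)) j) := fun j hj =>
        isZero_homology_of_isZero (Scheme.Modules.pushforward (i ∣_ W)) _ j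
          (DerivedCategory.isZero_of_isLE _ b j hj)
      have hft := isFiniteType_HD_of_isPseudoCoherentD b _ (isPseudoCoherentD_mono hpc' hmb) hz
      haveI : ((Scheme.Modules.pushforward (i ∣_ W)).obj
          (DCoh.HD ((DCoh.restrictD (i ⁻¹ᵁ W).ι).obj E) b)).IsFiniteType :=
        @isFiniteType_of_iso _ _ _
          ((homologyMapDCIso (Scheme.Modules.pushforward (i ∣_ W)) b).app _) hft
      have key := iff_of_locGen IH (i ∣_ W) (hO.restrict W) _ b m hbm ⟨z, hzW⟩
        (locGen_of_isFiniteType_push (i ∣_ W) (DCoh.HD ((DCoh.restrictD (i ⁻¹ᵁ W).ι).obj E) b) ⟨z, hzW⟩)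
      exact (loc_iff i E m W z hzW key).2 ⟨W, hzW, hW⟩

theorem all (N : ℕ) : IHyp.{u} N := by
  induction N with
  | zero =>
    intro Z X i _ hO E b m hE hbm z
    haveI := hE
    exact iff_of_lt i E b m (by omega) z
  | succ N ih => exact step ih

theorem pcAt_iff (i : Z ⟶ X) [IsClosedImmersion i] (hO : PushUnitPC i) (E : DCoh.D Z) (m : ℤ)
    (z : Z) : PCAt m E z ↔ PCAt m ((FD i).obj E) (i.base z) := by
  constructor
  · rintro ⟨V, hzV, hV⟩
    obtain ⟨W, hzW, hWV⟩ := exists_opens_preimage_le i V z hzV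
    have hW := (isLocalProp_pc m E).of_le hWV hV
    obtain ⟨b, hb⟩ := exists_isLE_of_pcProp hW
    have key := all.{u} ((b - m).toNat + 1) (i ∣_ W) (hO.restrict W) _ b m hb
      (by push_cast; omega) ⟨z, hzW⟩
    exact (loc_iff i E m W z hzW key).1 ⟨V, hzV, hV⟩
  · rintro ⟨W, hzW, hW⟩
    obtain ⟨b, hb⟩ := exists_isLE_of_pcProp hW
    have hb' : ((FD (i ∣_ W)).obj ((DCoh.restrictD (i ⁻¹ᵁ W).ι).obj E)).IsLE b := by
      rw [DerivedCategory.isLE_iff]
      intro j hj
      haveI := hb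
      exact (DerivedCategory.isZero_of_isLE ((DCoh.restrictD W.ι).obj ((FD i).obj E)) b j hj).of_iso
        ((DerivedCategory.homologyFunctor _ j).mapIso ((bcIso i W).app E).symm)
    have hE : ((DCoh.restrictD (i ⁻¹ᵁ W).ι).obj E).IsLE b := by
      rw [DerivedCategory.isLE_iff]
      intro j hj
      apply isZero_of_isZero_push (i ∣_ W) (i ∣_ W).isClosedEmbedding.isInducing
      haveI := hb'
      exact (DerivedCategory.isZero_of_isLE
        ((FD (i ∣_ W)).obj ((DCoh.restrictD (i ⁻¹ᵁ W).ι).obj E)) b j hj).of_iso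
        ((homologyMapDCIso (Scheme.Modules.pushforward (i ∣_ W)) j).app _).symm
    have key := all.{u} ((b - m).toNat + 1) (i ∣_ W) (hO.restrict W) _ b m hE
      (by push_cast; omega) ⟨z, hzW⟩
    exact (loc_iff i E m W z hzW key).2 ⟨W, hzW, hW⟩

theorem pcAt_FD_of_notMem_range (i : Z ⟶ X) [IsClosedImmersion i] (E : DCoh.D Z) (m : ℤ) (x : X)
    (hx : x ∉ Set.range i.base) : PCAt m ((FD i).obj E) x := by
  let W : X.Opens := ⟨(Set.range i.base)ᶜ, i.isClosedEmbedding.isClosed_range.isOpen_compl⟩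
  refine pcAt_of_vanishing m _ x W hx (fun j _ => ?_)
  refine IsZero.of_iso ?_ ((DerivedCategory.homologyFunctor _ j).mapIso ((bcIso i W).app E))
  apply isZero_homology_of_isZero (Scheme.Modules.pushforward (i ∣_ W))
  apply isZero_of_forall_stalk_subsingleton
  intro y
  exact absurd ⟨y.1, rfl⟩ y.2

theorem isPseudoCoherentD_FD_iff (i : Z ⟶ X) [IsClosedImmersion i] (hO : PushUnitPC i)
    (E : DCoh.D Z) (m : ℤ) :
    DCoh.IsPseudoCoherentD m E ↔ DCoh.IsPseudoCoherentD m ((FD i).obj E) := by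
  rw [isPseudoCoherentD_iff_pcAt, isPseudoCoherentD_iff_pcAt]
  constructor
  · intro h x
    by_cases hx : x ∈ Set.range i.base
    · obtain ⟨z, rfl⟩ := hx
      exact (pcAt_iff i hO E m z).1 (h z)
    · exact pcAt_FD_of_notMem_range i E m x hx
  · intro h z
    exact (pcAt_iff i hO E m z).2 (h (i.base z))

end Groth.Agent.Lib.Helper99.SClosed
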