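import Mathlib
import Groth.Agent.Lib.Helper99.SClosed3

/-!
# Pseudo-coherence and closed immersions, bounded version (helper99)

For a closed immersion `i : Z ⟶ X` with `i_* O_Z` `k`-pseudo-coherent and `E ∈ D(O_Z)` with
`E.IsLE b`, `k ≤ m - b`: `E` is `m`-pseudo-coherent iff `i_* E` is.
-/

set_option autoImplicit false
universe u
open CategoryTheory Limits AlgebraicGeometry Opposite TopologicalSpace Pretriangulated

attribute [local instance] HasDerivedCategory.standard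

namespace Groth.Agent.Lib.Helper99.SClosed

open Groth.Agent.Lib.Helper99.SPerf Groth.Agent.Lib.Helper99.SPush
  Groth.Agent.Lib.Helper99.SStalk Groth.Agent.Lib.QCoh Groth.Agent.Lib.Helper20.PushStalk
  Scheme.Modules Groth.Agent.Lib.Helper99.SCoh

variable {Z X : Scheme.{u}}

attribute [local instance] preservesBinaryBiproducts_of_preservesBiproducts

/-- finite coproducts of copies of an `m`-pseudo-coherent module are `m`-pseudo-coherent -/
theorem isPseudoCoherentD_inD_sigma_fin' (N : X.Modules) (m : ℤ)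
    (hN : DCoh.IsPseudoCoherentD m (DCoh.inD X N)) (n : ℕ) :
    DCoh.IsPseudoCoherentD m (DCoh.inD X (∐ fun _ : Fin n => N)) := by
  induction n with
  | zero =>
    apply isPseudoCoherentD_of_isZero'
    apply Functor.map_isZero
    have : IsInitial (∐ fun _ : Fin 0 => N) := by
      refine IsInitial.ofUniqueHom (fun Y => Limits.Sigma.desc (fun j => Fin.elim0 j)) (fun Y f => ?_)
      apply Limits.Sigma.hom_ext
      intro j
      exact Fin.elim0 j
    exact (isZero_zero _).of_iso (this.uniqueUpToIso (isZero_zero _).isInitial)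
  | succ n ih =>
    let c₁ : Cofan (fun _ : Fin n => N) := Cofan.mk (∐ fun _ : Fin n => N) (Limits.Sigma.ι _)
    have t₁ : IsColimit c₁ := coproductIsCoproduct _
    let c₂ : BinaryCofan N c₁.pt := BinaryBicone.toCocone (BinaryBiproduct.bicone N c₁.pt)
    have t₂ : IsColimit c₂ := BinaryBiproduct.isColimit N c₁.pt
    have t : IsColimit (extendCofan (f := fun _ : Fin (n + 1) => N) c₁ c₂) :=
      extendCofanIsColimit (fun _ : Fin (n + 1) => N) t₁ t₂
    let e : (∐ fun _ : Fin (n + 1) => N) ≅ N ⊞ (∐ fun _ : Fin n => N) :=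
      (coproductIsCoproduct _).coconePointUniqueUpToIso t
    haveI : HasBinaryBiproduct ((DerivedCategory.singleFunctor X.Modules 0).obj N)
        ((DerivedCategory.singleFunctor X.Modules 0).obj (∐ fun _ : Fin n => N)) :=
      Functor.hasBinaryBiproduct_of_preserves (DerivedCategory.singleFunctor X.Modules 0) _ _
    refine isPseudoCoherentD_of_iso ((DerivedCategory.singleFunctor X.Modules 0).mapIso e ≪≫
      (DerivedCategory.singleFunctor X.Modules 0).mapBiprod _ _).symm ?_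
    exact isPseudoCoherentD_biprod m _ _ hN ih

/-- the hypothesis "`i_* O_Z` is `k`-pseudo-coherent" -/
def PushUnitPCk (i : Z ⟶ X) (k : ℤ) : Prop :=
  DCoh.IsPseudoCoherentD k
    (DCoh.inD X ((Scheme.Modules.pushforward i).obj (Coh.structureModule Z)))

theorem PushUnitPCk.restrict {i : Z ⟶ X} {k : ℤ} (hO : PushUnitPCk i k) (W : X.Opens) :
    PushUnitPCk (i ∣_ W) k := by
  have h1 := isPseudoCoherentD_restrict k _ W hO
  have e1 := ((Scheme.Modules.restrictFunctor W.ι).mapDerivedCategorySingleFunctor 0).app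
    ((Scheme.Modules.pushforward i).obj (Coh.structureModule Z))
  have e2 : (Scheme.Modules.restrictFunctor W.ι).obj
      ((Scheme.Modules.pushforward i).obj (Coh.structureModule Z)) ≅
      (Scheme.Modules.pushforward (i ∣_ W)).obj (Coh.structureModule (i ⁻¹ᵁ W : Scheme.{u})) :=
    (pushforwardRestrictIso i W).app _ ≪≫
      (Scheme.Modules.pushforward (i ∣_ W)).mapIso (Scheme.Modules.restrictUnitIso _)
  exact isPseudoCoherentD_of_iso (e1 ≪≫ (DerivedCategory.singleFunctor _ 0).mapIso e2) h1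

theorem isPseudoCoherentD_FD_freeSh' (i : Z ⟶ X) [IsClosedImmersion i] {k : ℤ}
    (hO : PushUnitPCk i k) (n : ℕ) (b m : ℤ) (hk : k ≤ m - b) :
    DCoh.IsPseudoCoherentD m ((FD i).obj (freeSh Z n b)) := by
  have e1 : (Scheme.Modules.pushforward i).obj (FlatMod.freeMod Z n) ≅
      ∐ fun _ : Fin n => (Scheme.Modules.pushforward i).obj (Coh.structureModule Z) :=
    PreservesCoproduct.iso (Scheme.Modules.pushforward i) _
  have h1 : DCoh.IsPseudoCoherentD (m - b)
      (DCoh.inD X ((Scheme.Modules.pushforward i).obj (FlatMod.freeMod Z n))) :=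
    isPseudoCoherentD_of_iso ((DerivedCategory.singleFunctor _ 0).mapIso e1).symm
      (isPseudoCoherentD_inD_sigma_fin' _ (m - b) (isPseudoCoherentD_mono hO hk) n)
  have h2 : DCoh.IsPseudoCoherentD (m - b) ((FD i).obj (DCoh.inD Z (FlatMod.freeMod Z n))) :=
    isPseudoCoherentD_of_iso
      (((Scheme.Modules.pushforward i).mapDerivedCategorySingleFunctor 0).app _).symm h1
  exact isPseudoCoherentD_of_iso (((FD i).commShiftIso (-b)).app _).symm
    (isPseudoCoherentD_shift _ (-b) (m - b) m (by omega) h2)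

/-- the induction hypothesis, bounded version -/
def IHyp' (k : ℤ) (N : ℕ) : Prop :=
  ∀ {Z X : Scheme.{u}} (i : Z ⟶ X) [IsClosedImmersion i], PushUnitPCk i k →
    ∀ (E : DCoh.D Z) (b m : ℤ), E.IsLE b → b - m < N → k ≤ m - b → ∀ z : Z,
      (PCAt m E z ↔ PCAt m ((FD i).obj E) (i.base z))

theorem tri_iff' {k : ℤ} {N : ℕ} (IH : IHyp'.{u} k N) (i : Z ⟶ X) [IsClosedImmersion i]
    (hO : PushUnitPCk i k)
    (E : DCoh.D Z) (b m : ℤ) [E.IsLE b] (hbm : b - m < N + 1) (hk : k ≤ m - b) (n : ℕ)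
    (σ : freeSh Z n b ⟶ E)
    (hσ : Epi ((DerivedCategory.homologyFunctor _ b).map σ)) (z : Z) :
    PCAt m E z ↔ PCAt m ((FD i).obj E) (i.base z) := by
  obtain ⟨E', g, h, hT⟩ := distinguished_cocone_triangle σ
  haveI : (Triangle.mk σ g h).obj₂.IsLE b := ‹E.IsLE b›
  have hE' : E'.IsLE (b - 1) :=
    isLE_cone (FlatMod.freeMod Z n) b (Triangle.mk σ g h) hT (Iso.refl _) hσ
  have ih := IH i hO E' (b - 1) m hE' (by omega) (by omega) z
  have hL : ∀ k', PCAt k' (freeSh Z n b) z := fun k' =>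
    (isPseudoCoherentD_iff_pcAt k' _).1 (isPseudoCoherentD_freeSh Z n b k') z
  have hFL : ∀ k', m ≤ k' → PCAt k' ((FD i).obj (freeSh Z n b)) (i.base z) := fun k' hk' =>
    (isPseudoCoherentD_iff_pcAt k' _).1 (isPseudoCoherentD_FD_freeSh' i hO n b k' (by omega))
      (i.base z)
  have hT' := (FD i).map_distinguished _ hT
  constructor
  · intro hE
    have h1 : PCAt m E' z := pcAt_obj₃ m _ hT z (hL (m + 1)) hE
    exact pcAt_obj₂ m _ hT' (i.base z) (hFL m le_rfl) (ih.1 h1)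
  · intro hE
    have h1 : PCAt m ((FD i).obj E') (i.base z) :=
      pcAt_obj₃ m _ hT' _ (hFL (m + 1) (by omega)) hE
    exact pcAt_obj₂ m _ hT z (hL m) (ih.2 h1)

theorem core_iff' {k : ℤ} {N : ℕ} (IH : IHyp'.{u} k N) (i : Z ⟶ X) [IsClosedImmersion i]
    (hO : PushUnitPCk i k)
    (E : DCoh.D Z) (b m : ℤ) [E.IsLE b] (hbm : b - m < N + 1) (hk : k ≤ m - b) (n : ℕ)
    (π : FlatMod.freeMod Z n ⟶ DCoh.HD E b) [Epi π] (z : Z) :
    PCAt m E z ↔ PCAt m ((FD i).obj E) (i.base z) := by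
  obtain ⟨V, hzV, hV⟩ := exists_local_sigma E b n π z
  obtain ⟨W, hzW, hWV⟩ := exists_opens_preimage_le i V z hzV
  obtain ⟨σ, hσ⟩ := (isLocalProp_gen E n b).of_le hWV hV
  apply loc_iff i E m W z hzW
  haveI := isLE_restrictD (i ⁻¹ᵁ W).ι E b
  exact tri_iff' IH (i ∣_ W) (hO.restrict W) _ b m hbm hk n σ hσ ⟨z, hzW⟩

theorem iff_of_locGen' {k : ℤ} {N : ℕ} (IH : IHyp'.{u} k N) (i : Z ⟶ X) [IsClosedImmersion i]
    (hO : PushUnitPCk i k) (E : DCoh.D Z) (b m : ℤ) [E.IsLE b] (hbm : b - m < N + 1)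
    (hk : k ≤ m - b) (z : Z)
    (h : LocGen i (DCoh.HD E b) z) :
    PCAt m E z ↔ PCAt m ((FD i).obj E) (i.base z) := by
  obtain ⟨W, hzW, n, ψ, hψ⟩ := h
  apply loc_iff i E m W z hzW
  haveI := isLE_restrictD (i ⁻¹ᵁ W).ι E b
  haveI : Epi (ψ ≫ (homologyRestrictDIso (i ⁻¹ᵁ W).ι E b).inv) := epi_comp _ _
  exact core_iff' IH (i ∣_ W) (hO.restrict W) _ b m hbm hk n
    (ψ ≫ (homologyRestrictDIso (i ⁻¹ᵁ W).ι E b).inv) ⟨z, hzW⟩

theorem step' {k : ℤ} {N : ℕ} (IH : IHyp'.{u} k N) : IHyp'.{u} k (N + 1) := by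
  intro Z X i _ hO E b m hE hbm hk z
  haveI := hE
  by_cases hmb : b < m
  · exact iff_of_lt i E b m hmb z
  · have hmb : m ≤ b := not_lt.1 hmb
    constructor
    · rintro ⟨V, hzV, hV⟩
      obtain ⟨W, hzW, hWV⟩ := exists_opens_preimage_le i V z hzV
      have hW := (isLocalProp_pc m E).of_le hWV hV
      have hpc := pc_of_pcProp hW
      haveI := isLE_restrictD (i ⁻¹ᵁ W).ι E b
      haveI : (DCoh.HD ((DCoh.restrictD (i ⁻¹ᵁ W).ι).obj E) b).IsFiniteType :=
        isFiniteType_HD_of_isPseudoCoherentD b _ (isPseudoCoherentD_mono hpc hmb)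
          (fun j hj => DerivedCategory.isZero_of_isLE _ b j hj)
      have key := iff_of_locGen' IH (i ∣_ W) (hO.restrict W) _ b m hbm hk ⟨z, hzW⟩
        (locGen_of_isFiniteType (i ∣_ W) (DCoh.HD ((DCoh.restrictD (i ⁻¹ᵁ W).ι).obj E) b)
          ⟨z, hzW⟩)
      exact (loc_iff i E m W z hzW key).1 ⟨V, hzV, hV⟩
    · rintro ⟨W, hzW, hW⟩
      have hpc := pc_of_pcProp hW
      have hpc' : DCoh.IsPseudoCoherentD m
          ((FD (i ∣_ W)).obj ((DCoh.restrictD (i ⁻¹ᵁ W).ι).obj E)) :=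
        isPseudoCoherentD_of_iso ((bcIso i W).app E) hpc
      haveI := isLE_restrictD (i ⁻¹ᵁ W).ι E b
      have hz : ∀ j : ℤ, b < j → IsZero (DCoh.HD
          ((FD (i ∣_ W)).obj ((DCoh.restrictD (i ⁻¹ᵁ W).ι).obj E)) j) := fun j hj =>
        isZero_homology_of_isZero (Scheme.Modules.pushforward (i ∣_ W)) _ j
          (DerivedCategory.isZero_of_isLE _ b j hj)
      have hft := isFiniteType_HD_of_isPseudoCoherentD b _ (isPseudoCoherentD_mono hpc' hmb) hz
      haveI : ((Scheme.Modules.pushforward (i ∣_ W)).obj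
          (DCoh.HD ((DCoh.restrictD (i ⁻¹ᵁ W).ι).obj E) b)).IsFiniteType :=
        @isFiniteType_of_iso _ _ _
          ((homologyMapDCIso (Scheme.Modules.pushforward (i ∣_ W)) b).app _) hft
      have key := iff_of_locGen' IH (i ∣_ W) (hO.restrict W) _ b m hbm hk ⟨z, hzW⟩
        (locGen_of_isFiniteType_push (i ∣_ W)
          (DCoh.HD ((DCoh.restrictD (i ⁻¹ᵁ W).ι).obj E) b) ⟨z, hzW⟩)
      exact (loc_iff i E m W z hzW key).2 ⟨W, hzW, hW⟩

theorem all' (k : ℤ) (N : ℕ) : IHyp'.{u} k N := by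
  induction N with
  | zero =>
    intro Z X i _ hO E b m hE hbm hk z
    haveI := hE
    exact iff_of_lt i E b m (by omega) z
  | succ N ih => exact step' ih

theorem pcAt_iff_of_isLE (i : Z ⟶ X) [IsClosedImmersion i] {k : ℤ} (hO : PushUnitPCk i k)
    (E : DCoh.D Z) (b : ℤ) [hE : E.IsLE b] (m : ℤ) (hk : k ≤ m - b) (z : Z) :
    PCAt m E z ↔ PCAt m ((FD i).obj E) (i.base z) :=
  all'.{u} k ((b - m).toNat + 1) i hO E b m hE (by push_cast; omega) hk z

/-- bounded version of S1102 -/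
theorem isPseudoCoherentD_FD_iff_of_isLE (i : Z ⟶ X) [IsClosedImmersion i] {k : ℤ}
    (hO : PushUnitPCk i k) (E : DCoh.D Z) (b : ℤ) [E.IsLE b] (m : ℤ) (hk : k ≤ m - b) :
    DCoh.IsPseudoCoherentD m E ↔ DCoh.IsPseudoCoherentD m ((FD i).obj E) := by
  rw [isPseudoCoherentD_iff_pcAt, isPseudoCoherentD_iff_pcAt]
  constructor
  · intro h x
    by_cases hx : x ∈ Set.range i.base
    · obtain ⟨z, rfl⟩ := hx
      exact (pcAt_iff_of_isLE i hO E b m hk z).1 (h z)
    · exact pcAt_FD_of_notMem_range i E m x hx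
  · intro h z
    exact (pcAt_iff_of_isLE i hO E b m hk z).2 (h (i.base z))

end Groth.Agent.Lib.Helper99.SClosed
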