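import Mathlib
import Groth.Agent.Lib.Helper99.SPush3
import Groth.Agent.Lib.Helper99.SPerf12
import Groth.Agent.Lib.QCoh.Helper50_FPPush
import Groth.Agent.Lib.QCoh.Helper74_LocFree
import Groth.Prelude.Def_DerSch2
import Groth.Prelude.Def_CxOX

/-!
# A morphism is (-1)-pseudo-coherent (chart form) iff it is locally of finite presentation (helper99)
-/

set_option autoImplicit false
universe u
open CategoryTheory Limits AlgebraicGeometry Opposite TopologicalSpace

attribute [local instance] HasDerivedCategory.standard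

namespace Groth.Agent.Lib.Helper99.SLfp

open DerSch Groth.Agent.Lib.Helper99.SPerf Groth.Agent.Lib.Helper99.SPush
  Groth.Agent.Lib.Helper99.SStalk Groth.Agent.Lib.QCoh

variable {X Y : Scheme.{u}}


/-- an exact functor between module categories preserves isomorphism classes in `D` -/
noncomputable def qMapIso (F : X.Modules ⥤ Y.Modules) [F.Additive] [PreservesFiniteLimits F]
    [PreservesFiniteColimits F] {G G' : CochainComplex X.Modules ℤ}
    (e : DCoh.toD X G ≅ DCoh.toD X G') :
    DCoh.toD Y ((F.mapHomologicalComplex (ComplexShape.up ℤ)).obj G) ≅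
      DCoh.toD Y ((F.mapHomologicalComplex (ComplexShape.up ℤ)).obj G') :=
  (F.mapDerivedCategoryFactors.app G).symm ≪≫ F.mapDerivedCategory.mapIso e ≪≫
    F.mapDerivedCategoryFactors.app G'

/-- the chart functor `G ↦ i_* (G|_U)` preserves isomorphism classes in `D` -/
theorem nonempty_chart_iso (U : X.Opens) (hU : IsAffineOpen U) {R : Type u} [CommRing R]
    {n : ℕ} (φ : MvPolynomial (Fin n) R →+* Γ(X, U)) (hφ : Function.Surjective φ)
    {G G' : CochainComplex X.Modules ℤ} (e : DCoh.toD X G ≅ DCoh.toD X G') :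
    Nonempty (DCoh.toD _ ((pushCx (chartImm U φ)).obj ((DCoh.restrictCx U).obj G)) ≅
      DCoh.toD _ ((pushCx (chartImm U φ)).obj ((DCoh.restrictCx U).obj G'))) := by
  haveI := isClosedImmersion_chartImm U hU φ hφ
  haveI := preservesFiniteColimits_pushforward (chartImm U φ)
    (chartImm U φ).isClosedEmbedding
  exact ⟨qMapIso (Scheme.Modules.pushforward (chartImm U φ))
    (qMapIso (Scheme.Modules.restrictFunctor U.ι) e)⟩


/-- the chart functor applied to `O_X[0]` is `(i_* O_U)[0]` -/
noncomputable def chartUnitIso (U : X.Opens) {R : Type u} [CommRing R]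
    {n : ℕ} (φ : MvPolynomial (Fin n) R →+* Γ(X, U)) :
    (pushCx (chartImm U φ)).obj ((DCoh.restrictCx U).obj (unitCx X)) ≅
      (HomologicalComplex.single _ (ComplexShape.up ℤ) 0).obj
        ((Scheme.Modules.pushforward (chartImm U φ)).obj (Coh.structureModule (U : Scheme.{u}))) :=
  (pushCx (chartImm U φ)).mapIso
    ((HomologicalComplex.singleMapHomologicalComplex (Scheme.Modules.restrictFunctor U.ι)
      (ComplexShape.up ℤ) 0).app (Coh.structureModule X) ≪≫
      (HomologicalComplex.single _ (ComplexShape.up ℤ) 0).mapIso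
        (Scheme.Modules.restrictUnitIso U.ι)) ≪≫
    (HomologicalComplex.singleMapHomologicalComplex (Scheme.Modules.pushforward (chartImm U φ))
      (ComplexShape.up ℤ) 0).app (Coh.structureModule (U : Scheme.{u}))

noncomputable def chartUnitDIso (U : X.Opens) {R : Type u} [CommRing R]
    {n : ℕ} (φ : MvPolynomial (Fin n) R →+* Γ(X, U)) :
    DCoh.toD _ ((pushCx (chartImm U φ)).obj ((DCoh.restrictCx U).obj (unitCx X))) ≅
      DCoh.inD _ ((Scheme.Modules.pushforward (chartImm U φ)).obj
        (Coh.structureModule (U : Scheme.{u}))) :=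
  DerivedCategory.Q.mapIso (chartUnitIso U φ) ≪≫
    ((DerivedCategory.singleFunctorIsoCompQ _ 0).app _).symm

theorem ringHom_fp_of_module_fp {S T : Type u} [CommRing S] [CommRing T] (ψ : S →+* T)
    (hψ : Function.Surjective ψ) [Module S T] (h : ∀ (a : S) (t : T), a • t = ψ a * t)
    (hfp : Module.FinitePresentation S T) : ψ.FinitePresentation := by
  let l : S →ₗ[S] T := LinearMap.toSpanSingleton S T 1
  have hl : Function.Surjective l := by
    intro t
    obtain ⟨a, rfl⟩ := hψ t
    exact ⟨a, by simp [l, LinearMap.toSpanSingleton_apply, h]⟩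
  have hk : (LinearMap.ker l).FG := Module.FinitePresentation.fg_ker l hl
  refine RingHom.FinitePresentation.of_surjective ψ hψ ?_
  have : (RingHom.ker ψ : Ideal S) = LinearMap.ker l := by
    ext a
    simp [l, LinearMap.toSpanSingleton_apply, h, RingHom.mem_ker]
  rw [this]
  exact hk


theorem lfp_of_isFinitePresentation_push_unit {Z P : Scheme.{u}} [IsAffine Z] [IsAffine P] (i : Z ⟶ P)
    [IsClosedImmersion i]
    (h : ((Scheme.Modules.pushforward i).obj (Coh.structureModule Z)).IsFinitePresentation) :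
    LocallyOfFinitePresentation i := by
  rw [HasRingHomProperty.iff_of_isAffine (P := @LocallyOfFinitePresentation)]
  have hsur : Function.Surjective i.appTop :=
    (IsClosedImmersion.isAffine_surjective_of_isAffine i).2
  have hfp : Module.FinitePresentation Γ(P, ⊤)
      Γ((Scheme.Modules.pushforward i).obj (Coh.structureModule Z), ⊤) :=
    finitePresentation_Γ_of_isAffineOpen (isAffineOpen_top P) _
  exact @ringHom_fp_of_module_fp Γ(P, ⊤) Γ(Z, ⊤) _ _ i.appTop.hom hsur
    (show Module Γ(P, ⊤)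
      Γ((Scheme.Modules.pushforward i).obj (Coh.structureModule Z), ⊤) from inferInstance)
    (fun a t => rfl) hfp


theorem isFinLocFree_unit (Z : Scheme.{u}) : FlatMod.IsFinLocFree (Coh.structureModule Z) :=
  isFinLocFree_of_iso (freeModOneIso Z) (isFinLocFree_freeMod Z 1)

theorem isFinitePresentation_push_unit {Z P : Scheme.{u}} (i : Z ⟶ P) [IsFinite i] [LocallyOfFinitePresentation i] :
    ((Scheme.Modules.pushforward i).obj (Coh.structureModule Z)).IsFinitePresentation := by
  haveI : (Coh.structureModule Z).IsFinitePresentation :=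
    isFinitePresentation_of_isFinLocFree (isFinLocFree_unit Z)
  haveI : (Coh.structureModule Z).IsQuasicoherent :=
    isQuasicoherent_of_isFinLocFree (isFinLocFree_unit Z)
  exact isFinitePresentation_pushforward_of_isFinite i (Coh.structureModule Z)


theorem lfp_chartImm_iff (U : X.Opens) (hU : IsAffineOpen U) {R : Type u} [CommRing R]
    {n : ℕ} (φ : MvPolynomial (Fin n) R →+* Γ(X, U)) :
    LocallyOfFinitePresentation (chartImm U φ) ↔ φ.FinitePresentation := by
  haveI : IsIso U.toSpecΓ := by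
    rw [← hU.isoSpec_hom]; infer_instance
  unfold chartImm
  rw [MorphismProperty.cancel_left_of_respectsIso (P := @LocallyOfFinitePresentation)]
  exact HasRingHomProperty.Spec_iff (P := @LocallyOfFinitePresentation)

theorem chartPC_unit_iff (U : X.Opens) (hU : IsAffineOpen U) (V : Y.Opens) {n : ℕ}
    (φ : MvPolynomial (Fin n) Γ(Y, V) →+* Γ(X, U)) (hφ : Function.Surjective φ) (m : ℤ) :
    ChartPC m (DCoh.toD X (unitCx X)) U V φ ↔
      DCoh.IsPseudoCoherentD m (DCoh.inD _ ((Scheme.Modules.pushforward (chartImm U φ)).obj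
        (Coh.structureModule (U : Scheme.{u})))) := by
  constructor
  · intro h
    exact isPseudoCoherentD_of_iso (chartUnitDIso U φ) (h (unitCx X) ⟨Iso.refl _⟩)
  · intro h G ⟨e⟩
    obtain ⟨e'⟩ := nonempty_chart_iso U hU φ hφ e
    exact isPseudoCoherentD_of_iso (e' ≪≫ chartUnitDIso U φ).symm h

theorem chartPC_unit_iff_fp (U : X.Opens) (hU : IsAffineOpen U) (V : Y.Opens) {n : ℕ}
    (φ : MvPolynomial (Fin n) Γ(Y, V) →+* Γ(X, U)) (hφ : Function.Surjective φ) :
    ChartPC (-1) (DCoh.toD X (unitCx X)) U V φ ↔ φ.FinitePresentation := by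
  haveI := isClosedImmersion_chartImm U hU φ hφ
  haveI : IsAffine (U : Scheme.{u}) := hU
  rw [chartPC_unit_iff U hU V φ hφ, ← lfp_chartImm_iff U hU φ]
  constructor
  · intro h
    exact lfp_of_isFinitePresentation_push_unit _
      (isFinitePresentation_of_isPseudoCoherentD_single _ h)
  · intro h
    haveI := isFinitePresentation_push_unit (chartImm U φ)
    exact isPseudoCoherentD_single_of_isFinitePresentation _


theorem fp_C {A : Type u} [CommRing A] (n : ℕ) :
    (MvPolynomial.C : A →+* MvPolynomial (Fin n) A).FinitePresentation := by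
  rw [← MvPolynomial.algebraMap_eq]
  exact (RingHom.finitePresentation_algebraMap).2 inferInstance

theorem fp_stableSource :
    RingHom.StableUnderCompositionWithLocalizationAwaySource @RingHom.FinitePresentation := by
  intro R S T _ _ _ _ r _ f hf
  exact RingHom.finitePresentation_stableUnderComposition _ _
    (RingHom.finitePresentation_holdsForLocalizationAway S r) hf

theorem lfp_of_isNPseudoCoherent (f : X ⟶ Y) (h : IsNPseudoCoherent f (-1)) :
    LocallyOfFinitePresentation f := by
  obtain ⟨-, 𝒱, h𝒱, H⟩ := h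
  refine (HasRingHomProperty.iff_exists_appLE (P := @LocallyOfFinitePresentation)
    fp_stableSource).2 ?_
  intro x
  have hx : f.base x ∈ (⨆ V ∈ 𝒱, (V : Y.Opens)) := by rw [h𝒱]; trivial
  simp only [Opens.mem_iSup] at hx
  obtain ⟨V, hV, hxV⟩ := hx
  obtain ⟨𝒰, h𝒰, HU⟩ := H V hV
  have hx' : x ∈ (⨆ U ∈ 𝒰, (U : X.Opens)) := by rw [h𝒰]; exact hxV
  simp only [Opens.mem_iSup] at hx'
  obtain ⟨U, hU, hxU⟩ := hx'
  have hUV : (U : X.Opens) ≤ f ⁻¹ᵁ (V : Y.Opens) := by
    rw [← h𝒰]
    exact le_iSup₂ (f := fun (U : X.affineOpens) (_ : U ∈ 𝒰) => (U : X.Opens)) U hU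
  obtain ⟨n, φ, hchart, hPC⟩ := HU U hU hUV
  refine ⟨V, U, hxU, hUV, ?_⟩
  have h1 : φ.FinitePresentation :=
    (chartPC_unit_iff_fp (U : X.Opens) U.2 (V : Y.Opens) φ hchart.1).1 hPC
  have h2 := h1.comp (fp_C n)
  rw [hchart.2] at h2
  exact h2


theorem iSup_affineOpens_mem_univ (Y : Scheme.{u}) :
    (⨆ V ∈ (Set.univ : Set Y.affineOpens), (V : Y.Opens)) = ⊤ := by
  rw [← top_le_iff]
  intro y _
  obtain ⟨V, hV, hyV, -⟩ := Opens.isBasis_iff_nbhd.mp Y.isBasis_affineOpens (Opens.mem_top y)
  simp only [Opens.mem_iSup]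
  exact ⟨⟨V, hV⟩, Set.mem_univ _, hyV⟩

theorem iSup_affineOpens_le (W : X.Opens) :
    (⨆ U ∈ {U : X.affineOpens | (U : X.Opens) ≤ W}, (U : X.Opens)) = W := by
  apply le_antisymm
  · exact iSup₂_le fun U hU => hU
  · intro x hx
    obtain ⟨U, hU, hxU, hUW⟩ := Opens.isBasis_iff_nbhd.mp X.isBasis_affineOpens hx
    simp only [Opens.mem_iSup]
    exact ⟨⟨U, hU⟩, hUW, hxU⟩

theorem isNPseudoCoherent_of_lfp (f : X ⟶ Y) [LocallyOfFiniteType f]
    [LocallyOfFinitePresentation f] : IsNPseudoCoherent f (-1) := by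
  refine ⟨inferInstance, Set.univ, iSup_affineOpens_mem_univ Y, fun V _ => ?_⟩
  refine ⟨{U : X.affineOpens | (U : X.Opens) ≤ f ⁻¹ᵁ (V : Y.Opens)}, iSup_affineOpens_le _,
    fun U _ h => ?_⟩
  have hfp : (f.appLE V U h).hom.FinitePresentation :=
    f.finitePresentation_appLE V.2 U.2 h
  letI : Algebra Γ(Y, (V : Y.Opens)) Γ(X, (U : X.Opens)) := (f.appLE V U h).hom.toAlgebra
  obtain ⟨n, g, hg, hker⟩ :=
    (show Algebra.FinitePresentation Γ(Y, (V : Y.Opens)) Γ(X, (U : X.Opens)) from hfp).out
  refine ⟨n, g.toRingHom, ⟨hg, ?_⟩, ?_⟩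
  · ext a
    exact g.commutes a
  · rw [chartPC_unit_iff_fp (U : X.Opens) U.2 (V : Y.Opens) g.toRingHom hg]
    exact RingHom.FinitePresentation.of_surjective _ hg hker


/-- **S6225** -/
theorem isNPseudoCoherent_negOne_iff (f : X ⟶ Y) [LocallyOfFiniteType f] :
    IsNPseudoCoherent f (-1) ↔ LocallyOfFinitePresentation f :=
  ⟨lfp_of_isNPseudoCoherent f, fun _ => isNPseudoCoherent_of_lfp f⟩

end Groth.Agent.Lib.Helper99.SLfp
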