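import Mathlib
import Groth.Agent.Lib.Helper99.SLfp1
import Groth.Agent.Lib.Helper99.SClosed4
import Groth.Agent.Lib.QCoh.Helper50_FinitePush
import Groth.Agent.Lib.QCoh.FinitePresentation
import Groth.Agent.Lib.QCoh.Helper49_FP
import Groth.Agent.Lib.QCoh.Helper50_Products
import Groth.Prelude.Def_Flatn

/-!
# Relative pseudo-coherence of a module placed in degree 0 (helper99)

`m > 0`: always; `m = 0`: iff finite type; `m = -1`: iff quasi-coherent and finitely presented
relative to the base.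
-/

set_option autoImplicit false
universe u
open CategoryTheory Limits AlgebraicGeometry Opposite TopologicalSpace

attribute [local instance] HasDerivedCategory.standard

namespace Groth.Agent.Lib.Helper99.SRelMod

open DerSch Groth.Agent.Lib.Helper99.SPerf Groth.Agent.Lib.Helper99.SPush
  Groth.Agent.Lib.Helper99.SStalk Groth.Agent.Lib.QCoh Groth.Agent.Lib.Helper99.SLfp
  Groth.Agent.Lib.Helper99.SClosed

variable {X Y : Scheme.{u}}


/-- the chart functor applied to `M[0]` is `(i_* (M|_U))[0]` -/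
noncomputable def chartSingleIso (U : X.Opens) {R : Type u} [CommRing R]
    {n : ℕ} (φ : MvPolynomial (Fin n) R →+* Γ(X, U)) (M : X.Modules) :
    (pushCx (chartImm U φ)).obj ((DCoh.restrictCx U).obj
      ((HomologicalComplex.single _ (ComplexShape.up ℤ) 0).obj M)) ≅
      (HomologicalComplex.single _ (ComplexShape.up ℤ) 0).obj
        ((Scheme.Modules.pushforward (chartImm U φ)).obj
          ((Scheme.Modules.restrictFunctor U.ι).obj M)) :=
  (pushCx (chartImm U φ)).mapIso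
    ((HomologicalComplex.singleMapHomologicalComplex (Scheme.Modules.restrictFunctor U.ι)
      (ComplexShape.up ℤ) 0).app M) ≪≫
    (HomologicalComplex.singleMapHomologicalComplex (Scheme.Modules.pushforward (chartImm U φ))
      (ComplexShape.up ℤ) 0).app ((Scheme.Modules.restrictFunctor U.ι).obj M)

noncomputable def chartSingleDIso (U : X.Opens) {R : Type u} [CommRing R]
    {n : ℕ} (φ : MvPolynomial (Fin n) R →+* Γ(X, U)) (M : X.Modules) :
    DCoh.toD _ ((pushCx (chartImm U φ)).obj ((DCoh.restrictCx U).obj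
      ((HomologicalComplex.single _ (ComplexShape.up ℤ) 0).obj M))) ≅
      DCoh.inD _ ((Scheme.Modules.pushforward (chartImm U φ)).obj
        ((Scheme.Modules.restrictFunctor U.ι).obj M)) :=
  DerivedCategory.Q.mapIso (chartSingleIso U φ M) ≪≫
    ((DerivedCategory.singleFunctorIsoCompQ _ 0).app _).symm

theorem chartPC_single_iff (U : X.Opens) (hU : IsAffineOpen U) (V : Y.Opens) {n : ℕ}
    (φ : MvPolynomial (Fin n) Γ(Y, V) →+* Γ(X, U)) (hφ : Function.Surjective φ) (m : ℤ)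
    (M : X.Modules) :
    ChartPC m (DCoh.inD X M) U V φ ↔
      DCoh.IsPseudoCoherentD m (DCoh.inD _ ((Scheme.Modules.pushforward (chartImm U φ)).obj
        ((Scheme.Modules.restrictFunctor U.ι).obj M))) := by
  have e₀ : DCoh.toD X ((HomologicalComplex.single _ (ComplexShape.up ℤ) 0).obj M) ≅
      DCoh.inD X M := ((DerivedCategory.singleFunctorIsoCompQ _ 0).app M).symm
  constructor
  · intro h
    exact isPseudoCoherentD_of_iso (chartSingleDIso U φ M) (h _ ⟨e₀⟩)
  · intro h G ⟨e⟩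
    obtain ⟨e'⟩ := nonempty_chart_iso U hU φ hφ (e ≪≫ e₀.symm)
    exact isPseudoCoherentD_of_iso (e' ≪≫ chartSingleDIso U φ M).symm h

/-- charts exist for morphisms locally of finite type -/
theorem exists_isChart (f : X ⟶ Y) [LocallyOfFiniteType f] (U : X.affineOpens) (V : Y.affineOpens)
    (h : (U : X.Opens) ≤ f ⁻¹ᵁ (V : Y.Opens)) :
    ∃ (n : ℕ) (φ : MvPolynomial (Fin n) Γ(Y, (V : Y.Opens)) →+* Γ(X, (U : X.Opens))),
      IsChart f (U : X.Opens) (V : Y.Opens) h φ := by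
  have hft : (f.appLE V U h).hom.FiniteType := f.finiteType_appLE V.2 U.2 h
  letI : Algebra Γ(Y, (V : Y.Opens)) Γ(X, (U : X.Opens)) := (f.appLE V U h).hom.toAlgebra
  obtain ⟨n, g, hg⟩ := Algebra.FiniteType.iff_quotient_mvPolynomial''.1
    (show Algebra.FiniteType Γ(Y, (V : Y.Opens)) Γ(X, (U : X.Opens)) from hft)
  refine ⟨n, g.toRingHom, hg, ?_⟩
  ext a
  exact g.commutes a

/-- relative pseudo-coherence from all charts -/
theorem isPseudoCoherentRel_of_forall_chart (f : X ⟶ Y) [LocallyOfFiniteType f] (m : ℤ)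
    (K : DCoh.D X)
    (H : ∀ (U : X.affineOpens) (V : Y.affineOpens) (h : (U : X.Opens) ≤ f ⁻¹ᵁ (V : Y.Opens))
      (n : ℕ) (φ : MvPolynomial (Fin n) Γ(Y, (V : Y.Opens)) →+* Γ(X, (U : X.Opens))),
      IsChart f (U : X.Opens) (V : Y.Opens) h φ → ChartPC m K (U : X.Opens) (V : Y.Opens) φ) :
    IsPseudoCoherentRel f m K := by
  refine ⟨inferInstance, Set.univ, iSup_affineOpens_mem_univ Y, fun V _ => ?_⟩
  refine ⟨{U : X.affineOpens | (U : X.Opens) ≤ f ⁻¹ᵁ (V : Y.Opens)}, iSup_affineOpens_le _,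
    fun U _ h => ?_⟩
  obtain ⟨n, φ, hφ⟩ := exists_isChart f U V h
  exact ⟨n, φ, hφ, H U V h n φ hφ⟩

/-- a module in degree `0` is `m`-pseudo-coherent for `m > 0` -/
theorem isPseudoCoherentD_inD_of_pos (N : X.Modules) (m : ℤ) (hm : 0 < m) :
    DCoh.IsPseudoCoherentD m (DCoh.inD X N) := by
  rw [isPseudoCoherentD_iff_pcAt]
  intro x
  exact pcAt_of_vanishing m _ x ⊤ trivial (fun j hj =>
    isZero_homology_of_isZero (Scheme.Modules.restrictFunctor _) _ j
      (isZero_homology_single N j (by omega)))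

/-- part (1) -/
theorem isPseudoCoherentRel_inD_of_pos (f : X ⟶ Y) [LocallyOfFiniteType f] (M : X.Modules)
    (m : ℤ) (hm : 0 < m) : IsPseudoCoherentRel f m (DCoh.inD X M) := by
  apply isPseudoCoherentRel_of_forall_chart
  intro U V h n φ hφ
  rw [chartPC_single_iff (U : X.Opens) U.2 (V : Y.Opens) φ hφ.1]
  exact isPseudoCoherentD_inD_of_pos _ m hm

/-- a module in degree `0` is `0`-pseudo-coherent iff it is of finite type -/
theorem isPseudoCoherentD_zero_inD_iff (N : X.Modules) :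
    DCoh.IsPseudoCoherentD 0 (DCoh.inD X N) ↔ N.IsFiniteType := by
  constructor
  · intro h
    have h1 := isFiniteType_HD_of_isPseudoCoherentD 0 _ h
      (fun i hi => isZero_homology_single N i (by omega))
    exact @isFiniteType_of_iso _ _ _
      ((DerivedCategory.singleFunctorCompHomologyFunctorIso X.Modules 0).app N) h1
  · intro h
    exact isPseudoCoherentD_single_of_isFiniteType N

/-- the direct image of the structure sheaf along a chart is `0`-pseudo-coherent -/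
theorem pushUnitPCk_chartImm (U : X.Opens) (hU : IsAffineOpen U) {R : Type u} [CommRing R]
    {n : ℕ} (φ : MvPolynomial (Fin n) R →+* Γ(X, U)) (hφ : Function.Surjective φ) :
    PushUnitPCk (chartImm U φ) 0 := by
  haveI := isClosedImmersion_chartImm U hU φ hφ
  haveI : (Coh.structureModule (U : Scheme.{u})).IsFinitePresentation :=
    isFinitePresentation_of_isFinLocFree (isFinLocFree_unit _)
  haveI : (Coh.structureModule (U : Scheme.{u})).IsQuasicoherent :=
    isQuasicoherent_of_isFinLocFree (isFinLocFree_unit _)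
  haveI : (Coh.structureModule (U : Scheme.{u})).IsFiniteType := inferInstance
  haveI := isFiniteType_pushforward_of_isFinite (chartImm U φ) (Coh.structureModule (U : Scheme.{u}))
  exact isPseudoCoherentD_single_of_isFiniteType _

theorem chartPC_zero_iff (U : X.Opens) (hU : IsAffineOpen U) (V : Y.Opens) {n : ℕ}
    (φ : MvPolynomial (Fin n) Γ(Y, V) →+* Γ(X, U)) (hφ : Function.Surjective φ)
    (M : X.Modules) :
    ChartPC 0 (DCoh.inD X M) U V φ ↔ (M.restrict U.ι).IsFiniteType := by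
  haveI := isClosedImmersion_chartImm U hU φ hφ
  rw [chartPC_single_iff U hU V φ hφ, ← isPseudoCoherentD_zero_inD_iff,
    isPseudoCoherentD_FD_iff_of_isLE (chartImm U φ) (pushUnitPCk_chartImm U hU φ hφ)
      (DCoh.inD _ (M.restrict U.ι)) 0 0 (by norm_num)]
  exact ⟨fun h => isPseudoCoherentD_of_iso
      (((Scheme.Modules.pushforward (chartImm U φ)).mapDerivedCategorySingleFunctor 0).app _).symm h,
    fun h => isPseudoCoherentD_of_iso
      (((Scheme.Modules.pushforward (chartImm U φ)).mapDerivedCategorySingleFunctor 0).app _) h⟩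

/-- part (2) -/
theorem isPseudoCoherentRel_zero_iff (f : X ⟶ Y) [LocallyOfFiniteType f] (M : X.Modules) :
    IsPseudoCoherentRel f 0 (DCoh.inD X M) ↔ M.IsFiniteType := by
  constructor
  · rintro ⟨-, 𝒱, h𝒱, H⟩
    apply isFiniteType_of_locally
    intro x
    have hfx : f.base x ∈ (⨆ V ∈ 𝒱, (V : Y.Opens)) := by rw [h𝒱]; trivial
    obtain ⟨V, hV⟩ := Opens.mem_iSup.1 hfx
    obtain ⟨hV𝒱, hfxV⟩ := Opens.mem_iSup.1 hV
    obtain ⟨𝒰, h𝒰, HU⟩ := H V hV𝒱
    have hx : x ∈ (⨆ U ∈ 𝒰, (U : X.Opens)) := by rw [h𝒰]; exact hfxV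
    obtain ⟨U, hU⟩ := Opens.mem_iSup.1 hx
    obtain ⟨hU𝒰, hxU⟩ := Opens.mem_iSup.1 hU
    have hUV : (U : X.Opens) ≤ f ⁻¹ᵁ (V : Y.Opens) := by
      rw [← h𝒰]; exact le_iSup₂ (f := fun (U : X.affineOpens) (_ : U ∈ 𝒰) => (U : X.Opens)) U hU𝒰
    obtain ⟨n', φ, hchart, hPC⟩ := HU U hU𝒰 hUV
    exact ⟨U, hxU, (chartPC_zero_iff (U : X.Opens) U.2 (V : Y.Opens) φ hchart.1 M).1 hPC⟩
  · intro hM
    apply isPseudoCoherentRel_of_forall_chart
    intro U V h n φ hφ
    rw [chartPC_zero_iff (U : X.Opens) U.2 (V : Y.Opens) φ hφ.1]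
    exact isFiniteType_restrict _ M


theorem chartImm_appTop (U : X.Opens) {R : Type u} [CommRing R] {n : ℕ}
    (φ : MvPolynomial (Fin n) R →+* Γ(X, U)) :
    (chartImm U φ).appTop = (Scheme.ΓSpecIso (CommRingCat.of (MvPolynomial (Fin n) R))).hom ≫
      CommRingCat.ofHom φ ≫ U.topIso.inv := by
  unfold chartImm
  rw [Scheme.Hom.comp_appTop, Scheme.Opens.toSpecΓ_appTop, Scheme.ΓSpecIso_naturality_assoc]

/-- transfer of finite presentation along an additive equivalence which is semilinear -/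
theorem fp_transfer {T A' L L' : Type u} [CommRing T] [CommRing A'] [AddCommGroup L]
    [AddCommGroup L'] [Module T L] [Module A' L'] (ρ' : T →+* A') (e : L' ≃+ L)
    (he : ∀ (t : T) (x : L'), e (ρ' t • x) = t • e x) :
    (letI := Module.compHom L' ρ'; Module.FinitePresentation T L') ↔
      Module.FinitePresentation T L := by
  letI := Module.compHom L' ρ'
  let e' : L' ≃ₗ[T] L := { e with map_smul' := fun t x => he t x }
  exact ⟨fun h => Module.FinitePresentation.of_equiv e', fun h => Module.FinitePresentation.of_equiv e'.symm⟩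

/-- the morphism `U ⟶ Spec P` attached to a ring map `P ⟶ Γ(X, U)` -/
noncomputable abbrev toSpecOf (U : X.Opens) {P : CommRingCat.{u}} (ψ : P ⟶ Γ(X, U)) :
    (U : Scheme.{u}) ⟶ Spec P :=
  U.toSpecΓ ≫ Spec.map ψ

theorem toSpecOf_appTop (U : X.Opens) {P : CommRingCat.{u}} (ψ : P ⟶ Γ(X, U)) :
    (toSpecOf U ψ).appTop = (Scheme.ΓSpecIso P).hom ≫ ψ ≫ U.topIso.inv := by
  rw [Scheme.Hom.comp_appTop, Scheme.Opens.toSpecΓ_appTop, Scheme.ΓSpecIso_naturality_assoc]

theorem image_preimage_top (U : X.Opens) {P : CommRingCat.{u}} (ψ : P ⟶ Γ(X, U)) :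
    U.ι ''ᵁ ((toSpecOf U ψ) ⁻¹ᵁ ⊤) = U := U.ι_image_top

/-- the comparison of sections -/
noncomputable def sectionsEquiv (U : X.Opens) {P : CommRingCat.{u}} (ψ : P ⟶ Γ(X, U))
    (M : X.Modules) :
    Γ(M, U) ≃+ Γ((Scheme.Modules.pushforward (toSpecOf U ψ)).obj (M.restrict U.ι), ⊤) :=
  (M.presheaf.mapIso (eqToIso (image_preimage_top U ψ)).op).addCommGroupIsoToAddEquiv

theorem sectionsEquiv_apply (U : X.Opens) {P : CommRingCat.{u}} (ψ : P ⟶ Γ(X, U))
    (M : X.Modules) (x : Γ(M, U)) :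
    sectionsEquiv U ψ M x = M.presheaf.map (eqToHom (image_preimage_top U ψ)).op x := rfl

theorem ring_identity (U : X.Opens) {P : CommRingCat.{u}} (ψ : P ⟶ Γ(X, U)) (t : P) :
    (show Γ(X, U.ι ''ᵁ ((toSpecOf U ψ) ⁻¹ᵁ ⊤)) from
      (U.ι.appIso ((toSpecOf U ψ) ⁻¹ᵁ ⊤)).inv ((toSpecOf U ψ).app ⊤
        ((Spec P).presheaf.map (⊤ : (Spec P).Opens).leTop.op ((Scheme.ΓSpecIso P).inv t)))) =
      X.presheaf.map (eqToHom (image_preimage_top U ψ)).op (ψ.hom t) := by
  have h1 : (⊤ : (Spec P).Opens).leTop = 𝟙 _ := Subsingleton.elim _ _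
  have h2 : (toSpecOf U ψ).app ⊤ = (toSpecOf U ψ).appTop := rfl
  rw [h1, op_id, CategoryTheory.Functor.map_id, h2, toSpecOf_appTop, Scheme.Opens.ι_appIso]
  have h3 : (CommRingCat.Hom.hom (Scheme.ΓSpecIso P).hom)
      ((ConcreteCategory.hom (Scheme.ΓSpecIso P).inv) t) = t :=
    Iso.inv_hom_id_apply (Scheme.ΓSpecIso P) t
  simp only [Scheme.Opens.topIso, Functor.mapIso_inv, Iso.op_inv, eqToIso.inv, eqToHom_op,
    Iso.refl_inv, CommRingCat.hom_comp]
  erw [RingHom.comp_apply, RingHom.comp_apply, h3]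
  rfl

theorem sectionsEquiv_smul (U : X.Opens) {P : CommRingCat.{u}} (ψ : P ⟶ Γ(X, U))
    (M : X.Modules) (t : P) (x : Γ(M, U)) :
    sectionsEquiv U ψ M (ψ.hom t • x) = t • sectionsEquiv U ψ M x := by
  have key : ∀ y : Γ((Scheme.Modules.pushforward (toSpecOf U ψ)).obj (M.restrict U.ι), ⊤),
      t • y = (show Γ(M, U.ι ''ᵁ ((toSpecOf U ψ) ⁻¹ᵁ ⊤)) from
        (show Γ(X, U.ι ''ᵁ ((toSpecOf U ψ) ⁻¹ᵁ ⊤)) from
          (U.ι.appIso ((toSpecOf U ψ) ⁻¹ᵁ ⊤)).inv ((toSpecOf U ψ).app ⊤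
          ((Spec P).presheaf.map (⊤ : (Spec P).Opens).leTop.op ((Scheme.ΓSpecIso P).inv t)))) •
        (show Γ(M, U.ι ''ᵁ ((toSpecOf U ψ) ⁻¹ᵁ ⊤)) from y)) := fun y => rfl
  rw [key, ring_identity, sectionsEquiv_apply, sectionsEquiv_apply, Scheme.Modules.map_smul]

theorem fp_push_iff (U : X.Opens) {P : CommRingCat.{u}} (ψ : P ⟶ Γ(X, U)) (M : X.Modules) :
    (letI := Module.compHom Γ(M, U) ψ.hom; Module.FinitePresentation P Γ(M, U)) ↔
      Module.FinitePresentation P
        Γ((Scheme.Modules.pushforward (toSpecOf U ψ)).obj (M.restrict U.ι), ⊤) :=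
  fp_transfer ψ.hom (sectionsEquiv U ψ M) (sectionsEquiv_smul U ψ M)

theorem isFinitePresentation_push_iff (U : X.Opens) (hU : IsAffineOpen U) {P : CommRingCat.{u}}
    (ψ : P ⟶ Γ(X, U)) (hψ : Function.Surjective ψ.hom) (M : X.Modules) :
    ((Scheme.Modules.pushforward (toSpecOf U ψ)).obj (M.restrict U.ι)).IsFinitePresentation ↔
      (M.restrict U.ι).IsQuasicoherent ∧
        (letI := Module.compHom Γ(M, U) ψ.hom; Module.FinitePresentation P Γ(M, U)) := by
  haveI : IsAffine (U : Scheme.{u}) := hU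
  haveI : IsIso U.toSpecΓ := by
    rw [← hU.isoSpec_hom]; infer_instance
  haveI : IsClosedImmersion (Spec.map ψ) := IsClosedImmersion.spec_of_surjective _ hψ
  haveI : IsClosedImmersion (toSpecOf U ψ) := inferInstance
  rw [fp_push_iff]
  constructor
  · intro h
    haveI := h
    refine ⟨isQuasicoherent_of_pushforward (toSpecOf U ψ) _, finitePresentation_Γ_Spec _⟩
  · rintro ⟨h1, h2⟩
    haveI := h1
    haveI := isQuasicoherent_pushforward_of_isAffine (toSpecOf U ψ) (M.restrict U.ι)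
    haveI := h2
    obtain ⟨Pr, hPr⟩ := exists_presentation_of_finitePresentation_Γ
      ((Scheme.Modules.pushforward (toSpecOf U ψ)).obj (M.restrict U.ι))
    exact isFinitePresentation_of_presentation _ Pr

/-- chart test at level `-1` for a module in degree `0` -/
theorem chartPC_negOne_iff (U : X.Opens) (hU : IsAffineOpen U) (V : Y.Opens) {n : ℕ}
    (φ : MvPolynomial (Fin n) Γ(Y, V) →+* Γ(X, U)) (hφ : Function.Surjective φ)
    (M : X.Modules) :
    ChartPC (-1) (DCoh.inD X M) U V φ ↔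
      (M.restrict U.ι).IsQuasicoherent ∧
        (letI := Module.compHom (M.val.obj (op U)) φ;
          Module.FinitePresentation (MvPolynomial (Fin n) Γ(Y, V)) (M.val.obj (op U))) := by
  rw [chartPC_single_iff U hU V φ hφ]
  have key := isFinitePresentation_push_iff U hU (CommRingCat.ofHom φ) hφ M
  constructor
  · intro h
    exact key.1 (isFinitePresentation_of_isPseudoCoherentD_single _ h)
  · intro h
    exact @isPseudoCoherentD_single_of_isFinitePresentation _
      ((Scheme.Modules.pushforward (chartImm U φ)).obj ((Scheme.Modules.restrictFunctor U.ι).obj M))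
      (key.2 h)

/-- part (3) -/
theorem isPseudoCoherentRel_negOne_iff (f : X ⟶ Y) [LocallyOfFiniteType f] (M : X.Modules) :
    IsPseudoCoherentRel f (-1) (DCoh.inD X M) ↔ (Coh.IsQCoh M ∧ Flatn.IsRelFP f M) := by
  constructor
  · rintro ⟨-, 𝒱, h𝒱, H⟩
    constructor
    · apply isQuasicoherent_of_locally
      intro x
      have hfx : f.base x ∈ (⨆ V ∈ 𝒱, (V : Y.Opens)) := by rw [h𝒱]; trivial
      obtain ⟨V, hV⟩ := Opens.mem_iSup.1 hfx
      obtain ⟨hV𝒱, hfxV⟩ := Opens.mem_iSup.1 hV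
      obtain ⟨𝒰, h𝒰, HU⟩ := H V hV𝒱
      have hx : x ∈ (⨆ U ∈ 𝒰, (U : X.Opens)) := by rw [h𝒰]; exact hfxV
      obtain ⟨U, hU⟩ := Opens.mem_iSup.1 hx
      obtain ⟨hU𝒰, hxU⟩ := Opens.mem_iSup.1 hU
      have hUV : (U : X.Opens) ≤ f ⁻¹ᵁ (V : Y.Opens) := by
        rw [← h𝒰]; exact le_iSup₂ (f := fun (U : X.affineOpens) (_ : U ∈ 𝒰) => (U : X.Opens)) U hU𝒰
      obtain ⟨n', φ, hchart, hPC⟩ := HU U hU𝒰 hUV
      exact ⟨U, hxU, ((chartPC_negOne_iff (U : X.Opens) U.2 (V : Y.Opens) φ hchart.1 M).1 hPC).1⟩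
    · refine ⟨𝒱, h𝒱, fun V hV => ?_⟩
      obtain ⟨𝒰, h𝒰, HU⟩ := H V hV
      refine ⟨𝒰, h𝒰, fun U hU h => ?_⟩
      obtain ⟨n, φ, hchart, hPC⟩ := HU U hU h
      have h2 := ((chartPC_negOne_iff (U : X.Opens) U.2 (V : Y.Opens) φ hchart.1 M).1 hPC).2
      letI := (f.appLE (V : Y.Opens) (U : X.Opens) h).hom.toAlgebra
      refine ⟨n, { toRingHom := φ, commutes' := fun r => ?_ }, hchart.1, h2⟩
      exact congr($(hchart.2) r)
  · rintro ⟨hq, 𝒱, h𝒱, H⟩
    refine ⟨inferInstance, 𝒱, h𝒱, fun V hV => ?_⟩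
    obtain ⟨𝒰, h𝒰, HU⟩ := H V hV
    refine ⟨𝒰, h𝒰, fun U hU h => ?_⟩
    letI := (f.appLE (V : Y.Opens) (U : X.Opens) h).hom.toAlgebra
    obtain ⟨n, φ', hφ', hfp⟩ := HU U hU h
    refine ⟨n, φ'.toRingHom, ⟨hφ', ?_⟩, ?_⟩
    · ext r
      exact φ'.commutes r
    · rw [chartPC_negOne_iff (U : X.Opens) U.2 (V : Y.Opens) φ'.toRingHom hφ']
      haveI : M.IsQuasicoherent := hq
      exact ⟨isQuasicoherent_restrict _ M, hfp⟩

end Groth.Agent.Lib.Helper99.SRelMod
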