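import Mathlib
import Groth.Agent.Lib.Helper99.SRelMod1
import Groth.Agent.Lib.QCoh.Helper50_SpecMap
import Groth.Agent.Lib.QCoh.Affine

/-!
# Chart independence for relative pseudo-coherence, part 1 (helper99)

Good surjections of rings (those whose `Spec` has pseudo-coherent direct image of the structure
sheaf), presentations of affine schemes, the local pseudo-coherence test `Pres.LAt`, and its
invariance: under good surjections, change of polynomial presentation, localization of the
presenting ring, localization of the base ring, localization of the source, isomorphisms of the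
source.
-/

set_option autoImplicit false
universe u
open CategoryTheory Limits AlgebraicGeometry Opposite TopologicalSpace Pretriangulated

attribute [local instance] HasDerivedCategory.standard

namespace Groth.Agent.Lib.Helper99.SChart

open DerSch Groth.Agent.Lib.Helper99.SPerf Groth.Agent.Lib.Helper99.SPush
  Groth.Agent.Lib.Helper99.SStalk Groth.Agent.Lib.QCoh Groth.Agent.Lib.Helper99.SLfp
  Groth.Agent.Lib.Helper99.SClosed Groth.Agent.Lib.Helper99.SRelMod Scheme.Modules
  Groth.Agent.Lib.Helper99.SCoh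

variable {X Y : Scheme.{u}}


/-- composition of derived direct images along closed immersions -/
noncomputable def fdCompIso {W P P' : Scheme.{u}} (j : W ⟶ P) [IsClosedImmersion j]
    (κ : P ⟶ P') [IsClosedImmersion κ] : FD j ⋙ FD κ ≅ FD (j ≫ κ) :=
  (mapDerivedCategoryIsoOfComp (Scheme.Modules.pushforward j) (Scheme.Modules.pushforward κ)
    (Scheme.Modules.pushforward (j ≫ κ)) (Scheme.Modules.pushforwardComp j κ)).symm

/-- L1: changing the target along a closed immersion with pseudo-coherent structure sheaf -/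
theorem pcAt_comp_iff {W P P' : Scheme.{u}} (j : W ⟶ P) [IsClosedImmersion j]
    (κ : P ⟶ P') [IsClosedImmersion κ] (hκ : PushUnitPC κ) (K : DCoh.D W) (m : ℤ) (w : W) :
    PCAt m ((FD j).obj K) (j.base w) ↔ PCAt m ((FD (j ≫ κ)).obj K) ((j ≫ κ).base w) := by
  rw [pcAt_iff κ hκ ((FD j).obj K) m (j.base w)]
  exact ⟨fun h => h.of_iso ((fdCompIso j κ).app K), fun h => h.of_iso ((fdCompIso j κ).app K).symm⟩

/-- for an isomorphism `e`, `e_* ∘ e^* ≅ id` -/
noncomputable def restrictPushIsoId {W' W : Scheme.{u}} (e : W' ⟶ W) [IsIso e] :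
    restrictFunctor e ⋙ pushforward e ≅ 𝟭 _ :=
  let c' : pushforward (inv e) ⋙ restrictFunctor (inv e) ≅ 𝟭 _ := restrictFunctorAdjCounitIso (inv e)
  let a : pushforward e ⋙ pushforward (inv e) ≅ 𝟭 _ :=
    pushforwardComp e (inv e) ≪≫ pushforwardCongr (IsIso.hom_inv_id e) ≪≫ pushforwardId _
  let b : restrictFunctor e ⋙ restrictFunctor (inv e) ≅ 𝟭 _ :=
    (restrictFunctorComp (inv e) e).symm ≪≫ restrictFunctorCongr (IsIso.inv_hom_id e) ≪≫
      restrictFunctorId
  calc restrictFunctor e ⋙ pushforward e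
      ≅ (restrictFunctor e ⋙ pushforward e) ⋙ 𝟭 _ := (Functor.rightUnitor _).symm
    _ ≅ (restrictFunctor e ⋙ pushforward e) ⋙ (pushforward (inv e) ⋙ restrictFunctor (inv e)) :=
        Functor.isoWhiskerLeft _ c'.symm
    _ ≅ restrictFunctor e ⋙ (pushforward e ⋙ pushforward (inv e)) ⋙ restrictFunctor (inv e) :=
        Functor.associator _ _ _ ≪≫ Functor.isoWhiskerLeft _ (Functor.associator _ _ _).symm
    _ ≅ restrictFunctor e ⋙ 𝟭 _ ⋙ restrictFunctor (inv e) :=
        Functor.isoWhiskerLeft _ (Functor.isoWhiskerRight a _)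
    _ ≅ restrictFunctor e ⋙ restrictFunctor (inv e) :=
        Functor.isoWhiskerLeft _ (Functor.leftUnitor _)
    _ ≅ 𝟭 _ := b

theorem isPseudoCoherentD_inD_unit (P : Scheme.{u}) (m : ℤ) :
    DCoh.IsPseudoCoherentD m (DCoh.inD P (Coh.structureModule P)) :=
  isPseudoCoherentD_of_iso ((DerivedCategory.singleFunctor _ 0).mapIso (freeModOneIso P))
    (isPseudoCoherentD_inD_freeMod P 1 m)

theorem pushUnitPC_of_isIso {P P' : Scheme.{u}} (κ : P ⟶ P') [IsIso κ] : PushUnitPC κ := by
  intro m
  have e : (pushforward κ).obj (Coh.structureModule P) ≅ Coh.structureModule P' :=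
    (pushforward κ).mapIso (restrictUnitIso κ).symm ≪≫ (restrictPushIsoId κ).app _
  exact isPseudoCoherentD_of_iso ((DerivedCategory.singleFunctor _ 0).mapIso e).symm
    (isPseudoCoherentD_inD_unit P' m)

theorem pushUnitPC_comp {W P P' : Scheme.{u}} (j : W ⟶ P) [IsClosedImmersion j]
    (κ : P ⟶ P') [IsClosedImmersion κ] (hj : PushUnitPC j) (hκ : PushUnitPC κ) :
    PushUnitPC (j ≫ κ) := by
  intro m
  have h1 := (isPseudoCoherentD_FD_iff κ hκ _ m).1 (hj m)
  have e1 := ((pushforward κ).mapDerivedCategorySingleFunctor 0).app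
    ((pushforward j).obj (Coh.structureModule W))
  have e2 : (pushforward κ).obj ((pushforward j).obj (Coh.structureModule W)) ≅
      (pushforward (j ≫ κ)).obj (Coh.structureModule W) :=
    (pushforwardComp j κ).app _
  exact isPseudoCoherentD_of_iso (e1 ≪≫ (DerivedCategory.singleFunctor _ 0).mapIso e2) h1

section RQ

variable {T T' : CommRingCat.{u}} (ρ : T ⟶ T')

/-- the `T`-linear map `T → T'` -/
noncomputable def quotMap : ModuleCat.of T T ⟶
    (ModuleCat.restrictScalars ρ.hom).obj (ModuleCat.of T' T') :=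
  letI : Module T T' := Module.compHom T' ρ.hom
  (ModuleCat.ofHom (R := T) (X := T) (Y := T')
    { toFun := fun t => ρ.hom t
      map_add' := fun a b => map_add ρ.hom a b
      map_smul' := fun a b => by
        change ρ.hom (a * b) = ρ.hom a * ρ.hom b
        exact map_mul ρ.hom a b } : ModuleCat.of T T ⟶ ModuleCat.of T T')

theorem quotMap_apply (t : T) : (quotMap ρ).hom t = ρ.hom t := rfl

/-- multiplication by `r` -/
noncomputable def mulMap (r : T) : ModuleCat.of T T ⟶ ModuleCat.of T T :=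
  ModuleCat.ofHom (LinearMap.mulLeft T r)

theorem mulMap_apply (r t : T) : (mulMap r).hom t = r * t := rfl

theorem mulMap_quotMap (r : T) (hr : ρ.hom r = 0) : mulMap r ≫ quotMap ρ = 0 := by
  ext
  change ρ.hom (r * 1) = 0
  rw [mul_one, hr]

noncomputable def rqComplex (r : T) (hr : ρ.hom r = 0) : ShortComplex (ModuleCat.{u} T) :=
  ShortComplex.mk (mulMap r) (quotMap ρ) (mulMap_quotMap ρ r hr)

theorem rqComplex_shortExact (r : T) (hr : r ∈ nonZeroDivisors T)
    (hρ : Function.Surjective ρ.hom) (hker : RingHom.ker ρ.hom = Ideal.span {r})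
    (hr0 : ρ.hom r = 0) :
    (rqComplex ρ r hr0).ShortExact := by
  haveI : Mono (rqComplex ρ r hr0).f := by
    rw [ModuleCat.mono_iff_injective]
    intro (a : T) (b : T) (hab : r * a = r * b)
    exact (mul_cancel_left_mem_nonZeroDivisors hr).1 hab
  haveI : Epi (rqComplex ρ r hr0).g := by
    rw [ModuleCat.epi_iff_surjective]
    exact hρ
  refine ShortComplex.ShortExact.mk ?_
  rw [ShortComplex.moduleCat_exact_iff]
  intro (x : T) hx
  have hx' : x ∈ RingHom.ker ρ.hom := hx
  rw [hker, Ideal.mem_span_singleton'] at hx'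
  obtain ⟨a, rfl⟩ := hx'
  exact ⟨a, mul_comm r a⟩

/-- RQ: the quotient by a nonzerodivisor has pseudo-coherent direct image of the structure sheaf -/
theorem pushUnitPC_SpecMap_of_regular (r : T) (hr : r ∈ nonZeroDivisors T)
    (hρ : Function.Surjective ρ.hom) (hker : RingHom.ker ρ.hom = Ideal.span {r}) :
    PushUnitPC (Spec.map ρ) := by
  intro m
  have hr0 : ρ.hom r = 0 := by
    have : r ∈ RingHom.ker ρ.hom := by rw [hker]; exact Ideal.subset_span rfl
    exact this
  have hS := rqComplex_shortExact ρ r hr hρ hker hr0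
  have hS' := hS.map_of_exact (tilde.functor T)
  have hT := hS'.singleTriangle_distinguished
  have h1 : ∀ k, DCoh.IsPseudoCoherentD k (DCoh.inD (Spec T) (tilde (ModuleCat.of T T))) :=
    fun k => isPseudoCoherentD_inD_unit (Spec T) k
  have h3 := isPseudoCoherentD_obj₃ m _ hT (h1 (m + 1)) (h1 m)
  have e : (pushforward (Spec.map ρ)).obj (Coh.structureModule (Spec T')) ≅
      tilde ((ModuleCat.restrictScalars ρ.hom).obj (ModuleCat.of T' T')) :=
    tildePushforwardIso ρ (ModuleCat.of T' T')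
  exact isPseudoCoherentD_of_iso ((DerivedCategory.singleFunctor _ 0).mapIso e).symm h3

end RQ

theorem pcAt_FD_congr {W P : Scheme.{u}} {j j' : W ⟶ P} [IsClosedImmersion j]
    [IsClosedImmersion j'] (h : j = j') (K : DCoh.D W) (m : ℤ) (w : W) :
    PCAt m ((FD j).obj K) (j.base w) ↔ PCAt m ((FD j').obj K) (j'.base w) := by
  subst h
  exact Iff.rfl

/-- good surjections of rings -/
def Good {P P' : CommRingCat.{u}} (ρ : P ⟶ P') : Prop :=
  Function.Surjective ρ.hom ∧ PushUnitPC (Spec.map ρ)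

theorem Good.of_bijective {P P' : CommRingCat.{u}} (ρ : P ⟶ P')
    (h : Function.Bijective ρ.hom) : Good ρ := by
  haveI : IsIso ρ := (ConcreteCategory.isIso_iff_bijective ρ).2 h
  exact ⟨h.2, pushUnitPC_of_isIso _⟩

theorem Good.comp {P P' P'' : CommRingCat.{u}} {ρ₁ : P ⟶ P'} {ρ₂ : P' ⟶ P''}
    (h₁ : Good ρ₁) (h₂ : Good ρ₂) : Good (ρ₁ ≫ ρ₂) := by
  haveI : IsClosedImmersion (Spec.map ρ₁) := IsClosedImmersion.spec_of_surjective _ h₁.1
  haveI : IsClosedImmersion (Spec.map ρ₂) := IsClosedImmersion.spec_of_surjective _ h₂.1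
  refine ⟨?_, ?_⟩
  · rw [CommRingCat.hom_comp]
    exact h₂.1.comp h₁.1
  · rw [Spec.map_comp]
    exact pushUnitPC_comp _ _ h₂.2 h₁.2

theorem Good.of_regular {T T' : CommRingCat.{u}} (ρ : T ⟶ T') (r : T)
    (hr : r ∈ nonZeroDivisors T)
    (hρ : Function.Surjective ρ.hom) (hker : RingHom.ker ρ.hom = Ideal.span {r}) : Good ρ :=
  ⟨hρ, pushUnitPC_SpecMap_of_regular ρ r hr hρ hker⟩

/-- a presentation of an affine scheme -/
structure Pres (W : Scheme.{u}) where
  P : CommRingCat.{u}
  ψ : P ⟶ Γ(W, ⊤)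
  surj : Function.Surjective ψ.hom

namespace Pres

variable {W : Scheme.{u}} [IsAffine W]

/-- the closed immersion of a presentation -/
noncomputable def imm (p : Pres W) : W ⟶ Spec p.P := W.toSpecΓ ≫ Spec.map p.ψ

instance (p : Pres W) : IsClosedImmersion p.imm := by
  haveI : IsClosedImmersion (Spec.map p.ψ) := IsClosedImmersion.spec_of_surjective _ p.surj
  unfold imm
  infer_instance

/-- the local pseudo-coherence test of a presentation -/
def LAt (p : Pres W) (K : DCoh.D W) (m : ℤ) (w : W) : Prop :=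
  PCAt m ((FD p.imm).obj K) (p.imm.base w)

/-- precomposition with a surjection -/
@[reducible] def precomp (p : Pres W) {P₀ : CommRingCat.{u}} (ρ : P₀ ⟶ p.P)
    (hρ : Function.Surjective ρ.hom) : Pres W where
  P := P₀
  ψ := ρ ≫ p.ψ
  surj := by
    rw [CommRingCat.hom_comp]
    exact p.surj.comp hρ

theorem precomp_imm (p : Pres W) {P₀ : CommRingCat.{u}} (ρ : P₀ ⟶ p.P)
    (hρ : Function.Surjective ρ.hom) : (p.precomp ρ hρ).imm = p.imm ≫ Spec.map ρ := by
  simp only [imm, precomp, Spec.map_comp, Category.assoc]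

/-- L1 for presentations -/
theorem lAt_precomp_iff (p : Pres W) {P₀ : CommRingCat.{u}} (ρ : P₀ ⟶ p.P) (hρ : Good ρ)
    (K : DCoh.D W) (m : ℤ) (w : W) :
    (p.precomp ρ hρ.1).LAt K m w ↔ p.LAt K m w := by
  haveI : IsClosedImmersion (Spec.map ρ) := IsClosedImmersion.spec_of_surjective _ hρ.1
  have h := pcAt_comp_iff p.imm (Spec.map ρ) hρ.2 K m w
  haveI : IsClosedImmersion (p.imm ≫ Spec.map ρ) := IsClosedImmersion.comp _ _
  unfold LAt
  rw [h]
  exact pcAt_FD_congr (precomp_imm p ρ hρ.1) K m w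

end Pres

/-- good ring homomorphisms (unbundled version) -/
def GoodHom {P P' : Type u} [CommRing P] [CommRing P'] (ρ : P →+* P') : Prop :=
  Good (CommRingCat.ofHom ρ)

theorem GoodHom.of_bijective {P P' : Type u} [CommRing P] [CommRing P'] (ρ : P →+* P')
    (h : Function.Bijective ρ) : GoodHom ρ :=
  Good.of_bijective _ h

theorem GoodHom.comp {P P' P'' : Type u} [CommRing P] [CommRing P'] [CommRing P'']
    {ρ₁ : P →+* P'} {ρ₂ : P' →+* P''} (h₁ : GoodHom ρ₁) (h₂ : GoodHom ρ₂) :
    GoodHom (ρ₂.comp ρ₁) :=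
  Good.comp h₁ h₂

/-- evaluation of a polynomial at a point is good -/
theorem GoodHom.evalRingHom {Q : Type u} [CommRing Q] (c : Q) :
    GoodHom (Polynomial.evalRingHom c) := by
  refine Good.of_regular _ (Polynomial.X - Polynomial.C c)
    (Polynomial.monic_X_sub_C c).mem_nonZeroDivisors ?_ (Polynomial.ker_evalRingHom c)
  intro q
  exact ⟨Polynomial.C q, Polynomial.eval_C⟩

/-- evaluation of all the variables is good -/
theorem GoodHom.eval₂Hom {P : Type u} [CommRing P] :
    ∀ (k : ℕ) (b : Fin k → P), GoodHom (MvPolynomial.eval₂Hom (RingHom.id P) b) := by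
  intro k
  induction k with
  | zero =>
    intro b
    apply GoodHom.of_bijective
    constructor
    · intro q q' h
      obtain ⟨a, rfl⟩ := MvPolynomial.C_surjective (Fin 0) q
      obtain ⟨a', rfl⟩ := MvPolynomial.C_surjective (Fin 0) q'
      simp only [MvPolynomial.coe_eval₂Hom, MvPolynomial.eval₂_C, RingHom.id_apply] at h
      rw [h]
    · intro p
      exact ⟨MvPolynomial.C p, by simp⟩
  | succ k ih =>
    intro b
    have h1 : GoodHom ((MvPolynomial.finSuccEquiv P k : MvPolynomial (Fin (k + 1)) P →+*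
        Polynomial (MvPolynomial (Fin k) P))) :=
      GoodHom.of_bijective _ (MvPolynomial.finSuccEquiv P k).bijective
    have h2 := GoodHom.evalRingHom (Q := MvPolynomial (Fin k) P) (MvPolynomial.C (b 0))
    have h3 := ih (fun j => b j.succ)
    have h := (h1.comp h2).comp h3
    have e : (MvPolynomial.eval₂Hom (RingHom.id P) b : MvPolynomial (Fin (k + 1)) P →+* P) =
        (MvPolynomial.eval₂Hom (RingHom.id P) (fun j => b j.succ)).comp
          ((Polynomial.evalRingHom (MvPolynomial.C (b 0))).comp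
            (MvPolynomial.finSuccEquiv P k : MvPolynomial (Fin (k + 1)) P →+*
              Polynomial (MvPolynomial (Fin k) P))) := by
      apply MvPolynomial.ringHom_ext
      · intro p
        simp [MvPolynomial.finSuccEquiv_apply]
      · intro i
        refine Fin.cases ?_ (fun j => ?_) i
        · simp [MvPolynomial.finSuccEquiv_X_zero]
        · simp [MvPolynomial.finSuccEquiv_X_succ]
    rw [e]
    exact h

namespace Pres

variable {W : Scheme.{u}}

/-- presentation from a surjective ring homomorphism -/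
@[reducible] def ofHom {P : Type u} [CommRing P] (φ : P →+* Γ(W, ⊤))
    (hφ : Function.Surjective φ) : Pres W :=
  ⟨CommRingCat.of P, CommRingCat.ofHom φ, hφ⟩

variable [IsAffine W]

theorem lAt_congr {P : Type u} [CommRing P] {φ φ' : P →+* Γ(W, ⊤)} (h : φ = φ')
    (hφ : Function.Surjective φ) (hφ' : Function.Surjective φ') (K : DCoh.D W) (m : ℤ) (w : W) :
    (ofHom φ hφ).LAt K m w ↔ (ofHom φ' hφ').LAt K m w := by
  subst h
  exact Iff.rfl

/-- L1 for ring homomorphisms -/
theorem lAt_comp_iff {P P' : Type u} [CommRing P] [CommRing P'] (φ' : P' →+* Γ(W, ⊤))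
    (hφ' : Function.Surjective φ') (ρ : P →+* P') (hρ : GoodHom ρ)
    (K : DCoh.D W) (m : ℤ) (w : W) :
    (ofHom (φ'.comp ρ) (hφ'.comp hρ.1)).LAt K m w ↔ (ofHom φ' hφ').LAt K m w :=
  lAt_precomp_iff (ofHom φ' hφ') (CommRingCat.ofHom ρ) hρ K m w

/-- independence of the polynomial presentation over a fixed base ring -/
theorem lAt_indep {R : Type u} [CommRing R] {n k : ℕ}
    (φ₁ : MvPolynomial (Fin n) R →+* Γ(W, ⊤)) (h₁ : Function.Surjective φ₁)
    (φ₂ : MvPolynomial (Fin k) R →+* Γ(W, ⊤)) (h₂ : Function.Surjective φ₂)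
    (hC : φ₁.comp MvPolynomial.C = φ₂.comp MvPolynomial.C)
    (K : DCoh.D W) (m : ℤ) (w : W) :
    (ofHom φ₁ h₁).LAt K m w ↔ (ofHom φ₂ h₂).LAt K m w := by
  choose b hb using fun j : Fin k => h₁ (φ₂ (MvPolynomial.X j))
  choose c hc using fun i : Fin n => h₂ (φ₁ (MvPolynomial.X i))
  let φ₁₂ : MvPolynomial (Fin k) (MvPolynomial (Fin n) R) →+* Γ(W, ⊤) :=
    MvPolynomial.eval₂Hom φ₁ (fun j => φ₂ (MvPolynomial.X j))
  let φ₂₁ : MvPolynomial (Fin n) (MvPolynomial (Fin k) R) →+* Γ(W, ⊤) :=
    MvPolynomial.eval₂Hom φ₂ (fun i => φ₁ (MvPolynomial.X i))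
  let ρ₁ : MvPolynomial (Fin k) (MvPolynomial (Fin n) R) →+* MvPolynomial (Fin n) R :=
    MvPolynomial.eval₂Hom (RingHom.id _) b
  let ρ₂ : MvPolynomial (Fin n) (MvPolynomial (Fin k) R) →+* MvPolynomial (Fin k) R :=
    MvPolynomial.eval₂Hom (RingHom.id _) c
  let θ : MvPolynomial (Fin k) (MvPolynomial (Fin n) R) →+*
      MvPolynomial (Fin n) (MvPolynomial (Fin k) R) :=
    (MvPolynomial.commAlgEquiv R (Fin k) (Fin n) : _ →+* _)
  have e₁ : φ₁.comp ρ₁ = φ₁₂ := by
    apply MvPolynomial.ringHom_ext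
    · intro p; simp [ρ₁, φ₁₂]
    · intro j; simp [ρ₁, φ₁₂, hb]
  have e₂ : φ₂.comp ρ₂ = φ₂₁ := by
    apply MvPolynomial.ringHom_ext
    · intro p; simp [ρ₂, φ₂₁]
    · intro i; simp [ρ₂, φ₂₁, hc]
  have e₃ : φ₂₁.comp θ = φ₁₂ := by
    apply MvPolynomial.ringHom_ext
    · intro p
      have : (φ₂₁.comp θ).comp MvPolynomial.C = φ₁₂.comp MvPolynomial.C := by
        apply MvPolynomial.ringHom_ext
        · intro r
          have := congr($hC r)
          simpa [θ, φ₂₁, φ₁₂] using this.symm
        · intro i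
          simp [θ, φ₂₁, φ₁₂, MvPolynomial.commAlgEquiv_C_X]
      exact congr($this p)
    · intro j
      simp [θ, φ₂₁, φ₁₂]
  have g₁ : GoodHom ρ₁ := GoodHom.eval₂Hom k b
  have g₂ : GoodHom ρ₂ := GoodHom.eval₂Hom n c
  have g₃ : GoodHom θ := GoodHom.of_bijective _ (MvPolynomial.commAlgEquiv R (Fin k) (Fin n)).bijective
  have h₁₂ : Function.Surjective φ₁₂ := by rw [← e₁]; exact h₁.comp g₁.1
  have h₂₁ : Function.Surjective φ₂₁ := by rw [← e₂]; exact h₂.comp g₂.1
  rw [← lAt_comp_iff φ₁ h₁ ρ₁ g₁, ← lAt_comp_iff φ₂ h₂ ρ₂ g₂,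
    lAt_congr e₁ _ h₁₂, lAt_congr e₂ _ h₂₁, ← lAt_comp_iff φ₂₁ h₂₁ θ g₃, lAt_congr e₃ _ h₁₂]

end Pres

open Polynomial in
theorem mem_nonZeroDivisors_C_mul_X_sub_one {P : Type u} [CommRing P] (a : P) :
    (C a * Polynomial.X - 1 : P[X]) ∈ nonZeroDivisors P[X] := by
  rw [mem_nonZeroDivisors_iff_right]
  intro q hq
  have hq' : q * C a * Polynomial.X - q = 0 := by
    rw [← hq]; ring
  ext n
  induction n with
  | zero =>
    have := congr(Polynomial.coeff $hq' 0)
    rw [Polynomial.coeff_sub, Polynomial.coeff_mul_X_zero, zero_sub] at this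
    simpa using this
  | succ n ih =>
    have := congr(Polynomial.coeff $hq' (n + 1))
    rw [Polynomial.coeff_sub, Polynomial.coeff_mul_X, Polynomial.coeff_mul_C, ih,
      Polynomial.coeff_zero, zero_mul, zero_sub] at this
    simpa using this

open Polynomial in
/-- (α): the surjection `P[t] → P_a`, `t ↦ 1/a`, is good -/
theorem GoodHom.awayLift {P P' : Type u} [CommRing P] [CommRing P'] [Algebra P P'] (a : P)
    [IsLocalization.Away a P'] :
    GoodHom (Polynomial.eval₂RingHom (algebraMap P P') (IsLocalization.Away.invSelf a)) := by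
  let f : P[X] := C a * Polynomial.X - 1
  have h1 : GoodHom (AdjoinRoot.mk f) := by
    refine Good.of_regular _ f (mem_nonZeroDivisors_C_mul_X_sub_one a) AdjoinRoot.mk_surjective ?_
    ext q
    change AdjoinRoot.mk f q = 0 ↔ _
    rw [AdjoinRoot.mk_eq_zero, Ideal.mem_span_singleton]
  haveI := IsLocalization.adjoin_inv a
  let θ : AdjoinRoot f ≃ₐ[P] P' := IsLocalization.algEquiv (Submonoid.powers a) (AdjoinRoot f) P'
  have h2 : GoodHom (θ : AdjoinRoot f →+* P') := GoodHom.of_bijective _ θ.bijective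
  have e : Polynomial.eval₂RingHom (algebraMap P P') (IsLocalization.Away.invSelf a) =
      (θ : AdjoinRoot f →+* P').comp (AdjoinRoot.mk f) := by
    apply Polynomial.ringHom_ext
    · intro p
      simp only [coe_eval₂RingHom, eval₂_C, RingHom.coe_comp, RingHom.coe_coe, Function.comp_apply,
        AdjoinRoot.mk_C]
      rw [← AdjoinRoot.algebraMap_eq, θ.commutes]
    · simp only [coe_eval₂RingHom, eval₂_X, RingHom.coe_comp, RingHom.coe_coe, Function.comp_apply,
        AdjoinRoot.mk_X]
      have h3 : algebraMap P P' a * θ (AdjoinRoot.root f) = 1 := by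
        rw [← θ.commutes a, ← map_mul, AdjoinRoot.algebraMap_eq, AdjoinRoot.root_isInv, map_one]
      have h4 : algebraMap P P' a * IsLocalization.Away.invSelf a = 1 :=
        IsLocalization.Away.mul_invSelf a
      calc IsLocalization.Away.invSelf a
          = IsLocalization.Away.invSelf a * (algebraMap P P' a * θ (AdjoinRoot.root f)) := by
            rw [h3, mul_one]
        _ = (algebraMap P P' a * IsLocalization.Away.invSelf a) * θ (AdjoinRoot.root f) := by ring
        _ = θ (AdjoinRoot.root f) := by rw [h4, one_mul]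
  rw [e]
  exact h1.comp h2

namespace Pres

variable {W : Scheme.{u}}

variable [IsAffine W]

/-- (β) half: from a presentation of the localization to the polynomial ring -/
theorem lAt_awayLift_iff {P P' : Type u} [CommRing P] [CommRing P'] [Algebra P P'] (a : P)
    [IsLocalization.Away a P'] (φ' : P' →+* Γ(W, ⊤)) (hφ' : Function.Surjective φ')
    (K : DCoh.D W) (m : ℤ) (w : W) :
    (ofHom (φ'.comp (Polynomial.eval₂RingHom (algebraMap P P') (IsLocalization.Away.invSelf a)))
      (hφ'.comp (GoodHom.awayLift a).1)).LAt K m w ↔ (ofHom φ' hφ').LAt K m w :=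
  lAt_comp_iff φ' hφ' _ (GoodHom.awayLift a) K m w

/-- (β): localization of the presenting ring -/
theorem lAt_away_iff {P P' : Type u} [CommRing P] [CommRing P'] [Algebra P P'] (a : P)
    [IsLocalization.Away a P'] (φ : P →+* Γ(W, ⊤)) (hφ : Function.Surjective φ)
    (φ' : P' →+* Γ(W, ⊤)) (hφ' : Function.Surjective φ')
    (hcomp : φ'.comp (algebraMap P P') = φ)
    (K : DCoh.D W) (m : ℤ) (w : W) :
    (ofHom φ hφ).LAt K m w ↔ (ofHom φ' hφ').LAt K m w := by
  have hu : φ a * φ' (IsLocalization.Away.invSelf a) = 1 := by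
    rw [← hcomp, RingHom.comp_apply, ← map_mul, IsLocalization.Away.mul_invSelf, map_one]
  obtain ⟨b, hb⟩ := hφ (φ' (IsLocalization.Away.invSelf a))
  let φt : Polynomial P →+* Γ(W, ⊤) := Polynomial.eval₂RingHom φ (φ b)
  have e₁ : φ.comp (Polynomial.evalRingHom b) = φt := by
    apply Polynomial.ringHom_ext
    · intro p; simp [φt]
    · simp [φt]
  have e₂ : φ'.comp (Polynomial.eval₂RingHom (algebraMap P P') (IsLocalization.Away.invSelf a)) =
      φt := by
    apply Polynomial.ringHom_ext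
    · intro p
      have := congr($hcomp p)
      simpa [φt] using this
    · simp [φt, hb]
  have ht : Function.Surjective φt := by rw [← e₁]; exact hφ.comp (GoodHom.evalRingHom b).1
  rw [← lAt_comp_iff φ hφ _ (GoodHom.evalRingHom b), ← lAt_awayLift_iff a φ' hφ',
    lAt_congr e₁ _ ht, lAt_congr e₂ _ ht]

attribute [local instance] MvPolynomial.algebraMvPolynomial in
/-- (γ): base localization -/
theorem lAt_baseAway_iff {R R₁ : Type u} [CommRing R] [CommRing R₁] [Algebra R R₁] (a : R)
    [IsLocalization.Away a R₁] {N N₁ : ℕ}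
    (φ : MvPolynomial (Fin N) R →+* Γ(W, ⊤)) (hφ : Function.Surjective φ)
    (φ₁ : MvPolynomial (Fin N₁) R₁ →+* Γ(W, ⊤)) (hφ₁ : Function.Surjective φ₁)
    (hC : (φ₁.comp MvPolynomial.C).comp (algebraMap R R₁) = φ.comp MvPolynomial.C)
    (K : DCoh.D W) (m : ℤ) (w : W) :
    (ofHom φ hφ).LAt K m w ↔ (ofHom φ₁ hφ₁).LAt K m w := by
  let φe : MvPolynomial (Fin N) R₁ →+* Γ(W, ⊤) :=
    MvPolynomial.eval₂Hom (φ₁.comp MvPolynomial.C) (fun i => φ (MvPolynomial.X i))
  have e' : φe.comp (MvPolynomial.map (algebraMap R R₁)) = φ := by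
    apply MvPolynomial.ringHom_ext
    · intro r
      have := congr($hC r)
      simpa [φe] using this
    · intro i
      simp [φe]
  have e : φe.comp (algebraMap (MvPolynomial (Fin N) R) (MvPolynomial (Fin N) R₁)) = φ := e'
  have he : Function.Surjective φe := by
    intro y
    obtain ⟨q, rfl⟩ := hφ y
    exact ⟨algebraMap _ _ q, congr($e q)⟩
  haveI : IsLocalization.Away (MvPolynomial.C a : MvPolynomial (Fin N) R)
      (MvPolynomial (Fin N) R₁) := by
    have := MvPolynomial.isLocalization (σ := Fin N) (Submonoid.powers a) R₁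
    simpa [IsLocalization.Away, Submonoid.map_powers] using this
  rw [lAt_away_iff (MvPolynomial.C a) φ hφ φe he e]
  exact lAt_indep φe he φ₁ hφ₁ (by
    apply RingHom.ext
    intro r
    simp [φe]) K m w

end Pres

/-- restriction to an open of the target -/
theorem pcAt_FD_restrict_iff {Z P : Scheme.{u}} (i : Z ⟶ P) [IsClosedImmersion i] (K : DCoh.D Z)
    (m : ℤ) (D : P.Opens) (z : Z) (hz : i.base z ∈ D) :
    PCAt m ((FD i).obj K) (i.base z) ↔
      PCAt m ((FD (i ∣_ D)).obj ((DCoh.restrictD (i ⁻¹ᵁ D).ι).obj K))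
        ((i ∣_ D).base (⟨z, hz⟩ : (i ⁻¹ᵁ D : Scheme.{u}))) := by
  rw [← pcAt_restrict_iff m ((FD i).obj K) D (i.base z) hz, morphismRestrict_base_mk]
  exact ⟨fun h' => h'.of_iso ((bcIso i D).app K), fun h' => h'.of_iso ((bcIso i D).app K).symm⟩

section Abstract

variable {A : Type*} [Category A] [Abelian A] [HasDerivedCategory A]

/-- `mapDerivedCategory` of the identity functor -/
noncomputable def mapDerivedCategoryIdIso : (𝟭 A).mapDerivedCategory ≅ 𝟭 (DerivedCategory A) :=
  letI l1 : Localization.Lifting DerivedCategory.Q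
      (HomologicalComplex.quasiIso A (ComplexShape.up ℤ))
      ((𝟭 A).mapHomologicalComplex (ComplexShape.up ℤ) ⋙ DerivedCategory.Q)
      ((𝟭 A).mapDerivedCategory) := ⟨(𝟭 A).mapDerivedCategoryFactors⟩
  letI l2 : Localization.Lifting DerivedCategory.Q
      (HomologicalComplex.quasiIso A (ComplexShape.up ℤ))
      (DerivedCategory.Q) (𝟭 (DerivedCategory A)) := ⟨Functor.rightUnitor _⟩
  Localization.liftNatIso DerivedCategory.Q (HomologicalComplex.quasiIso A (ComplexShape.up ℤ))
    ((𝟭 A).mapHomologicalComplex (ComplexShape.up ℤ) ⋙ DerivedCategory.Q) DerivedCategory.Q _ _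
    (Functor.isoWhiskerRight (Functor.mapHomologicalComplexIdIso A (ComplexShape.up ℤ)) _ ≪≫
      Functor.leftUnitor _)

end Abstract

/-- for an isomorphism `e`: `e_* e^* ≅ id` on derived categories -/
noncomputable def restrictDPushIso {W' W : Scheme.{u}} (e : W' ⟶ W) [IsIso e] :
    DCoh.restrictD e ⋙ FD e ≅ 𝟭 _ :=
  (mapDerivedCategoryIsoOfComp (restrictFunctor e) (pushforward e) (𝟭 _)
    (restrictPushIsoId e).symm).symm ≪≫ mapDerivedCategoryIdIso

namespace Pres

variable {W : Scheme.{u}}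

variable [IsAffine W]

/-- presentation attached to a closed immersion into an affine scheme -/
@[reducible] noncomputable def ofImm {P : CommRingCat.{u}} (j : W ⟶ Spec P) [IsClosedImmersion j] :
    Pres W where
  P := P
  ψ := (Scheme.ΓSpecIso P).inv ≫ j.appTop
  surj := by
    have h1 : Function.Surjective j.appTop.hom :=
      (IsClosedImmersion.isAffine_surjective_of_isAffine j).2
    have h2 : Function.Surjective (Scheme.ΓSpecIso P).inv.hom :=
      (ConcreteCategory.bijective_of_isIso (Scheme.ΓSpecIso P).inv).2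
    rw [CommRingCat.hom_comp]
    exact h1.comp h2

theorem ofImm_imm {P : CommRingCat.{u}} (j : W ⟶ Spec P) [IsClosedImmersion j] :
    (ofImm j).imm = j := by
  unfold imm
  simp only [Spec.map_comp]
  rw [← Scheme.toSpecΓ_naturality_assoc, toSpecΓ_SpecMap_ΓSpecIso_inv, Category.comp_id]

theorem ofImm_ψ_comp {P T : CommRingCat.{u}} (j : W ⟶ Spec P) [IsClosedImmersion j] (lam : T ⟶ P) :
    lam ≫ (ofImm j).ψ = (Scheme.ΓSpecIso T).inv ≫ (j ≫ Spec.map lam).appTop := by
  simp only [Scheme.Hom.comp_appTop]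
  rw [← Category.assoc, ← Category.assoc, Scheme.ΓSpecIso_inv_naturality]

theorem lAt_of_iso (p : Pres W) {K K' : DCoh.D W} (e : K ≅ K') (m : ℤ) (w : W) :
    p.LAt K m w ↔ p.LAt K' m w :=
  ⟨fun h => h.of_iso ((FD p.imm).mapIso e), fun h => h.of_iso ((FD p.imm).mapIso e).symm⟩

/-- T1: transport along an isomorphism of the source -/
theorem lAt_transport {W' : Scheme.{u}} [IsAffine W'] (e : W' ⟶ W) [IsIso e] (p : Pres W)
    (K : DCoh.D W) (m : ℤ) (w' : W') :
    p.LAt K m (e.base w') ↔ (ofImm (e ≫ p.imm)).LAt ((DCoh.restrictD e).obj K) m w' := by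
  unfold LAt
  rw [pcAt_FD_congr (ofImm_imm (e ≫ p.imm))]
  have iso : (FD (e ≫ p.imm)).obj ((DCoh.restrictD e).obj K) ≅ (FD p.imm).obj K :=
    ((fdCompIso e p.imm).app _).symm ≪≫ (FD p.imm).mapIso ((restrictDPushIso e).app K)
  exact ⟨fun h => h.of_iso iso.symm, fun h => h.of_iso iso⟩

end Pres

namespace Pres

variable {W : Scheme.{u}}

variable [IsAffine W]

section SL

variable (p : Pres W) (gt : p.P)

/-- the basic open of the target -/
noncomputable abbrev slD : (Spec p.P).Opens := PrimeSpectrum.basicOpen gt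

theorem isAffineOpen_slD : IsAffineOpen (p.slD gt) := by
  have := (isAffineOpen_top (Spec p.P)).basicOpen ((Scheme.ΓSpecIso p.P).inv gt)
  rwa [basicOpen_eq_of_affine] at this

instance : IsAffine (p.imm ⁻¹ᵁ p.slD gt : Scheme.{u}) :=
  (p.isAffineOpen_slD gt).preimage p.imm

/-- the localized ring map -/
noncomputable def slLam : p.P ⟶ Γ(Spec p.P, p.slD gt) :=
  (Scheme.ΓSpecIso p.P).inv ≫ (Spec p.P).presheaf.map (homOfLE le_top).op

/-- the localized closed immersion -/
noncomputable def slImm : (p.imm ⁻¹ᵁ p.slD gt : Scheme.{u}) ⟶ Spec Γ(Spec p.P, p.slD gt) :=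
  (p.imm ∣_ p.slD gt) ≫ (p.isAffineOpen_slD gt).isoSpec.hom

instance : IsClosedImmersion (p.slImm gt) := by
  unfold slImm
  infer_instance

theorem fromSpec_slD : (p.isAffineOpen_slD gt).fromSpec = Spec.map (p.slLam gt) := by
  have h := (p.isAffineOpen_slD gt).fromSpec_toSpecΓ
  have h2 : (p.isAffineOpen_slD gt).fromSpec =
      ((p.isAffineOpen_slD gt).fromSpec ≫ (Spec p.P).toSpecΓ) ≫
        Spec.map (Scheme.ΓSpecIso p.P).inv := by
    rw [Category.assoc, toSpecΓ_SpecMap_ΓSpecIso_inv, Category.comp_id]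
  rw [h2, h, ← Spec.map_comp]
  rfl

theorem slImm_comp : p.slImm gt ≫ Spec.map (p.slLam gt) = (p.imm ⁻¹ᵁ p.slD gt).ι ≫ p.imm := by
  unfold slImm
  rw [Category.assoc, ← fromSpec_slD, IsAffineOpen.isoSpec_hom_fromSpec, morphismRestrict_ι]

/-- SL: source localization, for presentations -/
theorem lAt_sl_iff (K : DCoh.D W) (m : ℤ) (w : W) (hw : p.imm.base w ∈ p.slD gt) :
    p.LAt K m w ↔
      (ofImm (p.slImm gt)).LAt ((DCoh.restrictD (p.imm ⁻¹ᵁ p.slD gt).ι).obj K) m ⟨w, hw⟩ := by
  unfold LAt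
  rw [pcAt_FD_congr (ofImm_imm (p.slImm gt)), pcAt_FD_restrict_iff p.imm K m (p.slD gt) w hw,
    pcAt_comp_iff (p.imm ∣_ p.slD gt) (p.isAffineOpen_slD gt).isoSpec.hom
      (pushUnitPC_of_isIso _)]
  exact Iff.rfl

end SL

end Pres

end Groth.Agent.Lib.Helper99.SChart
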