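import Mathlib
import Groth.Agent.Lib.Helper99.SChart1

set_option autoImplicit false
universe u
open CategoryTheory Limits AlgebraicGeometry Opposite TopologicalSpace Pretriangulated

attribute [local instance] HasDerivedCategory.standard

namespace Groth.Agent.Lib.Helper99.SChart

open DerSch Groth.Agent.Lib.Helper99.SPerf Groth.Agent.Lib.Helper99.SPush
  Groth.Agent.Lib.Helper99.SStalk Groth.Agent.Lib.QCoh Groth.Agent.Lib.Helper99.SLfp
  Groth.Agent.Lib.Helper99.SClosed Groth.Agent.Lib.Helper99.SRelMod Scheme.Modules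
  Groth.Agent.Lib.Helper99.SCoh

variable {X Y : Scheme.{u}}


namespace Pres

variable {W : Scheme.{u}} [IsAffine W]

theorem imm_appTop (p : Pres W) : p.imm.appTop = (Scheme.ΓSpecIso p.P).hom ≫ p.ψ := by
  unfold imm
  rw [Scheme.Hom.comp_appTop, Scheme.toSpecΓ_appTop, Scheme.ΓSpecIso_naturality]

theorem imm_preimage_basicOpen (p : Pres W) (gt : p.P) :
    p.imm ⁻¹ᵁ PrimeSpectrum.basicOpen gt = W.basicOpen (p.ψ.hom gt) := by
  unfold imm
  rw [Scheme.Hom.comp_preimage, SpecMap_preimage_basicOpen, Scheme.toSpecΓ_preimage_basicOpen]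

end Pres

/-- the presentation of a chart -/
@[reducible] noncomputable def presOfChart (U : X.Opens) {R : Type u} [CommRing R] {n : ℕ}
    (φ : MvPolynomial (Fin n) R →+* Γ(X, U)) (hφ : Function.Surjective φ) : Pres U.toScheme :=
  Pres.ofHom (U.topIso.inv.hom.comp φ)
    ((ConcreteCategory.bijective_of_isIso U.topIso.inv).surjective.comp hφ)

theorem presOfChart_imm (U : X.Opens) (hU : IsAffineOpen U) {R : Type u} [CommRing R] {n : ℕ}
    (φ : MvPolynomial (Fin n) R →+* Γ(X, U)) (hφ : Function.Surjective φ) :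
    haveI : IsAffine U.toScheme := hU
    (presOfChart U φ hφ).imm = chartImm U φ := by
  haveI : IsAffine U.toScheme := hU
  unfold Pres.imm chartImm Scheme.Opens.toSpecΓ
  rw [Category.assoc, ← Spec.map_comp]
  rfl

/-- the local chart test -/
def ChartLAt (U : X.Opens) (hU : IsAffineOpen U) {R : Type u} [CommRing R] {n : ℕ}
    (φ : MvPolynomial (Fin n) R →+* Γ(X, U)) (hφ : Function.Surjective φ) (E : DCoh.D X) (m : ℤ)
    (x : U) : Prop :=
  haveI : IsAffine U.toScheme := hU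
  (presOfChart U φ hφ).LAt ((DCoh.restrictD U.ι).obj E) m x

/-- the chart complex is the derived pushforward of the restriction -/
noncomputable def chartFDIso (U : X.Opens) (hU : IsAffineOpen U) {R : Type u} [CommRing R] {n : ℕ}
    (φ : MvPolynomial (Fin n) R →+* Γ(X, U)) (hφ : Function.Surjective φ)
    (G : CochainComplex X.Modules ℤ) :
    haveI := isClosedImmersion_chartImm U hU φ hφ
    DCoh.toD _ ((pushCx (chartImm U φ)).obj ((DCoh.restrictCx U).obj G)) ≅
      (FD (chartImm U φ)).obj ((DCoh.restrictD U.ι).obj (DCoh.toD X G)) := by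
  haveI := isClosedImmersion_chartImm U hU φ hφ
  exact ((Scheme.Modules.pushforward (chartImm U φ)).mapDerivedCategoryFactors.app _).symm ≪≫
    (FD (chartImm U φ)).mapIso
      ((Scheme.Modules.restrictFunctor U.ι).mapDerivedCategoryFactors.app G).symm

theorem chartPC_iff_forall (U : X.Opens) (hU : IsAffineOpen U) (V : Y.Opens) {n : ℕ}
    (φ : MvPolynomial (Fin n) Γ(Y, V) →+* Γ(X, U)) (hφ : Function.Surjective φ) (E : DCoh.D X)
    (m : ℤ) :
    ChartPC m E U V φ ↔ ∀ x : U, ChartLAt U hU φ hφ E m x := by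
  haveI : IsAffine U.toScheme := hU
  haveI := isClosedImmersion_chartImm U hU φ hφ
  have key : ∀ G : CochainComplex X.Modules ℤ, Nonempty (DCoh.toD X G ≅ E) →
      (DCoh.IsPseudoCoherentD m
        (DCoh.toD _ ((pushCx (chartImm U φ)).obj ((DCoh.restrictCx U).obj G))) ↔
        ∀ x : U, ChartLAt U hU φ hφ E m x) := by
    intro G ⟨e⟩
    have iso := chartFDIso U hU φ hφ G ≪≫
      (FD (chartImm U φ)).mapIso ((DCoh.restrictD U.ι).mapIso e)
    rw [show DCoh.IsPseudoCoherentD m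
        (DCoh.toD _ ((pushCx (chartImm U φ)).obj ((DCoh.restrictCx U).obj G))) ↔
        DCoh.IsPseudoCoherentD m ((FD (chartImm U φ)).obj ((DCoh.restrictD U.ι).obj E)) from
      ⟨fun h => isPseudoCoherentD_of_iso iso h, fun h => isPseudoCoherentD_of_iso iso.symm h⟩]
    rw [isPseudoCoherentD_iff_pcAt]
    unfold ChartLAt Pres.LAt
    constructor
    · intro h x
      rw [pcAt_FD_congr (presOfChart_imm U hU φ hφ)]
      exact h _
    · intro h y
      by_cases hy : y ∈ Set.range (chartImm U φ).base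
      · obtain ⟨x, rfl⟩ := hy
        have := h x
        rw [pcAt_FD_congr (presOfChart_imm U hU φ hφ)] at this
        exact this
      · exact pcAt_FD_of_notMem_range _ _ m y hy
  constructor
  · intro h
    let F' := (DerivedCategory.Q : _ ⥤ DCoh.D X).objPreimage E
    let eF' : DerivedCategory.Q.obj F' ≅ E := DerivedCategory.Q.objObjPreimageIso E
    exact (key F' ⟨eF'⟩).1 (h F' ⟨eF'⟩)
  · intro h G hG
    exact (key G hG).2 h


namespace Pres

variable {W : Scheme.{u}} [IsAffine W]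

theorem lAt_ofImm_congr {P : CommRingCat.{u}} {j j' : W ⟶ Spec P} [IsClosedImmersion j]
    [IsClosedImmersion j'] (h : j = j') (K : DCoh.D W) (m : ℤ) (w : W) :
    (ofImm j).LAt K m w ↔ (ofImm j').LAt K m w := by
  subst h
  exact Iff.rfl

end Pres

/-- source localization for presentations of an affine open -/
theorem lAt_basicOpen_iff (U : X.Opens) (hU : IsAffineOpen U) (p : Pres U.toScheme) (gt : p.P)
    (g : Γ(X, U)) (hg : p.ψ.hom gt = U.topIso.inv.hom g) (E : DCoh.D X) (m : ℤ) :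
    haveI : IsAffine U.toScheme := hU
    haveI : IsAffine (X.basicOpen g).toScheme := hU.basicOpen g
    ∃ (ψ₁ : Γ(Spec p.P, p.slD gt) ⟶ Γ((X.basicOpen g).toScheme, ⊤))
      (hψ₁ : Function.Surjective ψ₁.hom),
      p.slLam gt ≫ ψ₁ = p.ψ ≫ (X.homOfLE (X.basicOpen_le g)).appTop ∧
      ∀ (x : X) (hx : x ∈ X.basicOpen g),
        p.LAt ((DCoh.restrictD U.ι).obj E) m ⟨x, X.basicOpen_le g hx⟩ ↔
          (⟨_, ψ₁, hψ₁⟩ : Pres _).LAt ((DCoh.restrictD (X.basicOpen g).ι).obj E) m ⟨x, hx⟩ := by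
  haveI : IsAffine U.toScheme := hU
  haveI : IsAffine (X.basicOpen g).toScheme := hU.basicOpen g
  have hW' : p.imm ⁻¹ᵁ p.slD gt = U.toScheme.basicOpen (U.topIso.inv.hom g) := by
    rw [← hg]; exact p.imm_preimage_basicOpen gt
  have hrange : Set.range (X.basicOpen g).ι.base =
      Set.range ((p.imm ⁻¹ᵁ p.slD gt).ι ≫ U.ι).base := by
    rw [Scheme.Hom.comp_base, TopCat.coe_comp, Set.range_comp, Scheme.Opens.range_ι,
      Scheme.Opens.range_ι, hW']
    exact congrArg (fun O : X.Opens => (O : Set X))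
      (Scheme.Opens.ι_image_basicOpen_topIso_inv U g).symm
  let e : (X.basicOpen g).toScheme ≅ (p.imm ⁻¹ᵁ p.slD gt).toScheme :=
    IsOpenImmersion.isoOfRangeEq (X.basicOpen g).ι ((p.imm ⁻¹ᵁ p.slD gt).ι ≫ U.ι) hrange
  have he : e.hom ≫ (p.imm ⁻¹ᵁ p.slD gt).ι ≫ U.ι = (X.basicOpen g).ι :=
    IsOpenImmersion.isoOfRangeEq_hom_fac _ _ _
  have ho : e.hom ≫ (p.imm ⁻¹ᵁ p.slD gt).ι = X.homOfLE (X.basicOpen_le g) := by
    rw [← cancel_mono U.ι, Category.assoc, he, Scheme.homOfLE_ι]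
  refine ⟨(Pres.ofImm (e.hom ≫ p.slImm gt)).ψ, (Pres.ofImm (e.hom ≫ p.slImm gt)).surj, ?_, ?_⟩
  · rw [Pres.ofImm_ψ_comp, Category.assoc, p.slImm_comp gt, ← Category.assoc, ho,
      Scheme.Hom.comp_appTop, p.imm_appTop, Category.assoc, Iso.inv_hom_id_assoc]
  · intro x hx
    have hbase' : (e.hom.base ⟨x, hx⟩).1.1 = x := by
      have := congr($(he).base ⟨x, hx⟩)
      exact this
    have hw : p.imm.base ⟨x, X.basicOpen_le g hx⟩ ∈ p.slD gt := by
      have h1 : (e.hom.base ⟨x, hx⟩).1 ∈ p.imm ⁻¹ᵁ p.slD gt := (e.hom.base ⟨x, hx⟩).2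
      have h2 : (e.hom.base ⟨x, hx⟩).1 = ⟨x, X.basicOpen_le g hx⟩ :=
        Subtype.ext hbase'
      rw [h2] at h1
      exact h1
    rw [p.lAt_sl_iff gt _ m _ hw]
    have hbase : e.hom.base ⟨x, hx⟩ = ⟨⟨x, X.basicOpen_le g hx⟩, hw⟩ :=
      Subtype.ext (Subtype.ext hbase')
    rw [← hbase, Pres.lAt_transport e.hom,
      Pres.lAt_ofImm_congr (show e.hom ≫ (Pres.ofImm (p.slImm gt)).imm = e.hom ≫ p.slImm gt by
        rw [Pres.ofImm_imm])]
    apply Pres.lAt_of_iso
    exact ((restrictDComp e.hom (p.imm ⁻¹ᵁ p.slD gt).ι).app _).symm ≪≫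
      ((restrictDComp (e.hom ≫ (p.imm ⁻¹ᵁ p.slD gt).ι) U.ι).app E).symm ≪≫
      (restrictDCongr (by rw [Category.assoc, he])).app E


theorem isLocalization_slLam (T : Type u) [CommRing T] (gt : T) :
  letI : Algebra T Γ(Spec (CommRingCat.of T), PrimeSpectrum.basicOpen gt) := ((Scheme.ΓSpecIso (CommRingCat.of T)).inv ≫ (Spec (CommRingCat.of T)).presheaf.map (homOfLE le_top).op).hom.toAlgebra
  IsLocalization.Away gt Γ(Spec (CommRingCat.of T), PrimeSpectrum.basicOpen gt) := by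
  have h := StructureSheaf.IsLocalization.to_basicOpen T gt
  have key : ∀ (a b : Algebra T ↑((Spec.structureSheaf T).obj.obj (op (PrimeSpectrum.basicOpen gt)))),
      a = b → @IsLocalization.Away T _ gt _ _ a → @IsLocalization.Away T _ gt _ _ b := by
    rintro a b rfl h; exact h
  exact key (StructureSheaf.openAlgebra T (op (PrimeSpectrum.basicOpen gt))) _
    (Algebra.algebra_ext _ _ (fun r => rfl)) h


theorem topIso_homOfLE {U₁ U : X.Opens} (le : U₁ ≤ U) :
    U.topIso.inv ≫ (X.homOfLE le).appTop ≫ U₁.topIso.hom = X.presheaf.map (homOfLE le).op := by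
  rw [Scheme.homOfLE_appTop]
  simp only [Scheme.Opens.topIso, Functor.mapIso_inv, Functor.mapIso_hom]
  erw [← Functor.map_comp, ← Functor.map_comp]
  congr 1

/-- RED-1: source localization for charts -/
theorem chartLAt_basicOpen (U : X.Opens) (hU : IsAffineOpen U) {R : Type u} [CommRing R] {n : ℕ}
    (φ : MvPolynomial (Fin n) R →+* Γ(X, U)) (hφ : Function.Surjective φ) (g : Γ(X, U))
    (E : DCoh.D X) (m : ℤ) :
    ∃ (φ' : MvPolynomial (Fin (n + 1)) R →+* Γ(X, X.basicOpen g)) (hφ' : Function.Surjective φ'),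
      φ'.comp MvPolynomial.C =
        (X.presheaf.map (homOfLE (X.basicOpen_le g)).op).hom.comp (φ.comp MvPolynomial.C) ∧
      ∀ (x : X) (hx : x ∈ X.basicOpen g),
        ChartLAt U hU φ hφ E m ⟨x, X.basicOpen_le g hx⟩ ↔
          ChartLAt (X.basicOpen g) (hU.basicOpen g) φ' hφ' E m ⟨x, hx⟩ := by
  haveI : IsAffine U.toScheme := hU
  haveI : IsAffine (X.basicOpen g).toScheme := hU.basicOpen g
  obtain ⟨gt, hgt⟩ := hφ g
  have hg : (presOfChart U φ hφ).ψ.hom gt = U.topIso.inv.hom g := by rw [← hgt]; rfl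
  obtain ⟨ψ₁, hψ₁, hcomp, hiff⟩ := lAt_basicOpen_iff U hU (presOfChart U φ hφ) gt g hg E m
  letI : Algebra (MvPolynomial (Fin n) R)
      Γ(Spec (CommRingCat.of (MvPolynomial (Fin n) R)), PrimeSpectrum.basicOpen gt) :=
    ((presOfChart U φ hφ).slLam gt).hom.toAlgebra
  haveI : IsLocalization.Away gt
      Γ(Spec (CommRingCat.of (MvPolynomial (Fin n) R)), PrimeSpectrum.basicOpen gt) :=
    isLocalization_slLam _ gt
  let ψ₂ : Polynomial (MvPolynomial (Fin n) R) →+* Γ((X.basicOpen g).toScheme, ⊤) :=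
    ψ₁.hom.comp (Polynomial.eval₂RingHom (algebraMap _ _) (IsLocalization.Away.invSelf gt))
  have hψ₂ : Function.Surjective ψ₂ := hψ₁.comp (GoodHom.awayLift gt).1
  let ρ : MvPolynomial (Fin (n + 1)) R →+* Polynomial (MvPolynomial (Fin n) R) :=
    (MvPolynomial.finSuccEquiv R n).toRingEquiv.toRingHom
  have hρ : GoodHom ρ := GoodHom.of_bijective ρ (MvPolynomial.finSuccEquiv R n).bijective
  let φ' : MvPolynomial (Fin (n + 1)) R →+* Γ(X, X.basicOpen g) :=
    (X.basicOpen g).topIso.hom.hom.comp (ψ₂.comp ρ)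
  have hφ' : Function.Surjective φ' :=
    (ConcreteCategory.bijective_of_isIso (X.basicOpen g).topIso.hom).surjective.comp
      (hψ₂.comp hρ.1)
  refine ⟨φ', hφ', ?_, ?_⟩
  · apply RingHom.ext
    intro r
    have h1 : ρ (MvPolynomial.C r) = Polynomial.C (MvPolynomial.C r) := by
      simp [ρ, MvPolynomial.finSuccEquiv_apply]
    have h2 : ψ₂ (Polynomial.C (MvPolynomial.C r)) =
        (X.homOfLE (X.basicOpen_le g)).appTop.hom (U.topIso.inv.hom (φ (MvPolynomial.C r))) := by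
      have := congr($(hcomp).hom (MvPolynomial.C r))
      simpa [ψ₂, RingHom.algebraMap_toAlgebra] using this
    have h3 := congr($(topIso_homOfLE (X.basicOpen_le g)).hom (φ (MvPolynomial.C r)))
    simp only [RingHom.comp_apply, φ', h1, h2]
    exact h3
  · intro x hx
    unfold ChartLAt
    rw [hiff x hx]
    have e₁ : (X.basicOpen g).topIso.inv.hom.comp φ' = ψ₂.comp ρ := by
      apply RingHom.ext
      intro r
      exact congr($((X.basicOpen g).topIso.hom_inv_id).hom (ψ₂ (ρ r)))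
    rw [Pres.lAt_congr e₁ _ (hψ₂.comp hρ.1), Pres.lAt_comp_iff ψ₂ hψ₂ ρ hρ]
    exact (Pres.lAt_awayLift_iff gt ψ₁.hom hψ₁ _ m _).symm

theorem chartLAt_indep (U : X.Opens) (hU : IsAffineOpen U) {R : Type u} [CommRing R] {n k : ℕ}
    (φ₁ : MvPolynomial (Fin n) R →+* Γ(X, U)) (h₁ : Function.Surjective φ₁)
    (φ₂ : MvPolynomial (Fin k) R →+* Γ(X, U)) (h₂ : Function.Surjective φ₂)
    (hC : φ₁.comp MvPolynomial.C = φ₂.comp MvPolynomial.C) (E : DCoh.D X) (m : ℤ) (x : U) :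
    ChartLAt U hU φ₁ h₁ E m x ↔ ChartLAt U hU φ₂ h₂ E m x := by
  haveI : IsAffine U.toScheme := hU
  unfold ChartLAt
  exact Pres.lAt_indep (U.topIso.inv.hom.comp φ₁) _ (U.topIso.inv.hom.comp φ₂) _
    (by rw [RingHom.comp_assoc, RingHom.comp_assoc, hC]) _ m x

theorem exists_isChart_of_finiteType (f : X ⟶ Y) (U : X.Opens) (V : Y.Opens)
    (h : U ≤ f ⁻¹ᵁ V) (hft : (f.appLE V U h).hom.FiniteType) :
    ∃ (n : ℕ) (φ : MvPolynomial (Fin n) Γ(Y, V) →+* Γ(X, U)), IsChart f U V h φ := by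
  letI : Algebra Γ(Y, V) Γ(X, U) := (f.appLE V U h).hom.toAlgebra
  obtain ⟨n, g, hg⟩ := Algebra.FiniteType.iff_quotient_mvPolynomial''.1
    (show Algebra.FiniteType Γ(Y, V) Γ(X, U) from hft)
  refine ⟨n, g.toRingHom, hg, ?_⟩
  ext a
  exact g.commutes a

/-- basic-open charts from a chart -/
theorem chartPC_basicOpen_of_chartPC (f : X ⟶ Y) (U : X.Opens) (hU : IsAffineOpen U) (V : Y.Opens)
    (h : U ≤ f ⁻¹ᵁ V) (m : ℤ) (E : DCoh.D X) {n : ℕ}
    (φ : MvPolynomial (Fin n) Γ(Y, V) →+* Γ(X, U)) (hφ : IsChart f U V h φ)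
    (hPC : ChartPC m E U V φ) (g : Γ(X, U)) :
    ∃ (φ' : MvPolynomial (Fin (n + 1)) Γ(Y, V) →+* Γ(X, X.basicOpen g)),
      IsChart f (X.basicOpen g) V ((X.basicOpen_le g).trans h) φ' ∧
        ChartPC m E (X.basicOpen g) V φ' := by
  obtain ⟨φ', hφ', hC', hiff⟩ := chartLAt_basicOpen U hU φ hφ.1 g E m
  refine ⟨φ', ⟨hφ', ?_⟩, ?_⟩
  · rw [hC', hφ.2, ← CommRingCat.hom_comp, Scheme.Hom.appLE_map]
  · rw [chartPC_iff_forall _ (hU.basicOpen g) V φ' hφ']
    intro x
    exact (hiff x.1 x.2).1 ((chartPC_iff_forall U hU V φ hφ.1 E m).1 hPC _)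

/-- a chart from basic-open charts -/
theorem chartPC_of_chartPC_basicOpen (f : X ⟶ Y) (U : X.Opens) (hU : IsAffineOpen U) (V : Y.Opens)
    (h : U ≤ f ⁻¹ᵁ V) (m : ℤ) (E : DCoh.D X) {n : ℕ}
    (φ : MvPolynomial (Fin n) Γ(Y, V) →+* Γ(X, U)) (hφ : IsChart f U V h φ)
    {k : ℕ} (g : Fin k → Γ(X, U)) (hg : Ideal.span (Set.range g) = ⊤)
    (H : ∀ j : Fin k, ∃ (n' : ℕ) (φ' : MvPolynomial (Fin n') Γ(Y, V) →+* Γ(X, X.basicOpen (g j))),
      IsChart f (X.basicOpen (g j)) V ((X.basicOpen_le (g j)).trans h) φ' ∧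
        ChartPC m E (X.basicOpen (g j)) V φ') :
    ChartPC m E U V φ := by
  rw [chartPC_iff_forall U hU V φ hφ.1]
  intro x
  have hcov := (IsAffineOpen.iSup_basicOpen_eq_self_iff hU (s := Set.range g)).2 hg
  have hx : x.1 ∈ ⨆ f : Set.range g, X.basicOpen f.1 := by rw [hcov]; exact x.2
  rw [Opens.mem_iSup] at hx
  obtain ⟨⟨_, j, rfl⟩, hxj⟩ := hx
  obtain ⟨n', φj, hφj, hPCj⟩ := H j
  obtain ⟨φ', hφ', hC', hiff⟩ := chartLAt_basicOpen U hU φ hφ.1 (g j) E m
  refine (hiff x.1 hxj).2 ?_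
  have hCj : φ'.comp MvPolynomial.C = φj.comp MvPolynomial.C := by
    rw [hC', hφ.2, hφj.2, ← CommRingCat.hom_comp, Scheme.Hom.appLE_map]
  rw [chartLAt_indep _ (hU.basicOpen (g j)) φ' hφ' φj hφj.1 hCj]
  exact (chartPC_iff_forall _ (hU.basicOpen (g j)) V φj hφj.1 E m).1 hPCj _

end Groth.Agent.Lib.Helper99.SChart
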