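import Mathlib
import Groth.Agent.Lib.Helper99.SChart2

set_option autoImplicit false
universe u
open CategoryTheory Limits AlgebraicGeometry Opposite TopologicalSpace Pretriangulated

attribute [local instance] HasDerivedCategory.standard

namespace Groth.Agent.Lib.Helper99.SChart

open DerSch Groth.Agent.Lib.Helper99.SPerf Groth.Agent.Lib.Helper99.SPush
  Groth.Agent.Lib.Helper99.SStalk Groth.Agent.Lib.QCoh Groth.Agent.Lib.Helper99.SLfp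
  Groth.Agent.Lib.Helper99.SClosed Groth.Agent.Lib.Helper99.SRelMod Scheme.Modules
  Groth.Agent.Lib.Helper99.SCoh

variable {X Y : Scheme.{u}}


/-- base localization for charts -/
theorem chartLAt_baseAway (f : X ⟶ Y) (U₁ : X.Opens) (hU₁ : IsAffineOpen U₁) (V : Y.Opens)
    (hV : IsAffineOpen V) (a : Γ(Y, V)) (h : U₁ ≤ f ⁻¹ᵁ V) (h₁ : U₁ ≤ f ⁻¹ᵁ (Y.basicOpen a))
    {n N : ℕ} (φ : MvPolynomial (Fin n) Γ(Y, V) →+* Γ(X, U₁)) (hφ : IsChart f U₁ V h φ)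
    (ξ : MvPolynomial (Fin N) Γ(Y, Y.basicOpen a) →+* Γ(X, U₁))
    (hξ : IsChart f U₁ (Y.basicOpen a) h₁ ξ) (E : DCoh.D X) (m : ℤ) (x : U₁) :
    ChartLAt U₁ hU₁ φ hφ.1 E m x ↔ ChartLAt U₁ hU₁ ξ hξ.1 E m x := by
  haveI : IsAffine U₁.toScheme := hU₁
  haveI : IsLocalization.Away a Γ(Y, Y.basicOpen a) := hV.isLocalization_basicOpen a
  unfold ChartLAt
  refine Pres.lAt_baseAway_iff a (U₁.topIso.inv.hom.comp φ) _ (U₁.topIso.inv.hom.comp ξ) _ ?_ _ m x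
  have e1 : ((U₁.topIso.inv.hom.comp ξ).comp MvPolynomial.C).comp
      (algebraMap Γ(Y, V) Γ(Y, Y.basicOpen a)) =
      U₁.topIso.inv.hom.comp ((ξ.comp MvPolynomial.C).comp
        (algebraMap Γ(Y, V) Γ(Y, Y.basicOpen a))) := rfl
  have e2 : (U₁.topIso.inv.hom.comp φ).comp MvPolynomial.C =
      U₁.topIso.inv.hom.comp (φ.comp MvPolynomial.C) := rfl
  rw [e1, e2, hφ.2, hξ.2]
  congr 1
  rw [RingHom.algebraMap_toAlgebra, ← CommRingCat.hom_comp, Scheme.Hom.map_appLE]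

/-- RED: source and base localization -/
theorem chartLAt_red (f : X ⟶ Y) (U : X.Opens) (hU : IsAffineOpen U) (V : Y.Opens)
    (hV : IsAffineOpen V) (h : U ≤ f ⁻¹ᵁ V) {n : ℕ}
    (φ : MvPolynomial (Fin n) Γ(Y, V) →+* Γ(X, U)) (hφ : IsChart f U V h φ)
    (g : Γ(X, U)) (a : Γ(Y, V)) (U₁ : X.Opens) (V₁ : Y.Opens) (hU₁ : U₁ = X.basicOpen g)
    (hV₁ : V₁ = Y.basicOpen a) (h₁ : U₁ ≤ f ⁻¹ᵁ V₁) (hU₁a : IsAffineOpen U₁) {N : ℕ}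
    (ξ : MvPolynomial (Fin N) Γ(Y, V₁) →+* Γ(X, U₁)) (hξ : IsChart f U₁ V₁ h₁ ξ)
    (E : DCoh.D X) (m : ℤ) (x : X) (hx : x ∈ U₁) :
    ChartLAt U hU φ hφ.1 E m ⟨x, (hU₁ ▸ X.basicOpen_le g : U₁ ≤ U) hx⟩ ↔
      ChartLAt U₁ hU₁a ξ hξ.1 E m ⟨x, hx⟩ := by
  subst hU₁ hV₁
  obtain ⟨φ', hφ', hC', hiff⟩ := chartLAt_basicOpen U hU φ hφ.1 g E m
  rw [hiff x hx]
  have hφ'c : IsChart f (X.basicOpen g) V ((X.basicOpen_le g).trans h) φ' :=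
    ⟨hφ', by rw [hC', hφ.2, ← CommRingCat.hom_comp, Scheme.Hom.appLE_map]⟩
  exact chartLAt_baseAway f (X.basicOpen g) hU₁a V hV a ((X.basicOpen_le g).trans h) h₁ φ' hφ'c
    ξ hξ E m ⟨x, hx⟩

/-- Claim B: independence of the chart, pointwise -/
theorem chartLAt_indep_chart (f : X ⟶ Y) [LocallyOfFiniteType f]
    (U : X.Opens) (hU : IsAffineOpen U) (V : Y.Opens) (hV : IsAffineOpen V) (h : U ≤ f ⁻¹ᵁ V)
    {n : ℕ} (φ : MvPolynomial (Fin n) Γ(Y, V) →+* Γ(X, U)) (hφ : IsChart f U V h φ)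
    (U' : X.Opens) (hU' : IsAffineOpen U') (V' : Y.Opens) (hV' : IsAffineOpen V')
    (h' : U' ≤ f ⁻¹ᵁ V')
    {n' : ℕ} (φ' : MvPolynomial (Fin n') Γ(Y, V') →+* Γ(X, U')) (hφ' : IsChart f U' V' h' φ')
    (E : DCoh.D X) (m : ℤ) (x : X) (hx : x ∈ U) (hx' : x ∈ U') :
    ChartLAt U hU φ hφ.1 E m ⟨x, hx⟩ ↔ ChartLAt U' hU' φ' hφ'.1 E m ⟨x, hx'⟩ := by
  obtain ⟨a, a', haa', hfa⟩ := exists_basicOpen_le_affine_inter hV hV' (f.base x) ⟨h hx, h' hx'⟩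
  obtain ⟨g₀, g₀', hgg', hxg⟩ := exists_basicOpen_le_affine_inter hU hU' x ⟨hx, hx'⟩
  have e1 : X.basicOpen (g₀ * (f.appLE V U h).hom a) =
      X.basicOpen g₀ ⊓ f ⁻¹ᵁ (Y.basicOpen a) := by
    rw [Scheme.basicOpen_mul]
    erw [Scheme.basicOpen_appLE]
    rw [← inf_assoc, inf_eq_left.2 (X.basicOpen_le g₀)]
  have e2 : X.basicOpen (g₀' * (f.appLE V' U' h').hom a') =
      X.basicOpen g₀' ⊓ f ⁻¹ᵁ (Y.basicOpen a') := by
    rw [Scheme.basicOpen_mul]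
    erw [Scheme.basicOpen_appLE]
    rw [← inf_assoc, inf_eq_left.2 (X.basicOpen_le g₀')]
  have e3 : X.basicOpen (g₀ * (f.appLE V U h).hom a) =
      X.basicOpen (g₀' * (f.appLE V' U' h').hom a') := by rw [e1, e2, hgg', haa']
  have h₁ : X.basicOpen (g₀ * (f.appLE V U h).hom a) ≤ f ⁻¹ᵁ (Y.basicOpen a) := by
    rw [e1]; exact inf_le_right
  have hx₁ : x ∈ X.basicOpen (g₀ * (f.appLE V U h).hom a) := by
    rw [e1]; exact ⟨hxg, hfa⟩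
  have hU₁a : IsAffineOpen (X.basicOpen (g₀ * (f.appLE V U h).hom a)) := hU.basicOpen _
  obtain ⟨N, ξ, hξ⟩ := exists_isChart f ⟨_, hU₁a⟩ ⟨_, hV.basicOpen a⟩ h₁
  rw [chartLAt_red f U hU V hV h φ hφ (g₀ * (f.appLE V U h).hom a) a _ _ rfl rfl h₁ hU₁a ξ hξ
      E m x hx₁,
    chartLAt_red f U' hU' V' hV' h' φ' hφ' (g₀' * (f.appLE V' U' h').hom a') a' _ _ e3 haa' h₁
      hU₁a ξ hξ E m x hx₁]

/-- chart independence of relative pseudo-coherence -/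
theorem chartPC_of_isPseudoCoherentRel (f : X ⟶ Y) (m : ℤ) (E : DCoh.D X)
    (hE : IsPseudoCoherentRel f m E) (U : X.Opens) (hU : IsAffineOpen U) (V : Y.Opens)
    (hV : IsAffineOpen V) (h : U ≤ f ⁻¹ᵁ V) {n : ℕ}
    (φ : MvPolynomial (Fin n) Γ(Y, V) →+* Γ(X, U)) (hφ : IsChart f U V h φ) :
    ChartPC m E U V φ := by
  obtain ⟨hf, 𝒱, h𝒱, H⟩ := hE
  haveI := hf
  rw [chartPC_iff_forall U hU V φ hφ.1]
  intro x
  have hfx : f.base x.1 ∈ ⨆ V' ∈ 𝒱, (V' : Y.Opens) := by rw [h𝒱]; trivial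
  simp only [Opens.mem_iSup] at hfx
  obtain ⟨V', hV'mem, hfxV'⟩ := hfx
  obtain ⟨𝒰, h𝒰, H'⟩ := H V' hV'mem
  have hxU : x.1 ∈ ⨆ U' ∈ 𝒰, (U' : X.Opens) := by rw [h𝒰]; exact hfxV'
  simp only [Opens.mem_iSup] at hxU
  obtain ⟨U', hU'mem, hxU'⟩ := hxU
  have hle : (U' : X.Opens) ≤ f ⁻¹ᵁ (V' : Y.Opens) := by
    rw [← h𝒰]
    exact le_iSup₂ (f := fun (U' : X.affineOpens) (_ : U' ∈ 𝒰) => (U' : X.Opens)) U' hU'mem
  obtain ⟨n', φ', hφ', hPC'⟩ := H' U' hU'mem hle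
  refine (chartLAt_indep_chart f U'.1 U'.2 V'.1 V'.2 hle φ' hφ' U hU V hV h φ hφ E m x.1
    hxU' x.2).1 ?_
  exact (chartPC_iff_forall U'.1 U'.2 V'.1 φ' hφ'.1 E m).1 hPC' _

/-- S7208 -/
theorem isPseudoCoherentRel_iff_forall_exists_chart (f : X ⟶ Y)
    [LocallyOfFiniteType f] (m : ℤ) (E : DCoh.D X) :
    IsPseudoCoherentRel f m E ↔
      ∀ (U : X.affineOpens) (V : Y.affineOpens) (h : (U : X.Opens) ≤ f ⁻¹ᵁ (V : Y.Opens)),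
        ∃ (n : ℕ) (φ : MvPolynomial (Fin n) Γ(Y, (V : Y.Opens)) →+* Γ(X, (U : X.Opens))),
          IsChart f (U : X.Opens) (V : Y.Opens) h φ ∧ ChartPC m E (U : X.Opens) (V : Y.Opens) φ := by
  constructor
  · intro hE U V h
    obtain ⟨n, φ, hφ⟩ := exists_isChart f U V h
    exact ⟨n, φ, hφ, chartPC_of_isPseudoCoherentRel f m E hE U.1 U.2 V.1 V.2 h φ hφ⟩
  · intro H
    refine ⟨inferInstance, Set.univ, iSup_affineOpens_mem_univ Y, fun V _ => ?_⟩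
    refine ⟨{U : X.affineOpens | (U : X.Opens) ≤ f ⁻¹ᵁ (V : Y.Opens)}, iSup_affineOpens_le _,
      fun U _ h => H U V h⟩

end Groth.Agent.Lib.Helper99.SChart
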