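import Mathlib
import Groth.Agent.Lib.Helper99.SChart3

set_option autoImplicit false
universe u
open CategoryTheory Limits AlgebraicGeometry Opposite TopologicalSpace Pretriangulated

attribute [local instance] HasDerivedCategory.standard

namespace Groth.Agent.Lib.Helper99.SChart

open DerSch Groth.Agent.Lib.Helper99.SPerf Groth.Agent.Lib.Helper99.SPush
  Groth.Agent.Lib.Helper99.SStalk Groth.Agent.Lib.QCoh Groth.Agent.Lib.Helper99.SLfp
  Groth.Agent.Lib.Helper99.SClosed Groth.Agent.Lib.Helper99.SRelMod Scheme.Modules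
  Groth.Agent.Lib.Helper99.SCoh

variable {X Y : Scheme.{u}}


theorem isPseudoCoherentRel_iff_forall_chart (f : X ⟶ Y) [LocallyOfFiniteType f] (m : ℤ)
    (E : DCoh.D X) :
    IsPseudoCoherentRel f m E ↔
      ∀ (U : X.affineOpens) (V : Y.affineOpens) (h : (U : X.Opens) ≤ f ⁻¹ᵁ (V : Y.Opens))
        (n : ℕ) (φ : MvPolynomial (Fin n) Γ(Y, (V : Y.Opens)) →+* Γ(X, (U : X.Opens))),
        IsChart f (U : X.Opens) (V : Y.Opens) h φ → ChartPC m E (U : X.Opens) (V : Y.Opens) φ :=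
  ⟨fun hE U V h _ φ hφ => chartPC_of_isPseudoCoherentRel f m E hE U.1 U.2 V.1 V.2 h φ hφ,
    isPseudoCoherentRel_of_forall_chart f m E⟩

theorem chartPC_iff_FD (U : X.Opens) (hU : IsAffineOpen U) (V : Y.Opens) {n : ℕ}
    (φ : MvPolynomial (Fin n) Γ(Y, V) →+* Γ(X, U)) (hφ : Function.Surjective φ) (E : DCoh.D X)
    (m : ℤ) :
    haveI := isClosedImmersion_chartImm U hU φ hφ
    ChartPC m E U V φ ↔
      DCoh.IsPseudoCoherentD m ((FD (chartImm U φ)).obj ((DCoh.restrictD U.ι).obj E)) := by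
  haveI := isClosedImmersion_chartImm U hU φ hφ
  constructor
  · intro h
    let F' := (DerivedCategory.Q : _ ⥤ DCoh.D X).objPreimage E
    let eF' : DerivedCategory.Q.obj F' ≅ E := DerivedCategory.Q.objObjPreimageIso E
    exact isPseudoCoherentD_of_iso (chartFDIso U hU φ hφ F' ≪≫
      (FD (chartImm U φ)).mapIso ((DCoh.restrictD U.ι).mapIso eF')) (h F' ⟨eF'⟩)
  · intro h G ⟨e⟩
    exact isPseudoCoherentD_of_iso (chartFDIso U hU φ hφ G ≪≫
      (FD (chartImm U φ)).mapIso ((DCoh.restrictD U.ι).mapIso e)).symm h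

/-- S6204 -/
theorem isPseudoCoherentRel_triangle (f : X ⟶ Y) [LocallyOfFiniteType f] (n : ℤ)
    (T : Triangle (DCoh.D X)) (hT : T ∈ distTriang _) :
    (IsPseudoCoherentRel f (n + 1) T.obj₁ → IsPseudoCoherentRel f n T.obj₂ →
        IsPseudoCoherentRel f n T.obj₃) ∧
      (IsPseudoCoherentRel f n T.obj₁ → IsPseudoCoherentRel f n T.obj₃ →
        IsPseudoCoherentRel f n T.obj₂) ∧
      (IsPseudoCoherentRel f n T.obj₂ → IsPseudoCoherentRel f (n - 1) T.obj₃ →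
        IsPseudoCoherentRel f n T.obj₁) := by
  have key : ∀ (U : X.affineOpens) (V : Y.affineOpens) (h : (U : X.Opens) ≤ f ⁻¹ᵁ (V : Y.Opens))
      (k : ℕ) (φ : MvPolynomial (Fin k) Γ(Y, (V : Y.Opens)) →+* Γ(X, (U : X.Opens)))
      (_ : IsChart f (U : X.Opens) (V : Y.Opens) h φ),
      (ChartPC (n + 1) T.obj₁ U.1 V.1 φ → ChartPC n T.obj₂ U.1 V.1 φ → ChartPC n T.obj₃ U.1 V.1 φ) ∧
      (ChartPC n T.obj₁ U.1 V.1 φ → ChartPC n T.obj₃ U.1 V.1 φ → ChartPC n T.obj₂ U.1 V.1 φ) ∧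
      (ChartPC n T.obj₂ U.1 V.1 φ → ChartPC (n - 1) T.obj₃ U.1 V.1 φ →
        ChartPC n T.obj₁ U.1 V.1 φ) := by
    intro U V h k φ hφ
    haveI := isClosedImmersion_chartImm U.1 U.2 φ hφ.1
    have hT₁ := (DCoh.restrictD U.1.ι).map_distinguished T hT
    have hT₂ := (FD (chartImm U.1 φ)).map_distinguished _ hT₁
    have h1 := isPseudoCoherent_triangle n _ hT₂
    have h3 := (isPseudoCoherent_triangle (n - 1) _ hT₂).2.2
    rw [sub_add_cancel] at h3
    simp only [chartPC_iff_FD U.1 U.2 V.1 φ hφ.1]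
    exact ⟨h1.1, h1.2.1, h3⟩
  refine ⟨fun h1 h2 => ?_, fun h1 h2 => ?_, fun h1 h2 => ?_⟩
  all_goals
    rw [isPseudoCoherentRel_iff_forall_chart] at h1 h2 ⊢
    intro U V h k φ hφ
  · exact (key U V h k φ hφ).1 (h1 U V h k φ hφ) (h2 U V h k φ hφ)
  · exact (key U V h k φ hφ).2.1 (h1 U V h k φ hφ) (h2 U V h k φ hφ)
  · exact (key U V h k φ hφ).2.2 (h1 U V h k φ hφ) (h2 U V h k φ hφ)

end Groth.Agent.Lib.Helper99.SChart
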