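import Mathlib
import Groth.Agent.Lib.Helper99.SChart5

set_option autoImplicit false
universe u
open CategoryTheory Limits AlgebraicGeometry Opposite TopologicalSpace Pretriangulated

attribute [local instance] HasDerivedCategory.standard

namespace Groth.Agent.Lib.Helper99.SChart

open DerSch Groth.Agent.Lib.Helper99.SPerf Groth.Agent.Lib.Helper99.SPush
  Groth.Agent.Lib.Helper99.SStalk Groth.Agent.Lib.QCoh Groth.Agent.Lib.Helper99.SLfp
  Groth.Agent.Lib.Helper99.SClosed Groth.Agent.Lib.Helper99.SRelMod Scheme.Modules
  Groth.Agent.Lib.Helper99.SCoh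

variable {X Y : Scheme.{u}}


/-- absolute pseudo-coherence from the cohomology sheaves -/
theorem isPseudoCoherentD_of_homology (P : Scheme.{u}) (m : ℤ) :
    ∀ (N : ℕ) (K : DCoh.D P) (b : ℤ), K.IsLE b → b - m < N →
      (∀ i : ℤ, DCoh.IsPseudoCoherentD (m - i) (DCoh.inD P (DCoh.HD K i))) →
      DCoh.IsPseudoCoherentD m K := by
  have base : ∀ (K : DCoh.D P) (b : ℤ), K.IsLE b → b < m → DCoh.IsPseudoCoherentD m K := by
    intro K b hK hb
    haveI := hK
    rw [isPseudoCoherentD_iff_pcAt]
    intro x
    exact pcAt_of_vanishing m K x ⊤ trivial (fun j hj =>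
      isZero_homology_of_isZero (restrictFunctor _) K j
        (DerivedCategory.isZero_of_isLE K b j (by omega)))
  intro N
  induction N with
  | zero =>
    intro K b hK hb _
    exact base K b hK (by simpa using hb)
  | succ N ih =>
    intro K b hK hb h
    haveI := hK
    by_cases hbm : b < m
    · exact base K b hK hbm
    obtain ⟨A, B, f, g, δ, hT, hA, hB, hf, hg⟩ := exists_truncation_triangle K (b - 1)
    haveI := hA
    haveI : B.IsGE b := by
      have : b - 1 + 1 = b := by omega
      rw [this] at hB
      exact hB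
    have hBle : B.IsLE b := by
      rw [DerivedCategory.isLE_iff]
      intro i hi
      haveI := hg i (by omega)
      exact (DerivedCategory.isZero_of_isLE K b i hi).of_iso
        (asIso ((DerivedCategory.homologyFunctor _ i).map g)).symm
    haveI := hBle
    obtain ⟨eB⟩ := exists_iso_single_homology B b
    haveI := hg b (by omega)
    have eHb : DCoh.HD B b ≅ DCoh.HD K b :=
      (asIso ((DerivedCategory.homologyFunctor _ b).map g)).symm
    have hB1 : DCoh.IsPseudoCoherentD (m - b) (DCoh.inD P (DCoh.HD B b)) :=
      isPseudoCoherentD_of_iso ((DerivedCategory.singleFunctor _ 0).mapIso eHb).symm (h b)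
    have hB2 : DCoh.IsPseudoCoherentD m B :=
      isPseudoCoherentD_of_iso eB.symm
        (isPseudoCoherentD_shift _ (-b) (m - b) m (by omega) hB1)
    have hA2 : DCoh.IsPseudoCoherentD m A := by
      apply ih A (b - 1) hA (by push_cast at hb; omega)
      intro i
      by_cases hi : i ≤ b - 1
      · haveI := hf i hi
        exact isPseudoCoherentD_of_iso ((DerivedCategory.singleFunctor _ 0).mapIso
          (asIso ((DerivedCategory.homologyFunctor _ i).map f))).symm (h i)
      · exact isPseudoCoherentD_of_isZero' _ _ ((DerivedCategory.singleFunctor _ 0).map_isZero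
          (DerivedCategory.isZero_of_isLE A (b - 1) i (by omega)))
    exact (isPseudoCoherent_triangle m _ hT).2.1 hA2 hB2

/-- S7216 -/
theorem isPseudoCoherentRel_of_homology (f : X ⟶ Y) (m : ℤ) (E : DCoh.D X) (b : ℤ) [E.IsLE b]
    (h : ∀ i : ℤ, IsPseudoCoherentRel f (m - i) (DCoh.inD X (DCoh.HD E i))) :
    IsPseudoCoherentRel f m E := by
  haveI := (h 0).1
  apply isPseudoCoherentRel_of_forall_chart
  intro U V hUV k φ hφ
  haveI := isClosedImmersion_chartImm U.1 U.2 φ hφ.1
  rw [chartPC_iff_FD U.1 U.2 V.1 φ hφ.1]
  refine isPseudoCoherentD_of_homology _ m ((b - m).toNat + 1) _ b ?_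
    (by have := Int.self_le_toNat (b - m); push_cast; omega) ?_
  · rw [DerivedCategory.isLE_iff]
    intro j hj
    exact isZero_homology_of_isZero (Scheme.Modules.pushforward _) _ j
      (isZero_homology_of_isZero (restrictFunctor _) E j
        (DerivedCategory.isZero_of_isLE E b j hj))
  · intro j
    have hj := chartPC_of_isPseudoCoherentRel f (m - j) _ (h j) U.1 U.2 V.1 V.2 hUV φ hφ
    rw [chartPC_single_iff U.1 U.2 V.1 φ hφ.1] at hj
    refine isPseudoCoherentD_of_iso ((DerivedCategory.singleFunctor _ 0).mapIso ?_) hj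
    exact ((Scheme.Modules.pushforward _).mapIso
      ((homologyMapDCIso (restrictFunctor U.1.ι) j).app E)).symm ≪≫
      ((homologyMapDCIso (Scheme.Modules.pushforward (chartImm U.1 φ)) j).app _).symm

end Groth.Agent.Lib.Helper99.SChart
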