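import Mathlib
import Groth.Agent.Lib.Helper99.SChart9

set_option autoImplicit false
universe u
open CategoryTheory Limits AlgebraicGeometry Opposite TopologicalSpace Pretriangulated

attribute [local instance] HasDerivedCategory.standard

namespace Groth.Agent.Lib.Helper99.SChart

open DerSch Groth.Agent.Lib.Helper99.SPerf Groth.Agent.Lib.Helper99.SPush
  Groth.Agent.Lib.Helper99.SStalk Groth.Agent.Lib.QCoh Groth.Agent.Lib.Helper99.SLfp
  Groth.Agent.Lib.Helper99.SClosed Groth.Agent.Lib.Helper99.SRelMod Scheme.Modules
  Groth.Agent.Lib.Helper99.SCoh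

variable {X Y : Scheme.{u}}


/-- absolute pseudo-coherence from the terms of a bounded above complex -/
theorem isPseudoCoherentD_of_terms (P : Scheme.{u}) (m : ℤ) :
    ∀ (N : ℕ) (G : CochainComplex P.Modules ℤ) (b : ℤ), (∀ i : ℤ, b < i → IsZero (G.X i)) →
      b - m < N → (∀ i : ℤ, DCoh.IsPseudoCoherentD (m - i) (DCoh.inD P (G.X i))) →
      DCoh.IsPseudoCoherentD m (DCoh.toD P G) := by
  have base : ∀ (G : CochainComplex P.Modules ℤ) (b : ℤ), (∀ i : ℤ, b < i → IsZero (G.X i)) →
      b < m → DCoh.IsPseudoCoherentD m (DCoh.toD P G) := by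
    intro G b hG hb
    haveI : G.IsStrictlyLE b := (G.isStrictlyLE_iff b).2 hG
    rw [isPseudoCoherentD_iff_pcAt]
    intro x
    exact pcAt_of_vanishing m _ x ⊤ trivial (fun j hj =>
      isZero_homology_of_isZero (restrictFunctor _) _ j
        (DerivedCategory.isZero_of_isLE (DerivedCategory.Q.obj G) b j (by omega)))
  intro N
  induction N with
  | zero =>
    intro G b hG hb _
    exact base G b hG (by simpa using hb)
  | succ N ih =>
    intro G b hG hb h
    by_cases hbm : b < m
    · exact base G b hG hbm
    let ι : (HomologicalComplex.single _ (ComplexShape.up ℤ) b).obj (G.X b) ⟶ G :=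
      HomologicalComplex.mkHomFromSingle (𝟙 _) (fun k hk => by
        have hk' : b + 1 = k := hk
        exact (hG k (by omega)).eq_of_tgt _ _)
    haveI : Mono ι := by
      apply HomologicalComplex.mono_of_mono_f
      intro i
      by_cases hi : i = b
      · subst hi
        rw [HomologicalComplex.mkHomFromSingle_f]
        infer_instance
      · exact (HomologicalComplex.isZero_single_obj_X _ _ _ _ hi).mono _
    let S : ShortComplex (CochainComplex P.Modules ℤ) :=
      ShortComplex.mk ι (cokernel.π ι) (cokernel.condition ι)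
    have hS : S.ShortExact :=
      { exact := ShortComplex.exact_cokernel ι
        mono_f := inferInstanceAs (Mono ι)
        epi_g := inferInstanceAs (Epi (cokernel.π ι)) }
    have hSi : ∀ i : ℤ, (S.map (HomologicalComplex.eval _ _ i)).ShortExact := fun i =>
      hS.map_of_exact _
    -- the first term
    have h1 : DCoh.IsPseudoCoherentD m (DerivedCategory.Q.obj S.X₁) := by
      have e1 : DerivedCategory.Q.obj S.X₁ ≅ (DerivedCategory.singleFunctor _ b).obj (G.X b) :=
        ((DerivedCategory.singleFunctorIsoCompQ _ b).app (G.X b)).symm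
      have e2 : (DerivedCategory.singleFunctor P.Modules b).obj (G.X b) ≅
          ((DerivedCategory.singleFunctor P.Modules 0).obj (G.X b))⟦-b⟧ :=
        (((DerivedCategory.singleFunctors P.Modules).shiftIso (-b) b 0 (by omega)).app _).symm
      exact isPseudoCoherentD_of_iso (e1 ≪≫ e2).symm
        (isPseudoCoherentD_shift _ (-b) (m - b) m (by omega) (h b))
    -- the third term
    have hg_iso : ∀ i : ℤ, i ≠ b → IsIso (S.g.f i) := fun i hi =>
      (hSi i).isIso_g_iff.2
        (HomologicalComplex.isZero_single_obj_X (ComplexShape.up ℤ) b (G.X b) i hi)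
    have hX₃b : IsZero (S.X₃.X b) := by
      haveI : IsIso (S.map (HomologicalComplex.eval P.Modules (ComplexShape.up ℤ) b)).f := by
        change IsIso (ι.f b)
        rw [HomologicalComplex.mkHomFromSingle_f]
        infer_instance
      exact (hSi b).isIso_f_iff.1 inferInstance
    have h3 : DCoh.IsPseudoCoherentD m (DerivedCategory.Q.obj S.X₃) := by
      apply ih S.X₃ (b - 1) _ (by push_cast at hb; omega)
      · intro i
        by_cases hi : i = b
        · subst hi
          exact isPseudoCoherentD_of_isZero' _ _
            ((DerivedCategory.singleFunctor _ 0).map_isZero hX₃b)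
        · haveI := hg_iso i hi
          exact isPseudoCoherentD_of_iso ((DerivedCategory.singleFunctor _ 0).mapIso
            (asIso (S.g.f i))) (h i)
      · intro i hi
        by_cases hib : i = b
        · subst hib
          exact hX₃b
        · haveI := hg_iso i hib
          exact (hG i (by omega)).of_iso (asIso (S.g.f i)).symm
    exact (isPseudoCoherent_triangle m _ (DerivedCategory.triangleOfSES_distinguished hS)).2.1 h1 h3

/-- S7215 -/
theorem isPseudoCoherentRel_of_terms (f : X ⟶ Y) (m : ℤ) (F : CochainComplex X.Modules ℤ) (b : ℤ)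
    (hb : ∀ i : ℤ, b < i → IsZero (F.X i))
    (h : ∀ i : ℤ, IsPseudoCoherentRel f (m - i) (DCoh.inD X (F.X i))) :
    IsPseudoCoherentRel f m (DCoh.toD X F) := by
  haveI := (h 0).1
  apply isPseudoCoherentRel_of_forall_chart
  intro U V hUV k φ hφ
  intro G ⟨e⟩
  obtain ⟨e'⟩ := nonempty_chart_iso U.1 U.2 φ hφ.1 e
  refine isPseudoCoherentD_of_iso e'.symm ?_
  refine isPseudoCoherentD_of_terms _ m ((b - m).toNat + 1) _ b ?_
    (by have := Int.self_le_toNat (b - m); push_cast; omega) ?_
  · intro i hi
    exact (Scheme.Modules.pushforward _).map_isZero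
      ((Scheme.Modules.restrictFunctor _).map_isZero (hb i hi))
  · intro j
    have hj := chartPC_of_isPseudoCoherentRel f (m - j) _ (h j) U.1 U.2 V.1 V.2 hUV φ hφ
    rw [chartPC_single_iff U.1 U.2 V.1 φ hφ.1] at hj
    exact hj

end Groth.Agent.Lib.Helper99.SChart
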