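import Mathlib
import Groth.Agent.Lib.Helper99.SChart3

set_option autoImplicit false
universe u
open CategoryTheory Limits AlgebraicGeometry Opposite TopologicalSpace Pretriangulated

attribute [local instance] HasDerivedCategory.standard

namespace Groth.Agent.Lib.Helper99.SChart

open DerSch Groth.Agent.Lib.Helper99.SPerf Groth.Agent.Lib.Helper99.SPush
  Groth.Agent.Lib.Helper99.SStalk Groth.Agent.Lib.QCoh Groth.Agent.Lib.Helper99.SLfp
  Groth.Agent.Lib.Helper99.SClosed Groth.Agent.Lib.Helper99.SRelMod Scheme.Modules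
  Groth.Agent.Lib.Helper99.SCoh

variable {X Y : Scheme.{u}}


/-- a chart over `V` from a chart over a basic open of `V` -/
theorem exists_chart_of_baseAway (f : X ⟶ Y) (U₁ : X.Opens) (V : Y.Opens)
    (hV : IsAffineOpen V) (a : Γ(Y, V)) (h : U₁ ≤ f ⁻¹ᵁ V) (h₁ : U₁ ≤ f ⁻¹ᵁ (Y.basicOpen a))
    {N : ℕ} (ξ : MvPolynomial (Fin N) Γ(Y, Y.basicOpen a) →+* Γ(X, U₁))
    (hξ : IsChart f U₁ (Y.basicOpen a) h₁ ξ) :
    ∃ φ : MvPolynomial (Fin (N + 1)) Γ(Y, V) →+* Γ(X, U₁), IsChart f U₁ V h φ := by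
  haveI : IsLocalization.Away a Γ(Y, Y.basicOpen a) := hV.isLocalization_basicOpen a
  let t : Γ(X, U₁) := ξ (MvPolynomial.C (IsLocalization.Away.invSelf a))
  let φ : MvPolynomial (Fin (N + 1)) Γ(Y, V) →+* Γ(X, U₁) :=
    MvPolynomial.eval₂Hom (f.appLE V U₁ h).hom
      (Fin.cases t (fun i => ξ (MvPolynomial.X i)))
  have hC : ∀ b : Γ(Y, V), ξ (MvPolynomial.C (algebraMap Γ(Y, V) Γ(Y, Y.basicOpen a) b)) =
      (f.appLE V U₁ h).hom b := by
    intro b
    have h1 := congr($(hξ.2) (algebraMap Γ(Y, V) Γ(Y, Y.basicOpen a) b))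
    rw [RingHom.comp_apply] at h1
    rw [h1, RingHom.algebraMap_toAlgebra]
    exact congr($(Scheme.Hom.map_appLE f h₁ (homOfLE (Y.basicOpen_le a)).op).hom b)
  refine ⟨φ, ?_, ?_⟩
  · intro y
    obtain ⟨q, rfl⟩ := hξ.1 y
    change ξ q ∈ Set.range φ
    rw [← RingHom.coe_range]
    induction q using MvPolynomial.induction_on with
    | C c =>
      obtain ⟨k, b, hb⟩ := IsLocalization.Away.surj a c
      have hc : c = algebraMap Γ(Y, V) Γ(Y, Y.basicOpen a) b *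
          IsLocalization.Away.invSelf a ^ k := by
        rw [← hb, mul_assoc, ← mul_pow, IsLocalization.Away.mul_invSelf, one_pow, mul_one]
      refine ⟨MvPolynomial.C b * MvPolynomial.X 0 ^ k, ?_⟩
      rw [hc, map_mul (MvPolynomial.C), map_pow (MvPolynomial.C), map_mul ξ, map_pow ξ, hC]
      simp [φ, t]
    | add p q hp hq =>
      rw [map_add]
      exact Subring.add_mem _ hp hq
    | mul_X p i hp =>
      rw [map_mul]
      refine Subring.mul_mem _ hp ⟨MvPolynomial.X i.succ, ?_⟩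
      simp [φ]
  · apply RingHom.ext
    intro b
    simp [φ]

/-- base localization for `ChartPC` -/
theorem chartPC_baseAway_iff (f : X ⟶ Y) (U₁ : X.Opens) (hU₁ : IsAffineOpen U₁) (V : Y.Opens)
    (hV : IsAffineOpen V) (a : Γ(Y, V)) (h : U₁ ≤ f ⁻¹ᵁ V) (h₁ : U₁ ≤ f ⁻¹ᵁ (Y.basicOpen a))
    {n N : ℕ} (φ : MvPolynomial (Fin n) Γ(Y, V) →+* Γ(X, U₁)) (hφ : IsChart f U₁ V h φ)
    (ξ : MvPolynomial (Fin N) Γ(Y, Y.basicOpen a) →+* Γ(X, U₁))
    (hξ : IsChart f U₁ (Y.basicOpen a) h₁ ξ) (E : DCoh.D X) (m : ℤ) :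
    ChartPC m E U₁ V φ ↔ ChartPC m E U₁ (Y.basicOpen a) ξ := by
  rw [chartPC_iff_forall U₁ hU₁ V φ hφ.1, chartPC_iff_forall U₁ hU₁ _ ξ hξ.1]
  exact forall_congr' fun x => chartLAt_baseAway f U₁ hU₁ V hV a h h₁ φ hφ ξ hξ E m x

end Groth.Agent.Lib.Helper99.SChart
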