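import Mathlib
import Groth.Agent.Lib.Helper99.SChart5

set_option autoImplicit false
universe u
open CategoryTheory Limits AlgebraicGeometry Opposite TopologicalSpace Pretriangulated

attribute [local instance] HasDerivedCategory.standard

namespace Groth.Agent.Lib.Helper99.SChart

open DerSch Groth.Agent.Lib.Helper99.SPerf Groth.Agent.Lib.Helper99.SPush
  Groth.Agent.Lib.Helper99.SStalk Groth.Agent.Lib.QCoh Groth.Agent.Lib.Helper99.SLfp
  Groth.Agent.Lib.Helper99.SClosed Groth.Agent.Lib.Helper99.SRelMod Scheme.Modules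
  Groth.Agent.Lib.Helper99.SCoh

variable {X Y : Scheme.{u}}


theorem pushUnitPC_chartImm_of_isNPseudoCoherent (g : X ⟶ Y)
    (hg : ∀ n : ℤ, IsNPseudoCoherent g n) (U : X.affineOpens) (V : Y.affineOpens)
    (h : (U : X.Opens) ≤ g ⁻¹ᵁ (V : Y.Opens)) {k : ℕ}
    (φ : MvPolynomial (Fin k) Γ(Y, (V : Y.Opens)) →+* Γ(X, (U : X.Opens)))
    (hφ : IsChart g (U : X.Opens) (V : Y.Opens) h φ) : PushUnitPC (chartImm U.1 φ) := by
  intro m
  exact (chartPC_unit_iff U.1 U.2 V.1 φ hφ.1 m).1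
    (chartPC_of_isPseudoCoherentRel g m _ (hg m) U.1 U.2 V.1 V.2 h φ hφ)

/-- S6207 -/
theorem isPseudoCoherentD_iff_rel (g : X ⟶ Y) [LocallyOfFiniteType g]
    (hg : ∀ n : ℤ, IsNPseudoCoherent g n) (r : ℤ) (E : DCoh.D X) :
    DCoh.IsPseudoCoherentD r E ↔ IsPseudoCoherentRel g r E := by
  rw [isPseudoCoherentRel_iff_forall_chart]
  constructor
  · intro hE U V h k φ hφ
    haveI := isClosedImmersion_chartImm U.1 U.2 φ hφ.1
    rw [chartPC_iff_FD U.1 U.2 V.1 φ hφ.1, ← isPseudoCoherentD_FD_iff _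
      (pushUnitPC_chartImm_of_isNPseudoCoherent g hg U V h φ hφ)]
    exact isPseudoCoherentD_restrict r E U.1 hE
  · intro H
    rw [isPseudoCoherentD_iff_pcAt]
    intro y
    obtain ⟨V, hV, hyV, -⟩ := Opens.isBasis_iff_nbhd.mp Y.isBasis_affineOpens
      (Opens.mem_top (g.base y))
    obtain ⟨U, hU, hyU, hUV⟩ := Opens.isBasis_iff_nbhd.mp X.isBasis_affineOpens
      (show y ∈ g ⁻¹ᵁ V from hyV)
    obtain ⟨k, φ, hφ⟩ := exists_isChart g ⟨U, hU⟩ ⟨V, hV⟩ hUV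
    haveI := isClosedImmersion_chartImm U hU φ hφ.1
    have := H ⟨U, hU⟩ ⟨V, hV⟩ hUV k φ hφ
    rw [chartPC_iff_FD U hU V φ hφ.1, ← isPseudoCoherentD_FD_iff _
      (pushUnitPC_chartImm_of_isNPseudoCoherent g hg ⟨U, hU⟩ ⟨V, hV⟩ hUV φ hφ),
      isPseudoCoherentD_iff_pcAt] at this
    exact (pcAt_restrict_iff r E U y hyU).1 (this ⟨y, hyU⟩)

end Groth.Agent.Lib.Helper99.SChart
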