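import Mathlib
import Groth.Agent.Lib.Helper99.SChart6

set_option autoImplicit false
universe u
open CategoryTheory Limits AlgebraicGeometry Opposite TopologicalSpace Pretriangulated

attribute [local instance] HasDerivedCategory.standard

namespace Groth.Agent.Lib.Helper99.SChart

open DerSch Groth.Agent.Lib.Helper99.SPerf Groth.Agent.Lib.Helper99.SPush
  Groth.Agent.Lib.Helper99.SStalk Groth.Agent.Lib.QCoh Groth.Agent.Lib.Helper99.SLfp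
  Groth.Agent.Lib.Helper99.SClosed Groth.Agent.Lib.Helper99.SRelMod Scheme.Modules
  Groth.Agent.Lib.Helper99.SCoh

variable {X Y : Scheme.{u}}


theorem toSpecΓ_transport (U : X.Opens) (W' : U.toScheme.Opens) (hW' : IsAffineOpen W')
    (e : W'.toScheme ⟶ (U.ι ''ᵁ W').toScheme) (he : e ≫ (U.ι ''ᵁ W').ι = W'.ι ≫ U.ι) :
    e ≫ (U.ι ''ᵁ W').toSpecΓ = W'.toSpecΓ := by
  have hW : IsAffineOpen (U.ι ''ᵁ W') := hW'.image_of_isOpenImmersion U.ι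
  have h1 : hW.fromSpec = hW'.fromSpec ≫ U.ι := by
    have h2 := IsAffineOpen.SpecMap_appLE_fromSpec U.ι hW hW'
      (by rw [Scheme.Hom.preimage_image_eq])
    rw [← h2]
    have h3 : U.ι.appLE (U.ι ''ᵁ W') W' (by rw [Scheme.Hom.preimage_image_eq]) = 𝟙 _ := by
      rw [Scheme.Opens.ι_appLE]
      exact X.presheaf.map_id _
    rw [h3]
    erw [Spec.map_id, Category.id_comp]
  rw [← cancel_mono hW.isoSpec.inv, Category.assoc]
  have h4 : (U.ι ''ᵁ W').toSpecΓ ≫ hW.isoSpec.inv = 𝟙 _ := by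
    rw [← hW.isoSpec_hom, Iso.hom_inv_id]
  rw [h4, Category.comp_id, ← cancel_mono (U.ι ''ᵁ W').ι, he, Category.assoc, hW.isoSpec_inv_ι, h1]
  exact (congrArg (· ≫ U.ι) hW'.toSpecΓ_fromSpec.symm).trans (Category.assoc _ _ _)

/-- transport of the local chart test along an open subscheme -/
theorem chartLAt_opens_iff (U : X.Opens) (W' : U.toScheme.Opens) (hW' : IsAffineOpen W')
    {R : Type u} [CommRing R] {n : ℕ} (φ : MvPolynomial (Fin n) R →+* Γ(X, U.ι ''ᵁ W'))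
    (hφ : Function.Surjective φ) (E : DCoh.D X) (m : ℤ) (w' : W') :
    ChartLAt (X := U.toScheme) W' hW' φ hφ ((DCoh.restrictD U.ι).obj E) m w' ↔
      ChartLAt (U.ι ''ᵁ W') (hW'.image_of_isOpenImmersion U.ι) φ hφ E m
        ⟨U.ι.base w'.1, ⟨w'.1, w'.2, rfl⟩⟩ := by
  have hW : IsAffineOpen (U.ι ''ᵁ W') := hW'.image_of_isOpenImmersion U.ι
  haveI : IsAffine W'.toScheme := hW'
  haveI : IsAffine (U.ι ''ᵁ W').toScheme := hW
  have hrange : Set.range (W'.ι ≫ U.ι).base = Set.range (U.ι ''ᵁ W').ι.base := by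
    rw [Scheme.Hom.comp_base, TopCat.coe_comp, Set.range_comp, Scheme.Opens.range_ι,
      Scheme.Opens.range_ι]
    rfl
  let e : W'.toScheme ≅ (U.ι ''ᵁ W').toScheme :=
    IsOpenImmersion.isoOfRangeEq (W'.ι ≫ U.ι) (U.ι ''ᵁ W').ι hrange
  have he : e.hom ≫ (U.ι ''ᵁ W').ι = W'.ι ≫ U.ι := IsOpenImmersion.isoOfRangeEq_hom_fac _ _ _
  have hbase : e.hom.base w' = ⟨U.ι.base w'.1, ⟨w'.1, w'.2, rfl⟩⟩ :=
    Subtype.ext (congr($(he).base w'))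
  have himm : e.hom ≫ (presOfChart (U.ι ''ᵁ W') φ hφ).imm =
      (presOfChart (X := U.toScheme) W' φ hφ).imm := by
    rw [presOfChart_imm _ hW, presOfChart_imm _ hW']
    unfold chartImm
    rw [← Category.assoc, toSpecΓ_transport U W' hW' e.hom he]
    rfl
  have iso : (DCoh.restrictD e.hom).obj ((DCoh.restrictD (U.ι ''ᵁ W').ι).obj E) ≅
      (DCoh.restrictD W'.ι).obj ((DCoh.restrictD U.ι).obj E) :=
    ((restrictDComp e.hom (U.ι ''ᵁ W').ι).app E).symm ≪≫ (restrictDCongr he).app E ≪≫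
      (restrictDComp W'.ι U.ι).app E
  unfold ChartLAt
  rw [← hbase, Pres.lAt_transport e.hom, Pres.lAt_of_iso _ iso]
  unfold Pres.LAt
  rw [pcAt_FD_congr (Pres.ofImm_imm _), pcAt_FD_congr himm]

theorem isChart_opens_iff (f : X ⟶ Y) (U : X.Opens) (W' : U.toScheme.Opens) (V : Y.Opens)
    (h : W' ≤ (U.ι ≫ f) ⁻¹ᵁ V) (h'' : U.ι ''ᵁ W' ≤ f ⁻¹ᵁ V) {n : ℕ}
    (φ : MvPolynomial (Fin n) Γ(Y, V) →+* Γ(X, U.ι ''ᵁ W')) :
    IsChart (U.ι ≫ f) W' V h φ ↔ IsChart f (U.ι ''ᵁ W') V h'' φ := by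
  have key : ((U.ι ≫ f).appLE V W' h).hom = (f.appLE V (U.ι ''ᵁ W') h'').hom := by
    rw [Scheme.Hom.comp_appLE, Scheme.Opens.ι_appLE]
    rfl
  exact ⟨fun ⟨h1, h2⟩ => ⟨h1, h2.trans key⟩, fun ⟨h1, h2⟩ => ⟨h1, h2.trans key.symm⟩⟩

theorem chartPC_of_iso {m : ℤ} {K K' : DCoh.D X} (e : K ≅ K') {U : X.Opens} {V : Y.Opens} {n : ℕ}
    {φ : MvPolynomial (Fin n) Γ(Y, V) →+* Γ(X, U)} (h : ChartPC m K U V φ) :
    ChartPC m K' U V φ := fun G ⟨e'⟩ => h G ⟨e' ≪≫ e.symm⟩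

theorem isPseudoCoherentRel_of_iso (f : X ⟶ Y) {m : ℤ} {K K' : DCoh.D X} (e : K ≅ K')
    (h : IsPseudoCoherentRel f m K) : IsPseudoCoherentRel f m K' := by
  obtain ⟨hf, 𝒱, h𝒱, H⟩ := h
  refine ⟨hf, 𝒱, h𝒱, fun V hV => ?_⟩
  obtain ⟨𝒰, h𝒰, H'⟩ := H V hV
  refine ⟨𝒰, h𝒰, fun U hU h => ?_⟩
  obtain ⟨n, φ, hφ, hPC⟩ := H' U hU h
  exact ⟨n, φ, hφ, chartPC_of_iso e hPC⟩

/-- S6202 (derived form) -/
theorem isPseudoCoherentRel_restrictD (f : X ⟶ Y) (n : ℤ) (E : DCoh.D X)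
    (hE : IsPseudoCoherentRel f n E) (U : X.Opens) :
    IsPseudoCoherentRel (U.ι ≫ f) n ((DCoh.restrictD U.ι).obj E) := by
  haveI := hE.1
  apply isPseudoCoherentRel_of_forall_chart
  intro W' V h k φ hφ
  rw [chartPC_iff_forall W'.1 W'.2 V.1 φ hφ.1]
  intro w'
  have h'' : U.ι ''ᵁ W'.1 ≤ f ⁻¹ᵁ V.1 := by
    rintro _ ⟨w, hw, rfl⟩
    exact h hw
  have hφ' : IsChart f (U.ι ''ᵁ W'.1) V.1 h'' φ := (isChart_opens_iff f U W'.1 V.1 h h'' φ).1 hφ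
  rw [chartLAt_opens_iff U W'.1 W'.2 φ hφ.1 E n w']
  exact (chartPC_iff_forall _ (W'.2.image_of_isOpenImmersion U.ι) V.1 φ hφ'.1 E n).1
    (chartPC_of_isPseudoCoherentRel f n E hE _ (W'.2.image_of_isOpenImmersion U.ι) V.1 V.2 h'' φ
      hφ') _

end Groth.Agent.Lib.Helper99.SChart
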