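import Mathlib
import Groth.Agent.Lib.Helper99.SChart7

set_option autoImplicit false
universe u
open CategoryTheory Limits AlgebraicGeometry Opposite TopologicalSpace Pretriangulated

attribute [local instance] HasDerivedCategory.standard

namespace Groth.Agent.Lib.Helper99.SChart

open DerSch Groth.Agent.Lib.Helper99.SPerf Groth.Agent.Lib.Helper99.SPush
  Groth.Agent.Lib.Helper99.SStalk Groth.Agent.Lib.QCoh Groth.Agent.Lib.Helper99.SLfp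
  Groth.Agent.Lib.Helper99.SClosed Groth.Agent.Lib.Helper99.SRelMod Scheme.Modules
  Groth.Agent.Lib.Helper99.SCoh

variable {X Y : Scheme.{u}}


theorem chartLAt_opens_iff' (U : X.Opens) (W' : U.toScheme.Opens) (hW' : IsAffineOpen W')
    (W : X.Opens) (hWW' : U.ι ''ᵁ W' = W) (hW : IsAffineOpen W) {R : Type u} [CommRing R] {n : ℕ}
    (φ : MvPolynomial (Fin n) R →+* Γ(X, W)) (hφ : Function.Surjective φ)
    (φ' : MvPolynomial (Fin n) R →+* Γ(U.toScheme, W')) (hφ' : Function.Surjective φ')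
    (hφφ' : φ' = (X.presheaf.map (eqToHom hWW').op).hom.comp φ)
    (E : DCoh.D X) (m : ℤ) (w' : W') (hw : U.ι.base w'.1 ∈ W) :
    ChartLAt (X := U.toScheme) W' hW' φ' hφ' ((DCoh.restrictD U.ι).obj E) m w' ↔
      ChartLAt W hW φ hφ E m ⟨U.ι.base w'.1, hw⟩ := by
  subst hWW'
  have : φ' = φ := by
    rw [hφφ']
    apply RingHom.ext
    intro r
    simp
  subst this
  exact chartLAt_opens_iff U W' hW' φ' hφ' E m w'

theorem isChart_opens' (f : X ⟶ Y) (U : X.Opens) (W' : U.toScheme.Opens) (W : X.Opens)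
    (hWW' : U.ι ''ᵁ W' = W) (V : Y.Opens) (h : W' ≤ (U.ι ≫ f) ⁻¹ᵁ V) (h'' : W ≤ f ⁻¹ᵁ V) {n : ℕ}
    (φ : MvPolynomial (Fin n) Γ(Y, V) →+* Γ(X, W)) (hφ : IsChart f W V h'' φ) :
    IsChart (U.ι ≫ f) W' V h ((X.presheaf.map (eqToHom hWW').op).hom.comp φ) := by
  subst hWW'
  have : (X.presheaf.map (eqToHom (rfl : U.ι ''ᵁ W' = U.ι ''ᵁ W')).op).hom.comp φ = φ := by
    apply RingHom.ext
    intro r
    simp
  rw [this]
  exact (isChart_opens_iff f U W' V h h'' φ).2 hφ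

/-- S6203 (derived form) -/
theorem isPseudoCoherentRel_of_openCover (f : X ⟶ Y) [LocallyOfFiniteType f] (n : ℤ)
    (E : DCoh.D X) {ι : Type*} (U : ι → X.Opens) (hU : ⨆ i, U i = ⊤)
    (h : ∀ i, IsPseudoCoherentRel ((U i).ι ≫ f) n ((DCoh.restrictD (U i).ι).obj E)) :
    IsPseudoCoherentRel f n E := by
  apply isPseudoCoherentRel_of_forall_chart
  intro W V hWV k φ hφ
  rw [chartPC_iff_forall W.1 W.2 V.1 φ hφ.1]
  intro x
  have hx : x.1 ∈ ⨆ i, U i := by rw [hU]; trivial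
  rw [Opens.mem_iSup] at hx
  obtain ⟨i, hxi⟩ := hx
  obtain ⟨g, hgle, hxg⟩ := W.2.exists_basicOpen_le ⟨x.1, hxi⟩ x.2
  obtain ⟨φ₁, hφ₁, hC₁, hiff⟩ := chartLAt_basicOpen W.1 W.2 φ hφ.1 g E n
  refine (hiff x.1 hxg).2 ?_
  have hφ₁c : IsChart f (X.basicOpen g) V.1 ((X.basicOpen_le g).trans hWV) φ₁ :=
    ⟨hφ₁, by rw [hC₁, hφ.2, ← CommRingCat.hom_comp, Scheme.Hom.appLE_map]⟩
  have hWW' : (U i).ι ''ᵁ ((U i).ι ⁻¹ᵁ X.basicOpen g) = X.basicOpen g := by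
    rw [Scheme.Hom.image_preimage_eq_opensRange_inf, Scheme.Opens.opensRange_ι, inf_eq_right]
    exact hgle
  have hW'aff : IsAffineOpen ((U i).ι ⁻¹ᵁ X.basicOpen g) := by
    rw [← (U i).ι.isAffineOpen_iff_of_isOpenImmersion, hWW']
    exact W.2.basicOpen g
  have hle' : (U i).ι ⁻¹ᵁ X.basicOpen g ≤ ((U i).ι ≫ f) ⁻¹ᵁ V.1 := fun w hw =>
    ((X.basicOpen_le g).trans hWV) hw
  have hφ'c := isChart_opens' f (U i) ((U i).ι ⁻¹ᵁ X.basicOpen g) _ hWW' V.1 hle'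
    ((X.basicOpen_le g).trans hWV) φ₁ hφ₁c
  have hPC := chartPC_of_isPseudoCoherentRel ((U i).ι ≫ f) n _ (h i) _ hW'aff V.1 V.2 hle' _ hφ'c
  have key := (chartPC_iff_forall _ hW'aff V.1 _ hφ'c.1 _ n).1 hPC ⟨⟨x.1, hxi⟩, hxg⟩
  exact (chartLAt_opens_iff' (U i) _ hW'aff _ hWW' (W.2.basicOpen g) φ₁ hφ₁ _ hφ'c.1 rfl E n
    ⟨⟨x.1, hxi⟩, hxg⟩ hxg).1 key

end Groth.Agent.Lib.Helper99.SChart
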