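import Mathlib
import Groth.Agent.Lib.Helper99.SClosed4

/-!
# Pseudo-coherence and closed immersions, bounded version, reverse direction (helper99)

For a closed immersion `i : Z ⟶ X` with `i_* O_Z` `k`-pseudo-coherent and `E ∈ D(O_Z)` with
`E.IsLE b`, `k ≤ m + 1 - b`: if `i_* E` is `m`-pseudo-coherent then so is `E`.
-/

set_option autoImplicit false
universe u
open CategoryTheory Limits AlgebraicGeometry Opposite TopologicalSpace Pretriangulated

attribute [local instance] HasDerivedCategory.standard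

namespace Groth.Agent.Lib.Helper99.SClosed

open Groth.Agent.Lib.Helper99.SPerf Groth.Agent.Lib.Helper99.SPush
  Groth.Agent.Lib.Helper99.SStalk Groth.Agent.Lib.QCoh Groth.Agent.Lib.Helper20.PushStalk
  Scheme.Modules Groth.Agent.Lib.Helper99.SCoh

variable {Z X : Scheme.{u}}

attribute [local instance] preservesBinaryBiproducts_of_preservesBiproducts

theorem loc_imp (i : Z ⟶ X) [IsClosedImmersion i] (E : DCoh.D Z) (m : ℤ) (W : X.Opens) (z : Z)
    (hz : i.base z ∈ W)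
    (h : PCAt m ((FD (i ∣_ W)).obj ((DCoh.restrictD (i ⁻¹ᵁ W).ι).obj E))
        ((i ∣_ W).base (⟨z, hz⟩ : (i ⁻¹ᵁ W : Scheme.{u}))) →
      PCAt m ((DCoh.restrictD (i ⁻¹ᵁ W).ι).obj E) (⟨z, hz⟩ : (i ⁻¹ᵁ W : Scheme.{u}))) :
    PCAt m ((FD i).obj E) (i.base z) → PCAt m E z := by
  intro h0
  have A := pcAt_restrict_iff m E (i ⁻¹ᵁ W) z hz
  have B := pcAt_restrict_iff m ((FD i).obj E) W (i.base z) hz
  refine A.1 (h ?_)
  rw [morphismRestrict_base_mk]
  exact (B.2 h0).of_iso ((bcIso i W).app E)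

/-- the induction hypothesis, reverse direction -/
def IHypR (k : ℤ) (N : ℕ) : Prop :=
  ∀ {Z X : Scheme.{u}} (i : Z ⟶ X) [IsClosedImmersion i], PushUnitPCk i k →
    ∀ (E : DCoh.D Z) (b m : ℤ), E.IsLE b → b - m < N → k ≤ m + 1 - b → ∀ z : Z,
      (PCAt m ((FD i).obj E) (i.base z) → PCAt m E z)

theorem triR {k : ℤ} {N : ℕ} (IH : IHypR.{u} k N) (i : Z ⟶ X) [IsClosedImmersion i]
    (hO : PushUnitPCk i k)
    (E : DCoh.D Z) (b m : ℤ) [E.IsLE b] (hbm : b - m < N + 1) (hk : k ≤ m + 1 - b) (n : ℕ)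
    (σ : freeSh Z n b ⟶ E)
    (hσ : Epi ((DerivedCategory.homologyFunctor _ b).map σ)) (z : Z) :
    PCAt m ((FD i).obj E) (i.base z) → PCAt m E z := by
  obtain ⟨E', g, h, hT⟩ := distinguished_cocone_triangle σ
  haveI : (Triangle.mk σ g h).obj₂.IsLE b := ‹E.IsLE b›
  have hE' : E'.IsLE (b - 1) :=
    isLE_cone (FlatMod.freeMod Z n) b (Triangle.mk σ g h) hT (Iso.refl _) hσ
  have ih := IH i hO E' (b - 1) m hE' (by omega) (by omega) z
  have hL : ∀ k', PCAt k' (freeSh Z n b) z := fun k' =>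
    (isPseudoCoherentD_iff_pcAt k' _).1 (isPseudoCoherentD_freeSh Z n b k') z
  have hFL : PCAt (m + 1) ((FD i).obj (freeSh Z n b)) (i.base z) :=
    (isPseudoCoherentD_iff_pcAt (m + 1) _).1
      (isPseudoCoherentD_FD_freeSh' i hO n b (m + 1) (by omega)) (i.base z)
  have hT' := (FD i).map_distinguished _ hT
  intro hE
  have h1 : PCAt m ((FD i).obj E') (i.base z) := pcAt_obj₃ m _ hT' _ hFL hE
  exact pcAt_obj₂ m _ hT z (hL m) (ih h1)

theorem coreR {k : ℤ} {N : ℕ} (IH : IHypR.{u} k N) (i : Z ⟶ X) [IsClosedImmersion i]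
    (hO : PushUnitPCk i k)
    (E : DCoh.D Z) (b m : ℤ) [E.IsLE b] (hbm : b - m < N + 1) (hk : k ≤ m + 1 - b) (n : ℕ)
    (π : FlatMod.freeMod Z n ⟶ DCoh.HD E b) [Epi π] (z : Z) :
    PCAt m ((FD i).obj E) (i.base z) → PCAt m E z := by
  obtain ⟨V, hzV, hV⟩ := exists_local_sigma E b n π z
  obtain ⟨W, hzW, hWV⟩ := exists_opens_preimage_le i V z hzV
  obtain ⟨σ, hσ⟩ := (isLocalProp_gen E n b).of_le hWV hV
  apply loc_imp i E m W z hzW
  haveI := isLE_restrictD (i ⁻¹ᵁ W).ι E b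
  exact triR IH (i ∣_ W) (hO.restrict W) _ b m hbm hk n σ hσ ⟨z, hzW⟩

theorem locGenR {k : ℤ} {N : ℕ} (IH : IHypR.{u} k N) (i : Z ⟶ X) [IsClosedImmersion i]
    (hO : PushUnitPCk i k) (E : DCoh.D Z) (b m : ℤ) [E.IsLE b] (hbm : b - m < N + 1)
    (hk : k ≤ m + 1 - b) (z : Z)
    (h : LocGen i (DCoh.HD E b) z) :
    PCAt m ((FD i).obj E) (i.base z) → PCAt m E z := by
  obtain ⟨W, hzW, n, ψ, hψ⟩ := h
  apply loc_imp i E m W z hzW
  haveI := isLE_restrictD (i ⁻¹ᵁ W).ι E b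
  haveI : Epi (ψ ≫ (homologyRestrictDIso (i ⁻¹ᵁ W).ι E b).inv) := epi_comp _ _
  exact coreR IH (i ∣_ W) (hO.restrict W) _ b m hbm hk n
    (ψ ≫ (homologyRestrictDIso (i ⁻¹ᵁ W).ι E b).inv) ⟨z, hzW⟩

theorem stepR {k : ℤ} {N : ℕ} (IH : IHypR.{u} k N) : IHypR.{u} k (N + 1) := by
  intro Z X i _ hO E b m hE hbm hk z
  haveI := hE
  by_cases hmb : b < m
  · exact (iff_of_lt i E b m hmb z).2
  · have hmb : m ≤ b := not_lt.1 hmb
    rintro ⟨W, hzW, hW⟩
    have hpc := pc_of_pcProp hW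
    have hpc' : DCoh.IsPseudoCoherentD m
        ((FD (i ∣_ W)).obj ((DCoh.restrictD (i ⁻¹ᵁ W).ι).obj E)) :=
      isPseudoCoherentD_of_iso ((bcIso i W).app E) hpc
    haveI := isLE_restrictD (i ⁻¹ᵁ W).ι E b
    have hz : ∀ j : ℤ, b < j → IsZero (DCoh.HD
        ((FD (i ∣_ W)).obj ((DCoh.restrictD (i ⁻¹ᵁ W).ι).obj E)) j) := fun j hj =>
      isZero_homology_of_isZero (Scheme.Modules.pushforward (i ∣_ W)) _ j
        (DerivedCategory.isZero_of_isLE _ b j hj)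
    have hft := isFiniteType_HD_of_isPseudoCoherentD b _ (isPseudoCoherentD_mono hpc' hmb) hz
    haveI : ((Scheme.Modules.pushforward (i ∣_ W)).obj
        (DCoh.HD ((DCoh.restrictD (i ⁻¹ᵁ W).ι).obj E) b)).IsFiniteType :=
      @isFiniteType_of_iso _ _ _
        ((homologyMapDCIso (Scheme.Modules.pushforward (i ∣_ W)) b).app _) hft
    have key := locGenR IH (i ∣_ W) (hO.restrict W) _ b m hbm hk ⟨z, hzW⟩
      (locGen_of_isFiniteType_push (i ∣_ W)
        (DCoh.HD ((DCoh.restrictD (i ⁻¹ᵁ W).ι).obj E) b) ⟨z, hzW⟩)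
    exact (loc_imp i E m W z hzW key) ⟨W, hzW, hW⟩

theorem allR (k : ℤ) (N : ℕ) : IHypR.{u} k N := by
  induction N with
  | zero =>
    intro Z X i _ hO E b m hE hbm hk z
    haveI := hE
    exact (iff_of_lt i E b m (by omega) z).2
  | succ N ih => exact stepR ih

theorem pcAt_of_pcAt_FD_of_isLE (i : Z ⟶ X) [IsClosedImmersion i] {k : ℤ} (hO : PushUnitPCk i k)
    (E : DCoh.D Z) (b : ℤ) [hE : E.IsLE b] (m : ℤ) (hk : k ≤ m + 1 - b) (z : Z) :
    PCAt m ((FD i).obj E) (i.base z) → PCAt m E z :=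
  allR.{u} k ((b - m).toNat + 1) i hO E b m hE (by push_cast; omega) hk z

/-- reverse direction with the sharper bound -/
theorem isPseudoCoherentD_of_FD_of_isLE (i : Z ⟶ X) [IsClosedImmersion i] {k : ℤ}
    (hO : PushUnitPCk i k) (E : DCoh.D Z) (b : ℤ) [E.IsLE b] (m : ℤ) (hk : k ≤ m + 1 - b)
    (h : DCoh.IsPseudoCoherentD m ((FD i).obj E)) : DCoh.IsPseudoCoherentD m E := by
  rw [isPseudoCoherentD_iff_pcAt] at h ⊢
  intro z
  exact pcAt_of_pcAt_FD_of_isLE i hO E b m hk z (h (i.base z))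

end Groth.Agent.Lib.Helper99.SClosed
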