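import Mathlib
import Groth.Agent.Lib.Helper99.SCoh2

/-!
# Pseudo-coherence on Noetherian schemes via coherent cohomology, II (helper99): S1039
-/

set_option autoImplicit false
universe u
open CategoryTheory Limits AlgebraicGeometry Opposite TopologicalSpace Pretriangulated

attribute [local instance] HasDerivedCategory.standard

namespace Groth.Agent.Lib.Helper99.SCoh

open Scheme.Modules Groth.Agent.Lib.Helper99.SPerf Groth.Agent.Lib.QCoh
  Groth.Agent.Lib.Helper99.SStalk

variable {X : Scheme.{u}}

theorem isCoh_of_isZero {M : X.Modules} (h : IsZero M) : Coh.IsCoh M :=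
  ⟨isQuasicoherent_of_isFinLocFree (isFinLocFree_of_isZero h),
    isFiniteType_of_isFinLocFree (isFinLocFree_of_isZero h)⟩

/-- objects concentrated in one degree with coherent cohomology are pseudo-coherent -/
theorem isPseudoCoherentD_of_concentrated [IsLocallyNoetherian X] (B : DCoh.D X) (n : ℤ)
    [B.IsGE n] [B.IsLE n] (hB : Coh.IsCoh (DCoh.HD B n)) (m : ℤ) :
    DCoh.IsPseudoCoherentD m B := by
  obtain ⟨e⟩ := exists_iso_single_homology B n
  refine isPseudoCoherentD_of_iso e.symm ?_
  exact isPseudoCoherentD_shift _ (-n) (m + -n) m rfl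
    (isPseudoCoherentD_single_of_isCoh _ hB _)

theorem isPseudoCoherentD_of_isCoh_HD_aux [IsLocallyNoetherian X] (m : ℤ) (d : ℕ) :
    ∀ (K : DCoh.D X), K.IsLE (m - 1 + d) → (∀ i : ℤ, m ≤ i → Coh.IsCoh (DCoh.HD K i)) →
      DCoh.IsPseudoCoherentD m K := by
  induction d with
  | zero =>
    intro K hK _
    rw [isPseudoCoherentD_iff_pcAt]
    intro x
    apply pcAt_of_vanishing m K x ⊤ trivial
    intro i hi
    exact ((restrictFunctor _).map_isZero
      (K.isZero_of_isLE (m - 1 + ((0 : ℕ) : ℤ)) i (by push_cast; omega))).of_iso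
      (homologyRestrictDIso _ K i)
  | succ d ih =>
    intro K hK hcoh
    obtain ⟨A, B, f, g, h, hT, hA, hB, hf, hg⟩ := exists_truncation_triangle K (m - 1 + d)
    haveI : B.IsLE (m - 1 + d + 1) := by
      rw [DerivedCategory.isLE_iff]
      intro i hi
      haveI := hg i (by omega)
      exact (K.isZero_of_isLE (m - 1 + ((d + 1 : ℕ) : ℤ)) i (by push_cast; omega)).of_iso
        (asIso ((DerivedCategory.homologyFunctor _ i).map g)).symm
    have hAcoh : ∀ i : ℤ, m ≤ i → Coh.IsCoh (DCoh.HD A i) := by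
      intro i hi
      by_cases hle : i ≤ m - 1 + d
      · haveI := hf i hle
        exact isCoh_of_iso (asIso ((DerivedCategory.homologyFunctor _ i).map f)).symm (hcoh i hi)
      · exact isCoh_of_isZero (A.isZero_of_isLE (m - 1 + d) i (by omega))
    have hPA := ih A hA hAcoh
    haveI := hg (m - 1 + d + 1) le_rfl
    have hPB : DCoh.IsPseudoCoherentD m B :=
      isPseudoCoherentD_of_concentrated B (m - 1 + d + 1)
        (isCoh_of_iso (asIso ((DerivedCategory.homologyFunctor _ (m - 1 + d + 1)).map g))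
          (hcoh _ (by omega))) m
    exact (isPseudoCoherent_triangle m _ hT).2.1 hPA hPB

/-- **S1039** -/
theorem isPseudoCoherentD_iff_isCoh_HD [IsNoetherian X] (E : DCoh.D X) (hE : DCoh.IsQCohD E)
    (m : ℤ) :
    DCoh.IsPseudoCoherentD m E ↔
      (∀ i : ℤ, m ≤ i → Coh.IsCoh (DCoh.HD E i)) ∧ ∃ b : ℤ, E.IsLE b := by
  constructor
  · intro h
    refine ⟨fun i hi => ⟨hE i, ?_⟩, ?_⟩
    · apply isFiniteType_of_locally
      intro x
      rw [isPseudoCoherentD_iff] at h
      obtain ⟨V, hxV, P, α, hP, hα⟩ := h x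
      refine ⟨V, hxV, ?_⟩
      haveI := isFiniteType_homology hP i
      rcases hi.lt_or_eq with hlt | rfl
      · haveI := hα.1 i hlt
        exact isFiniteType_of_iso ((homologyQIso P i).symm ≪≫
          asIso ((DerivedCategory.homologyFunctor _ i).map α) ≪≫ homologyRestrictDIso V.ι E i)
      · haveI := hα.2
        exact isFiniteType_of_epi ((homologyQIso P m).inv ≫
          (DerivedCategory.homologyFunctor _ m).map α ≫ (homologyRestrictDIso V.ι E m).hom)
    · obtain ⟨b, hb⟩ := exists_bound_of_isPseudoCoherentD m E h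
      exact ⟨b, (DerivedCategory.isLE_iff _ _).2 (fun i hi => hb i hi)⟩
  · rintro ⟨hcoh, b, hb⟩
    refine isPseudoCoherentD_of_isCoh_HD_aux m (b - (m - 1)).toNat E ?_ hcoh
    rw [DerivedCategory.isLE_iff]
    intro i hi
    exact E.isZero_of_isLE b i (by omega)

end Groth.Agent.Lib.Helper99.SCoh
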