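import Mathlib
import Groth.Agent.Lib.Helper99.SChart10
import Groth.Agent.Lib.Helper6.PCPull
import Groth.Agent.Lib.Helper25.GenPSpSheaf4

set_option autoImplicit false
universe u
open CategoryTheory Limits AlgebraicGeometry Opposite TopologicalSpace Pretriangulated TensorProduct
  ChangeOfRings

attribute [local instance] HasDerivedCategory.standard

namespace Groth.Agent.Lib.Helper99.SComp

open DerSch Groth.Agent.Lib.Helper99.SPerf Groth.Agent.Lib.Helper99.SPush
  Groth.Agent.Lib.Helper99.SStalk Groth.Agent.Lib.QCoh Groth.Agent.Lib.Helper99.SLfp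
  Groth.Agent.Lib.Helper99.SClosed Groth.Agent.Lib.Helper99.SRelMod Scheme.Modules
  Groth.Agent.Lib.Helper99.SCoh Groth.Agent.Lib.Helper99.SChart

variable {X Y : Scheme.{u}}


open Groth.Agent.Lib.Helper25.GenPSpSheaf4 in
/-- for a flat morphism, the derived pullback is the pullback -/
theorem nonempty_lpull_iso_of_flat (π : X ⟶ Y) [Flat π] [DCoh.HasLpull π] :
    Nonempty (DCoh.Lpull π ≅ (Scheme.Modules.pullback π).mapDerivedCategory) := by
  haveI : (Scheme.Modules.pullback π).mapDerivedCategory.IsLeftDerivedFunctor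
      ((Scheme.Modules.pullback π).mapDerivedCategoryFactorsh).hom
      (HomotopyCategory.quasiIso Y.Modules (ComplexShape.up ℤ)) :=
    Functor.isLeftDerivedFunctor_of_inverts _ _ _
  exact ⟨Functor.leftDerivedUnique (Scheme.Modules.pullback π).mapDerivedCategory (DCoh.Lpull π)
    (Functor.totalLeftDerivedCounit _ _ _)
    ((Scheme.Modules.pullback π).mapDerivedCategoryFactorsh).hom
    (HomotopyCategory.quasiIso Y.Modules (ComplexShape.up ℤ))⟩

open Groth.Agent.Lib.Helper25.GenPSpSheaf4 in
/-- flat pullback preserves pseudo-coherence of modules -/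
theorem isPseudoCoherentD_inD_pullback_of_flat (π : X ⟶ Y) [Flat π] (N : Y.Modules) (m : ℤ)
    (h : DCoh.IsPseudoCoherentD m (DCoh.inD Y N)) :
    DCoh.IsPseudoCoherentD m (DCoh.inD X ((Scheme.Modules.pullback π).obj N)) := by
  haveI := Groth.Agent.Lib.Helper6.PullDer.hasLpull π
  obtain ⟨e⟩ := nonempty_lpull_iso_of_flat π
  have h1 := Groth.Agent.Lib.Helper6.PCPull.isPseudoCoherentD_Lpull π m _ h
  exact isPseudoCoherentD_of_iso (e.app _ ≪≫
    ((Scheme.Modules.pullback π).mapDerivedCategorySingleFunctor 0).app N) h1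


section Alg

attribute [local instance] MvPolynomial.algebraMvPolynomial

variable {T T' : Type u} [CommRing T] [CommRing T'] (φ : T →+* T') (n : ℕ)

/-- identity, as a linear equivalence -/
noncomputable def idEquiv₁ :
    ((ModuleCat.restrictScalars (MvPolynomial.C : T →+* MvPolynomial (Fin n) T)).obj
      (ModuleCat.of _ (MvPolynomial (Fin n) T))) ≃ₗ[T] MvPolynomial (Fin n) T :=
  { toFun := fun p => p
    invFun := fun p => p
    map_add' := fun _ _ => rfl
    map_smul' := fun r p => (MvPolynomial.smul_eq_C_mul p r).symm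
    left_inv := fun _ => rfl
    right_inv := fun _ => rfl }

/-- identity, as a linear equivalence -/
noncomputable def idEquiv₂ :
    letI : Algebra T T' := φ.toAlgebra
    ((ModuleCat.restrictScalars φ).obj (ModuleCat.of T' T')) ≃ₗ[T] T' :=
  letI : Algebra T T' := φ.toAlgebra
  { toFun := fun p => p
    invFun := fun p => p
    map_add' := fun _ _ => rfl
    map_smul' := fun r p => rfl
    left_inv := fun _ => rfl
    right_inv := fun _ => rfl }

/-- `T[y] ⊗_T T' ≃ T'[y]`, additive version with the `ModuleCat` carrier -/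
noncomputable def extendMvPolyAddEquiv :
    ((ModuleCat.extendScalars (MvPolynomial.C : T →+* MvPolynomial (Fin n) T)).obj
      ((ModuleCat.restrictScalars φ).obj (ModuleCat.of T' T'))) ≃+ MvPolynomial (Fin n) T' :=
  letI : Algebra T T' := φ.toAlgebra
  (TensorProduct.congr (idEquiv₁ n) (idEquiv₂ φ)).toAddEquiv.trans
    (IsBaseChange.equiv (Algebra.IsPushout.out (R := T) (S := MvPolynomial (Fin n) T) (R' := T')
      (S' := MvPolynomial (Fin n) T'))).toAddEquiv

theorem extendMvPolyAddEquiv_tmul (p : MvPolynomial (Fin n) T) (t : T') :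
    extendMvPolyAddEquiv φ n (p ⊗ₜ[T,(MvPolynomial.C : T →+* MvPolynomial (Fin n) T)] t) =
      MvPolynomial.map φ p * MvPolynomial.C t := by
  letI : Algebra T T' := φ.toAlgebra
  unfold extendMvPolyAddEquiv
  erw [AddEquiv.trans_apply]
  erw [LinearEquiv.coe_toAddEquiv, LinearEquiv.coe_toAddEquiv]
  erw [TensorProduct.congr_tmul]
  refine (IsBaseChange.equiv_tmul (Algebra.IsPushout.out (R := T) (S := MvPolynomial (Fin n) T)
    (R' := T') (S' := MvPolynomial (Fin n) T')) _ _).trans ?_
  rw [Algebra.smul_def]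
  rfl

/-- the carrier of the extension of scalars -/
noncomputable abbrev ExtObj : ModuleCat (MvPolynomial (Fin n) T) :=
  (ModuleCat.extendScalars (MvPolynomial.C : T →+* MvPolynomial (Fin n) T)).obj
    ((ModuleCat.restrictScalars φ).obj (ModuleCat.of T' T'))

theorem extendMvPolyAddEquiv_smul (q : MvPolynomial (Fin n) T) (z : ExtObj φ n) :
    extendMvPolyAddEquiv φ n (q • z) = MvPolynomial.map φ q * extendMvPolyAddEquiv φ n z := by
  refine TensorProduct.induction_on (motive := fun z : ExtObj φ n =>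
    extendMvPolyAddEquiv φ n (q • z) = MvPolynomial.map φ q * extendMvPolyAddEquiv φ n z) z ?_ ?_ ?_
  · show extendMvPolyAddEquiv φ n (q • (0 : ExtObj φ n)) =
      MvPolynomial.map φ q * extendMvPolyAddEquiv φ n (0 : ExtObj φ n)
    rw [smul_zero, map_zero, mul_zero]
  · intro (p : MvPolynomial (Fin n) T) (t : T')
    show extendMvPolyAddEquiv φ n ((q * p) ⊗ₜ[T,(MvPolynomial.C : T →+* MvPolynomial (Fin n) T)] t) =
      MvPolynomial.map φ q * extendMvPolyAddEquiv φ n
        (p ⊗ₜ[T,(MvPolynomial.C : T →+* MvPolynomial (Fin n) T)] t)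
    rw [extendMvPolyAddEquiv_tmul, extendMvPolyAddEquiv_tmul, map_mul, mul_assoc]
  · intro (a : ↑(ExtObj φ n)) (b : ↑(ExtObj φ n)) ha hb
    show extendMvPolyAddEquiv φ n (q • (a + b)) =
      MvPolynomial.map φ q * extendMvPolyAddEquiv φ n (a + b)
    rw [smul_add, map_add, map_add, mul_add]
    exact congr_arg₂ _ ha hb

/-- `T[y] ⊗_T T' ≅ T'[y]` as `T[y]`-modules -/
noncomputable def extendMvPolyIso :
    ExtObj φ n ≅
    (ModuleCat.restrictScalars
      (MvPolynomial.map φ : MvPolynomial (Fin n) T →+* MvPolynomial (Fin n) T')).obj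
      (ModuleCat.of _ (MvPolynomial (Fin n) T')) :=
  let e : (ExtObj φ n) ≃ₗ[MvPolynomial (Fin n) T]
      ((ModuleCat.restrictScalars
        (MvPolynomial.map φ : MvPolynomial (Fin n) T →+* MvPolynomial (Fin n) T')).obj
        (ModuleCat.of _ (MvPolynomial (Fin n) T'))) :=
    { toFun := fun z => extendMvPolyAddEquiv φ n z
      invFun := fun w => (extendMvPolyAddEquiv φ n).symm w
      left_inv := fun z => (extendMvPolyAddEquiv φ n).symm_apply_apply z
      right_inv := fun w => (extendMvPolyAddEquiv φ n).apply_symm_apply w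
      map_add' := fun a b => map_add (extendMvPolyAddEquiv φ n) a b
      map_smul' := fun q z => extendMvPolyAddEquiv_smul φ n q z }
  LinearEquiv.toModuleIso e

end Alg

/-- (A): flat base change of `PushUnitPC` along `T → T[y]` -/
theorem pushUnitPC_map {T T' : Type u} [CommRing T] [CommRing T'] (φ : T →+* T') (n : ℕ)
    (h : PushUnitPC (Spec.map (CommRingCat.ofHom φ))) :
    PushUnitPC (Spec.map (CommRingCat.ofHom
      (MvPolynomial.map φ : MvPolynomial (Fin n) T →+* MvPolynomial (Fin n) T'))) := by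
  intro m
  let c : CommRingCat.of T ⟶ CommRingCat.of (MvPolynomial (Fin n) T) :=
    CommRingCat.ofHom MvPolynomial.C
  haveI : Flat (Spec.map c) := by
    rw [HasRingHomProperty.Spec_iff (P := @Flat)]
    show (MvPolynomial.C : T →+* MvPolynomial (Fin n) T).Flat
    rw [← MvPolynomial.algebraMap_eq, RingHom.flat_algebraMap_iff]
    infer_instance
  have e1 := tildePushforwardIso (CommRingCat.ofHom φ) (ModuleCat.of T' T')
  have h1 : DCoh.IsPseudoCoherentD m (DCoh.inD (Spec (CommRingCat.of T))
      (tilde ((ModuleCat.restrictScalars φ).obj (ModuleCat.of T' T')))) :=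
    isPseudoCoherentD_of_iso ((DerivedCategory.singleFunctor _ 0).mapIso e1) (h m)
  have h2 := isPseudoCoherentD_inD_pullback_of_flat (Spec.map c) _ m h1
  have e2 := pullbackTildeIso c ((ModuleCat.restrictScalars φ).obj (ModuleCat.of T' T'))
  have e3 := (tilde.functor (CommRingCat.of (MvPolynomial (Fin n) T))).mapIso (extendMvPolyIso φ n)
  have e4 := tildePushforwardIso (CommRingCat.ofHom
    (MvPolynomial.map φ : MvPolynomial (Fin n) T →+* MvPolynomial (Fin n) T'))
    (ModuleCat.of _ (MvPolynomial (Fin n) T'))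
  exact isPseudoCoherentD_of_iso
    ((DerivedCategory.singleFunctor _ 0).mapIso (e2 ≪≫ e3 ≪≫ e4.symm)) h2

end Groth.Agent.Lib.Helper99.SComp
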