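import Mathlib
import Groth.Agent.Lib.Helper99.SComp1
import Groth.Agent.Lib.Helper99.SChart6

set_option autoImplicit false
universe u
open CategoryTheory Limits AlgebraicGeometry Opposite TopologicalSpace Pretriangulated

attribute [local instance] HasDerivedCategory.standard

namespace Groth.Agent.Lib.Helper99.SComp

open DerSch Groth.Agent.Lib.Helper99.SPerf Groth.Agent.Lib.Helper99.SPush
  Groth.Agent.Lib.Helper99.SStalk Groth.Agent.Lib.QCoh Groth.Agent.Lib.Helper99.SLfp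
  Groth.Agent.Lib.Helper99.SClosed Groth.Agent.Lib.Helper99.SRelMod Scheme.Modules
  Groth.Agent.Lib.Helper99.SCoh Groth.Agent.Lib.Helper99.SChart

variable {X Y S : Scheme.{u}}

/-- cancel an isomorphism on the left -/
theorem pushUnitPC_of_iso_comp {P₀ P P' : Scheme.{u}} (j : P₀ ⟶ P) [IsIso j] (κ : P ⟶ P')
    (h : PushUnitPC (j ≫ κ)) : PushUnitPC κ := by
  intro m
  have e0 : (pushforward j).obj (Coh.structureModule P₀) ≅ Coh.structureModule P :=
    (pushforward j).mapIso (restrictUnitIso j).symm ≪≫ (restrictPushIsoId j).app _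
  have e : (pushforward (j ≫ κ)).obj (Coh.structureModule P₀) ≅
      (pushforward κ).obj (Coh.structureModule P) :=
    ((pushforwardComp j κ).app _).symm ≪≫ (pushforward κ).mapIso e0
  exact isPseudoCoherentD_of_iso ((DerivedCategory.singleFunctor _ 0).mapIso e) (h m)

/-- the ring isomorphism `R[Fin (n+l)] ≃ R[Fin l][Fin n]` -/
noncomputable def splitEquiv (R : Type u) [CommRing R] (n l : ℕ) :
    MvPolynomial (Fin (n + l)) R ≃ₐ[R] MvPolynomial (Fin n) (MvPolynomial (Fin l) R) :=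
  (MvPolynomial.renameEquiv R finSumFinEquiv.symm).trans (MvPolynomial.sumAlgEquiv R (Fin n) (Fin l))

/-- COMP: composite charts -/
theorem comp_chart (f : X ⟶ Y) (g : Y ⟶ S)
    (U : X.Opens) (hU : IsAffineOpen U) (V : Y.Opens) (W : S.Opens)
    (hUV : U ≤ f ⁻¹ᵁ V) (hVW : V ≤ g ⁻¹ᵁ W) (hUW : U ≤ (f ≫ g) ⁻¹ᵁ W)
    {n l : ℕ} (φf : MvPolynomial (Fin n) Γ(Y, V) →+* Γ(X, U)) (hφf : IsChart f U V hUV φf)
    (φg : MvPolynomial (Fin l) Γ(S, W) →+* Γ(Y, V)) (hφg : IsChart g V W hVW φg)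
    (hgood : GoodHom (MvPolynomial.map φg :
      MvPolynomial (Fin n) (MvPolynomial (Fin l) Γ(S, W)) →+* MvPolynomial (Fin n) Γ(Y, V))) :
    ∃ (φ : MvPolynomial (Fin (n + l)) Γ(S, W) →+* Γ(X, U)), IsChart (f ≫ g) U W hUW φ ∧
      ∀ (m : ℤ) (E : DCoh.D X), ChartPC m E U W φ ↔ ChartPC m E U V φf := by
  let θ : MvPolynomial (Fin (n + l)) Γ(S, W) →+*
      MvPolynomial (Fin n) (MvPolynomial (Fin l) Γ(S, W)) :=
    (splitEquiv Γ(S, W) n l : _ →+* _)
  let ρ : MvPolynomial (Fin (n + l)) Γ(S, W) →+* MvPolynomial (Fin n) Γ(Y, V) :=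
    (MvPolynomial.map φg).comp θ
  have hθ : GoodHom θ := GoodHom.of_bijective _ (splitEquiv Γ(S, W) n l).bijective
  have hρ : GoodHom ρ := hθ.comp hgood
  have hφ : IsChart (f ≫ g) U W hUW (φf.comp ρ) := by
    refine ⟨hφf.1.comp hρ.1, ?_⟩
    ext r
    have h1 : θ (MvPolynomial.C r) = MvPolynomial.C (MvPolynomial.C r) := by
      have := (splitEquiv Γ(S, W) n l).commutes r
      simp only [MvPolynomial.algebraMap_apply, Algebra.algebraMap_self, RingHom.id_apply] at this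
      exact this
    have h2 : φg (MvPolynomial.C r) = (g.appLE W V hVW).hom r := congr($(hφg.2) r)
    have h3 : ∀ b, φf (MvPolynomial.C b) = (f.appLE V U hUV).hom b := fun b => congr($(hφf.2) b)
    have h4 : (f ≫ g).appLE W U hUW = g.appLE W V hVW ≫ f.appLE V U hUV :=
      (Scheme.Hom.appLE_comp_appLE _ _ _ _ _ _ _).symm
    simp only [RingHom.comp_apply, ρ, h1, MvPolynomial.map_C, h2, h3, h4, CommRingCat.hom_comp]
  refine ⟨φf.comp ρ, hφ, fun m E => ?_⟩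
  haveI : IsAffine U.toScheme := hU
  rw [chartPC_iff_forall U hU W _ hφ.1, chartPC_iff_forall U hU V φf hφf.1]
  refine forall_congr' (fun x => ?_)
  unfold ChartLAt
  have key := Pres.lAt_comp_iff (W := U.toScheme) (U.topIso.inv.hom.comp φf)
    ((ConcreteCategory.bijective_of_isIso U.topIso.inv).surjective.comp hφf.1) ρ hρ
    ((DCoh.restrictD U.ι).obj E) m x
  rw [← key]


/-- charts of a pseudo-coherent morphism are good -/
theorem goodHom_chart (g : Y ⟶ S) (hg : ∀ n : ℤ, IsNPseudoCoherent g n) (V : Y.affineOpens)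
    (W : S.affineOpens) (hVW : (V : Y.Opens) ≤ g ⁻¹ᵁ (W : S.Opens)) {l : ℕ}
    (φg : MvPolynomial (Fin l) Γ(S, (W : S.Opens)) →+* Γ(Y, (V : Y.Opens)))
    (hφg : IsChart g (V : Y.Opens) (W : S.Opens) hVW φg) : GoodHom φg := by
  refine ⟨hφg.1, ?_⟩
  have h := pushUnitPC_chartImm_of_isNPseudoCoherent g hg V W hVW φg hφg
  haveI : IsIso (V : Y.Opens).toSpecΓ := by rw [← V.2.isoSpec_hom]; infer_instance
  exact pushUnitPC_of_iso_comp (V : Y.Opens).toSpecΓ _ h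

theorem preimage_comp_le (f : X ⟶ Y) (g : Y ⟶ S) {U : X.Opens} {V : Y.Opens} {W : S.Opens}
    (hUV : U ≤ f ⁻¹ᵁ V) (hVW : V ≤ g ⁻¹ᵁ W) : U ≤ (f ≫ g) ⁻¹ᵁ W :=
  fun _ hx => hVW (hUV hx)

/-- S12088 -/
theorem isPseudoCoherentRel_comp_iff
    (f : X ⟶ Y) (g : Y ⟶ S) [LocallyOfFiniteType f]
    [LocallyOfFiniteType g] (hg : ∀ n : ℤ, IsNPseudoCoherent g n) (m : ℤ) (E : DCoh.D X) :
    IsPseudoCoherentRel f m E ↔ IsPseudoCoherentRel (f ≫ g) m E := by
  have hgood : ∀ (V : Y.affineOpens) (W : S.affineOpens)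
      (hVW : (V : Y.Opens) ≤ g ⁻¹ᵁ (W : S.Opens)) {l : ℕ}
      (φg : MvPolynomial (Fin l) Γ(S, (W : S.Opens)) →+* Γ(Y, (V : Y.Opens)))
      (_ : IsChart g (V : Y.Opens) (W : S.Opens) hVW φg) (n : ℕ),
      GoodHom (MvPolynomial.map φg : MvPolynomial (Fin n) _ →+* MvPolynomial (Fin n) _) :=
    fun V W hVW l φg hφg n => ⟨MvPolynomial.map_surjective _ hφg.1,
      pushUnitPC_map φg n (goodHom_chart g hg V W hVW φg hφg).2⟩
  constructor
  · intro hE
    refine ⟨inferInstance, Set.univ, iSup_affineOpens_mem_univ S, fun W _ => ?_⟩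
    refine ⟨{U : X.affineOpens | ∃ V : Y.affineOpens, (U : X.Opens) ≤ f ⁻¹ᵁ (V : Y.Opens) ∧
      (V : Y.Opens) ≤ g ⁻¹ᵁ (W : S.Opens)}, ?_, ?_⟩
    · apply le_antisymm
      · refine iSup₂_le ?_
        rintro U ⟨V, hUV, hVW⟩
        exact preimage_comp_le f g hUV hVW
      · intro x hx
        obtain ⟨V, hV, hxV, hVW⟩ := Opens.isBasis_iff_nbhd.mp Y.isBasis_affineOpens
          (show f.base x ∈ g ⁻¹ᵁ (W : S.Opens) from hx)
        obtain ⟨U, hU, hxU, hUV⟩ := Opens.isBasis_iff_nbhd.mp X.isBasis_affineOpens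
          (show x ∈ f ⁻¹ᵁ V from hxV)
        simp only [Opens.mem_iSup]
        exact ⟨⟨U, hU⟩, ⟨⟨V, hV⟩, hUV, hVW⟩, hxU⟩
    · rintro U ⟨V, hUV, hVW⟩ hUW
      obtain ⟨n, φf, hφf⟩ := exists_isChart f U V hUV
      obtain ⟨l, φg, hφg⟩ := exists_isChart g V W hVW
      obtain ⟨φ, hφ, hiff⟩ := comp_chart f g U.1 U.2 V.1 W.1 hUV hVW hUW φf hφf φg hφg
        (hgood V W hVW φg hφg n)
      exact ⟨n + l, φ, hφ, (hiff m E).2
        (chartPC_of_isPseudoCoherentRel f m E hE U.1 U.2 V.1 V.2 hUV φf hφf)⟩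
  · intro hE
    refine ⟨inferInstance, {V : Y.affineOpens | ∃ W : S.affineOpens,
      (V : Y.Opens) ≤ g ⁻¹ᵁ (W : S.Opens)}, ?_, ?_⟩
    · apply le_antisymm le_top
      intro y _
      obtain ⟨W, hW, hyW, -⟩ := Opens.isBasis_iff_nbhd.mp S.isBasis_affineOpens
        (Opens.mem_top (g.base y))
      obtain ⟨V, hV, hyV, hVW⟩ := Opens.isBasis_iff_nbhd.mp Y.isBasis_affineOpens
        (show y ∈ g ⁻¹ᵁ W from hyW)
      simp only [Opens.mem_iSup]
      exact ⟨⟨V, hV⟩, ⟨⟨W, hW⟩, hVW⟩, hyV⟩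
    · rintro V ⟨W, hVW⟩
      refine ⟨{U : X.affineOpens | (U : X.Opens) ≤ f ⁻¹ᵁ (V : Y.Opens)}, iSup_affineOpens_le _,
        fun U _ hUV => ?_⟩
      have hUW : (U : X.Opens) ≤ (f ≫ g) ⁻¹ᵁ (W : S.Opens) := preimage_comp_le f g hUV hVW
      obtain ⟨n, φf, hφf⟩ := exists_isChart f U V hUV
      obtain ⟨l, φg, hφg⟩ := exists_isChart g V W hVW
      obtain ⟨φ, hφ, hiff⟩ := comp_chart f g U.1 U.2 V.1 W.1 hUV hVW hUW φf hφf φg hφg
        (hgood V W hVW φg hφg n)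
      exact ⟨n, φf, hφf, (hiff m E).1
        (chartPC_of_isPseudoCoherentRel (f ≫ g) m E hE U.1 U.2 W.1 W.2 hUW φ hφ)⟩

end Groth.Agent.Lib.Helper99.SComp
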