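import Mathlib
import Groth.Agent.Lib.Helper99.SComp2

set_option autoImplicit false
universe u
open CategoryTheory Limits AlgebraicGeometry Opposite TopologicalSpace Pretriangulated TensorProduct
  ChangeOfRings

attribute [local instance] HasDerivedCategory.standard

namespace Groth.Agent.Lib.Helper99.SComp

open DerSch Groth.Agent.Lib.Helper99.SPerf Groth.Agent.Lib.Helper99.SPush
  Groth.Agent.Lib.Helper99.SStalk Groth.Agent.Lib.QCoh Groth.Agent.Lib.Helper99.SLfp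
  Groth.Agent.Lib.Helper99.SClosed Groth.Agent.Lib.Helper99.SRelMod Scheme.Modules
  Groth.Agent.Lib.Helper99.SCoh Groth.Agent.Lib.Helper99.SChart

variable {X Y S : Scheme.{u}}

/-- level-wise flat base change of `PushUnitPCk` along `T → T[y]` -/
theorem pushUnitPCk_map {T T' : Type u} [CommRing T] [CommRing T'] (φ : T →+* T') (n : ℕ) (k : ℤ)
    (h : PushUnitPCk (Spec.map (CommRingCat.ofHom φ)) k) :
    PushUnitPCk (Spec.map (CommRingCat.ofHom
      (MvPolynomial.map φ : MvPolynomial (Fin n) T →+* MvPolynomial (Fin n) T'))) k := by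
  let c : CommRingCat.of T ⟶ CommRingCat.of (MvPolynomial (Fin n) T) :=
    CommRingCat.ofHom MvPolynomial.C
  haveI : Flat (Spec.map c) := by
    rw [HasRingHomProperty.Spec_iff (P := @Flat)]
    show (MvPolynomial.C : T →+* MvPolynomial (Fin n) T).Flat
    rw [← MvPolynomial.algebraMap_eq, RingHom.flat_algebraMap_iff]
    infer_instance
  have e1 := tildePushforwardIso (CommRingCat.ofHom φ) (ModuleCat.of T' T')
  have h1 : DCoh.IsPseudoCoherentD k (DCoh.inD (Spec (CommRingCat.of T))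
      (tilde ((ModuleCat.restrictScalars φ).obj (ModuleCat.of T' T')))) :=
    isPseudoCoherentD_of_iso ((DerivedCategory.singleFunctor _ 0).mapIso e1) h
  have h2 := isPseudoCoherentD_inD_pullback_of_flat (Spec.map c) _ k h1
  have e2 := pullbackTildeIso c ((ModuleCat.restrictScalars φ).obj (ModuleCat.of T' T'))
  have e3 := (tilde.functor (CommRingCat.of (MvPolynomial (Fin n) T))).mapIso (extendMvPolyIso φ n)
  have e4 := tildePushforwardIso (CommRingCat.ofHom
    (MvPolynomial.map φ : MvPolynomial (Fin n) T →+* MvPolynomial (Fin n) T'))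
    (ModuleCat.of _ (MvPolynomial (Fin n) T'))
  exact isPseudoCoherentD_of_iso
    ((DerivedCategory.singleFunctor _ 0).mapIso (e2 ≪≫ e3 ≪≫ e4.symm)) h2

/-- cancel an isomorphism on the left, level-wise -/
theorem pushUnitPCk_of_iso_comp {P₀ P P' : Scheme.{u}} (j : P₀ ⟶ P) [IsIso j] (κ : P ⟶ P') (k : ℤ)
    (h : PushUnitPCk (j ≫ κ) k) : PushUnitPCk κ k := by
  have e0 : (pushforward j).obj (Coh.structureModule P₀) ≅ Coh.structureModule P :=
    (pushforward j).mapIso (restrictUnitIso j).symm ≪≫ (restrictPushIsoId j).app _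
  have e : (pushforward (j ≫ κ)).obj (Coh.structureModule P₀) ≅
      (pushforward κ).obj (Coh.structureModule P) :=
    ((pushforwardComp j κ).app _).symm ≪≫ (pushforward κ).mapIso e0
  exact isPseudoCoherentD_of_iso ((DerivedCategory.singleFunctor _ 0).mapIso e) h

theorem isLE_FD {Z P : Scheme.{u}} (i : Z ⟶ P) [IsClosedImmersion i] (E : DCoh.D Z) (b : ℤ)
    [E.IsLE b] : ((FD i).obj E).IsLE b := by
  rw [DerivedCategory.isLE_iff]
  intro j hj
  exact ((Scheme.Modules.pushforward i).map_isZero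
    (DerivedCategory.isZero_of_isLE E b j hj)).of_iso
    ((homologyMapDCIso (Scheme.Modules.pushforward i) j).app E)

theorem isPC_FD_congr {Z P : Scheme.{u}} {i i' : Z ⟶ P} [IsClosedImmersion i]
    [IsClosedImmersion i'] (h : i = i') (K : DCoh.D Z) (m : ℤ) :
    DCoh.IsPseudoCoherentD m ((FD i).obj K) ↔ DCoh.IsPseudoCoherentD m ((FD i').obj K) := by
  subst h
  exact Iff.rfl

/-- COMP, level-wise forward direction -/
theorem comp_chart_of_le (f : X ⟶ Y) (g : Y ⟶ S)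
    (U : X.Opens) (hU : IsAffineOpen U) (V : Y.Opens) (W : S.Opens)
    (hUV : U ≤ f ⁻¹ᵁ V) (hVW : V ≤ g ⁻¹ᵁ W) (hUW : U ≤ (f ≫ g) ⁻¹ᵁ W)
    {n l : ℕ} (φf : MvPolynomial (Fin n) Γ(Y, V) →+* Γ(X, U)) (hφf : IsChart f U V hUV φf)
    (φg : MvPolynomial (Fin l) Γ(S, W) →+* Γ(Y, V)) (hφg : IsChart g V W hVW φg)
    (k : ℤ) (hk : PushUnitPCk (Spec.map (CommRingCat.ofHom (MvPolynomial.map φg :
      MvPolynomial (Fin n) (MvPolynomial (Fin l) Γ(S, W)) →+* MvPolynomial (Fin n) Γ(Y, V)))) k)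
    (E : DCoh.D X) (b : ℤ) [E.IsLE b] (r m : ℤ) (hrm : r ≤ m) (hkm : k ≤ m - b) :
    ∃ (φ : MvPolynomial (Fin (n + l)) Γ(S, W) →+* Γ(X, U)), IsChart (f ≫ g) U W hUW φ ∧
      (ChartPC r E U V φf → ChartPC m E U W φ) := by
  let θ : MvPolynomial (Fin (n + l)) Γ(S, W) →+*
      MvPolynomial (Fin n) (MvPolynomial (Fin l) Γ(S, W)) :=
    (splitEquiv Γ(S, W) n l : _ →+* _)
  let μ : MvPolynomial (Fin n) (MvPolynomial (Fin l) Γ(S, W)) →+* MvPolynomial (Fin n) Γ(Y, V) :=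
    MvPolynomial.map φg
  let ρ : MvPolynomial (Fin (n + l)) Γ(S, W) →+* MvPolynomial (Fin n) Γ(Y, V) := μ.comp θ
  have hθ : GoodHom θ := GoodHom.of_bijective _ (splitEquiv Γ(S, W) n l).bijective
  have hμ : Function.Surjective μ := MvPolynomial.map_surjective _ hφg.1
  have hρ : Function.Surjective ρ := hμ.comp hθ.1
  have hφ : IsChart (f ≫ g) U W hUW (φf.comp ρ) := by
    refine ⟨hφf.1.comp hρ, ?_⟩
    ext r
    have h1 : θ (MvPolynomial.C r) = MvPolynomial.C (MvPolynomial.C r) := by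
      have := (splitEquiv Γ(S, W) n l).commutes r
      simp only [MvPolynomial.algebraMap_apply, Algebra.algebraMap_self, RingHom.id_apply] at this
      exact this
    have h2 : φg (MvPolynomial.C r) = (g.appLE W V hVW).hom r := congr($(hφg.2) r)
    have h3 : ∀ b, φf (MvPolynomial.C b) = (f.appLE V U hUV).hom b := fun b => congr($(hφf.2) b)
    have h4 : (f ≫ g).appLE W U hUW = g.appLE W V hVW ≫ f.appLE V U hUV :=
      (Scheme.Hom.appLE_comp_appLE _ _ _ _ _ _ _).symm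
    simp only [RingHom.comp_apply, ρ, μ, h1, MvPolynomial.map_C, h2, h3, h4, CommRingCat.hom_comp]
  refine ⟨φf.comp ρ, hφ, fun hPC => ?_⟩
  haveI : IsAffine U.toScheme := hU
  haveI := isClosedImmersion_chartImm U hU φf hφf.1
  haveI := isClosedImmersion_chartImm U hU (φf.comp ρ) hφ.1
  haveI : IsClosedImmersion (Spec.map (CommRingCat.ofHom μ)) :=
    IsClosedImmersion.spec_of_surjective _ hμ
  haveI : IsClosedImmersion (Spec.map (CommRingCat.ofHom θ)) :=
    IsClosedImmersion.spec_of_surjective _ hθ.1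
  rw [chartPC_iff_FD U hU V φf hφf.1] at hPC
  rw [chartPC_iff_FD U hU W _ hφ.1]
  have h1 := isPseudoCoherentD_mono hPC hrm
  haveI := isLE_restrictD U.ι E b
  haveI := isLE_FD (chartImm U φf) ((DCoh.restrictD U.ι).obj E) b
  have h2 := (isPseudoCoherentD_FD_iff_of_isLE (Spec.map (CommRingCat.ofHom μ)) hk _ b m hkm).1 h1
  have h3 := (isPseudoCoherentD_FD_iff (Spec.map (CommRingCat.ofHom θ)) hθ.2 _ m).1 h2
  have e : chartImm U (φf.comp ρ) =
      (chartImm U φf ≫ Spec.map (CommRingCat.ofHom μ)) ≫ Spec.map (CommRingCat.ofHom θ) := by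
    simp only [chartImm, ρ, CommRingCat.ofHom_comp, Spec.map_comp, Category.assoc]
  rw [isPC_FD_congr e]
  exact isPseudoCoherentD_of_iso
    ((FD (Spec.map (CommRingCat.ofHom θ))).mapIso
      ((fdCompIso (chartImm U φf) (Spec.map (CommRingCat.ofHom μ))).app _) ≪≫
    (fdCompIso (chartImm U φf ≫ Spec.map (CommRingCat.ofHom μ))
      (Spec.map (CommRingCat.ofHom θ))).app _) h3


instance isLE_toD_unitCx (X : Scheme.{u}) : (DCoh.toD X (unitCx X)).IsLE 0 :=
  DerivedCategory.TStructure.t.isLE_of_iso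
    ((DerivedCategory.singleFunctorIsoCompQ _ 0).app (Coh.structureModule X)) 0

theorem iSup_cover_comp (f : X ⟶ Y) (g : Y ⟶ S) (W : S.affineOpens) :
    (⨆ U ∈ {U : X.affineOpens | ∃ V : Y.affineOpens, (U : X.Opens) ≤ f ⁻¹ᵁ (V : Y.Opens) ∧
      (V : Y.Opens) ≤ g ⁻¹ᵁ (W : S.Opens)}, (U : X.Opens)) = (f ≫ g) ⁻¹ᵁ (W : S.Opens) := by
  apply le_antisymm
  · refine iSup₂_le ?_
    rintro U ⟨V, hUV, hVW⟩
    exact preimage_comp_le f g hUV hVW
  · intro x hx
    obtain ⟨V, hV, hxV, hVW⟩ := Opens.isBasis_iff_nbhd.mp Y.isBasis_affineOpens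
      (show f.base x ∈ g ⁻¹ᵁ (W : S.Opens) from hx)
    obtain ⟨U, hU, hxU, hUV⟩ := Opens.isBasis_iff_nbhd.mp X.isBasis_affineOpens
      (show x ∈ f ⁻¹ᵁ V from hxV)
    simp only [Opens.mem_iSup]
    exact ⟨⟨U, hU⟩, ⟨⟨V, hV⟩, hUV, hVW⟩, hxU⟩

/-- S6209 -/
theorem isNPseudoCoherent_comp (f : X ⟶ Y) (g : Y ⟶ S) [LocallyOfFiniteType f]
    [LocallyOfFiniteType g] (r s : ℤ) (hf : IsNPseudoCoherent f r) (hg : IsNPseudoCoherent g s) :
    IsNPseudoCoherent (f ≫ g) (max r s) := by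
  refine ⟨inferInstance, Set.univ, iSup_affineOpens_mem_univ S, fun W _ => ?_⟩
  refine ⟨{U : X.affineOpens | ∃ V : Y.affineOpens, (U : X.Opens) ≤ f ⁻¹ᵁ (V : Y.Opens) ∧
      (V : Y.Opens) ≤ g ⁻¹ᵁ (W : S.Opens)}, iSup_cover_comp f g W, ?_⟩
  rintro U ⟨V, hUV, hVW⟩ hUW
  obtain ⟨n, φf, hφf⟩ := exists_isChart f U V hUV
  obtain ⟨l, φg, hφg⟩ := exists_isChart g V W hVW
  have h0 : PushUnitPCk (chartImm V.1 φg) s :=
    (chartPC_unit_iff V.1 V.2 W.1 φg hφg.1 s).1
      (chartPC_of_isPseudoCoherentRel g s _ hg V.1 V.2 W.1 W.2 hVW φg hφg)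
  haveI : IsIso (V : Y.Opens).toSpecΓ := by rw [← V.2.isoSpec_hom]; infer_instance
  have hk := pushUnitPCk_map φg n s (pushUnitPCk_of_iso_comp (V : Y.Opens).toSpecΓ _ s h0)
  obtain ⟨φ, hφ, himp⟩ := comp_chart_of_le f g U.1 U.2 V.1 W.1 hUV hVW hUW φf hφf φg hφg s hk
    (DCoh.toD X (unitCx X)) 0 r (max r s) (le_max_left r s) (by simp)
  exact ⟨n + l, φ, hφ, himp
    (chartPC_of_isPseudoCoherentRel f r _ hf U.1 U.2 V.1 V.2 hUV φf hφf)⟩

end Groth.Agent.Lib.Helper99.SComp
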