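import Mathlib
import Groth.Agent.Lib.Helper99.SComp3
import Groth.Agent.Lib.Helper99.SClosed5

set_option autoImplicit false
universe u
open CategoryTheory Limits AlgebraicGeometry Opposite TopologicalSpace Pretriangulated TensorProduct
  ChangeOfRings

attribute [local instance] HasDerivedCategory.standard

namespace Groth.Agent.Lib.Helper99.SComp

open DerSch Groth.Agent.Lib.Helper99.SPerf Groth.Agent.Lib.Helper99.SPush
  Groth.Agent.Lib.Helper99.SStalk Groth.Agent.Lib.QCoh Groth.Agent.Lib.Helper99.SLfp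
  Groth.Agent.Lib.Helper99.SClosed Groth.Agent.Lib.Helper99.SRelMod Scheme.Modules
  Groth.Agent.Lib.Helper99.SCoh Groth.Agent.Lib.Helper99.SChart

variable {X Y S : Scheme.{u}}

/-- COMP, level-wise reverse direction -/
theorem comp_chart_of_ge (f : X ⟶ Y) (g : Y ⟶ S)
    (U : X.Opens) (hU : IsAffineOpen U) (V : Y.Opens) (W : S.Opens)
    (hUV : U ≤ f ⁻¹ᵁ V) (hVW : V ≤ g ⁻¹ᵁ W) (hUW : U ≤ (f ≫ g) ⁻¹ᵁ W)
    {n l : ℕ} (φf : MvPolynomial (Fin n) Γ(Y, V) →+* Γ(X, U)) (hφf : IsChart f U V hUV φf)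
    (φg : MvPolynomial (Fin l) Γ(S, W) →+* Γ(Y, V)) (hφg : IsChart g V W hVW φg)
    (k : ℤ) (hk : PushUnitPCk (Spec.map (CommRingCat.ofHom (MvPolynomial.map φg :
      MvPolynomial (Fin n) (MvPolynomial (Fin l) Γ(S, W)) →+* MvPolynomial (Fin n) Γ(Y, V)))) k)
    (E : DCoh.D X) (b : ℤ) [E.IsLE b] (m : ℤ) (hkm : k ≤ m + 1 - b) :
    ∃ (φ : MvPolynomial (Fin (n + l)) Γ(S, W) →+* Γ(X, U)), IsChart (f ≫ g) U W hUW φ ∧
      (ChartPC m E U W φ → ChartPC m E U V φf) := by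
  let θ : MvPolynomial (Fin (n + l)) Γ(S, W) →+*
      MvPolynomial (Fin n) (MvPolynomial (Fin l) Γ(S, W)) :=
    (splitEquiv Γ(S, W) n l : _ →+* _)
  let μ : MvPolynomial (Fin n) (MvPolynomial (Fin l) Γ(S, W)) →+* MvPolynomial (Fin n) Γ(Y, V) :=
    MvPolynomial.map φg
  let ρ : MvPolynomial (Fin (n + l)) Γ(S, W) →+* MvPolynomial (Fin n) Γ(Y, V) := μ.comp θ
  have hθ : GoodHom θ := GoodHom.of_bijective _ (splitEquiv Γ(S, W) n l).bijective
  have hμ : Function.Surjective μ := MvPolynomial.map_surjective _ hφg.1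
  have hρ : Function.Surjective ρ := hμ.comp hθ.1
  have hφ : IsChart (f ≫ g) U W hUW (φf.comp ρ) := by
    refine ⟨hφf.1.comp hρ, ?_⟩
    ext r
    have h1 : θ (MvPolynomial.C r) = MvPolynomial.C (MvPolynomial.C r) := by
      have := (splitEquiv Γ(S, W) n l).commutes r
      simp only [MvPolynomial.algebraMap_apply, Algebra.algebraMap_self, RingHom.id_apply] at this
      exact this
    have h2 : φg (MvPolynomial.C r) = (g.appLE W V hVW).hom r := congr($(hφg.2) r)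
    have h3 : ∀ b, φf (MvPolynomial.C b) = (f.appLE V U hUV).hom b := fun b => congr($(hφf.2) b)
    have h4 : (f ≫ g).appLE W U hUW = g.appLE W V hVW ≫ f.appLE V U hUV :=
      (Scheme.Hom.appLE_comp_appLE _ _ _ _ _ _ _).symm
    simp only [RingHom.comp_apply, ρ, μ, h1, MvPolynomial.map_C, h2, h3, h4, CommRingCat.hom_comp]
  refine ⟨φf.comp ρ, hφ, fun hPC => ?_⟩
  haveI : IsAffine U.toScheme := hU
  haveI := isClosedImmersion_chartImm U hU φf hφf.1
  haveI := isClosedImmersion_chartImm U hU (φf.comp ρ) hφ.1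
  haveI : IsClosedImmersion (Spec.map (CommRingCat.ofHom μ)) :=
    IsClosedImmersion.spec_of_surjective _ hμ
  haveI : IsClosedImmersion (Spec.map (CommRingCat.ofHom θ)) :=
    IsClosedImmersion.spec_of_surjective _ hθ.1
  rw [chartPC_iff_FD U hU W _ hφ.1] at hPC
  rw [chartPC_iff_FD U hU V φf hφf.1]
  haveI := isLE_restrictD U.ι E b
  haveI := isLE_FD (chartImm U φf) ((DCoh.restrictD U.ι).obj E) b
  have e : chartImm U (φf.comp ρ) =
      (chartImm U φf ≫ Spec.map (CommRingCat.ofHom μ)) ≫ Spec.map (CommRingCat.ofHom θ) := by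
    simp only [chartImm, ρ, CommRingCat.ofHom_comp, Spec.map_comp, Category.assoc]
  rw [isPC_FD_congr e] at hPC
  have h3 : DCoh.IsPseudoCoherentD m ((FD (Spec.map (CommRingCat.ofHom θ))).obj
      ((FD (Spec.map (CommRingCat.ofHom μ))).obj
        ((FD (chartImm U φf)).obj ((DCoh.restrictD U.ι).obj E)))) :=
    isPseudoCoherentD_of_iso
      ((FD (Spec.map (CommRingCat.ofHom θ))).mapIso
        ((fdCompIso (chartImm U φf) (Spec.map (CommRingCat.ofHom μ))).app _) ≪≫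
      (fdCompIso (chartImm U φf ≫ Spec.map (CommRingCat.ofHom μ))
        (Spec.map (CommRingCat.ofHom θ))).app _).symm hPC
  have h2 := (isPseudoCoherentD_FD_iff (Spec.map (CommRingCat.ofHom θ)) hθ.2 _ m).2 h3
  exact isPseudoCoherentD_of_FD_of_isLE (Spec.map (CommRingCat.ofHom μ)) hk _ b m hkm h2

/-- S6205 -/
theorem isPseudoCoherentRel_of_comp (f : X ⟶ Y) (g : Y ⟶ S) [LocallyOfFiniteType f]
    [LocallyOfFiniteType g] (a b : ℤ) (E : DCoh.D X) [E.IsLE b]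
    (hE : IsPseudoCoherentRel (f ≫ g) a E) (hg : IsNPseudoCoherent g (a + 1 - b)) :
    IsPseudoCoherentRel f a E := by
  refine ⟨inferInstance, {V : Y.affineOpens | ∃ W : S.affineOpens,
    (V : Y.Opens) ≤ g ⁻¹ᵁ (W : S.Opens)}, ?_, ?_⟩
  · apply le_antisymm le_top
    intro y _
    obtain ⟨W, hW, hyW, -⟩ := Opens.isBasis_iff_nbhd.mp S.isBasis_affineOpens
      (Opens.mem_top (g.base y))
    obtain ⟨V, hV, hyV, hVW⟩ := Opens.isBasis_iff_nbhd.mp Y.isBasis_affineOpens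
      (show y ∈ g ⁻¹ᵁ W from hyW)
    simp only [Opens.mem_iSup]
    exact ⟨⟨V, hV⟩, ⟨⟨W, hW⟩, hVW⟩, hyV⟩
  · rintro V ⟨W, hVW⟩
    refine ⟨{U : X.affineOpens | (U : X.Opens) ≤ f ⁻¹ᵁ (V : Y.Opens)}, iSup_affineOpens_le _,
      fun U _ hUV => ?_⟩
    have hUW : (U : X.Opens) ≤ (f ≫ g) ⁻¹ᵁ (W : S.Opens) := preimage_comp_le f g hUV hVW
    obtain ⟨n, φf, hφf⟩ := exists_isChart f U V hUV
    obtain ⟨l, φg, hφg⟩ := exists_isChart g V W hVW
    have h0 : PushUnitPCk (chartImm V.1 φg) (a + 1 - b) :=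
      (chartPC_unit_iff V.1 V.2 W.1 φg hφg.1 (a + 1 - b)).1
        (chartPC_of_isPseudoCoherentRel g (a + 1 - b) _ hg V.1 V.2 W.1 W.2 hVW φg hφg)
    haveI : IsIso (V : Y.Opens).toSpecΓ := by rw [← V.2.isoSpec_hom]; infer_instance
    have hk := pushUnitPCk_map φg n (a + 1 - b)
      (pushUnitPCk_of_iso_comp (V : Y.Opens).toSpecΓ _ (a + 1 - b) h0)
    obtain ⟨φ, hφ, himp⟩ := comp_chart_of_ge f g U.1 U.2 V.1 W.1 hUV hVW hUW φf hφf φg hφg
      (a + 1 - b) hk E b a le_rfl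
    exact ⟨n, φf, hφf, himp
      (chartPC_of_isPseudoCoherentRel (f ≫ g) a E hE U.1 U.2 W.1 W.2 hUW φ hφ)⟩

end Groth.Agent.Lib.Helper99.SComp
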