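import Mathlib
import Groth.Agent.Lib.Helper99.SPerf12
import Groth.Agent.Lib.Helper99.SPerf9
import Groth.Prelude.Def_DerSch2

/-!
# Relative pseudo-coherence (chart form): direct summands (helper99)
-/

set_option autoImplicit false
universe u
open CategoryTheory Limits AlgebraicGeometry Opposite TopologicalSpace

attribute [local instance] HasDerivedCategory.standard

namespace Groth.Agent.Lib.Helper99.SRelPC

open DerSch Groth.Agent.Lib.Helper99.SPerf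

variable {X Y : Scheme.{u}}

attribute [local instance] preservesBinaryBiproducts_of_preservesBiproducts

theorem pc_of_Q_biprod (m : ℤ) (A B : CochainComplex Y.Modules ℤ)
    (h : DCoh.IsPseudoCoherentD m (DCoh.toD Y (A ⊞ B))) :
    DCoh.IsPseudoCoherentD m (DCoh.toD Y A) ∧ DCoh.IsPseudoCoherentD m (DCoh.toD Y B) := by
  haveI : HasBinaryBiproduct ((DerivedCategory.Q : _ ⥤ DCoh.D Y).obj A)
      ((DerivedCategory.Q : _ ⥤ DCoh.D Y).obj B) :=
    Functor.hasBinaryBiproduct_of_preserves (DerivedCategory.Q : _ ⥤ DCoh.D Y) A B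
  exact isPseudoCoherent_of_biprod m _ _
    (isPseudoCoherentD_of_iso ((DerivedCategory.Q : _ ⥤ DCoh.D Y).mapBiprod A B) h)

theorem chartPC_of_biprod (m : ℤ) (E K : DCoh.D X) [HasBinaryBiproduct E K] (U : X.Opens)
    (V : Y.Opens) {n : ℕ} (φ : MvPolynomial (Fin n) Γ(Y, V) →+* Γ(X, U))
    (h : ChartPC m (E ⊞ K) U V φ) (G GK : CochainComplex X.Modules ℤ)
    (e : DCoh.toD X G ≅ E) (eK : DCoh.toD X GK ≅ K) :
    DCoh.IsPseudoCoherentD m (DCoh.toD _ ((pushCx (chartImm U φ)).obj ((DCoh.restrictCx U).obj G))) ∧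
    DCoh.IsPseudoCoherentD m
      (DCoh.toD _ ((pushCx (chartImm U φ)).obj ((DCoh.restrictCx U).obj GK))) := by
  haveI : HasBinaryBiproduct ((DerivedCategory.Q : _ ⥤ DCoh.D X).obj G)
      ((DerivedCategory.Q : _ ⥤ DCoh.D X).obj GK) :=
    Functor.hasBinaryBiproduct_of_preserves (DerivedCategory.Q : _ ⥤ DCoh.D X) G GK
  have h1 := h (G ⊞ GK) ⟨(DerivedCategory.Q : _ ⥤ DCoh.D X).mapBiprod G GK ≪≫ biprod.mapIso e eK⟩
  let Φ := DCoh.restrictCx U ⋙ pushCx (chartImm U φ)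
  have h2 : DCoh.IsPseudoCoherentD m (DCoh.toD _ (Φ.obj G ⊞ Φ.obj GK)) :=
    isPseudoCoherentD_of_iso (DerivedCategory.Q.mapIso (Φ.mapBiprod G GK)) h1
  exact pc_of_Q_biprod m _ _ h2

/-- **S7214** -/
theorem isPseudoCoherentRel_of_biprod (f : X ⟶ Y) (m : ℤ) (E K : DCoh.D X)
    [HasBinaryBiproduct E K] (h : IsPseudoCoherentRel f m (E ⊞ K)) :
    IsPseudoCoherentRel f m E ∧ IsPseudoCoherentRel f m K := by
  obtain ⟨hft, 𝒱, h𝒱, H⟩ := h
  let GE := (DerivedCategory.Q : _ ⥤ DCoh.D X).objPreimage E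
  let eE : DCoh.toD X GE ≅ E := DerivedCategory.Q.objObjPreimageIso E
  let GK := (DerivedCategory.Q : _ ⥤ DCoh.D X).objPreimage K
  let eK : DCoh.toD X GK ≅ K := DerivedCategory.Q.objObjPreimageIso K
  constructor
  · refine ⟨hft, 𝒱, h𝒱, fun V hV => ?_⟩
    obtain ⟨𝒰, h𝒰, HU⟩ := H V hV
    refine ⟨𝒰, h𝒰, fun U hU hUV => ?_⟩
    obtain ⟨n, φ, hchart, hPC⟩ := HU U hU hUV
    exact ⟨n, φ, hchart, fun G ⟨e⟩ => (chartPC_of_biprod m E K _ _ φ hPC G GK e eK).1⟩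
  · refine ⟨hft, 𝒱, h𝒱, fun V hV => ?_⟩
    obtain ⟨𝒰, h𝒰, HU⟩ := H V hV
    refine ⟨𝒰, h𝒰, fun U hU hUV => ?_⟩
    obtain ⟨n, φ, hchart, hPC⟩ := HU U hU hUV
    exact ⟨n, φ, hchart, fun G ⟨e⟩ => (chartPC_of_biprod m E K _ _ φ hPC GE G eE e).2⟩

end Groth.Agent.Lib.Helper99.SRelPC
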