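import Mathlib
import Groth.Prelude.Def_ModSite
import Groth.Prelude.Def_AlgSpPerf
import Groth.Agent.Lib.Helper94.ModSiteBasic
import Groth.Agent.Lib.Helper32.SectFree

/-!
# Ringed sites: local lifting for direct summands of finite free modules (helper99)

`Φ R W` is restriction to the slice `C/W`; `resHom g φ` restricts a morphism between restricted
modules along `g : W' ⟶ W`; `ev` evaluates maps out of a restricted free module on basis sections;
`exists_local_lift` is the local lifting property (S9041).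
-/

set_option autoImplicit false
universe u
open CategoryTheory Limits Opposite

namespace Groth.Agent.Lib.Helper99.Site

variable {C : Type u} [SmallCategory C] {J : GrothendieckTopology C} (R : Sheaf J RingCat.{u})

instance additive_overFunctor (W : C) : (SheafOfModules.overFunctor R W).Additive where
  map_add := rfl

instance additive_overMap {W' W : C} (g : W' ⟶ W) : (SheafOfModules.overMap R g).Additive where
  map_add := rfl

abbrev T (W : C) : Over W := Over.mk (𝟙 W)

noncomputable abbrev Φ (W : C) : SheafOfModules.{u} R ⥤ SheafOfModules.{u} (R.over W) :=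
  SheafOfModules.overFunctor R W

variable {R}

noncomputable def ev {W : C} {I : Type u} {N : SheafOfModules.{u} (R.over W)}
    (φ : (Φ R W).obj (SheafOfModules.free I) ⟶ N) (k : I) : N.val.obj (op (T W)) :=
  (((Φ R W).map (SheafOfModules.ιFree k) ≫ φ).val.app (op (T W)))
    (1 : (R.over W).obj.obj (op (T W)))

/-- restriction of a morphism between restricted modules along `g : W' ⟶ W` -/
noncomputable def resHom {W' W : C} (g : W' ⟶ W) {A B : SheafOfModules.{u} R}
    (φ : (Φ R W).obj A ⟶ (Φ R W).obj B) : (Φ R W').obj A ⟶ (Φ R W').obj B :=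
  (SheafOfModules.overFunctorMap R g).inv.app A ≫ (SheafOfModules.overMap R g).map φ ≫
    (SheafOfModules.overFunctorMap R g).hom.app B

theorem resHom_map {W' W : C} (g : W' ⟶ W) {A B : SheafOfModules.{u} R} (q : A ⟶ B) :
    resHom g ((Φ R W).map q) = (Φ R W').map q := by
  dsimp only [resHom]
  have := (SheafOfModules.overFunctorMap R g).hom.naturality q
  dsimp only [Functor.comp_map] at this
  rw [this, Iso.inv_hom_id_app_assoc]

theorem resHom_comp {W' W : C} (g : W' ⟶ W) {A B B' : SheafOfModules.{u} R}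
    (φ : (Φ R W).obj A ⟶ (Φ R W).obj B) (ψ : (Φ R W).obj B ⟶ (Φ R W).obj B') :
    resHom g (φ ≫ ψ) = resHom g φ ≫ resHom g ψ := by
  dsimp only [resHom]
  simp only [Functor.map_comp, Category.assoc, Iso.hom_inv_id_app_assoc]

theorem resHom_add {W' W : C} (g : W' ⟶ W) {A B : SheafOfModules.{u} R}
    (φ ψ : (Φ R W).obj A ⟶ (Φ R W).obj B) :
    resHom g (φ + ψ) = resHom g φ + resHom g ψ := by
  dsimp only [resHom]
  rw [Functor.map_add, Preadditive.add_comp, Preadditive.comp_add]

theorem resHom_sub {W' W : C} (g : W' ⟶ W) {A B : SheafOfModules.{u} R}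
    (φ ψ : (Φ R W).obj A ⟶ (Φ R W).obj B) :
    resHom g (φ - ψ) = resHom g φ - resHom g ψ := by
  dsimp only [resHom]
  rw [Functor.map_sub, Preadditive.sub_comp, Preadditive.comp_sub]

theorem ev_bijective (W : C) (I : Type u) [Finite I] (N : SheafOfModules.{u} (R.over W)) :
    Function.Bijective (fun φ : (Φ R W).obj (SheafOfModules.free I) ⟶ N => ev φ) := by
  have hT : IsTerminal (T W) := Over.mkIdTerminal
  have hc : IsColimit ((Φ R W).mapCocone (SheafOfModules.freeCofan (R := R) I)) :=
    isColimitOfPreserves (Φ R W) (SheafOfModules.isColimitFreeCofan I)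
  have hu := Groth.Agent.Lib.Helper32.SectFree.unit_ev_bijective hT N
  constructor
  · intro φ φ' h
    refine hc.hom_ext (fun ⟨k⟩ => ?_)
    apply hu.1
    exact congrFun h k
  · intro s
    choose f hf using fun k => hu.2 (s k)
    refine ⟨hc.desc (Cofan.mk N f), ?_⟩
    funext k
    have h1 : (Φ R W).map (SheafOfModules.ιFree k) ≫ hc.desc (Cofan.mk N f) = f k :=
      hc.fac (Cofan.mk N f) ⟨k⟩
    dsimp only [ev]
    rw [h1]
    exact hf k

theorem ev_comp_map {W : C} {I : Type u} {G G' : SheafOfModules.{u} R}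
    (φ : (Φ R W).obj (SheafOfModules.free I) ⟶ (Φ R W).obj G) (q : G ⟶ G') (k : I) :
    ev (φ ≫ (Φ R W).map q) k = q.val.app (op W) (ev φ k) := rfl

theorem ev_resHom {W' W : C} (g : W' ⟶ W) {I : Type u} {G : SheafOfModules.{u} R}
    (φ : (Φ R W).obj (SheafOfModules.free I) ⟶ (Φ R W).obj G) (k : I) :
    ev (resHom g φ) k = G.val.map g.op (ev φ k) := by
  let ψ : (Φ R W).obj (SheafOfModules.unit R) ⟶ (Φ R W).obj G :=
    (Φ R W).map (SheafOfModules.ιFree k) ≫ φ
  have h1 : (Φ R W').map (SheafOfModules.ιFree k) ≫ resHom g φ = resHom g ψ := by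
    rw [← resHom_map g, ← resHom_comp]
  dsimp only [ev]
  rw [h1]
  let m : (Over.map g).obj (T W') ⟶ T W := Over.homMk g (by simp)
  have h2 := PresheafOfModules.naturality_apply ψ.val m.op (1 : (R.over W).obj.obj (op (T W)))
  have h3 : ((Φ R W).obj (SheafOfModules.unit R)).val.map m.op
      (1 : (R.over W).obj.obj (op (T W))) = (1 : (R.over W).obj.obj (op ((Over.map g).obj (T W')))) :=
    map_one ((R.over W).obj.map m.op).hom
  rw [h3] at h2
  exact h2

/-- local surjectivity of epimorphisms of sheaves of modules -/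
theorem exists_local_section {G F : SheafOfModules.{u} R} (p : G ⟶ F) [Epi p] (W : C)
    (s : F.val.obj (op W)) :
    ∃ S ∈ J W, ∀ ⦃W' : C⦄ (g : W' ⟶ W), S g →
      ∃ t : G.val.obj (op W'), p.val.app (op W') t = F.val.map g.op s := by
  haveI := Groth.Agent.Lib.Helper94.ModSiteBasic.toSheaf_preservesFiniteColimits R
  have hepi : Epi ((SheafOfModules.toSheaf R).map p) := inferInstance
  have : Sheaf.IsLocallySurjective ((SheafOfModules.toSheaf R).map p) :=
    (Sheaf.isLocallySurjective_iff_epi' _ _).2 hepi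
  refine ⟨Presheaf.imageSieve ((SheafOfModules.toSheaf R).map p).hom s,
    Presheaf.imageSieve_mem J _ _, ?_⟩
  rintro W' g ⟨t, ht⟩
  exact ⟨t, ht⟩

theorem exists_covering_le {W : C} {I : Type*} [Finite I] (S : I → Sieve W)
    (hS : ∀ k, S k ∈ J W) : ∃ S₀ ∈ J W, ∀ k, S₀ ≤ S k := by
  classical
  haveI := Fintype.ofFinite I
  refine ⟨Finset.univ.inf S, ?_, fun k => Finset.inf_le (Finset.mem_univ k)⟩
  have : ∀ s : Finset I, s.inf S ∈ J W := by
    intro s
    induction s using Finset.induction_on with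
    | empty => simpa using J.top_mem W
    | insert a s ha ih =>
      rw [Finset.inf_insert]
      exact J.intersection_covering (hS a) ih
  exact this _

/-- local lifting, free case -/
theorem exists_local_lift_free {I : Type u} [Finite I] {G' G : SheafOfModules.{u} R}
    (p : G' ⟶ G) [Epi p] (W : C)
    (φ : (Φ R W).obj (SheafOfModules.free I) ⟶ (Φ R W).obj G) :
    ∃ S ∈ J W, ∀ ⦃W' : C⦄ (g : W' ⟶ W), S g →
      ∃ l : (Φ R W').obj (SheafOfModules.free I) ⟶ (Φ R W').obj G',
        l ≫ (Φ R W').map p = resHom g φ := by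
  choose S hS hlift using fun k => exists_local_section p W (ev φ k)
  obtain ⟨S₀, hS₀, hle⟩ := exists_covering_le S hS
  refine ⟨S₀, hS₀, fun W' g hg => ?_⟩
  choose t ht using fun k => hlift k g (hle k _ hg)
  obtain ⟨l, hl⟩ := (ev_bijective W' I ((Φ R W').obj G')).2 t
  refine ⟨l, ?_⟩
  apply (ev_bijective W' I ((Φ R W').obj G)).1
  funext k
  change ev (l ≫ (Φ R W').map p) k = ev (resHom g φ) k
  rw [ev_comp_map, ev_resHom, ← ht k]
  have : ev l k = t k := congrFun hl k
  rw [this]

/-- local lifting for direct summands of finite free modules -/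
theorem exists_local_lift {E G' G : SheafOfModules.{u} R}
    (hE : DCoh.IsFinFreeSummandMod R E)
    (p : G' ⟶ G) [Epi p] (W : C)
    (φ : (Φ R W).obj E ⟶ (Φ R W).obj G) :
    ∃ S ∈ J W, ∀ ⦃W' : C⦄ (g : W' ⟶ W), S g →
      ∃ l : (Φ R W').obj E ⟶ (Φ R W').obj G',
        l ≫ (Φ R W').map p = resHom g φ := by
  obtain ⟨n, i, r, hir⟩ := hE
  obtain ⟨S, hS, h⟩ := exists_local_lift_free p W ((Φ R W).map r ≫ φ)
  refine ⟨S, hS, fun W' g hg => ?_⟩
  obtain ⟨l', hl'⟩ := h g hg
  refine ⟨(Φ R W').map i ≫ l', ?_⟩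
  rw [Category.assoc, hl', resHom_comp, resHom_map, ← Functor.map_comp_assoc, hir,
    CategoryTheory.Functor.map_id, Category.id_comp]


end Groth.Agent.Lib.Helper99.Site
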