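import Mathlib
import Groth.Agent.Lib.Helper99.Site1
import Groth.Agent.Lib.Helper99.SPerf2

/-!
# Ringed sites: local null-homotopies and local lifting for strictly perfect complexes (helper99)
-/

set_option autoImplicit false
universe u
open CategoryTheory Limits Opposite

namespace Groth.Agent.Lib.Helper99.Site

open Groth.Agent.Lib.Helper99.SPerf

variable {C : Type u} [SmallCategory C] {J : GrothendieckTopology C} {R : Sheaf J RingCat.{u}}

set_option backward.isDefEq.respectTransparency.types false in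
instance isRightAdjoint_Φ (W : C) : (Φ R W).IsRightAdjoint :=
  inferInstanceAs (SheafOfModules.pushforward.{u} (𝟙 (R.over W))).IsRightAdjoint

/-- the inductive step -/
theorem step_site {E F : CochainComplex (SheafOfModules.{u} R) ℤ} (α : E ⟶ F) (i₀ : ℤ)
    (hE : DCoh.IsFinFreeSummandMod R (E.X i₀)) (hF : IsZero (F.homology i₀))
    (W : C) (H : PartialHtpy (Φ R W) α (i₀ + 1)) :
    ∃ S ∈ J W, ∀ ⦃W' : C⦄ (g : W' ⟶ W), S g → PartialHtpy (Φ R W') α i₀ := by
  obtain ⟨h, hh⟩ := H
  have hex : (F.sc' (i₀ - 1) i₀ (i₀ + 1)).Exact := by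
    rw [← HomologicalComplex.exactAt_iff' F (i₀ - 1) i₀ (i₀ + 1) (by simp) (by simp)]
    rwa [HomologicalComplex.exactAt_iff_isZero_homology]
  let Z := kernel (F.d i₀ (i₀ + 1))
  let p : F.X (i₀ - 1) ⟶ Z := kernel.lift _ (F.d (i₀ - 1) i₀) (F.d_comp_d _ _ _)
  haveI : Epi p := hex.epi_kernelLift
  let ψ : (Φ R W).obj (E.X i₀) ⟶ (Φ R W).obj (F.X i₀) :=
    (Φ R W).map (α.f i₀) - (Φ R W).map (E.d i₀ (i₀ + 1)) ≫ h (i₀ + 1) i₀
  have hψ : ψ ≫ (Φ R W).map (F.d i₀ (i₀ + 1)) = 0 := by
    have e1 := hh (i₀ + 1) i₀ (i₀ + 1 + 1) rfl rfl le_rfl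
    dsimp only [ψ]
    rw [Preadditive.sub_comp, ← (Φ R W).map_comp, α.comm, (Φ R W).map_comp, e1,
      Preadditive.comp_add, Category.assoc, ← (Φ R W).map_comp_assoc, E.d_comp_d,
      (Φ R W).map_zero, zero_comp, add_zero, sub_self]
  have hlim : IsLimit ((KernelFork.ofι (kernel.ι (F.d i₀ (i₀ + 1)))
      (kernel.condition _)).map (Φ R W)) :=
    KernelFork.mapIsLimit _ (kernelIsKernel _) (Φ R W)
  let φ : (Φ R W).obj (E.X i₀) ⟶ (Φ R W).obj Z := hlim.lift (KernelFork.ofι ψ hψ)
  have hφ : φ ≫ (Φ R W).map (kernel.ι (F.d i₀ (i₀ + 1))) = ψ :=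
    hlim.fac (KernelFork.ofι ψ hψ) WalkingParallelPair.zero
  obtain ⟨S, hS, hl⟩ := exists_local_lift hE p W φ
  refine ⟨S, hS, fun W' g hg => ?_⟩
  obtain ⟨l, hl⟩ := hl g hg
  have hl' : l ≫ (Φ R W').map (F.d (i₀ - 1) i₀) = resHom g ψ := by
    have e1 : p ≫ kernel.ι _ = F.d (i₀ - 1) i₀ := kernel.lift_ι _ _ _
    rw [← e1, Functor.map_comp, ← Category.assoc, hl, ← hφ, resHom_comp, resHom_map]
  classical
  refine ⟨fun i j => if hij : i = i₀ ∧ j = i₀ - 1 then
      eqToHom (by rw [hij.1]) ≫ l ≫ eqToHom (by rw [hij.2]) else resHom g (h i j), ?_⟩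
  intro i j k hj hk hi
  obtain rfl : j = i - 1 := by omega
  obtain rfl : k = i + 1 := by omega
  by_cases hii : i = i₀
  · subst hii
    have hne : ¬ (i + 1 = i ∧ i = i - 1) := by omega
    beta_reduce
    rw [dif_pos (show i = i ∧ i - 1 = i - 1 from ⟨rfl, rfl⟩), dif_neg hne]
    simp only [eqToHom_refl, Category.id_comp, Category.comp_id]
    rw [hl']
    dsimp only [ψ]
    rw [resHom_sub, resHom_comp, resHom_map, resHom_map]
    abel
  · have hne1 : ¬ (i = i₀ ∧ i - 1 = i₀ - 1) := fun h => hii h.1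
    have hne2 : ¬ (i + 1 = i₀ ∧ i = i₀ - 1) := by omega
    beta_reduce
    rw [dif_neg hne1, dif_neg hne2]
    rw [← resHom_map g (α.f i), hh i (i - 1) (i + 1) (by omega) rfl (by omega), resHom_add,
      resHom_comp, resHom_comp, resHom_map, resHom_map]

/-- downward induction -/
theorem exists_of_bounded_site {E F : CochainComplex (SheafOfModules.{u} R) ℤ} (α : E ⟶ F)
    (a b : ℤ) (hEb : ∀ i : ℤ, b < i → IsZero (E.X i))
    (hE : ∀ i : ℤ, DCoh.IsFinFreeSummandMod R (E.X i))
    (hF : ∀ i : ℤ, a ≤ i → IsZero (F.homology i)) (n : ℕ) :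
    ∀ (V : C) (i₀ : ℤ), a ≤ i₀ → i₀ + n = b + 1 →
      ∃ S ∈ J V, ∀ ⦃W : C⦄ (g : W ⟶ V), S g → PartialHtpy (Φ R W) α i₀ := by
  induction n with
  | zero =>
    intro V i₀ hi₀ hn
    refine ⟨⊤, J.top_mem V, fun W g _ => ⟨fun _ _ => 0, fun i j k _ _ hi => ?_⟩⟩
    have hz : IsZero (E.X i) := hEb i (by simp at hn; omega)
    rw [zero_comp, comp_zero, add_zero]
    have : α.f i = 0 := hz.eq_of_src _ _
    rw [this, Functor.map_zero]
  | succ n ih =>
    intro V i₀ hi₀ hn
    obtain ⟨S₁, hS₁, H₁⟩ := ih V (i₀ + 1) (by omega) (by push_cast at hn ⊢; omega)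
    have key : ∀ ⦃W : C⦄ (g : W ⟶ V), S₁ g → ∃ T ∈ J W, ∀ ⦃W' : C⦄ (g' : W' ⟶ W), T g' →
        PartialHtpy (Φ R W') α i₀ := fun W g hg =>
      step_site α i₀ (hE i₀) (hF i₀ hi₀) W (H₁ g hg)
    choose T hT hT' using key
    refine ⟨Sieve.bind S₁ (fun W g hg => T g hg), J.bind_covering hS₁ (fun W g hg => hT g hg), ?_⟩
    rintro W g ⟨Y, g', f', hf', hg', -⟩
    exact hT' f' hf' g' hg'

/-- a full partial homotopy gives a homotopy -/
theorem nonempty_homotopy_site {E F : CochainComplex (SheafOfModules.{u} R) ℤ} (α : E ⟶ F) (a : ℤ)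
    (hEa : ∀ i : ℤ, i < a → IsZero (E.X i)) (W : C)
    (H : PartialHtpy (Φ R W) α a) :
    Nonempty (Homotopy (((Φ R W).mapHomologicalComplex (ComplexShape.up ℤ)).map α) 0) := by
  obtain ⟨h, hh⟩ := H
  classical
  refine ⟨{ hom := fun i j => if j + 1 = i then h i j else 0
            zero := fun i j hij => by
              have : ¬ (j + 1 = i) := hij
              rw [if_neg this]
            comm := fun i => ?_ }⟩
  rw [dNext_eq _ (show (ComplexShape.up ℤ).Rel i (i + 1) from rfl),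
    prevD_eq _ (show (ComplexShape.up ℤ).Rel (i - 1) i by simp)]
  rw [if_pos rfl, if_pos (by omega : i - 1 + 1 = i)]
  simp only [HomologicalComplex.zero_f, add_zero]
  by_cases hi : a ≤ i
  · have := hh i (i - 1) (i + 1) (by omega) rfl hi
    rw [add_comm]
    exact this
  · have hz : IsZero ((Φ R W).obj (E.X i)) :=
      (Φ R W).map_isZero (hEa i (by omega))
    exact hz.eq_of_src _ _

/-- a map from a strictly perfect complex `E`, zero in degrees `< a`, to a complex with
vanishing cohomology sheaves in degrees `≥ a`, is locally null-homotopic. -/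
theorem exists_nullHomotopic_site {E F : CochainComplex (SheafOfModules.{u} R) ℤ}
    (α : E ⟶ F) (hE : DCoh.IsStrictlyPerfectMod R E) (a : ℤ)
    (hEa : ∀ i : ℤ, i < a → IsZero (E.X i))
    (hF : ∀ i : ℤ, a ≤ i → IsZero (F.homology i)) (V : C) :
    ∃ S ∈ J V, ∀ ⦃W : C⦄ (g : W ⟶ V), S g →
      Nonempty (Homotopy (((Φ R W).mapHomologicalComplex (ComplexShape.up ℤ)).map α) 0) := by
  obtain ⟨⟨a', b, hab⟩, hfl⟩ := hE
  let b' : ℤ := max b (a - 1)
  have hb' : a ≤ b' + 1 := by
    have : a - 1 ≤ b' := le_max_right _ _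
    omega
  obtain ⟨S, hS, H⟩ := exists_of_bounded_site α a b'
    (fun i hi => hab i (Or.inr (lt_of_le_of_lt (le_max_left _ _) hi))) hfl hF
    (b' + 1 - a).toNat V a le_rfl (by rw [Int.toNat_of_nonneg (by omega)]; omega)
  exact ⟨S, hS, fun W g hg => nonempty_homotopy_site α a hEa W (H g hg)⟩

section

attribute [local instance] HasDerivedCategory.standard

open CochainComplex HomologicalComplex Pretriangulated

/-- **S9046**: locally lifting a map from a strictly perfect complex through a map which is an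
isomorphism on cohomology in degrees `> a` and an epimorphism in degree `a`. -/
theorem exists_lift_homotopy_site {E F G : CochainComplex (SheafOfModules.{u} R) ℤ}
    (α : E ⟶ F) (f : G ⟶ F) (hE : DCoh.IsStrictlyPerfectMod R E) (a : ℤ)
    (hEa : ∀ j : ℤ, j < a → IsZero (E.X j))
    (hf : ∀ j : ℤ, a < j → IsIso (HomologicalComplex.homologyMap f j))
    (hfa : Epi (HomologicalComplex.homologyMap f a)) (V : C) :
    ∃ S ∈ J V, ∀ ⦃W : C⦄ (g : W ⟶ V), S g →
      ∃ β : ((Φ R W).mapHomologicalComplex (ComplexShape.up ℤ)).obj E ⟶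
          ((Φ R W).mapHomologicalComplex (ComplexShape.up ℤ)).obj G,
        Nonempty (Homotopy (β ≫ ((Φ R W).mapHomologicalComplex (ComplexShape.up ℤ)).map f)
          (((Φ R W).mapHomologicalComplex (ComplexShape.up ℤ)).map α)) := by
  have hC : ∀ j : ℤ, a ≤ j → IsZero ((mappingCone f).homology j) := by
    intro j hj
    apply isZero_homology_mappingCone
    · rcases eq_or_lt_of_le hj with rfl | hlt
      · exact hfa
      · haveI := hf j hlt
        infer_instance
    · haveI := hf (j + 1) (by omega)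
      infer_instance
  obtain ⟨S, hS, H⟩ := exists_nullHomotopic_site (α ≫ mappingCone.inr f) hE a hEa hC V
  refine ⟨S, hS, fun W g hg => ?_⟩
  obtain ⟨H0⟩ := H g hg
  let RR := (Φ R W).mapHomologicalComplex (ComplexShape.up ℤ)
  let f' := RR.map f
  let α' := RR.map α
  have hzero : (HomotopyCategory.quotient _ _).map α' ≫
      (HomotopyCategory.quotient _ _).map (mappingCone.inr f') = 0 := by
    have e1 : mappingCone.inr f' = RR.map (mappingCone.inr f) ≫
        (mappingCone.mapHomologicalComplexIso f (Φ R W)).hom :=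
      (mappingCone.map_inr f (Φ R W)).symm
    rw [e1, ← Functor.map_comp, ← Category.assoc, ← RR.map_comp, Functor.map_comp,
      HomotopyCategory.eq_of_homotopy _ _ H0, Functor.map_zero, zero_comp]
  obtain ⟨β', hβ'⟩ := Triangle.coyoneda_exact₂ _
    (HomotopyCategory.mappingCone_triangleh_distinguished f')
    ((HomotopyCategory.quotient _ _).map α') hzero
  obtain ⟨β, rfl⟩ := (HomotopyCategory.quotient _ _).map_surjective β'
  refine ⟨β, ⟨HomotopyCategory.homotopyOfEq _ _ ?_⟩⟩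
  rw [Functor.map_comp]
  exact hβ'.symm

end

end Groth.Agent.Lib.Helper99.Site
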