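import Mathlib.AlgebraicTopology.SimplicialObject.Basic
import Mathlib.CategoryTheory.Functor.KanExtension.Pointwise
import Mathlib.CategoryTheory.Limits.Shapes.FiniteLimits
import Mathlib.Data.Finite.Sigma

/-!
# Finiteness of comma categories over the truncated simplex category (helper99)
-/

set_option autoImplicit false
universe v u

open CategoryTheory CategoryTheory.Limits Opposite

namespace Groth.Agent.Lib.Helper99.TruncFin

theorem finite_truncated (m : ℕ) : Finite (SimplexCategory.Truncated m) := by
  refine Finite.of_injective
    (fun a : SimplexCategory.Truncated m => (⟨a.obj.len, Nat.lt_succ_of_le a.property⟩ : Fin (m + 1)))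
    ?_
  intro a b h
  have h' : a.obj.len = b.obj.len := by simpa using congrArg Fin.val h
  cases a with
  | mk a ha =>
    cases b with
    | mk b hb =>
      cases a
      cases b
      simp only at h'
      subst h'
      rfl

theorem finite_truncated_hom (m : ℕ) (a b : SimplexCategory.Truncated m) : Finite (a ⟶ b) :=
  Finite.of_injective (fun f => f.hom) (fun _ _ h => ObjectProperty.hom_ext _ h)

theorem finite_truncated_op_hom (m : ℕ) (a b : (SimplexCategory.Truncated m)ᵒᵖ) :
    Finite (a ⟶ b) := by
  have := finite_truncated_hom m b.unop a.unop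
  exact Finite.of_injective (fun f => f.unop) (fun _ _ h => Quiver.Hom.unop_inj h)

theorem finite_structuredArrow (m : ℕ) (Y : SimplexCategoryᵒᵖ) :
    Finite (StructuredArrow Y (SimplexCategory.Truncated.inclusion m).op) := by
  have := finite_truncated m
  refine Finite.of_injective
    (fun X : StructuredArrow Y (SimplexCategory.Truncated.inclusion m).op =>
      (⟨X.right.unop, X.hom.unop⟩ : Σ k : SimplexCategory.Truncated m, (k.obj ⟶ Y.unop))) ?_
  intro X X' h
  rw [StructuredArrow.eq_mk X, StructuredArrow.eq_mk X']
  obtain ⟨h1, h2⟩ := Sigma.mk.inj_iff.mp h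
  have h1' : X.right = X'.right := Opposite.unop_injective h1
  obtain ⟨l, r, f⟩ := X
  obtain ⟨l', r', f'⟩ := X'
  dsimp at h1' h2 ⊢
  subst h1'
  have : f = f' := Quiver.Hom.unop_inj (eq_of_heq h2)
  subst this
  rfl

theorem finite_structuredArrow_hom (m : ℕ) (Y : SimplexCategoryᵒᵖ)
    (X X' : StructuredArrow Y (SimplexCategory.Truncated.inclusion m).op) : Finite (X ⟶ X') := by
  have := finite_truncated_op_hom m X.right X'.right
  exact Finite.of_injective (fun f => f.right) (fun f g h => StructuredArrow.ext f g h)

theorem finite_costructuredArrow (m : ℕ) (Y : SimplexCategoryᵒᵖ) :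
    Finite (CostructuredArrow (SimplexCategory.Truncated.inclusion m).op Y) := by
  have := finite_truncated m
  refine Finite.of_injective
    (fun X : CostructuredArrow (SimplexCategory.Truncated.inclusion m).op Y =>
      (⟨X.left.unop, X.hom.unop⟩ : Σ k : SimplexCategory.Truncated m, (Y.unop ⟶ k.obj))) ?_
  intro X X' h
  rw [CostructuredArrow.eq_mk X, CostructuredArrow.eq_mk X']
  obtain ⟨h1, h2⟩ := Sigma.mk.inj_iff.mp h
  have h1' : X.left = X'.left := Opposite.unop_injective h1
  obtain ⟨l, r, f⟩ := X
  obtain ⟨l', r', f'⟩ := X'
  dsimp at h1' h2 ⊢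
  subst h1'
  have : f = f' := Quiver.Hom.unop_inj (eq_of_heq h2)
  subst this
  rfl

theorem finite_costructuredArrow_hom (m : ℕ) (Y : SimplexCategoryᵒᵖ)
    (X X' : CostructuredArrow (SimplexCategory.Truncated.inclusion m).op Y) : Finite (X ⟶ X') := by
  have := finite_truncated_op_hom m X.left X'.left
  exact Finite.of_injective (fun f => f.left) (fun f g h => CostructuredArrow.ext f g h)

/-- The comma category of truncated simplices under `Y` is a finite category. -/
noncomputable def finCategoryStructuredArrow (m : ℕ) (Y : SimplexCategoryᵒᵖ) :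
    FinCategory (StructuredArrow Y (SimplexCategory.Truncated.inclusion m).op) :=
  have := finite_structuredArrow m Y
  have := finite_structuredArrow_hom m Y
  { fintypeObj := Fintype.ofFinite _
    fintypeHom := fun _ _ => Fintype.ofFinite _ }

/-- The comma category of truncated simplices over `Y` is a finite category. -/
noncomputable def finCategoryCostructuredArrow (m : ℕ) (Y : SimplexCategoryᵒᵖ) :
    FinCategory (CostructuredArrow (SimplexCategory.Truncated.inclusion m).op Y) :=
  have := finite_costructuredArrow m Y
  have := finite_costructuredArrow_hom m Y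
  { fintypeObj := Fintype.ofFinite _
    fintypeHom := fun _ _ => Fintype.ofFinite _ }

theorem hasPointwiseRightKanExtension {C : Type u} [Category.{v} C] [HasFiniteLimits C] (m : ℕ)
    (U : (SimplexCategory.Truncated m)ᵒᵖ ⥤ C) :
    (SimplexCategory.Truncated.inclusion m).op.HasPointwiseRightKanExtension U := by
  intro Y
  let := finCategoryStructuredArrow m Y
  have : HasLimitsOfShape (StructuredArrow Y (SimplexCategory.Truncated.inclusion m).op) C :=
    HasFiniteLimits.out _
  change HasLimit _
  infer_instance

theorem hasPointwiseLeftKanExtension {C : Type u} [Category.{v} C] [HasFiniteColimits C] (m : ℕ)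
    (U : (SimplexCategory.Truncated m)ᵒᵖ ⥤ C) :
    (SimplexCategory.Truncated.inclusion m).op.HasPointwiseLeftKanExtension U := by
  intro Y
  let := finCategoryCostructuredArrow m Y
  have : HasColimitsOfShape (CostructuredArrow (SimplexCategory.Truncated.inclusion m).op Y) C :=
    HasFiniteColimits.out _
  change HasColimit _
  infer_instance

end Groth.Agent.Lib.Helper99.TruncFin
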